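import Mathlib

/-!
# Faithful flatness of a ring map which is a directed union of faithfully flat ring maps (helper66)
-/

set_option autoImplicit false
open scoped TensorProduct

namespace Groth.Agent.Lib.Helper66.TK10a

universe u v u₀ v₀

section
variable {R : Type u} {S : Type v} [CommRing R] [CommRing S] (φ : R →+* S)

/-- the hypothesis: finite subsets of `R` and `S` come from a faithfully flat sub-square -/
def Approx : Prop :=
  ∀ (s : Finset R) (t : Finset S), ∃ (R₀ : Type u₀) (S₀ : Type v₀) (_ : CommRing R₀)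
    (_ : CommRing S₀) (i : R₀ →+* R) (j : S₀ →+* S) (φ₀ : R₀ →+* S₀),
    φ₀.FaithfullyFlat ∧ φ.comp i = j.comp φ₀ ∧ Function.Injective j ∧
      (∀ r ∈ s, r ∈ Set.range i) ∧ ∀ x ∈ t, x ∈ Set.range j

theorem flat_of_approx (H : Approx.{u, v, u₀, v₀} φ) : φ.Flat := by
  classical
  letI : Algebra R S := φ.toAlgebra
  have hsmul : ∀ (r : R) (x : S), r • x = φ r * x := fun r x => rfl
  show Module.Flat R S
  apply Module.Flat.of_forall_isTrivialRelation
  intro l f x hrel
  obtain ⟨R₀, S₀, _, _, i, j, φ₀, hff, hsq, hj, hs, ht⟩ := H (Finset.univ.image f)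
    (Finset.univ.image x)
  letI : Algebra R₀ S₀ := φ₀.toAlgebra
  have hsmul₀ : ∀ (r : R₀) (x : S₀), r • x = φ₀ r * x := fun r x => rfl
  have hF : Module.Flat R₀ S₀ := hff.flat
  have hsq' : ∀ r, φ (i r) = j (φ₀ r) := fun r => congrArg (fun ψ : R₀ →+* S => ψ r) hsq
  choose f' hf' using fun a => hs (f a) (Finset.mem_image_of_mem f (Finset.mem_univ a))
  choose x' hx' using fun a => ht (x a) (Finset.mem_image_of_mem x (Finset.mem_univ a))
  have hrel' : ∑ a, f' a • x' a = 0 := by
    apply hj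
    rw [map_sum, map_zero, ← hrel]
    apply Finset.sum_congr rfl
    intro a _
    rw [hsmul₀, map_mul, ← hsq', hf', hx', hsmul]
  obtain ⟨κ, a, y, h1, h2⟩ := (Module.Flat.iff_forall_isTrivialRelation.mp hF) hrel'
  refine ⟨κ, fun p q => i (a p q), fun q => j (y q), fun p => ?_, fun q => ?_⟩
  · rw [← hx', h1 p, map_sum]
    apply Finset.sum_congr rfl
    intro q _
    rw [hsmul₀, map_mul, ← hsq', hsmul]
  · have := congrArg i (h2 q)
    rw [map_sum, map_zero] at this
    rw [← this]
    apply Finset.sum_congr rfl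
    intro p _
    rw [map_mul, hf']

theorem ff_of_approx (H : Approx.{u, v, u₀, v₀} φ) : φ.FaithfullyFlat := by
  classical
  have hflat := flat_of_approx φ H
  letI : Algebra R S := φ.toAlgebra
  have hsmul : ∀ (r : R) (x : S), r • x = φ r * x := fun r x => rfl
  show Module.FaithfullyFlat R S
  refine { toFlat := hflat, submodule_ne_top := fun m hm htop => ?_ }
  have h1 : (1 : S) ∈ m • Submodule.span R (Set.range (id : S → S)) := by
    rw [Set.range_id, Submodule.span_univ, htop]
    exact Submodule.mem_top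
  rw [Submodule.mem_ideal_smul_span_iff_exists_sum] at h1
  obtain ⟨a, ha, hsum⟩ := h1
  obtain ⟨R₀, S₀, _, _, i, j, φ₀, hff, hsq, hj, hs, ht⟩ := H (a.support.image a) a.support
  letI : Algebra R₀ S₀ := φ₀.toAlgebra
  have hsmul₀ : ∀ (r : R₀) (x : S₀), r • x = φ₀ r * x := fun r x => rfl
  have hsq' : ∀ r, φ (i r) = j (φ₀ r) := fun r => congrArg (fun ψ : R₀ →+* S => ψ r) hsq
  have hFF : Module.FaithfullyFlat R₀ S₀ := hff
  have hm₀ : m.comap i ≠ ⊤ := by
    intro h
    have h1 : (1 : R₀) ∈ m.comap i := h ▸ Submodule.mem_top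
    rw [Ideal.mem_comap, map_one] at h1
    exact hm.ne_top ((Ideal.eq_top_iff_one m).mpr h1)
  have hne := ((Module.FaithfullyFlat.iff_flat_and_proper_ideal R₀ S₀).mp hFF).2 _ hm₀
  apply hne
  choose! a' ha' using fun z (hz : z ∈ a.support) => hs (a z) (Finset.mem_image_of_mem a hz)
  choose! x' hx' using fun z (hz : z ∈ a.support) => ht z hz
  have hone : (1 : S₀) ∈ (m.comap i) • (⊤ : Submodule R₀ S₀) := by
    have h3 : (1 : S₀) = ∑ z ∈ a.support, a' z • x' z := by
      apply hj
      rw [map_one, map_sum, ← hsum]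
      apply Finset.sum_congr rfl
      intro z hz
      rw [hsmul₀, map_mul, ← hsq', ha' z hz, hx' z hz]
      rfl
    rw [h3]
    apply Submodule.sum_mem
    intro z hz
    apply Submodule.smul_mem_smul _ Submodule.mem_top
    rw [Ideal.mem_comap, ha' z hz]
    exact ha z
  rw [Ideal.smul_top_eq_map] at hone ⊢
  have h4 : Ideal.map (algebraMap R₀ S₀) (m.comap i) = ⊤ := (Ideal.eq_top_iff_one _).mpr hone
  rw [h4]
  rfl

end

end Groth.Agent.Lib.Helper66.TK10a
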