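import Mathlib

/-!
# Convolution monoids of algebra maps out of a Hopf algebra: inverses, functoriality,
translations by points (helper66)
-/

set_option autoImplicit false
open scoped TensorProduct
open WithConv

namespace Groth.Agent.Lib.Helper66.TK1

section Homs
variable {R : Type*} [CommRing R] {A : Type*} [CommRing A] [Bialgebra R A]

/-- post-composition as a monoid hom of convolution monoids -/
noncomputable def postComp {B : Type*} [CommRing B] [Algebra R B] {C : Type*} [CommRing C]
    [Algebra R C] (h : B →ₐ[R] C) :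
    WithConv (A →ₐ[R] B) →* WithConv (A →ₐ[R] C) where
  toFun f := toConv (h.comp f.ofConv)
  map_one' := by
    apply WithConv.ofConv_injective
    apply AlgHom.ext
    intro a
    simp [AlgHom.convOne_def]
  map_mul' f g := by
    apply WithConv.ofConv_injective
    exact AlgHom.comp_convMul_distrib h f g

@[simp] theorem postComp_apply {B : Type*} [CommRing B] [Algebra R B] {C : Type*} [CommRing C]
    [Algebra R C] (h : B →ₐ[R] C) (f : WithConv (A →ₐ[R] B)) :
    postComp h f = toConv (h.comp f.ofConv) := rfl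

/-- pre-composition with a bialgebra hom as a monoid hom of convolution monoids -/
noncomputable def preComp {B : Type*} [CommRing B] [Bialgebra R B] {C : Type*} [CommRing C]
    [Algebra R C] (h : A →ₐc[R] B) :
    WithConv (B →ₐ[R] C) →* WithConv (A →ₐ[R] C) where
  toFun f := toConv (f.ofConv.comp (h : A →ₐ[R] B))
  map_one' := by
    apply WithConv.ofConv_injective
    apply AlgHom.ext
    intro a
    simp [AlgHom.convOne_def]
  map_mul' f g := by
    apply WithConv.ofConv_injective
    exact AlgHom.convMul_comp_bialgHom_distrib f g h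

@[simp] theorem preComp_apply {B : Type*} [CommRing B] [Bialgebra R B] {C : Type*} [CommRing C]
    [Algebra R C] (h : A →ₐc[R] B) (f : WithConv (B →ₐ[R] C)) :
    preComp h f = toConv (f.ofConv.comp (h : A →ₐ[R] B)) := rfl

end Homs

section Inv
variable {R : Type*} [CommRing R] {A : Type*} [CommRing A] [HopfAlgebra R A]
variable {C : Type*} [CommRing C] [Algebra R C]

/-- the convolution inverse of an algebra map out of a Hopf algebra -/
noncomputable def invC (f : WithConv (A →ₐ[R] C)) : WithConv (A →ₐ[R] C) :=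
  toConv (f.ofConv.comp (HopfAlgebra.antipodeAlgHom R A))

theorem id_antipode_cancel :
    toConv (AlgHom.id R A) * toConv (HopfAlgebra.antipodeAlgHom R A) = 1 := by
  have h := AlgHom.antipode_id_cancel (R := R) (A := A)
  have h2 := eq_inv_of_mul_eq_one_left h
  rw [h2, mul_inv_cancel]

theorem invC_mul (f : WithConv (A →ₐ[R] C)) : invC f * f = 1 := by
  have h1 : invC f = postComp f.ofConv (toConv (HopfAlgebra.antipodeAlgHom R A)) := rfl
  have h2 : f = postComp f.ofConv (toConv (AlgHom.id R A)) := by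
    rw [postComp_apply, ofConv_toConv, AlgHom.comp_id, toConv_ofConv]
  rw [h1]
  nth_rw 2 [h2]
  rw [← map_mul, AlgHom.antipode_id_cancel, map_one]

theorem mul_invC (f : WithConv (A →ₐ[R] C)) : f * invC f = 1 := by
  have h1 : invC f = postComp f.ofConv (toConv (HopfAlgebra.antipodeAlgHom R A)) := rfl
  have h2 : f = postComp f.ofConv (toConv (AlgHom.id R A)) := by
    rw [postComp_apply, ofConv_toConv, AlgHom.comp_id, toConv_ofConv]
  rw [h1]
  nth_rw 1 [h2]
  rw [← map_mul, id_antipode_cancel, map_one]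

theorem eq_invC_of_mul_eq_one {f g : WithConv (A →ₐ[R] C)} (h : g * f = 1) : g = invC f :=
  left_inv_eq_right_inv h (mul_invC f)

theorem postComp_invC {C' : Type*} [CommRing C'] [Algebra R C'] (h : C →ₐ[R] C')
    (f : WithConv (A →ₐ[R] C)) : postComp h (invC f) = invC (postComp h f) := by
  apply eq_invC_of_mul_eq_one
  rw [← map_mul, invC_mul, map_one]

theorem preComp_invC {B : Type*} [CommRing B] [HopfAlgebra R B] (h : B →ₐc[R] A)
    (f : WithConv (A →ₐ[R] C)) : preComp h (invC f) = invC (preComp h f) := by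
  apply eq_invC_of_mul_eq_one
  rw [← map_mul, invC_mul, map_one]

end Inv

section Trans
variable {k : Type*} [CommRing k] {A : Type*} [CommRing A] [HopfAlgebra k A]

/-- a point viewed as an endomorphism-valued map -/
noncomputable def hat (g : WithConv (A →ₐ[k] k)) : WithConv (A →ₐ[k] A) :=
  postComp (Algebra.ofId k A) g

theorem hat_mul (g g' : WithConv (A →ₐ[k] k)) : hat (g * g') = hat g * hat g' := map_mul _ _ _
theorem hat_one : hat (1 : WithConv (A →ₐ[k] k)) = 1 := map_one _

/-- right translation by a point: `a ↦ Σ a₁ g(a₂)` -/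
noncomputable def τ (g : WithConv (A →ₐ[k] k)) : A →ₐ[k] A :=
  (toConv (AlgHom.id k A) * hat g).ofConv

theorem comp_ofId {B : Type*} [CommRing B] [Algebra k B] {C : Type*} [CommRing C] [Algebra k C]
    (h : B →ₐ[k] C) : h.comp (Algebra.ofId k B) = Algebra.ofId k C := by
  ext

theorem postComp_hat {C : Type*} [CommRing C] [Algebra k C] (h : A →ₐ[k] C)
    (g : WithConv (A →ₐ[k] k)) :
    postComp h (hat g) = postComp (Algebra.ofId k C) g := by
  unfold hat
  rw [postComp_apply, postComp_apply, ofConv_toConv, ← AlgHom.comp_assoc, comp_ofId, postComp_apply]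

theorem point_comp_τ (h g : WithConv (A →ₐ[k] k)) :
    toConv (h.ofConv.comp (τ g)) = h * g := by
  have h1 : toConv (h.ofConv.comp (τ g)) = postComp h.ofConv (toConv (AlgHom.id k A) * hat g) := rfl
  rw [h1, map_mul, postComp_hat, postComp_apply, ofConv_toConv, AlgHom.comp_id, toConv_ofConv]
  have h2 : postComp (Algebra.ofId k k) g = g := by
    rw [postComp_apply]
    have : Algebra.ofId k k = AlgHom.id k k := by ext
    rw [this, AlgHom.id_comp, toConv_ofConv]
  rw [h2]

theorem τ_comp_τ (g g' : WithConv (A →ₐ[k] k)) : (τ g).comp (τ g') = τ (g * g') := by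
  apply WithConv.toConv_injective
  have h1 : toConv ((τ g).comp (τ g')) = postComp (τ g) (toConv (AlgHom.id k A) * hat g') := rfl
  rw [h1, map_mul, postComp_hat, postComp_apply, ofConv_toConv, AlgHom.comp_id]
  unfold τ
  rw [toConv_ofConv, toConv_ofConv, hat_mul, mul_assoc]
  rfl

theorem τ_one : τ (1 : WithConv (A →ₐ[k] k)) = AlgHom.id k A := by
  unfold τ
  rw [hat_one, mul_one, ofConv_toConv]

/-- translation as an algebra automorphism -/
noncomputable def τEquiv (g : WithConv (A →ₐ[k] k)) : A ≃ₐ[k] A :=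
  AlgEquiv.ofAlgHom (τ g) (τ g⁻¹) (by rw [τ_comp_τ, mul_inv_cancel, τ_one])
    (by rw [τ_comp_τ, inv_mul_cancel, τ_one])

@[simp] theorem τEquiv_apply (g : WithConv (A →ₐ[k] k)) (a : A) : τEquiv g a = τ g a := rfl

theorem τ_bijective (g : WithConv (A →ₐ[k] k)) : Function.Bijective (τ g) :=
  (τEquiv g).bijective

theorem τ_comp_bialgHom {B : Type*} [CommRing B] [HopfAlgebra k B] (f : B →ₐc[k] A)
    (g : WithConv (A →ₐ[k] k)) :
    (τ g).comp (f : B →ₐ[k] A) = (f : B →ₐ[k] A).comp (τ (preComp f g)) := by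
  apply WithConv.toConv_injective
  have h1 : toConv ((τ g).comp (f : B →ₐ[k] A)) =
      preComp f (toConv (AlgHom.id k A) * hat g) := rfl
  have h2 : toConv ((f : B →ₐ[k] A).comp (τ (preComp f g))) =
      postComp (f : B →ₐ[k] A) (toConv (AlgHom.id k B) * hat (preComp f g)) := rfl
  rw [h1, h2, map_mul, map_mul, postComp_hat]
  congr 1

theorem τ_bialgHom_apply {B : Type*} [CommRing B] [HopfAlgebra k B] (f : B →ₐc[k] A)
    (g : WithConv (A →ₐ[k] k)) (b : B) : τ g (f b) = f (τ (preComp f g) b) :=
  congrArg (fun φ : B →ₐ[k] A => φ b) (τ_comp_bialgHom f g)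

/-- evaluating a point on the antipode of a translate -/
theorem point_antipode_τ (u h : WithConv (A →ₐ[k] k)) (a : A) :
    u.ofConv (HopfAlgebra.antipodeAlgHom k A (τ h a)) = (u⁻¹ * h).ofConv a := by
  rw [← point_comp_τ]
  rfl

end Trans

section Null
variable {k : Type*} [Field k] [IsAlgClosed k] {R : Type*} [CommRing R] [Algebra k R]
  [Algebra.FiniteType k R]

theorem exists_point_ker_eq (m : Ideal R) [hm : m.IsMaximal] :
    ∃ z : R →ₐ[k] k, RingHom.ker z = m := by
  letI : Field (R ⧸ m) := Ideal.Quotient.field m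
  haveI : Algebra.FiniteType k (R ⧸ m) :=
    Algebra.FiniteType.of_surjective (Ideal.Quotient.mkₐ k m) (Ideal.Quotient.mkₐ_surjective k m)
  haveI : Module.Finite k (R ⧸ m) := finite_of_finite_type_of_isJacobsonRing k (R ⧸ m)
  have hbij : Function.Bijective (algebraMap k (R ⧸ m)) :=
    IsAlgClosed.algebraMap_bijective_of_isIntegral
  let ek : k ≃ₐ[k] (R ⧸ m) := AlgEquiv.ofBijective (Algebra.ofId k _) hbij
  refine ⟨ek.symm.toAlgHom.comp (Ideal.Quotient.mkₐ k m), ?_⟩
  ext f
  rw [RingHom.mem_ker]
  show ek.symm (Ideal.Quotient.mkₐ k m f) = 0 ↔ _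
  rw [map_eq_zero_iff _ ek.symm.injective, Ideal.Quotient.mkₐ_eq_mk, Ideal.Quotient.eq_zero_iff_mem]

theorem exists_point_le {J : Ideal R} (hJ : J ≠ ⊤) : ∃ z : R →ₐ[k] k, J ≤ RingHom.ker z := by
  obtain ⟨m, hm, hJm⟩ := Ideal.exists_le_maximal J hJ
  obtain ⟨z, hz⟩ := exists_point_ker_eq (k := k) m
  exact ⟨z, hz ▸ hJm⟩

theorem exists_point_ne_zero {s : R} (hs : ¬ IsNilpotent s) : ∃ z : R →ₐ[k] k, z s ≠ 0 := by
  haveI : IsJacobsonRing R := isJacobsonRing_of_finiteType (A := k) (B := R)
  have h1 : s ∉ nilradical R := fun h => hs ((mem_nilradical).mp h)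
  have hrad : (nilradical R).IsRadical := Ideal.radical_isRadical _
  rw [← IsJacobsonRing.out inferInstance hrad, Ideal.jacobson, Submodule.mem_sInf] at h1
  push Not at h1
  obtain ⟨m, ⟨-, hm⟩, hsm⟩ := h1
  obtain ⟨z, hz⟩ := exists_point_ker_eq (k := k) m
  refine ⟨z, fun h => hsm ?_⟩
  rw [← hz]
  exact h

omit [IsAlgClosed k] [Algebra.FiniteType k R] in
theorem point_eq_of_ker_le {z z' : R →ₐ[k] k} (h : RingHom.ker z ≤ RingHom.ker z') : z = z' := by
  apply AlgHom.ext
  intro r
  have h1 : r - algebraMap k R (z r) ∈ RingHom.ker z := by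
    rw [RingHom.mem_ker, map_sub, AlgHom.commutes]
    simp
  have h2 := h h1
  rw [RingHom.mem_ker, map_sub, AlgHom.commutes, sub_eq_zero] at h2
  rw [h2]
  rfl

end Null

end Groth.Agent.Lib.Helper66.TK1
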