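import Mathlib
import Groth.Agent.Lib.Helper66.TK1

/-!
# The Galois isomorphism `D ⊗[C] T ≃ (D / C⁺D) ⊗[k] T` for a map of commutative Hopf algebras
`C → D` and a `D`-algebra `T` (helper66)
-/

set_option autoImplicit false
open scoped TensorProduct
open WithConv

namespace Groth.Agent.Lib.Helper66.TK2
open Groth.Agent.Lib.Helper66.TK1

section Push
variable {C D T Q : Type*} [CommRing C] [CommRing D] [CommRing T] [CommRing Q]
  [Algebra C D] [Algebra C T]

/-- the universal property of the pushout `D ⊗[C] T` for ring homs -/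
noncomputable def pushoutLift (φ₁ : D →+* Q) (φ₂ : T →+* Q)
    (h : ∀ z : C, φ₁ (algebraMap C D z) = φ₂ (algebraMap C T z)) : D ⊗[C] T →+* Q :=
  letI : Algebra C Q := (φ₂.comp (algebraMap C T)).toAlgebra
  (Algebra.TensorProduct.lift (S := C) (R := C) (A := D) (B := T) (C := Q)
    { φ₁ with commutes' := fun z => h z } { φ₂ with commutes' := fun z => rfl }
    (fun _ _ => .all _ _)).toRingHom

theorem pushoutLift_tmul (φ₁ : D →+* Q) (φ₂ : T →+* Q)
    (h : ∀ z : C, φ₁ (algebraMap C D z) = φ₂ (algebraMap C T z)) (d : D) (x : T) :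
    pushoutLift φ₁ φ₂ h (d ⊗ₜ[C] x) = φ₁ d * φ₂ x := rfl

theorem ringHom_ext_tensor {f g : D ⊗[C] T →+* Q}
    (h₁ : ∀ d : D, f (d ⊗ₜ[C] 1) = g (d ⊗ₜ[C] 1)) (h₂ : ∀ x : T, f (1 ⊗ₜ[C] x) = g (1 ⊗ₜ[C] x)) :
    f = g := by
  apply RingHom.ext
  intro y
  induction y using TensorProduct.induction_on with
  | zero => simp
  | tmul d x =>
    have : d ⊗ₜ[C] x = (d ⊗ₜ[C] (1 : T)) * ((1 : D) ⊗ₜ[C] x) := by
      rw [Algebra.TensorProduct.tmul_mul_tmul, mul_one, one_mul]
    rw [this, map_mul, map_mul, h₁, h₂]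
  | add y y' hy hy' => rw [map_add, map_add, hy, hy']

end Push

section Galois
variable {k : Type*} [CommRing k] {C D : Type*} [CommRing C] [CommRing D] [HopfAlgebra k C]
  [HopfAlgebra k D] (c : C →ₐc[k] D) {T : Type*} [CommRing T] [Algebra k T] (t : D →ₐ[k] T)
  [Algebra C D] [Algebra C T] [IsScalarTower k C D] [IsScalarTower k C T]
  (hcD : ∀ z, algebraMap C D z = c z) (hcT : ∀ z, algebraMap C T z = t (c z))
  {Dbar : Type*} [CommRing Dbar] [Algebra k Dbar] (π : D →ₐ[k] Dbar)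

/-- `D → D ⊗[C] T` -/
noncomputable abbrev j₁ : D →ₐ[k] D ⊗[C] T := Algebra.TensorProduct.includeLeft

/-- `T → D ⊗[C] T` -/
noncomputable abbrev j₂ : T →ₐ[k] D ⊗[C] T :=
  (Algebra.TensorProduct.includeRight : T →ₐ[C] D ⊗[C] T).restrictScalars k

/-- `Dbar → Dbar ⊗[k] T` -/
noncomputable abbrev i₁ : Dbar →ₐ[k] Dbar ⊗[k] T := Algebra.TensorProduct.includeLeft

/-- `T → Dbar ⊗[k] T` -/
noncomputable abbrev i₂ : T →ₐ[k] Dbar ⊗[k] T := Algebra.TensorProduct.includeRight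

include hcD hcT in
theorem j₁_comp_c : (j₁ (k := k) (C := C) (D := D) (T := T)).comp (c : C →ₐ[k] D) =
    (j₂ (k := k) (C := C) (D := D) (T := T)).comp (t.comp (c : C →ₐ[k] D)) := by
  apply AlgHom.ext
  intro z
  show (c z) ⊗ₜ[C] (1 : T) = (1 : D) ⊗ₜ[C] (t (c z))
  rw [← hcT, ← hcD, Algebra.algebraMap_eq_smul_one, Algebra.algebraMap_eq_smul_one,
    TensorProduct.smul_tmul]

/-- `d ↦ Σ π(d₁) ⊗ t(d₂)` -/
noncomputable def γD : WithConv (D →ₐ[k] Dbar ⊗[k] T) :=
  toConv ((i₁ (k := k) (T := T) (Dbar := Dbar)).comp π) *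
    toConv ((i₂ (k := k) (T := T) (Dbar := Dbar)).comp t)

/-- `d ↦ Σ d₁ ⊗ t(S d₂)` -/
noncomputable def δD : WithConv (D →ₐ[k] D ⊗[C] T) :=
  toConv (j₁ (k := k) (C := C) (D := D) (T := T)) *
    invC (toConv ((j₂ (k := k) (C := C) (D := D) (T := T)).comp t))

variable (hπ : Function.Surjective π)
  (hπc : ∀ z : C, π (c z) = algebraMap k Dbar (Coalgebra.counit (R := k) z))
  (hker : RingHom.ker π.toRingHom ≤
    Ideal.map (c : C →+* D) (RingHom.ker (Bialgebra.counitAlgHom k C : C →+* k)))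

omit [Algebra C D] [Algebra C T] [IsScalarTower k C D] [IsScalarTower k C T] in
include hπc in
theorem preComp_γD : preComp c (γD (T := T) t π) =
    toConv ((i₂ (k := k) (T := T) (Dbar := Dbar)).comp (t.comp (c : C →ₐ[k] D))) := by
  unfold γD
  rw [map_mul]
  have h1 : preComp c (toConv ((i₁ (k := k) (T := T) (Dbar := Dbar)).comp π)) = 1 := by
    apply WithConv.ofConv_injective
    apply AlgHom.ext
    intro z
    show (π (c z)) ⊗ₜ[k] (1 : T) = algebraMap k (Dbar ⊗[k] T) (Coalgebra.counit (R := k) z)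
    rw [hπc, Algebra.TensorProduct.algebraMap_apply]
  rw [h1, one_mul]
  rfl

omit [Algebra C D] [Algebra C T] [IsScalarTower k C D] [IsScalarTower k C T] in
include hπc in
theorem γD_c (z : C) : (γD (T := T) t π).ofConv (c z) = (1 : Dbar) ⊗ₜ[k] t (c z) := by
  have h := preComp_γD c t π hπc
  have h2 := congrArg (fun f : WithConv (C →ₐ[k] Dbar ⊗[k] T) => f.ofConv z) h
  exact h2

include hcD hcT in
theorem preComp_δD : preComp c (δD (k := k) (C := C) (T := T) t) = 1 := by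
  unfold δD
  rw [map_mul, preComp_invC]
  have h1 : preComp c (toConv (j₁ (k := k) (C := C) (D := D) (T := T))) =
      preComp c (toConv ((j₂ (k := k) (C := C) (D := D) (T := T)).comp t)) := by
    rw [preComp_apply, preComp_apply, ofConv_toConv, ofConv_toConv, j₁_comp_c c t hcD hcT,
      AlgHom.comp_assoc]
  rw [h1, mul_invC]

include hcD hcT in
theorem δD_c (z : C) : (δD (k := k) (C := C) (T := T) t).ofConv (c z) =
    algebraMap k (D ⊗[C] T) (Coalgebra.counit (R := k) z) := by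
  have h := preComp_δD c t hcD hcT
  have h2 := congrArg (fun f : WithConv (C →ₐ[k] D ⊗[C] T) => f.ofConv z) h
  exact h2

include hcD hcT hker in
theorem ker_le_δD : RingHom.ker π.toRingHom ≤
    RingHom.ker (δD (k := k) (C := C) (T := T) t).ofConv.toRingHom := by
  refine hker.trans ?_
  rw [Ideal.map_le_iff_le_comap]
  intro z hz
  rw [RingHom.mem_ker] at hz
  rw [Ideal.mem_comap, RingHom.mem_ker]
  have h := δD_c c t hcD hcT z
  have hz' : Coalgebra.counit (R := k) z = 0 := hz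
  rw [hz', map_zero] at h
  exact h

/-- the forward Galois map `d ⊗ x ↦ Σ π(d₁) ⊗ t(d₂) x` -/
noncomputable def γ : D ⊗[C] T →+* Dbar ⊗[k] T :=
  pushoutLift (γD (T := T) t π).ofConv.toRingHom
    (i₂ (k := k) (T := T) (Dbar := Dbar)).toRingHom
    (fun z => by
      rw [hcD, hcT]
      exact γD_c c t π hπc z)

theorem γ_tmul (d : D) (x : T) :
    γ c t hcD hcT π hπc (d ⊗ₜ[C] x) = (γD (T := T) t π).ofConv d * ((1 : Dbar) ⊗ₜ[k] x) := rfl

/-- `γ` as a `k`-algebra map -/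
noncomputable def γₐ : D ⊗[C] T →ₐ[k] Dbar ⊗[k] T :=
  { γ c t hcD hcT π hπc with
    commutes' := fun r => by
      show γ c t hcD hcT π hπc (algebraMap k D r ⊗ₜ[C] (1 : T)) = _
      rw [γ_tmul, AlgHom.commutes, ← Algebra.TensorProduct.one_def, mul_one] }

theorem γₐ_apply (y : D ⊗[C] T) : γₐ c t hcD hcT π hπc y = γ c t hcD hcT π hπc y := rfl

/-- the induced map `Dbar → D ⊗[C] T` -/
noncomputable def δbar : Dbar →ₐ[k] D ⊗[C] T :=
  AlgHom.liftOfSurjective π hπ (δD (k := k) (C := C) (T := T) t).ofConv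
    (ker_le_δD c t hcD hcT π hker)

theorem δbar_comp : (δbar c t hcD hcT π hπ hker).comp π =
    (δD (k := k) (C := C) (T := T) t).ofConv :=
  AlgHom.liftOfSurjective_comp _ _ _ _

/-- the backward Galois map `π(d) ⊗ x ↦ Σ d₁ ⊗ t(S d₂) x` -/
noncomputable def δ : Dbar ⊗[k] T →ₐ[k] D ⊗[C] T :=
  Algebra.TensorProduct.lift (δbar c t hcD hcT π hπ hker)
    (j₂ (k := k) (C := C) (D := D) (T := T)) (fun _ _ => .all _ _)

theorem δ_comp_i₁ : (δ c t hcD hcT π hπ hker).comp (i₁ (k := k) (T := T) (Dbar := Dbar)) =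
    δbar c t hcD hcT π hπ hker :=
  Algebra.TensorProduct.lift_comp_includeLeft _ _ _

theorem δ_comp_i₂ : (δ c t hcD hcT π hπ hker).comp (i₂ (k := k) (T := T) (Dbar := Dbar)) =
    j₂ (k := k) (C := C) (D := D) (T := T) :=
  Algebra.TensorProduct.lift_comp_includeRight' _ _ _

theorem γₐ_comp_j₁ : (γₐ c t hcD hcT π hπc).comp (j₁ (k := k) (C := C) (D := D) (T := T)) =
    (γD (T := T) t π).ofConv := by
  apply AlgHom.ext
  intro d
  show γ c t hcD hcT π hπc (d ⊗ₜ[C] (1 : T)) = _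
  rw [γ_tmul, ← Algebra.TensorProduct.one_def, mul_one]

theorem γₐ_comp_j₂ : (γₐ c t hcD hcT π hπc).comp (j₂ (k := k) (C := C) (D := D) (T := T)) =
    i₂ (k := k) (T := T) (Dbar := Dbar) := by
  apply AlgHom.ext
  intro x
  show γ c t hcD hcT π hπc ((1 : D) ⊗ₜ[C] x) = _
  rw [γ_tmul, map_one, one_mul]
  rfl

theorem δ_comp_γD : (δ c t hcD hcT π hπ hker).comp (γD (T := T) t π).ofConv =
    j₁ (k := k) (C := C) (D := D) (T := T) := by
  apply WithConv.toConv_injective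
  have h1 : toConv ((δ c t hcD hcT π hπ hker).comp (γD (T := T) t π).ofConv) =
      postComp (δ c t hcD hcT π hπ hker) (γD (T := T) t π) := rfl
  rw [h1]
  unfold γD
  rw [map_mul, postComp_apply, postComp_apply, ofConv_toConv, ofConv_toConv,
    ← AlgHom.comp_assoc, ← AlgHom.comp_assoc, δ_comp_i₁, δ_comp_i₂, δbar_comp, toConv_ofConv]
  unfold δD
  rw [mul_assoc, invC_mul, mul_one]

theorem γₐ_comp_δD : (γₐ c t hcD hcT π hπc).comp (δD (k := k) (C := C) (T := T) t).ofConv =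
    (i₁ (k := k) (T := T) (Dbar := Dbar)).comp π := by
  apply WithConv.toConv_injective
  have h1 : toConv ((γₐ c t hcD hcT π hπc).comp (δD (k := k) (C := C) (T := T) t).ofConv) =
      postComp (γₐ c t hcD hcT π hπc) (δD (k := k) (C := C) (T := T) t) := rfl
  rw [h1]
  unfold δD
  rw [map_mul, postComp_invC, postComp_apply, postComp_apply, ofConv_toConv, ofConv_toConv,
    ← AlgHom.comp_assoc, γₐ_comp_j₁, γₐ_comp_j₂, toConv_ofConv]
  unfold γD
  rw [mul_assoc, mul_invC, mul_one]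

theorem δ_γ (y : D ⊗[C] T) : δ c t hcD hcT π hπ hker (γ c t hcD hcT π hπc y) = y := by
  have h : (δ c t hcD hcT π hπ hker).toRingHom.comp (γ c t hcD hcT π hπc) =
      RingHom.id (D ⊗[C] T) := by
    apply ringHom_ext_tensor
    · intro d
      have h1 := congrArg (fun φ : D →ₐ[k] D ⊗[C] T => φ d) (δ_comp_γD c t hcD hcT π hπ hker)
      have h2 : γ c t hcD hcT π hπc (d ⊗ₜ[C] (1 : T)) = (γD (T := T) t π).ofConv d := by
        rw [γ_tmul, ← Algebra.TensorProduct.one_def, mul_one]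
      show δ c t hcD hcT π hπ hker (γ c t hcD hcT π hπc (d ⊗ₜ[C] (1 : T))) = d ⊗ₜ[C] (1 : T)
      rw [h2]
      exact h1
    · intro x
      have h2 : γ c t hcD hcT π hπc ((1 : D) ⊗ₜ[C] x) = (1 : Dbar) ⊗ₜ[k] x := by
        rw [γ_tmul, map_one, one_mul]
      show δ c t hcD hcT π hπ hker (γ c t hcD hcT π hπc ((1 : D) ⊗ₜ[C] x)) = (1 : D) ⊗ₜ[C] x
      rw [h2]
      exact congrArg (fun φ : T →ₐ[k] D ⊗[C] T => φ x) (δ_comp_i₂ c t hcD hcT π hπ hker)
  exact congrArg (fun φ : D ⊗[C] T →+* D ⊗[C] T => φ y) h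

include hπ in
theorem γ_δ (y : Dbar ⊗[k] T) : γ c t hcD hcT π hπc (δ c t hcD hcT π hπ hker y) = y := by
  have h : (γ c t hcD hcT π hπc).comp (δ c t hcD hcT π hπ hker).toRingHom =
      RingHom.id (Dbar ⊗[k] T) := by
    apply ringHom_ext_tensor
    · intro dbar
      obtain ⟨d, rfl⟩ := hπ dbar
      have h1 := congrArg (fun φ : D →ₐ[k] Dbar ⊗[k] T => φ d) (γₐ_comp_δD c t hcD hcT π hπc)
      have h2 : δ c t hcD hcT π hπ hker ((π d) ⊗ₜ[k] (1 : T)) =
          (δD (k := k) (C := C) (T := T) t).ofConv d := by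
        have := congrArg (fun φ : Dbar →ₐ[k] D ⊗[C] T => φ (π d)) (δ_comp_i₁ c t hcD hcT π hπ hker)
        have h3 := congrArg (fun φ : D →ₐ[k] D ⊗[C] T => φ d) (δbar_comp c t hcD hcT π hπ hker)
        exact this.trans h3
      show γ c t hcD hcT π hπc (δ c t hcD hcT π hπ hker ((π d) ⊗ₜ[k] (1 : T))) = (π d) ⊗ₜ[k] (1 : T)
      rw [h2]
      exact h1
    · intro x
      have h2 : δ c t hcD hcT π hπ hker ((1 : Dbar) ⊗ₜ[k] x) = (1 : D) ⊗ₜ[C] x :=
        congrArg (fun φ : T →ₐ[k] D ⊗[C] T => φ x) (δ_comp_i₂ c t hcD hcT π hπ hker)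
      show γ c t hcD hcT π hπc (δ c t hcD hcT π hπ hker ((1 : Dbar) ⊗ₜ[k] x)) = (1 : Dbar) ⊗ₜ[k] x
      rw [h2, γ_tmul, map_one, one_mul]
  exact congrArg (fun φ : Dbar ⊗[k] T →+* Dbar ⊗[k] T => φ y) h

include hπ hker in
theorem γ_bijective : Function.Bijective (γ c t hcD hcT π hπc) :=
  ⟨Function.LeftInverse.injective (δ_γ c t hcD hcT π hπ hπc hker),
    Function.RightInverse.surjective (γ_δ c t hcD hcT π hπ hπc hker)⟩

end Galois

section Natural
variable {k : Type*} [CommRing k] {C D D' : Type*} [CommRing C] [CommRing D] [CommRing D']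
  [HopfAlgebra k C] [HopfAlgebra k D] [HopfAlgebra k D']
  (c : C →ₐc[k] D) (c' : C →ₐc[k] D')
  {T : Type*} [CommRing T] [Algebra k T] (t : D →ₐ[k] T) (t' : D' →ₐ[k] T)
  [Algebra C D] [Algebra C D'] [Algebra C T] [IsScalarTower k C D] [IsScalarTower k C D']
  [IsScalarTower k C T]
  (hcD : ∀ z, algebraMap C D z = c z) (hcT : ∀ z, algebraMap C T z = t (c z))
  (hcD' : ∀ z, algebraMap C D' z = c' z) (hcT' : ∀ z, algebraMap C T z = t' (c' z))
  {Dbar Dbar' : Type*} [CommRing Dbar] [Algebra k Dbar] [CommRing Dbar'] [Algebra k Dbar']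
  (π : D →ₐ[k] Dbar) (π' : D' →ₐ[k] Dbar')
  (hπc : ∀ z : C, π (c z) = algebraMap k Dbar (Coalgebra.counit (R := k) z))
  (hπc' : ∀ z : C, π' (c' z) = algebraMap k Dbar' (Coalgebra.counit (R := k) z))
  (φ : D →ₐc[k] D') (φC : D →ₐ[C] D') (hφ : ∀ d, φC d = φ d) (ht : ∀ d, t' (φ d) = t d)
  (φbar : Dbar →ₐ[k] Dbar') (hφbar : ∀ d, φbar (π d) = π' (φ d))

include ht hφbar in
theorem γD_natural : (γD (T := T) t' π').ofConv.comp (φ : D →ₐ[k] D') =
    (Algebra.TensorProduct.map φbar (AlgHom.id k T)).comp (γD (T := T) t π).ofConv := by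
  apply WithConv.toConv_injective
  have h1 : toConv ((γD (T := T) t' π').ofConv.comp (φ : D →ₐ[k] D')) =
      preComp φ (γD (T := T) t' π') := rfl
  have h2 : toConv ((Algebra.TensorProduct.map φbar (AlgHom.id k T)).comp
      (γD (T := T) t π).ofConv) =
      postComp (Algebra.TensorProduct.map φbar (AlgHom.id k T)) (γD (T := T) t π) := rfl
  rw [h1, h2]
  unfold γD
  rw [map_mul, map_mul]
  congr 1
  · apply WithConv.ofConv_injective
    apply AlgHom.ext
    intro d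
    show (π' (φ d)) ⊗ₜ[k] (1 : T) = Algebra.TensorProduct.map φbar (AlgHom.id k T)
      ((π d) ⊗ₜ[k] (1 : T))
    rw [Algebra.TensorProduct.map_tmul, hφbar, map_one]
  · apply WithConv.ofConv_injective
    apply AlgHom.ext
    intro d
    show (1 : Dbar') ⊗ₜ[k] (t' (φ d)) = Algebra.TensorProduct.map φbar (AlgHom.id k T)
      ((1 : Dbar) ⊗ₜ[k] (t d))
    rw [Algebra.TensorProduct.map_tmul, ht, map_one, AlgHom.id_apply]

include hφ ht hφbar in
theorem γ_natural (y : D ⊗[C] T) :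
    γ c' t' hcD' hcT' π' hπc' (Algebra.TensorProduct.map φC (AlgHom.id C T) y) =
      Algebra.TensorProduct.map φbar (AlgHom.id k T) (γ c t hcD hcT π hπc y) := by
  have h : (γ c' t' hcD' hcT' π' hπc').comp
      (Algebra.TensorProduct.map φC (AlgHom.id C T)).toRingHom =
      (Algebra.TensorProduct.map φbar (AlgHom.id k T)).toRingHom.comp (γ c t hcD hcT π hπc) := by
    apply ringHom_ext_tensor
    · intro d
      show γ c' t' hcD' hcT' π' hπc' (Algebra.TensorProduct.map φC (AlgHom.id C T)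
        (d ⊗ₜ[C] (1 : T))) = Algebra.TensorProduct.map φbar (AlgHom.id k T)
          (γ c t hcD hcT π hπc (d ⊗ₜ[C] (1 : T)))
      rw [Algebra.TensorProduct.map_tmul, γ_tmul, γ_tmul, map_one, hφ,
        ← Algebra.TensorProduct.one_def, mul_one, ← Algebra.TensorProduct.one_def, mul_one]
      exact congrArg (fun ψ : D →ₐ[k] Dbar' ⊗[k] T => ψ d)
        (γD_natural t t' π π' φ ht φbar hφbar)
    · intro x
      show γ c' t' hcD' hcT' π' hπc' (Algebra.TensorProduct.map φC (AlgHom.id C T)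
        ((1 : D) ⊗ₜ[C] x)) = Algebra.TensorProduct.map φbar (AlgHom.id k T)
          (γ c t hcD hcT π hπc ((1 : D) ⊗ₜ[C] x))
      rw [Algebra.TensorProduct.map_tmul, γ_tmul, γ_tmul, map_one, map_one, map_one, one_mul,
        one_mul, Algebra.TensorProduct.map_tmul, map_one]
      rfl
  exact congrArg (fun ψ : D ⊗[C] T →+* Dbar' ⊗[k] T => ψ y) h

end Natural

end Groth.Agent.Lib.Helper66.TK2
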