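import Mathlib
import Groth.Agent.Lib.Helper66.TK2

/-!
# The Hopf ideal generated by the augmentation ideal of a Hopf subalgebra (helper66)
-/

set_option autoImplicit false
open scoped TensorProduct
open WithConv

namespace Groth.Agent.Lib.Helper66.TK3
open Groth.Agent.Lib.Helper66.TK1 Groth.Agent.Lib.Helper66.TK2

section Antipode
variable {k : Type*} [CommRing k] {C D : Type*} [CommRing C] [CommRing D] [HopfAlgebra k C]
  [HopfAlgebra k D] (c : C →ₐc[k] D)

/-- bialgebra maps of commutative Hopf algebras commute with the antipode -/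
theorem map_antipode (z : C) :
    c (HopfAlgebra.antipode k z) = HopfAlgebra.antipode k (c z) := by
  have h1 : preComp c (invC (toConv (AlgHom.id k D))) = invC (preComp c (toConv (AlgHom.id k D))) :=
    preComp_invC c _
  have h2 := congrArg (fun f : WithConv (C →ₐ[k] D) => f.ofConv z) h1
  exact h2.symm

end Antipode

section AugMap
variable {k : Type*} [CommRing k] {C D : Type*} [CommRing C] [CommRing D] [HopfAlgebra k C]
  [HopfAlgebra k D] (c : C →ₐc[k] D)

/-- the augmentation ideal -/
noncomputable abbrev aug (k C : Type*) [CommRing k] [CommRing C] [HopfAlgebra k C] : Ideal C :=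
  RingHom.ker (Bialgebra.counitAlgHom k C : C →+* k)

/-- the ideal of `D` generated by the image of the augmentation ideal of `C` -/
noncomputable def augMap : Ideal D := Ideal.map (c : C →+* D) (aug k C)

theorem mem_aug_iff (z : C) : z ∈ aug k C ↔ Coalgebra.counit (R := k) z = 0 := by
  rw [RingHom.mem_ker]
  rfl

theorem sub_counit_mem_aug (z : C) : z - algebraMap k C (Coalgebra.counit (R := k) z) ∈ aug k C := by
  rw [mem_aug_iff, map_sub]
  have : Coalgebra.counit (R := k) (algebraMap k C (Coalgebra.counit (R := k) z)) =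
      Coalgebra.counit (R := k) z := by
    rw [Bialgebra.counit_algebraMap]
  rw [this, sub_self]

theorem c_mem_augMap {z : C} (hz : z ∈ aug k C) : c z ∈ augMap c :=
  Ideal.mem_map_of_mem (c : C →+* D) hz

theorem augMap_le_iff (J : Ideal D) : augMap c ≤ J ↔ ∀ z ∈ aug k C, c z ∈ J := by
  unfold augMap
  rw [Ideal.map_le_iff_le_comap]
  rfl

theorem augMap_le_aug : augMap c ≤ aug k D := by
  rw [augMap_le_iff]
  intro z hz
  rw [mem_aug_iff] at hz ⊢
  rw [CoalgHomClass.counit_comp_apply]
  exact hz

theorem map_comul_eq {X Y : Type*} [CommRing X] [CommRing Y] [Algebra k X] [Algebra k Y]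
    (f : C →ₐ[k] X) (g : C →ₐ[k] Y) (z : C) :
    Algebra.TensorProduct.map f g (Coalgebra.comul (R := k) z) =
      (toConv ((Algebra.TensorProduct.includeLeft : X →ₐ[k] X ⊗[k] Y).comp f) *
        toConv ((Algebra.TensorProduct.includeRight : Y →ₐ[k] X ⊗[k] Y).comp g)).ofConv z := by
  rw [AlgHom.convMul_apply]
  congr 1
  apply Algebra.TensorProduct.ext
  · apply AlgHom.ext
    intro x
    simp
  · apply AlgHom.ext
    intro y
    simp

/-- the quotient map kills the image of `C` up to the counit -/
theorem mk_c (z : C) : Ideal.Quotient.mkₐ k (augMap c) (c z) =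
    algebraMap k (D ⧸ augMap c) (Coalgebra.counit (R := k) z) := by
  have h := c_mem_augMap c (sub_counit_mem_aug z)
  rw [map_sub] at h
  have h2 : Ideal.Quotient.mkₐ k (augMap c) (c z - c (algebraMap k C (Coalgebra.counit (R := k) z)))
      = 0 := by
    rw [Ideal.Quotient.mkₐ_eq_mk, Ideal.Quotient.eq_zero_iff_mem]
    exact h
  rw [map_sub, sub_eq_zero] at h2
  rw [h2]
  have : c (algebraMap k C (Coalgebra.counit (R := k) z)) =
      algebraMap k D (Coalgebra.counit (R := k) z) := by
    exact AlgHom.commutes (c : C →ₐ[k] D) _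
  rw [this, AlgHom.commutes]

theorem mk_comp_c : toConv ((Ideal.Quotient.mkₐ k (augMap c)).comp (c : C →ₐ[k] D)) = 1 := by
  apply WithConv.ofConv_injective
  apply AlgHom.ext
  intro z
  exact mk_c c z

instance augMap_isHopfIdeal : (augMap c).IsHopfIdeal k := by
  set q := Ideal.Quotient.mkₐ k (augMap c) with hq
  refine { counit_eq_zero := fun x hx => ?_, map_mkQ_comul_eq_zero := fun x hx => ?_, antipode_mem := fun x hx => ?_ }
  · have h := augMap_le_aug c hx
    rw [mem_aug_iff] at h
    exact h
  · have h4 : augMap c ≤ (RingHom.ker (Algebra.TensorProduct.map q q)).comap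
        (Bialgebra.comulAlgHom k D) := by
      rw [augMap_le_iff]
      intro z hz
      rw [Ideal.mem_comap, RingHom.mem_ker]
      show Algebra.TensorProduct.map q q (Coalgebra.comul (R := k) (c z)) = 0
      have h5 : Coalgebra.comul (R := k) (c z) =
          Algebra.TensorProduct.map (c : C →ₐ[k] D) (c : C →ₐ[k] D) (Coalgebra.comul (R := k) z) :=
        (CoalgHomClass.map_comp_comul_apply c z).symm
      rw [h5, ← AlgHom.comp_apply, ← Algebra.TensorProduct.map_comp, map_comul_eq]
      have h6 : toConv (q.comp (c : C →ₐ[k] D)) = 1 := mk_comp_c c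
      have h7 : toConv ((Algebra.TensorProduct.includeLeft :
          (D ⧸ augMap c) →ₐ[k] (D ⧸ augMap c) ⊗[k] (D ⧸ augMap c)).comp (q.comp (c : C →ₐ[k] D))) = 1 := by
        have : toConv ((Algebra.TensorProduct.includeLeft :
          (D ⧸ augMap c) →ₐ[k] (D ⧸ augMap c) ⊗[k] (D ⧸ augMap c)).comp (q.comp (c : C →ₐ[k] D))) =
          postComp Algebra.TensorProduct.includeLeft (toConv (q.comp (c : C →ₐ[k] D))) := rfl
        rw [this, h6, map_one]
      have h8 : toConv ((Algebra.TensorProduct.includeRight :
          (D ⧸ augMap c) →ₐ[k] (D ⧸ augMap c) ⊗[k] (D ⧸ augMap c)).comp (q.comp (c : C →ₐ[k] D))) = 1 := by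
        have : toConv ((Algebra.TensorProduct.includeRight :
          (D ⧸ augMap c) →ₐ[k] (D ⧸ augMap c) ⊗[k] (D ⧸ augMap c)).comp (q.comp (c : C →ₐ[k] D))) =
          postComp Algebra.TensorProduct.includeRight (toConv (q.comp (c : C →ₐ[k] D))) := rfl
        rw [this, h6, map_one]
      rw [h7, h8, mul_one]
      show algebraMap k _ (Coalgebra.counit (R := k) z) = 0
      rw [(mem_aug_iff z).mp hz, map_zero]
    have := h4 hx
    rw [Ideal.mem_comap, RingHom.mem_ker] at this
    exact this
  · have h5 : augMap c ≤ (augMap c).comap (HopfAlgebra.antipodeAlgHom k D) := by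
      rw [augMap_le_iff]
      intro z hz
      rw [Ideal.mem_comap]
      show HopfAlgebra.antipode k (c z) ∈ augMap c
      rw [← map_antipode]
      apply c_mem_augMap
      rw [mem_aug_iff, HopfAlgebra.counit_antipode]
      exact (mem_aug_iff z).mp hz
    exact h5 hx

/-- the quotient map as a bialgebra map -/
noncomputable def qmap : D →ₐc[k] D ⧸ augMap c := Bialgebra.Quotient.mkBialgHom (augMap c)

theorem qmap_apply (d : D) : qmap c d = Ideal.Quotient.mk (augMap c) d := rfl

theorem qmap_surjective : Function.Surjective (qmap c) := Ideal.Quotient.mk_surjective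

theorem qmap_c (z : C) : qmap c (c z) =
    algebraMap k (D ⧸ augMap c) (Coalgebra.counit (R := k) z) := mk_c c z

theorem ker_qmap : RingHom.ker ((qmap c : D →ₐ[k] D ⧸ augMap c)).toRingHom = augMap c :=
  Ideal.mk_ker

end AugMap

section Bar
variable {k : Type*} [CommRing k] {C B A : Type*} [CommRing C] [CommRing B] [CommRing A]
  [HopfAlgebra k C] [HopfAlgebra k B] [HopfAlgebra k A] (ι : C →ₐc[k] B) (f : B →ₐc[k] A)

theorem augMap_le_comap : augMap ι ≤ (augMap (f.comp ι)).comap (f : B →ₐ[k] A) := by
  rw [augMap_le_iff]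
  intro z hz
  rw [Ideal.mem_comap]
  exact c_mem_augMap (f.comp ι) hz

/-- the induced algebra map on quotients -/
noncomputable def barAlgHom : (B ⧸ augMap ι) →ₐ[k] (A ⧸ augMap (f.comp ι)) :=
  Ideal.quotientMapₐ (augMap (f.comp ι)) (f : B →ₐ[k] A) (augMap_le_comap ι f)

theorem barAlgHom_mk (b : B) :
    barAlgHom ι f (Ideal.Quotient.mk (augMap ι) b) = Ideal.Quotient.mk (augMap (f.comp ι)) (f b) :=
  rfl

theorem barAlgHom_comp : (barAlgHom ι f).comp (Ideal.Quotient.mkₐ k (augMap ι)) =
    (Ideal.Quotient.mkₐ k (augMap (f.comp ι))).comp (f : B →ₐ[k] A) := rfl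

/-- the induced bialgebra map on quotients -/
noncomputable def barMap : (B ⧸ augMap ι) →ₐc[k] (A ⧸ augMap (f.comp ι)) :=
  BialgHom.ofAlgHom (barAlgHom ι f)
    (by
      apply Ideal.Quotient.algHom_ext
      apply AlgHom.ext
      intro b
      show Coalgebra.counit (R := k) (f b) = Coalgebra.counit (R := k) b
      rw [CoalgHomClass.counit_comp_apply])
    (by
      apply Ideal.Quotient.algHom_ext
      apply AlgHom.ext
      intro b
      show Algebra.TensorProduct.map (barAlgHom ι f) (barAlgHom ι f)
        (Algebra.TensorProduct.map (Ideal.Quotient.mkₐ k (augMap ι)) (Ideal.Quotient.mkₐ k (augMap ι))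
          (Coalgebra.comul (R := k) b)) =
        Algebra.TensorProduct.map (Ideal.Quotient.mkₐ k (augMap (f.comp ι)))
          (Ideal.Quotient.mkₐ k (augMap (f.comp ι))) (Coalgebra.comul (R := k) (f b))
      have h5 : Coalgebra.comul (R := k) (f b) =
          Algebra.TensorProduct.map (f : B →ₐ[k] A) (f : B →ₐ[k] A) (Coalgebra.comul (R := k) b) :=
        (CoalgHomClass.map_comp_comul_apply f b).symm
      rw [h5, ← AlgHom.comp_apply, ← AlgHom.comp_apply, ← Algebra.TensorProduct.map_comp,
        ← Algebra.TensorProduct.map_comp, barAlgHom_comp])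

theorem barMap_apply (x : B ⧸ augMap ι) : barMap ι f x = barAlgHom ι f x := rfl

theorem barMap_qmap (b : B) : barMap ι f (qmap ι b) = qmap (f.comp ι) (f b) := rfl

end Bar

end Groth.Agent.Lib.Helper66.TK3
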