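import Mathlib
import Groth.Agent.Lib.Helper66.TK3

/-!
# A commutative Hopf algebra is free over a Hopf subalgebra with nilpotent augmentation ideal
(helper66)
-/

set_option autoImplicit false
open scoped TensorProduct
open WithConv

namespace Groth.Agent.Lib.Helper66.TK4
open Groth.Agent.Lib.Helper66.TK1 Groth.Agent.Lib.Helper66.TK2 Groth.Agent.Lib.Helper66.TK3

section Nilp
variable {R : Type*} [CommRing R] {P Q : Type*} [AddCommGroup P] [Module R P] [AddCommGroup Q]
  [Module R Q]

theorem eq_top_of_nilpotent (I : Ideal R) (n : ℕ) (hI : I ^ n = ⊥) (N : Submodule R P)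
    (h : ⊤ ≤ N ⊔ I • (⊤ : Submodule R P)) : N = ⊤ := by
  have key : ∀ m : ℕ, (⊤ : Submodule R P) ≤ N ⊔ I ^ m • (⊤ : Submodule R P) := by
    intro m
    induction m with
    | zero => rw [pow_zero, Ideal.one_eq_top, Submodule.top_smul]; exact le_sup_right
    | succ m ih =>
      calc (⊤ : Submodule R P) ≤ N ⊔ I • (⊤ : Submodule R P) := h
        _ ≤ N ⊔ I • (N ⊔ I ^ m • (⊤ : Submodule R P)) :=
            sup_le_sup_left (Submodule.smul_mono le_rfl ih) _
        _ ≤ N ⊔ I ^ (m + 1) • (⊤ : Submodule R P) := by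
            rw [Submodule.smul_sup, ← sup_assoc, ← Submodule.mul_smul, ← pow_succ']
            apply sup_le_sup_right
            exact sup_le le_rfl Submodule.smul_le_right
  have := key n
  rw [hI, Submodule.bot_smul, sup_bot_eq] at this
  exact top_le_iff.mp this

theorem eq_bot_of_nilpotent (I : Ideal R) (n : ℕ) (hI : I ^ n = ⊥) (K : Submodule R P)
    (h : K ≤ I • K) : K = ⊥ := by
  have key : ∀ m : ℕ, K ≤ I ^ m • K := by
    intro m
    induction m with
    | zero => rw [pow_zero, Ideal.one_eq_top, Submodule.top_smul]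
    | succ m ih =>
      calc K ≤ I • K := h
        _ ≤ I • (I ^ m • K) := Submodule.smul_mono le_rfl ih
        _ = I ^ (m + 1) • K := by rw [← Submodule.mul_smul, ← pow_succ']
  have := key n
  rw [hI, Submodule.bot_smul] at this
  exact le_bot_iff.mp this

theorem injective_of_nilpotent [Module.Projective R Q] (I : Ideal R) (n : ℕ) (hI : I ^ n = ⊥)
    (Ψ : P →ₗ[R] Q) (hsurj : Function.Surjective Ψ)
    (h : ∀ x, Ψ x ∈ I • (⊤ : Submodule R Q) → x ∈ I • (⊤ : Submodule R P)) :
    Function.Injective Ψ := by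
  obtain ⟨s, hs⟩ := Module.projective_lifting_property Ψ LinearMap.id hsurj
  let e : P →ₗ[R] P := LinearMap.id - s ∘ₗ Ψ
  have he_mem : ∀ x, e x ∈ LinearMap.ker Ψ := by
    intro x
    rw [LinearMap.mem_ker]
    show Ψ (x - s (Ψ x)) = 0
    rw [map_sub]
    have : Ψ (s (Ψ x)) = Ψ x := congrArg (fun g : Q →ₗ[R] Q => g (Ψ x)) hs
    rw [this, sub_self]
  have he_id : ∀ x ∈ LinearMap.ker Ψ, e x = x := by
    intro x hx
    rw [LinearMap.mem_ker] at hx
    show x - s (Ψ x) = x
    rw [hx, map_zero, sub_zero]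
  have hK : LinearMap.ker Ψ ≤ I • LinearMap.ker Ψ := by
    intro x hx
    have hx0 : Ψ x = 0 := hx
    have h1 : x ∈ I • (⊤ : Submodule R P) := h x (by rw [hx0]; exact Submodule.zero_mem _)
    have h2 : e x ∈ Submodule.map e (I • (⊤ : Submodule R P)) := Submodule.mem_map_of_mem h1
    rw [Submodule.map_smul''] at h2
    rw [he_id x hx] at h2
    refine Submodule.smul_mono le_rfl ?_ h2
    rintro _ ⟨y, -, rfl⟩
    exact he_mem y
  have := eq_bot_of_nilpotent I n hI _ hK
  exact LinearMap.ker_eq_bot.mp this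

end Nilp

theorem smul_eq_tmul_mul {k : Type*} [CommRing k] {X Y : Type*} [CommRing X] [CommRing Y]
    [Algebra k X] [Algebra k Y] (r : X) (y : X ⊗[k] Y) : r • y = (r ⊗ₜ[k] (1 : Y)) * y := by
  induction y using TensorProduct.induction_on with
  | zero => simp
  | tmul a x => rw [TensorProduct.smul_tmul', Algebra.TensorProduct.tmul_mul_tmul, one_mul, smul_eq_mul]
  | add y y' hy hy' => rw [smul_add, hy, hy', mul_add]

section Self
variable {k : Type*} [CommRing k] {H : Type*} [CommRing H] [HopfAlgebra k H]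

/-- `x ↦ Σ x₂ ⊗ x₁` -/
noncomputable def Φs : H →ₐ[k] H ⊗[k] H :=
  (Algebra.TensorProduct.comm k H H).toAlgHom.comp
    (γD (T := H) (AlgHom.id k H) (AlgHom.id k H)).ofConv

/-- the Galois map `y ⊗ x ↦ Σ y x₂ ⊗ x₁` of a Hopf algebra, as a left-linear algebra map -/
noncomputable def Θs : H ⊗[k] H →ₐ[H] H ⊗[k] H :=
  Algebra.TensorProduct.lift (Algebra.ofId H (H ⊗[k] H)) (Φs (k := k) (H := H))
    (fun _ _ => .all _ _)

theorem Θs_tmul (y x : H) : Θs (k := k) (y ⊗ₜ[k] x) = (y ⊗ₜ[k] (1 : H)) * Φs (k := k) x := rfl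

theorem Θs_bijective : Function.Bijective (Θs (k := k) (H := H)) := by
  let c : k →ₐc[k] H := Bialgebra.unitBialgHom k H
  have hcD : ∀ z, algebraMap k H z = c z := fun z => rfl
  have hcT : ∀ z, algebraMap k H z = (AlgHom.id k H) (c z) := fun z => rfl
  have hπc : ∀ z : k, (AlgHom.id k H) (c z) = algebraMap k H (Coalgebra.counit (R := k) z) :=
    fun z => rfl
  have hker : RingHom.ker (AlgHom.id k H).toRingHom ≤
      Ideal.map (c : k →+* H) (RingHom.ker (Bialgebra.counitAlgHom k k : k →+* k)) := by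
    intro x hx
    rw [RingHom.mem_ker] at hx
    have : x = 0 := hx
    rw [this]
    exact Submodule.zero_mem _
  have hγ := γ_bijective c (AlgHom.id k H) hcD hcT (AlgHom.id k H) Function.surjective_id hπc hker
  have heq : ⇑(Θs (k := k) (H := H)) = (Algebra.TensorProduct.comm k H H) ∘
      (γ c (AlgHom.id k H) hcD hcT (AlgHom.id k H) hπc) ∘ (Algebra.TensorProduct.comm k H H) := by
    funext w
    induction w using TensorProduct.induction_on with
    | zero => simp
    | tmul y x =>
      show Θs (k := k) (y ⊗ₜ[k] x) = (Algebra.TensorProduct.comm k H H)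
        (γ c (AlgHom.id k H) hcD hcT (AlgHom.id k H) hπc (x ⊗ₜ[k] y))
      rw [Θs_tmul, γ_tmul, map_mul, Algebra.TensorProduct.comm_tmul, mul_comm]
      rfl
    | add w w' hw hw' =>
      rw [map_add, hw, hw']
      simp only [Function.comp_apply, map_add]
  rw [heq]
  exact (Algebra.TensorProduct.comm k H H).bijective.comp
    (hγ.comp (Algebra.TensorProduct.comm k H H).bijective)

end Self

section Main
variable {k : Type*} [Field k] {B A : Type*} [CommRing B] [CommRing A] [HopfAlgebra k B]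
  [HopfAlgebra k A] (f : B →ₐc[k] A)

/-- `a ↦ Σ a₂ ⊗ π(a₁)` -/
noncomputable def Φ' : A →ₐ[k] A ⊗[k] (A ⧸ augMap f) :=
  (Algebra.TensorProduct.comm k (A ⧸ augMap f) A).toAlgHom.comp
    (γD (T := A) (AlgHom.id k A) (qmap f : A →ₐ[k] A ⧸ augMap f)).ofConv

theorem Φ'_f (b : B) : Φ' f (f b) = (f b) ⊗ₜ[k] (1 : A ⧸ augMap f) := by
  unfold Φ'
  rw [AlgHom.comp_apply, γD_c f (AlgHom.id k A) (qmap f : A →ₐ[k] A ⧸ augMap f) (qmap_c f) b]
  rfl

/-- `π ⊗ id` -/
noncomputable def pmap : A ⊗[k] (A ⧸ augMap f) →ₐ[k] (A ⧸ augMap f) ⊗[k] (A ⧸ augMap f) :=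
  Algebra.TensorProduct.map (qmap f : A →ₐ[k] A ⧸ augMap f) (AlgHom.id k (A ⧸ augMap f))

theorem pmap_comm (y : (A ⧸ augMap f) ⊗[k] A) :
    pmap f (Algebra.TensorProduct.comm k (A ⧸ augMap f) A y) =
      Algebra.TensorProduct.comm k (A ⧸ augMap f) (A ⧸ augMap f)
        (Algebra.TensorProduct.map (AlgHom.id k (A ⧸ augMap f))
          (qmap f : A →ₐ[k] A ⧸ augMap f) y) := by
  induction y using TensorProduct.induction_on with
  | zero => simp
  | tmul x a => rfl
  | add y y' hy hy' => simp only [map_add, hy, hy']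

theorem γD_qmap :
    (Algebra.TensorProduct.map (AlgHom.id k (A ⧸ augMap f)) (qmap f : A →ₐ[k] A ⧸ augMap f)).comp
      (γD (T := A) (AlgHom.id k A) (qmap f : A →ₐ[k] A ⧸ augMap f)).ofConv =
    (γD (T := A ⧸ augMap f) (AlgHom.id k (A ⧸ augMap f))
      (AlgHom.id k (A ⧸ augMap f))).ofConv.comp (qmap f : A →ₐ[k] A ⧸ augMap f) := by
  apply WithConv.toConv_injective
  have h1 : toConv ((Algebra.TensorProduct.map (AlgHom.id k (A ⧸ augMap f))
      (qmap f : A →ₐ[k] A ⧸ augMap f)).comp
      (γD (T := A) (AlgHom.id k A) (qmap f : A →ₐ[k] A ⧸ augMap f)).ofConv) =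
      postComp (Algebra.TensorProduct.map (AlgHom.id k (A ⧸ augMap f))
        (qmap f : A →ₐ[k] A ⧸ augMap f))
        (γD (T := A) (AlgHom.id k A) (qmap f : A →ₐ[k] A ⧸ augMap f)) := rfl
  have h2 : toConv ((γD (T := A ⧸ augMap f) (AlgHom.id k (A ⧸ augMap f))
      (AlgHom.id k (A ⧸ augMap f))).ofConv.comp (qmap f : A →ₐ[k] A ⧸ augMap f)) =
      preComp (qmap f) (γD (T := A ⧸ augMap f) (AlgHom.id k (A ⧸ augMap f))
        (AlgHom.id k (A ⧸ augMap f))) := rfl
  rw [h1, h2]
  unfold γD
  rw [map_mul, map_mul]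
  congr 1

theorem pmap_Φ' (a : A) : pmap f (Φ' f a) = Φs (k := k) (H := A ⧸ augMap f) (qmap f a) := by
  unfold Φ' Φs
  rw [AlgHom.comp_apply, AlgHom.comp_apply]
  show pmap f (Algebra.TensorProduct.comm k (A ⧸ augMap f) A _) =
    Algebra.TensorProduct.comm k (A ⧸ augMap f) (A ⧸ augMap f) _
  rw [pmap_comm]
  congr 1
  exact congrArg (fun φ : A →ₐ[k] (A ⧸ augMap f) ⊗[k] (A ⧸ augMap f) => φ a) (γD_qmap f)

theorem ker_pmap : RingHom.ker (pmap f) =
    Ideal.map (algebraMap A (A ⊗[k] (A ⧸ augMap f))) (augMap f) := by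
  unfold pmap
  have hs : Function.Surjective ((qmap f : A →ₐ[k] A ⧸ augMap f)) := qmap_surjective f
  rw [Algebra.TensorProduct.map_ker (qmap f : A →ₐ[k] A ⧸ augMap f)
    (AlgHom.id k (A ⧸ augMap f)) hs Function.surjective_id]
  have h1 : RingHom.ker (AlgHom.id k (A ⧸ augMap f)) = ⊥ := by
    ext x
    rw [RingHom.mem_ker]
    rfl
  have h2 : RingHom.ker (qmap f : A →ₐ[k] A ⧸ augMap f) = augMap f := ker_qmap f
  rw [h1, h2, Ideal.map_bot, sup_bot_eq]
  rfl

theorem smul_top_eq_ker_pmap :
    (augMap f) • (⊤ : Submodule A (A ⊗[k] (A ⧸ augMap f))) =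
      (RingHom.ker (pmap f)).restrictScalars A := by
  rw [ker_pmap, Ideal.smul_top_eq_map]

theorem mem_smul_top_iff (q : A ⊗[k] (A ⧸ augMap f)) :
    q ∈ (augMap f) • (⊤ : Submodule A (A ⊗[k] (A ⧸ augMap f))) ↔ pmap f q = 0 := by
  rw [smul_top_eq_ker_pmap]
  rfl

theorem augMap_pow (n : ℕ) (hn : (aug k B) ^ n = ⊥) : (augMap f) ^ n = ⊥ := by
  unfold augMap
  rw [← Ideal.map_pow, hn, Ideal.map_bot]

section Psi
variable {J : Type*} (b : Module.Basis J k (A ⧸ augMap f)) (a : J → A)
  (ha : ∀ j, qmap f (a j) = b j)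

/-- the comparison map `A^(J) → A ⊗ Abar` -/
noncomputable def Ψ : (J →₀ A) →ₗ[A] A ⊗[k] (A ⧸ augMap f) :=
  Finsupp.linearCombination A (fun j => Φ' f (a j))

/-- the comparison map `Abar^(J) → Abar ⊗ Abar` -/
noncomputable def Ψbar : (J →₀ (A ⧸ augMap f)) →ₗ[A ⧸ augMap f]
    (A ⧸ augMap f) ⊗[k] (A ⧸ augMap f) :=
  Finsupp.linearCombination (A ⧸ augMap f) (fun j => Φs (k := k) (H := A ⧸ augMap f) (b j))

theorem Ψbar_bijective : Function.Bijective (Ψbar f b) := by
  have h : Ψbar f b = (Θs (k := k) (H := A ⧸ augMap f)).toLinearMap ∘ₗ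
      (Algebra.TensorProduct.basis (A ⧸ augMap f) b).repr.symm.toLinearMap := by
    apply Finsupp.lhom_ext'
    intro j
    apply LinearMap.ext_ring
    show Ψbar f b (Finsupp.single j 1) = Θs (k := k)
      ((Algebra.TensorProduct.basis (A ⧸ augMap f) b).repr.symm (Finsupp.single j 1))
    rw [Module.Basis.repr_symm_single_one, Algebra.TensorProduct.basis_apply, Θs_tmul,
      ← Algebra.TensorProduct.one_def, one_mul]
    unfold Ψbar
    rw [Finsupp.linearCombination_single, one_smul]
  rw [h]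
  exact (Θs_bijective (k := k) (H := A ⧸ augMap f)).comp
    (Algebra.TensorProduct.basis (A ⧸ augMap f) b).repr.symm.bijective

include ha in
theorem pmap_Ψ (x : J →₀ A) : pmap f (Ψ f a x) =
    Ψbar f b (Finsupp.mapRange (qmap f) (map_zero _) x) := by
  induction x using Finsupp.induction_linear with
  | zero => simp
  | add x y hx hy => rw [map_add, map_add, hx, hy, Finsupp.mapRange_add (by intros; simp), map_add]
  | single j r =>
    unfold Ψ Ψbar
    rw [Finsupp.linearCombination_single, Finsupp.mapRange_single,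
      Finsupp.linearCombination_single, smul_eq_tmul_mul, smul_eq_tmul_mul, map_mul, pmap_Φ', ha]
    rfl

include ha in
theorem Ψ_mem (x : J →₀ A)
    (hx : Ψ f a x ∈ (augMap f) • (⊤ : Submodule A (A ⊗[k] (A ⧸ augMap f)))) :
    x ∈ (augMap f) • (⊤ : Submodule A (J →₀ A)) := by
  rw [mem_smul_top_iff, pmap_Ψ f b a ha] at hx
  have h0 : Finsupp.mapRange (qmap f) (map_zero _) x = 0 :=
    (Ψbar_bijective f b).1 (hx.trans (map_zero _).symm)
  have hj : ∀ j, x j ∈ augMap f := by
    intro j
    have := DFunLike.congr_fun h0 j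
    rw [Finsupp.mapRange_apply] at this
    rw [← ker_qmap f, RingHom.mem_ker]
    exact this
  have hsum : x = x.sum (fun j r => r • Finsupp.single j (1 : A)) := by
    conv_lhs => rw [← Finsupp.sum_single x]
    apply Finsupp.sum_congr
    intro j _
    rw [Finsupp.smul_single, smul_eq_mul, mul_one]
  rw [hsum]
  apply Submodule.sum_mem
  intro j _
  exact Submodule.smul_mem_smul (hj j) Submodule.mem_top

include ha in
theorem Ψ_top : (⊤ : Submodule A (A ⊗[k] (A ⧸ augMap f))) ≤
    LinearMap.range (Ψ f a) ⊔ (augMap f) • (⊤ : Submodule A (A ⊗[k] (A ⧸ augMap f))) := by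
  intro q _
  obtain ⟨z, hz⟩ := (Ψbar_bijective f b).2 (pmap f q)
  obtain ⟨x, hx⟩ := Finsupp.mapRange_surjective (qmap f) (map_zero _) (qmap_surjective f) z
  have h1 : q = Ψ f a x + (q - Ψ f a x) := by abel
  rw [h1]
  apply Submodule.add_mem_sup
  · exact ⟨x, rfl⟩
  · rw [mem_smul_top_iff, map_sub, pmap_Ψ f b a ha, hx, hz, sub_self]

include ha in
theorem Ψ_injective (n : ℕ) (hn : (aug k B) ^ n = ⊥) : Function.Injective (Ψ f a) := by
  have hnil := augMap_pow f n hn
  have hsurj : Function.Surjective (Ψ f a) := by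
    rw [← LinearMap.range_eq_top]
    exact eq_top_of_nilpotent (augMap f) n hnil _ (Ψ_top f b a ha)
  exact injective_of_nilpotent (augMap f) n hnil (Ψ f a) hsurj (Ψ_mem f b a ha)

end Psi

/-- **Case of a nilpotent augmentation ideal**: a commutative Hopf algebra is free, hence
faithfully flat, over a Hopf subalgebra whose augmentation ideal is nilpotent. -/
theorem faithfullyFlat_of_nilpotent (hf : Function.Injective f) (n : ℕ)
    (hn : (aug k B) ^ n = ⊥) : (f : B →+* A).FaithfullyFlat := by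
  classical
  let b := Module.Free.chooseBasis k (A ⧸ augMap f)
  let a : Module.Free.ChooseBasisIndex k (A ⧸ augMap f) → A :=
    fun j => Function.surjInv (qmap_surjective f) (b j)
  have ha : ∀ j, qmap f (a j) = b j := fun j => Function.surjInv_eq (qmap_surjective f) (b j)
  letI : Algebra B A := (f : B →+* A).toAlgebra
  have hsmul : ∀ (r : B) (x : A), r • x = f r * x := fun r x => rfl
  let φ : (Module.Free.ChooseBasisIndex k (A ⧸ augMap f) →₀ B) →ₗ[B] A :=
    Finsupp.linearCombination B a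
  have hΦφ : ∀ l, Φ' f (φ l) = Ψ f a (Finsupp.mapRange f (map_zero _) l) := by
    intro l
    induction l using Finsupp.induction_linear with
    | zero => simp
    | add x y hx hy => rw [map_add, map_add, hx, hy, Finsupp.mapRange_add (by intros; simp), map_add]
    | single j r =>
      unfold Ψ
      rw [Finsupp.mapRange_single, Finsupp.linearCombination_single,
        Finsupp.linearCombination_single, hsmul, map_mul, Φ'_f, smul_eq_tmul_mul]
  have hinj : Function.Injective φ := by
    rw [injective_iff_map_eq_zero]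
    intro l hl
    have h1 : Ψ f a (Finsupp.mapRange f (map_zero _) l) = 0 := by
      rw [← hΦφ, hl, map_zero]
    have h2 : Finsupp.mapRange f (map_zero _) l = 0 :=
      (Ψ_injective f b a ha n hn) (h1.trans (map_zero _).symm)
    ext j
    have := DFunLike.congr_fun h2 j
    rw [Finsupp.mapRange_apply] at this
    exact hf (this.trans (map_zero _).symm)
  have hq : ∀ c : Module.Free.ChooseBasisIndex k (A ⧸ augMap f) →₀ k,
      qmap f (φ (Finsupp.mapRange (algebraMap k B) (map_zero _) c)) =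
        Finsupp.linearCombination k b c := by
    intro c
    induction c using Finsupp.induction_linear with
    | zero => simp
    | add x y hx hy => rw [Finsupp.mapRange_add (by intros; simp), map_add, map_add, hx, hy, map_add]
    | single j r =>
      rw [Finsupp.mapRange_single, Finsupp.linearCombination_single,
        Finsupp.linearCombination_single, hsmul, map_mul, ha]
      have : f (algebraMap k B r) = algebraMap k A r := AlgHom.commutes (f : B →ₐ[k] A) r
      rw [this]
      have h2 : qmap f (algebraMap k A r) = algebraMap k (A ⧸ augMap f) r :=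
        AlgHom.commutes (qmap f : A →ₐ[k] A ⧸ augMap f) r
      rw [h2, Algebra.smul_def]
  have hsurj : Function.Surjective φ := by
    rw [← LinearMap.range_eq_top]
    apply eq_top_of_nilpotent (aug k B) n hn
    intro x _
    set y := φ (Finsupp.mapRange (algebraMap k B) (map_zero _) (b.repr (qmap f x))) with hy
    have h1 : qmap f y = qmap f x := by
      rw [hy, hq, Module.Basis.linearCombination_repr]
    have h2 : x = y + (x - y) := by abel
    rw [h2]
    apply Submodule.add_mem_sup
    · exact ⟨_, rfl⟩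
    · rw [Ideal.smul_top_eq_map]
      show x - y ∈ Ideal.map (f : B →+* A) (aug k B)
      have h3 : x - y ∈ RingHom.ker ((qmap f : A →ₐ[k] A ⧸ augMap f)).toRingHom := by
        rw [RingHom.mem_ker]
        show qmap f (x - y) = 0
        rw [map_sub, h1, sub_self]
      rw [ker_qmap] at h3
      exact h3
  haveI : Module.Free B A := Module.Free.of_equiv (LinearEquiv.ofBijective φ ⟨hinj, hsurj⟩)
  haveI : Nontrivial A := by
    have : Function.Surjective (Bialgebra.counitAlgHom k A) := fun c =>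
      ⟨algebraMap k A c, by simp⟩
    exact (Bialgebra.counitAlgHom k A).toRingHom.domain_nontrivial
  show Module.FaithfullyFlat B A
  infer_instance

end Main

end Groth.Agent.Lib.Helper66.TK4
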