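import Mathlib
import Groth.Agent.Lib.Helper55.GR.Final

/-!
# Generic freeness in the form needed for homogeneity arguments, universe polymorphic (helper66)
-/

set_option autoImplicit false
open scoped TensorProduct

namespace Groth.Agent.Lib.Helper66.TK5

universe u v w

section Same
variable (R S : Type u) [CommRing R] [IsReduced R] [CommRing S] [Algebra R S]
  [Algebra.FiniteType R S]

theorem gf_same (hinj : Function.Injective (algebraMap R S)) (h : R) (hh : h ≠ 0) :
    ∃ f : R, h * f ≠ 0 ∧ Module.Flat R (Localization.Away (algebraMap R S (h * f))) ∧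
      ∀ n : Ideal R, n.IsPrime → h * f ∉ n → Ideal.map (algebraMap R S) n ≠ ⊤ := by
  obtain ⟨f, hne, -, hfree, -, -⟩ :=
    Groth.Agent.Lib.Helper55.GR.generic_freeness_reduced R S S h hh
  refine ⟨f, hne, ?_, ?_⟩
  all_goals
    set s := h * f with hs
    letI : Algebra (Localization.Away s) (Localization.Away (algebraMap R S s)) :=
      (Localization.awayMap (algebraMap R S) s).toAlgebra
    haveI : IsScalarTower R (Localization.Away s) (Localization.Away (algebraMap R S s)) := by
      apply IsScalarTower.of_algebraMap_eq
      intro x
      rw [RingHom.algebraMap_toAlgebra]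
      show _ = IsLocalization.Away.map _ _ (algebraMap R S) s (algebraMap R (Localization.Away s) x)
      rw [IsLocalization.Away.map, IsLocalization.map_eq,
        ← IsScalarTower.algebraMap_apply R S (Localization.Away (algebraMap R S s))]
    have hpow : Algebra.algebraMapSubmonoid S (Submonoid.powers s) =
        Submonoid.powers (algebraMap R S s) := Submonoid.map_powers (algebraMap R S) s
    haveI hloc : IsLocalization (Algebra.algebraMapSubmonoid S (Submonoid.powers s))
        (Localization.Away (algebraMap R S s)) := by
      rw [hpow]; infer_instance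
    haveI : IsLocalizedModule (Submonoid.powers s)
        (IsScalarTower.toAlgHom R S (Localization.Away (algebraMap R S s))).toLinearMap :=
      (isLocalizedModule_iff_isLocalization).2 hloc
    let e : LocalizedModule (Submonoid.powers s) S ≃ₗ[R] Localization.Away (algebraMap R S s) :=
      IsLocalizedModule.iso (Submonoid.powers s)
        (IsScalarTower.toAlgHom R S (Localization.Away (algebraMap R S s))).toLinearMap
    let e' : LocalizedModule (Submonoid.powers s) S ≃ₗ[Localization.Away s]
        Localization.Away (algebraMap R S s) :=
      e.extendScalarsOfIsLocalization (Submonoid.powers s) (Localization.Away s)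
    haveI : Module.Free (Localization.Away s) (Localization.Away (algebraMap R S s)) :=
      Module.Free.of_equiv e'
  · exact Module.Flat.trans R (Localization.Away s) (Localization.Away (algebraMap R S s))
  · intro n hn hsn hmap
    have hnil : ¬ IsNilpotent (algebraMap R S s) := by
      intro hnil
      have := (IsNilpotent.map_iff hinj).mp hnil
      exact hne (IsReduced.eq_zero _ this)
    haveI : Nontrivial (Localization.Away (algebraMap R S s)) := by
      rw [← not_subsingleton_iff_nontrivial,
        IsLocalization.subsingleton_iff (M := Submonoid.powers (algebraMap R S s))]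
      rintro ⟨m, hm⟩
      exact hnil ⟨m, hm⟩
    haveI : Module.FaithfullyFlat (Localization.Away s) (Localization.Away (algebraMap R S s)) :=
      inferInstance
    have hdisj : Disjoint (Submonoid.powers s : Set R) (n : Set R) := by
      rw [Set.disjoint_left]
      rintro x ⟨m, rfl⟩ hx
      exact hsn (hn.mem_of_pow_mem m hx)
    have hprime : (Ideal.map (algebraMap R (Localization.Away s)) n).IsPrime :=
      IsLocalization.isPrime_of_isPrime_disjoint (Submonoid.powers s) (Localization.Away s) n hn hdisj
    have h1 := Ideal.comap_map_eq_self_of_faithfullyFlat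
      (B := Localization.Away (algebraMap R S s)) (Ideal.map (algebraMap R (Localization.Away s)) n)
    have h2 : Ideal.map (algebraMap (Localization.Away s) (Localization.Away (algebraMap R S s)))
        (Ideal.map (algebraMap R (Localization.Away s)) n) = ⊤ := by
      rw [Ideal.map_map, ← IsScalarTower.algebraMap_eq,
        IsScalarTower.algebraMap_eq R S (Localization.Away (algebraMap R S s)), ← Ideal.map_map, hmap,
        Ideal.map_top]
    rw [h2, Ideal.comap_top] at h1
    exact hprime.ne_top h1.symm

end Same

section Poly
variable {R : Type w} {S : Type v} [CommRing R] [IsReduced R] [CommRing S] [Algebra R S]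
  [Algebra.FiniteType R S]

/-- generic freeness, universe polymorphic, in the form: flatness of a localization and lifting
of primes -/
theorem gf (hinj : Function.Injective (algebraMap R S)) (h : R) (hh : h ≠ 0) :
    ∃ f : R, h * f ≠ 0 ∧ Module.Flat R (Localization.Away (algebraMap R S (h * f))) ∧
      ∀ n : Ideal R, n.IsPrime → h * f ∉ n → Ideal.map (algebraMap R S) n ≠ ⊤ := by
  obtain ⟨m, φ, hφ⟩ := Algebra.FiniteType.iff_quotient_mvPolynomial''.1
    (inferInstance : Algebra.FiniteType R S)
  let e : (MvPolynomial (Fin m) R ⧸ RingHom.ker φ.toRingHom) ≃ₐ[R] S :=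
    Ideal.quotientKerAlgEquivOfSurjective hφ
  haveI : Algebra.FiniteType R (MvPolynomial (Fin m) R ⧸ RingHom.ker φ.toRingHom) :=
    Algebra.FiniteType.of_surjective (Ideal.Quotient.mkₐ R _) (Ideal.Quotient.mkₐ_surjective R _)
  have hinj'' : Function.Injective
      (algebraMap R (MvPolynomial (Fin m) R ⧸ RingHom.ker φ.toRingHom)) := by
    intro x y hxy
    apply hinj
    have := congrArg e hxy
    rwa [AlgEquiv.commutes, AlgEquiv.commutes] at this
  obtain ⟨f, hne, hflat, hpr⟩ := gf_same R (MvPolynomial (Fin m) R ⧸ RingHom.ker φ.toRingHom)
    hinj'' h hh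
  refine ⟨f, hne, ?_, ?_⟩
  · have H : Submonoid.map e (Submonoid.powers (algebraMap R
        (MvPolynomial (Fin m) R ⧸ RingHom.ker φ.toRingHom) (h * f))) =
        Submonoid.powers (algebraMap R S (h * f)) := by
      rw [Submonoid.map_powers]
      congr 1
      exact e.commutes _
    let E := IsLocalization.algEquivOfAlgEquiv
      (Localization.Away (algebraMap R (MvPolynomial (Fin m) R ⧸ RingHom.ker φ.toRingHom) (h * f)))
      (Localization.Away (algebraMap R S (h * f))) e H
    exact Module.Flat.of_linearEquiv E.symm.toLinearEquiv
  · intro n hn hsn hmap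
    apply hpr n hn hsn
    have h1 : algebraMap R (MvPolynomial (Fin m) R ⧸ RingHom.ker φ.toRingHom) =
        (e.symm : S →+* _).comp (algebraMap R S) := by
      ext x
      show _ = e.symm (algebraMap R S x)
      rw [AlgEquiv.commutes]
    rw [h1, ← Ideal.map_map, hmap, Ideal.map_top]

end Poly

end Groth.Agent.Lib.Helper66.TK5
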