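import Mathlib
import Groth.Agent.Lib.Helper66.TK1
import Groth.Agent.Lib.Helper66.TK5

/-!
# A finitely generated commutative Hopf algebra over an algebraically closed field is
faithfully flat over a reduced Hopf subalgebra (helper66)
-/

set_option autoImplicit false
open scoped TensorProduct
open WithConv

namespace Groth.Agent.Lib.Helper66.TK6
open Groth.Agent.Lib.Helper66.TK1 Groth.Agent.Lib.Helper66.TK5

universe u v w

section Case1
variable {k : Type u} [Field k] [IsAlgClosed k] {B : Type w} {A : Type v} [CommRing B] [CommRing A]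
  [HopfAlgebra k B] [HopfAlgebra k A] [Algebra.FiniteType k B] [Algebra.FiniteType k A]
  (f : B →ₐc[k] A)

/-- the "good" elements of `B`: those over whose principal open `A` is flat and primes lift -/
def Good (s : B) : Prop :=
  s ≠ 0 ∧ ((algebraMap A (Localization.Away (f s))).comp (f : B →+* A)).Flat ∧
    ∀ n : Ideal B, n.IsPrime → s ∉ n → Ideal.map (f : B →+* A) n ≠ ⊤

theorem exists_good [IsReduced B] (hf : Function.Injective f) (h : B) (hh : h ≠ 0) :
    ∃ f' : B, Good f (h * f') := by
  letI : Algebra B A := (f : B →+* A).toAlgebra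
  haveI : IsScalarTower k B A := IsScalarTower.of_algebraMap_eq
    (fun r => (AlgHom.commutes (f : B →ₐ[k] A) r).symm)
  haveI : Algebra.FiniteType B A := Algebra.FiniteType.of_restrictScalars_finiteType k B A
  obtain ⟨f', hne, hflat, hpr⟩ := gf (R := B) (S := A) hf h hh
  refine ⟨f', hne, ?_, hpr⟩
  show ((algebraMap A (Localization.Away (algebraMap B A (h * f')))).comp (algebraMap B A)).Flat
  rw [← IsScalarTower.algebraMap_eq B A, RingHom.flat_algebraMap_iff]
  exact hflat

/-- points in a good open lift -/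
theorem lift_of_good {s : B} (hs : Good f s) (u : WithConv (B →ₐ[k] k)) (hu : u.ofConv s ≠ 0) :
    ∃ g : WithConv (A →ₐ[k] k), preComp f g = u := by
  have hmax : (RingHom.ker u.ofConv).IsMaximal := RingHom.ker_isMaximal_of_surjective _
    (fun c => ⟨algebraMap k B c, by simp⟩)
  have hne := hs.2.2 (RingHom.ker u.ofConv) hmax.isPrime (fun h => hu h)
  obtain ⟨g, hg⟩ := exists_point_le (k := k) hne
  refine ⟨toConv g, ?_⟩
  apply WithConv.ofConv_injective
  symm
  apply point_eq_of_ker_le
  intro b hb
  rw [RingHom.mem_ker]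
  have : (f : B →+* A) b ∈ Ideal.map (f : B →+* A) (RingHom.ker u.ofConv) :=
    Ideal.mem_map_of_mem _ hb
  exact hg this

omit [IsAlgClosed k] [Algebra.FiniteType k B] [Algebra.FiniteType k A] in
theorem nonzero_not_nilpotent [IsReduced B] {s : B} (hs : s ≠ 0) : ¬ IsNilpotent s :=
  fun h => hs (IsReduced.eq_zero _ h)

theorem preComp_surjective [IsReduced B] (hf : Function.Injective f) :
    Function.Surjective (preComp f : WithConv (A →ₐ[k] k) →* WithConv (B →ₐ[k] k)) := by
  intro h₀
  haveI : Nontrivial B := (Bialgebra.counitAlgHom k B).toRingHom.domain_nontrivial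
  obtain ⟨f₁, hg₁⟩ := exists_good f hf 1 one_ne_zero
  obtain ⟨v, hv⟩ := exists_point_ne_zero (k := k) (nonzero_not_nilpotent hg₁.1)
  have hs'u : ∀ u : WithConv (B →ₐ[k] k),
      u.ofConv (HopfAlgebra.antipodeAlgHom k B (τ h₀ (1 * f₁))) = (u⁻¹ * h₀).ofConv (1 * f₁) :=
    fun u => point_antipode_τ u h₀ (1 * f₁)
  have hs' : HopfAlgebra.antipodeAlgHom k B (τ h₀ (1 * f₁)) ≠ 0 := by
    intro h0
    have := hs'u (h₀ * (toConv v)⁻¹)
    rw [h0, map_zero, mul_inv_rev, inv_inv, inv_mul_cancel_right] at this
    exact hv this.symm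
  obtain ⟨f₂, hg₂⟩ := exists_good f hf _ hs'
  obtain ⟨u, hu⟩ := exists_point_ne_zero (k := k) (nonzero_not_nilpotent hg₂.1)
  have hu' : u (HopfAlgebra.antipodeAlgHom k B (τ h₀ (1 * f₁))) ≠ 0 := by
    intro h0
    apply hu
    rw [map_mul, h0, zero_mul]
  obtain ⟨g, hg⟩ := lift_of_good f hg₂ (toConv u) hu
  have hu₁ : ((toConv u)⁻¹ * h₀).ofConv (1 * f₁) ≠ 0 := by
    rw [← hs'u]
    exact hu'
  obtain ⟨g₁, hg₁'⟩ := lift_of_good f hg₁ _ hu₁
  refine ⟨g * g₁, ?_⟩
  rw [map_mul, hg, hg₁', mul_inv_cancel_left]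

/-- **Reduced case**: over an algebraically closed field, a finitely generated commutative Hopf
algebra is faithfully flat over a reduced (finitely generated) Hopf subalgebra. -/
theorem faithfullyFlat_of_isReduced [IsReduced B] (hf : Function.Injective f) :
    (f : B →+* A).FaithfullyFlat := by
  haveI : Nontrivial B := (Bialgebra.counitAlgHom k B).toRingHom.domain_nontrivial
  obtain ⟨f₁, hg₁⟩ := exists_good f hf 1 one_ne_zero
  obtain ⟨v, hv⟩ := exists_point_ne_zero (k := k) (nonzero_not_nilpotent hg₁.1)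
  have hsurj := preComp_surjective f hf
  have hflat : ∀ h : WithConv (B →ₐ[k] k),
      ((algebraMap A (Localization.Away (f (τ h (1 * f₁))))).comp (f : B →+* A)).Flat := by
    intro h
    obtain ⟨g, rfl⟩ := hsurj h
    have key : ∀ b, τ g (f b) = f (τ (preComp f g) b) := τ_bialgHom_apply f g
    have H : Submonoid.map (τEquiv g).toRingEquiv.toMonoidHom (Submonoid.powers (f (1 * f₁))) =
        Submonoid.powers (f (τ (preComp f g) (1 * f₁))) := by
      rw [Submonoid.map_powers]
      congr 1
      exact key (1 * f₁)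
    let ψ := IsLocalization.ringEquivOfRingEquiv (Localization.Away (f (1 * f₁)))
      (Localization.Away (f (τ (preComp f g) (1 * f₁)))) (τEquiv g).toRingEquiv H
    have hψ : ∀ a, ψ (algebraMap A _ a) = algebraMap A _ (τ g a) :=
      fun a => IsLocalization.ringEquivOfRingEquiv_eq H a
    have heq : (algebraMap A (Localization.Away (f (τ (preComp f g) (1 * f₁))))).comp
        (f : B →+* A) =
        (ψ.toRingHom.comp ((algebraMap A (Localization.Away (f (1 * f₁)))).comp
          (f : B →+* A))).comp ((τEquiv (preComp f g)).symm.toRingEquiv.toRingHom) := by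
      ext b
      show algebraMap A _ (f b) = ψ (algebraMap A _ (f ((τEquiv (preComp f g)).symm b)))
      rw [hψ, key]
      congr 2
      exact ((τEquiv (preComp f g)).apply_symm_apply b).symm
    rw [heq]
    exact RingHom.Flat.comp (.of_bijective (RingEquiv.bijective _))
      (RingHom.Flat.comp hg₁.2.1 (.of_bijective ψ.bijective))
  have hspan : Ideal.span (Set.range fun h : WithConv (B →ₐ[k] k) => τ h (1 * f₁)) = ⊤ := by
    by_contra hne
    obtain ⟨h₀, hh₀⟩ := exists_point_le (k := k) hne
    have h1 : ∀ h : WithConv (B →ₐ[k] k), (toConv h₀ * h).ofConv (1 * f₁) = 0 := by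
      intro h
      rw [← point_comp_τ]
      show h₀ (τ h (1 * f₁)) = 0
      exact hh₀ (Ideal.subset_span ⟨h, rfl⟩)
    have := h1 ((toConv h₀)⁻¹ * toConv v)
    rw [mul_inv_cancel_left] at this
    exact hv this
  letI : Algebra B A := (f : B →+* A).toAlgebra
  have hspanA : Ideal.span (Set.range fun h : WithConv (B →ₐ[k] k) => f (τ h (1 * f₁))) = ⊤ := by
    have h2 : (Set.range fun h : WithConv (B →ₐ[k] k) => f (τ h (1 * f₁))) =
        (f : B →+* A) '' (Set.range fun h : WithConv (B →ₐ[k] k) => τ h (1 * f₁)) := by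
      rw [← Set.range_comp]
      rfl
    rw [h2, ← Ideal.map_span, hspan, Ideal.map_top]
  have hF : Module.Flat B A := by
    apply Module.flat_of_isLocalized_span A A
      (Set.range fun h : WithConv (B →ₐ[k] k) => f (τ h (1 * f₁))) hspanA
      (fun r => Localization.Away r.1) (fun r => Algebra.linearMap A (Localization.Away r.1))
    rintro ⟨_, h, rfl⟩
    have h3 := hflat h
    change ((algebraMap A (Localization.Away (f (τ h (1 * f₁))))).comp (algebraMap B A)).Flat at h3
    rw [← IsScalarTower.algebraMap_eq B A, RingHom.flat_algebraMap_iff] at h3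
    exact h3
  show Module.FaithfullyFlat B A
  refine { toFlat := hF, submodule_ne_top := fun m hm htop => ?_ }
  obtain ⟨h, hh⟩ := exists_point_ker_eq (k := k) m
  obtain ⟨g, hg⟩ := hsurj (toConv h)
  have hle : m • (⊤ : Submodule B A) ≤ (RingHom.ker g.ofConv).restrictScalars B := by
    rw [Submodule.smul_le]
    intro b hb a _
    show g.ofConv (f b * a) = 0
    rw [map_mul]
    have : g.ofConv (f b) = h b := congrArg (fun φ : WithConv (B →ₐ[k] k) => φ.ofConv b) hg
    rw [this]
    have hb' : b ∈ RingHom.ker h := hh ▸ hb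
    rw [RingHom.mem_ker] at hb'
    rw [hb', zero_mul]
  have h0 : (1 : A) ∈ m • (⊤ : Submodule B A) := by
    rw [htop]
    exact Submodule.mem_top
  have h1 : (1 : A) ∈ (RingHom.ker g.ofConv).restrictScalars B := hle h0
  have h2 : g.ofConv 1 = 0 := h1
  rw [map_one] at h2
  exact one_ne_zero h2

end Case1

end Groth.Agent.Lib.Helper66.TK6
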