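import Mathlib

/-!
# Bialgebra structure on a comultiplication-stable subalgebra (over a field) (helper66)
-/

set_option autoImplicit false
open TensorProduct

namespace Groth.Agent.Lib.Helper66.SubBialg

variable {k A : Type*} [Field k] [CommRing A] [Bialgebra k A] (B : Subalgebra k A)

/-- `B ⊗ B → A ⊗ A` -/
noncomputable abbrev jmap : B ⊗[k] B →ₐ[k] A ⊗[k] A := Algebra.TensorProduct.map B.val B.val

theorem jmap_injective : Function.Injective (jmap B) :=
  TensorProduct.map_injective_of_flat_flat B.val.toLinearMap B.val.toLinearMap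
    Subtype.val_injective Subtype.val_injective

/-- `B ⊗ (B ⊗ B) → A ⊗ (A ⊗ A)` -/
noncomputable abbrev j3map : B ⊗[k] (B ⊗[k] B) →ₐ[k] A ⊗[k] (A ⊗[k] A) :=
  Algebra.TensorProduct.map B.val (jmap B)

theorem j3map_injective : Function.Injective (j3map B) :=
  TensorProduct.map_injective_of_flat_flat B.val.toLinearMap (jmap B).toLinearMap
    Subtype.val_injective (jmap_injective B)

variable (hB : ∀ b ∈ B, Coalgebra.comul (R := k) b ∈ (jmap B).range)

/-- restricted comultiplication -/
noncomputable def comulB : B →ₐ[k] B ⊗[k] B :=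
  ((AlgEquiv.ofInjective (jmap B) (jmap_injective B)).symm : (jmap B).range →ₐ[k] B ⊗[k] B).comp
    (((Bialgebra.comulAlgHom k A).comp B.val).codRestrict (jmap B).range (fun b => hB b b.2))

theorem jmap_comulB (b : B) : jmap B (comulB B hB b) = Coalgebra.comul (R := k) (b : A) := by
  unfold comulB
  simp only [AlgHom.comp_apply, AlgHom.coe_coe]
  have := (AlgEquiv.ofInjective (jmap B) (jmap_injective B)).apply_symm_apply
    ((((Bialgebra.comulAlgHom k A).comp B.val).codRestrict (jmap B).range (fun b => hB b b.2)) b)
  exact congrArg Subtype.val this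

theorem jmap_comp_comulB : (jmap B).comp (comulB B hB) = (Bialgebra.comulAlgHom k A).comp B.val :=
  AlgHom.ext fun b => jmap_comulB B hB b

/-- restricted counit -/
noncomputable def counitB : B →ₐ[k] k := (Bialgebra.counitAlgHom k A).comp B.val

theorem L1 : (j3map B).comp (Algebra.TensorProduct.assoc k k k B B B).toAlgHom =
    (Algebra.TensorProduct.assoc k k k A A A).toAlgHom.comp
      (Algebra.TensorProduct.map (jmap B) B.val) := by
  apply AlgHom.toLinearMap_injective
  apply TensorProduct.ext_threefold
  intro x y z
  rfl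

theorem L2 : (Algebra.TensorProduct.map (jmap B) B.val).comp
      (Algebra.TensorProduct.map (comulB B hB) (AlgHom.id k B)) =
    (Algebra.TensorProduct.map (Bialgebra.comulAlgHom k A) (AlgHom.id k A)).comp (jmap B) := by
  rw [← Algebra.TensorProduct.map_comp, ← Algebra.TensorProduct.map_comp, jmap_comp_comulB,
    AlgHom.comp_id, AlgHom.id_comp]

theorem L3 : (j3map B).comp (Algebra.TensorProduct.map (AlgHom.id k B) (comulB B hB)) =
    (Algebra.TensorProduct.map (AlgHom.id k A) (Bialgebra.comulAlgHom k A)).comp (jmap B) := by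
  rw [← Algebra.TensorProduct.map_comp, ← Algebra.TensorProduct.map_comp, jmap_comp_comulB,
    AlgHom.comp_id, AlgHom.id_comp]

theorem L4 (a : A) : (Algebra.TensorProduct.assoc k k k A A A)
      ((Algebra.TensorProduct.map (Bialgebra.comulAlgHom k A) (AlgHom.id k A))
        (Coalgebra.comul (R := k) a)) =
    (Algebra.TensorProduct.map (AlgHom.id k A) (Bialgebra.comulAlgHom k A))
      (Coalgebra.comul (R := k) a) :=
  Coalgebra.coassoc_apply a

theorem coassocB : (Algebra.TensorProduct.assoc k k k B B B).toAlgHom.comp
      ((Algebra.TensorProduct.map (comulB B hB) (.id k B)).comp (comulB B hB))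
      = (Algebra.TensorProduct.map (.id k B) (comulB B hB)).comp (comulB B hB) := by
  apply AlgHom.ext
  intro b
  apply j3map_injective B
  have h1 := DFunLike.congr_fun (L1 B)
    ((Algebra.TensorProduct.map (comulB B hB) (.id k B)) (comulB B hB b))
  have h2 := DFunLike.congr_fun (L2 B hB) (comulB B hB b)
  have h3 := DFunLike.congr_fun (L3 B hB) (comulB B hB b)
  simp only [AlgHom.comp_apply] at h1 h2 h3 ⊢
  rw [h1, h2, h3, jmap_comulB]
  exact L4 (b : A)

theorem R1 (t : B ⊗[k] B) :
    ((Algebra.TensorProduct.lid k B ((Algebra.TensorProduct.map (counitB B) (.id k B)) t) : B) : A) =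
      Algebra.TensorProduct.lid k A
        ((Algebra.TensorProduct.map (Bialgebra.counitAlgHom k A) (.id k A)) (jmap B t)) := by
  induction t using TensorProduct.induction_on with
  | zero => simp
  | add x y hx hy => simp only [map_add, Subalgebra.coe_add, hx, hy]
  | tmul x y => simp [counitB]

theorem R2 (t : B ⊗[k] B) :
    ((Algebra.TensorProduct.rid k k B ((Algebra.TensorProduct.map (.id k B) (counitB B)) t) : B) : A) =
      Algebra.TensorProduct.rid k k A
        ((Algebra.TensorProduct.map (.id k A) (Bialgebra.counitAlgHom k A)) (jmap B t)) := by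
  induction t using TensorProduct.induction_on with
  | zero => simp
  | add x y hx hy => simp only [map_add, Subalgebra.coe_add, hx, hy]
  | tmul x y => simp [counitB]

theorem rTensorB : (Algebra.TensorProduct.map (counitB B) (.id k B)).comp (comulB B hB)
      = (Algebra.TensorProduct.lid k B).symm := by
  apply AlgHom.ext
  intro b
  have h1 : Algebra.TensorProduct.lid k B
      ((Algebra.TensorProduct.map (counitB B) (.id k B)) (comulB B hB b)) = b := by
    apply Subtype.ext
    rw [R1, jmap_comulB]
    have := Coalgebra.rTensor_counit_comul (R := k) (b : A)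
    have h2 : (Algebra.TensorProduct.map (Bialgebra.counitAlgHom k A) (.id k A))
        (Coalgebra.comul (R := k) (b : A)) = (1 : k) ⊗ₜ[k] (b : A) := this
    rw [h2]; simp
  simp only [AlgHom.comp_apply, AlgHom.coe_coe]
  exact (AlgEquiv.eq_symm_apply _).2 h1

theorem lTensorB : (Algebra.TensorProduct.map (.id k B) (counitB B)).comp (comulB B hB)
      = (Algebra.TensorProduct.rid k k B).symm := by
  apply AlgHom.ext
  intro b
  have h1 : Algebra.TensorProduct.rid k k B
      ((Algebra.TensorProduct.map (.id k B) (counitB B)) (comulB B hB b)) = b := by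
    apply Subtype.ext
    rw [R2, jmap_comulB]
    have := Coalgebra.lTensor_counit_comul (R := k) (b : A)
    have h2 : (Algebra.TensorProduct.map (.id k A) (Bialgebra.counitAlgHom k A))
        (Coalgebra.comul (R := k) (b : A)) = (b : A) ⊗ₜ[k] (1 : k) := this
    rw [h2]; simp
  simp only [AlgHom.comp_apply, AlgHom.coe_coe]
  exact (AlgEquiv.eq_symm_apply _).2 h1

/-- the bialgebra structure on a comultiplication-stable subalgebra -/
@[reducible] noncomputable def bialgebraOfSub : Bialgebra k B :=
  Bialgebra.ofAlgHom (comulB B hB) (counitB B) (coassocB B hB) (rTensorB B hB) (lTensorB B hB)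

theorem comul_val (b : B) :
    letI := bialgebraOfSub B hB
    jmap B (Coalgebra.comul (R := k) b) = Coalgebra.comul (R := k) (b : A) :=
  jmap_comulB B hB b

theorem counit_val (b : B) :
    letI := bialgebraOfSub B hB
    Coalgebra.counit (R := k) b = Coalgebra.counit (R := k) (b : A) := rfl

end Groth.Agent.Lib.Helper66.SubBialg
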