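import Mathlib
import Groth.Agent.Lib.Helper66.SubBialg
import Groth.Agent.Lib.Helper66.TK3

/-!
# Hopf algebra structure on a Hopf subalgebra; the Frobenius Hopf subalgebra (helper66)
-/

set_option autoImplicit false
open scoped TensorProduct
open WithConv

namespace Groth.Agent.Lib.Helper66.TK7
open Groth.Agent.Lib.Helper66.SubBialg Groth.Agent.Lib.Helper66.TK3

section HopfSub
variable {k A : Type*} [Field k] [CommRing A] [HopfAlgebra k A] (B : Subalgebra k A)
  (hΔ : ∀ b ∈ B, Coalgebra.comul (R := k) b ∈ (jmap B).range)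
  (hS : ∀ b ∈ B, HopfAlgebra.antipode k b ∈ B)

/-- restricted antipode -/
noncomputable def antipodeB : B →ₗ[k] B :=
  ((HopfAlgebra.antipode k (A := A)) ∘ₗ B.val.toLinearMap).codRestrict (Subalgebra.toSubmodule B)
    (fun b => hS b b.2)

theorem antipodeB_val (b : B) : ((antipodeB B hS b : B) : A) = HopfAlgebra.antipode k (b : A) := rfl

theorem val_mul_rTensor (t : B ⊗[k] B) :
    ((LinearMap.mul' k B ((antipodeB B hS).rTensor B t) : B) : A) =
      LinearMap.mul' k A ((HopfAlgebra.antipode k (A := A)).rTensor A (jmap B t)) := by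
  induction t using TensorProduct.induction_on with
  | zero => simp
  | tmul x y => simp [antipodeB_val]
  | add t t' ht ht' => simp only [map_add, Subalgebra.coe_add, ht, ht']

theorem val_mul_lTensor (t : B ⊗[k] B) :
    ((LinearMap.mul' k B ((antipodeB B hS).lTensor B t) : B) : A) =
      LinearMap.mul' k A ((HopfAlgebra.antipode k (A := A)).lTensor A (jmap B t)) := by
  induction t using TensorProduct.induction_on with
  | zero => simp
  | tmul x y => simp [antipodeB_val]
  | add t t' ht ht' => simp only [map_add, Subalgebra.coe_add, ht, ht']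

/-- the Hopf algebra structure on a Hopf subalgebra -/
@[reducible] noncomputable def hopfAlgebraOfSub : HopfAlgebra k B :=
  letI := bialgebraOfSub B hΔ
  { bialgebraOfSub B hΔ with
    antipode := antipodeB B hS
    mul_antipode_rTensor_comul := by
      apply LinearMap.ext
      intro b
      apply Subtype.val_injective
      show ((LinearMap.mul' k B ((antipodeB B hS).rTensor B (comulB B hΔ b)) : B) : A) =
        algebraMap k A (Coalgebra.counit (R := k) (b : A))
      rw [val_mul_rTensor, jmap_comulB, HopfAlgebra.mul_antipode_rTensor_comul_apply]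
    mul_antipode_lTensor_comul := by
      apply LinearMap.ext
      intro b
      apply Subtype.val_injective
      show ((LinearMap.mul' k B ((antipodeB B hS).lTensor B (comulB B hΔ b)) : B) : A) =
        algebraMap k A (Coalgebra.counit (R := k) (b : A))
      rw [val_mul_lTensor, jmap_comulB, HopfAlgebra.mul_antipode_lTensor_comul_apply] }

/-- the inclusion of a Hopf subalgebra as a bialgebra map -/
noncomputable def subBialgHom :
    letI := hopfAlgebraOfSub B hΔ hS
    B →ₐc[k] A :=
  letI := hopfAlgebraOfSub B hΔ hS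
  BialgHom.ofAlgHom B.val rfl (jmap_comp_comulB B hΔ)

theorem subBialgHom_apply (b : B) :
    letI := hopfAlgebraOfSub B hΔ hS
    subBialgHom B hΔ hS b = (b : A) := rfl

theorem subBialgHom_injective :
    letI := hopfAlgebraOfSub B hΔ hS
    Function.Injective (subBialgHom B hΔ hS) := Subtype.val_injective

end HopfSub

section Incl
variable {k A : Type*} [Field k] [CommRing A] [HopfAlgebra k A] (B₁ B₂ : Subalgebra k A)
  (h₁Δ : ∀ b ∈ B₁, Coalgebra.comul (R := k) b ∈ (jmap B₁).range)
  (h₁S : ∀ b ∈ B₁, HopfAlgebra.antipode k b ∈ B₁)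
  (h₂Δ : ∀ b ∈ B₂, Coalgebra.comul (R := k) b ∈ (jmap B₂).range)
  (h₂S : ∀ b ∈ B₂, HopfAlgebra.antipode k b ∈ B₂) (hle : B₁ ≤ B₂)

/-- the inclusion of nested Hopf subalgebras as a bialgebra map -/
noncomputable def inclBialgHom :
    letI := hopfAlgebraOfSub B₁ h₁Δ h₁S
    letI := hopfAlgebraOfSub B₂ h₂Δ h₂S
    B₁ →ₐc[k] B₂ :=
  letI := hopfAlgebraOfSub B₁ h₁Δ h₁S
  letI := hopfAlgebraOfSub B₂ h₂Δ h₂S
  BialgHom.ofAlgHom (Subalgebra.inclusion hle) rfl (by
    apply AlgHom.ext
    intro b
    apply jmap_injective B₂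
    show jmap B₂ (Algebra.TensorProduct.map (Subalgebra.inclusion hle) (Subalgebra.inclusion hle)
      (comulB B₁ h₁Δ b)) = jmap B₂ (comulB B₂ h₂Δ (Subalgebra.inclusion hle b))
    rw [jmap_comulB, ← AlgHom.comp_apply, ← Algebra.TensorProduct.map_comp]
    have : B₂.val.comp (Subalgebra.inclusion hle) = B₁.val := rfl
    rw [this]
    exact jmap_comulB B₁ h₁Δ b)

theorem inclBialgHom_apply (b : B₁) :
    letI := hopfAlgebraOfSub B₁ h₁Δ h₁S
    letI := hopfAlgebraOfSub B₂ h₂Δ h₂S
    ((inclBialgHom B₁ B₂ h₁Δ h₁S h₂Δ h₂S hle b : B₂) : A) = (b : A) := rfl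

theorem inclBialgHom_injective :
    letI := hopfAlgebraOfSub B₁ h₁Δ h₁S
    letI := hopfAlgebraOfSub B₂ h₂Δ h₂S
    Function.Injective (inclBialgHom B₁ B₂ h₁Δ h₁S h₂Δ h₂S hle) :=
  Subalgebra.inclusion_injective hle

end Incl

section Frob
variable {k : Type*} [Field k] [IsAlgClosed k] (p : ℕ) [Fact p.Prime] [CharP k p]
  {B : Type*} [CommRing B] [HopfAlgebra k B] (n : ℕ)

omit [IsAlgClosed k] in
include k in
theorem charP_B : CharP B p := by
  haveI : Nontrivial B := (Bialgebra.counitAlgHom k B).toRingHom.domain_nontrivial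
  exact charP_of_injective_algebraMap (algebraMap k B).injective p

omit [IsAlgClosed k] in
theorem charP_BB : CharP (B ⊗[k] B) p := by
  haveI : Nontrivial (B ⊗[k] B) := by
    let f : B ⊗[k] B →ₐ[k] k := (Algebra.TensorProduct.lid k k).toAlgHom.comp
      (Algebra.TensorProduct.map (Bialgebra.counitAlgHom k B) (Bialgebra.counitAlgHom k B))
    exact f.toRingHom.domain_nontrivial
  exact charP_of_injective_algebraMap (algebraMap k (B ⊗[k] B)).injective p

/-- the subalgebra of `p^n`-th powers -/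
noncomputable def frobN : Subalgebra k B where
  carrier := Set.range (fun x : B => x ^ p ^ n)
  mul_mem' := by
    rintro _ _ ⟨x, rfl⟩ ⟨y, rfl⟩
    exact ⟨x * y, mul_pow x y _⟩
  add_mem' := by
    rintro _ _ ⟨x, rfl⟩ ⟨y, rfl⟩
    haveI := charP_B (k := k) (B := B) p
    exact ⟨x + y, add_pow_char_pow x y p n⟩
  algebraMap_mem' := fun c => by
    obtain ⟨d, hd⟩ := IsAlgClosed.exists_pow_nat_eq c (pow_pos (Fact.out : p.Prime).pos n)
    refine ⟨algebraMap k B d, ?_⟩
    show (algebraMap k B d) ^ p ^ n = algebraMap k B c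
    rw [← map_pow, hd]

theorem mem_frobN (y : B) : y ∈ frobN (k := k) p (B := B) n ↔ ∃ x : B, x ^ p ^ n = y := Iff.rfl

theorem pow_mem_frobN (x : B) : x ^ p ^ n ∈ frobN (k := k) p (B := B) n := ⟨x, rfl⟩

theorem pow_mem_range (t : B ⊗[k] B) : t ^ p ^ n ∈ (jmap (frobN (k := k) p (B := B) n)).range := by
  haveI := charP_BB (k := k) (B := B) p
  induction t using TensorProduct.induction_on with
  | zero =>
    rw [zero_pow (pow_pos (Fact.out : p.Prime).pos n).ne']
    exact Subalgebra.zero_mem _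
  | tmul a b =>
    rw [Algebra.TensorProduct.tmul_pow]
    exact ⟨(⟨a ^ p ^ n, pow_mem_frobN p n a⟩ : frobN (k := k) p (B := B) n) ⊗ₜ[k]
      (⟨b ^ p ^ n, pow_mem_frobN p n b⟩ : frobN (k := k) p (B := B) n), rfl⟩
  | add t t' ht ht' =>
    rw [add_pow_char_pow]
    exact Subalgebra.add_mem _ ht ht'

theorem frobN_comul : ∀ b ∈ frobN (k := k) p (B := B) n,
    Coalgebra.comul (R := k) b ∈ (jmap (frobN (k := k) p (B := B) n)).range := by
  rintro _ ⟨x, rfl⟩
  have : Coalgebra.comul (R := k) (x ^ p ^ n) = (Bialgebra.comulAlgHom k B x) ^ p ^ n :=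
    map_pow (Bialgebra.comulAlgHom k B) x _
  rw [this]
  exact pow_mem_range p n _

theorem frobN_antipode : ∀ b ∈ frobN (k := k) p (B := B) n,
    HopfAlgebra.antipode k b ∈ frobN (k := k) p (B := B) n := by
  rintro _ ⟨x, rfl⟩
  have : HopfAlgebra.antipode k (x ^ p ^ n) = (HopfAlgebra.antipodeAlgHom k B x) ^ p ^ n :=
    map_pow (HopfAlgebra.antipodeAlgHom k B) x _
  rw [this]
  exact pow_mem_frobN p n _

theorem frobN_isReduced (hN : ∀ x : B, IsNilpotent x → x ^ p ^ n = 0) :
    IsReduced (frobN (k := k) p (B := B) n) := by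
  constructor
  rintro ⟨_, x, rfl⟩ ⟨m, hm⟩
  have h1 : (x ^ p ^ n) ^ m = 0 := congrArg Subtype.val hm
  have h2 : IsNilpotent x := ⟨p ^ n * m, by rw [pow_mul]; exact h1⟩
  exact Subtype.ext (hN x h2)

theorem exists_frobN_isReduced [Algebra.FiniteType k B] :
    ∃ n : ℕ, IsReduced (frobN (k := k) p (B := B) n) := by
  haveI : IsNoetherianRing B := Algebra.FiniteType.isNoetherianRing k B
  obtain ⟨N, hN⟩ := IsNoetherianRing.isNilpotent_nilradical B
  refine ⟨N, frobN_isReduced p N fun x hx => ?_⟩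
  have h1 : x ^ N ∈ nilradical B ^ N := Ideal.pow_mem_pow (mem_nilradical.mpr hx) N
  rw [hN] at h1
  have h2 : x ^ N = 0 := h1
  have h3 : N ≤ p ^ N := (Nat.lt_pow_self (Fact.out : p.Prime).one_lt).le
  exact pow_eq_zero_of_le h3 h2

theorem frobN_finiteType [Algebra.FiniteType k B] :
    Algebra.FiniteType k (frobN (k := k) p (B := B) n) := by
  haveI : Algebra.IsIntegral (frobN (k := k) p (B := B) n) B := by
    constructor
    intro x
    refine ⟨Polynomial.X ^ p ^ n - Polynomial.C (⟨x ^ p ^ n, pow_mem_frobN p n x⟩ :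
      frobN (k := k) p (B := B) n), ?_, ?_⟩
    · exact Polynomial.monic_X_pow_sub_C _ (pow_pos (Fact.out : p.Prime).pos n).ne'
    · simp [Polynomial.eval₂_sub]
  haveI : Algebra.FiniteType (frobN (k := k) p (B := B) n) B :=
    Algebra.FiniteType.of_restrictScalars_finiteType k _ B
  haveI : Module.Finite (frobN (k := k) p (B := B) n) B := Algebra.IsIntegral.finite
  constructor
  exact fg_of_fg_of_fg k (frobN (k := k) p (B := B) n) B (Algebra.FiniteType.out)
    (Module.Finite.fg_top) Subtype.val_injective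

end Frob

end Groth.Agent.Lib.Helper66.TK7
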