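import Mathlib

/-!
# Faithfully flat descent of faithful flatness of ring maps along base change (helper66)
-/

set_option autoImplicit false
open scoped TensorProduct

namespace Groth.Agent.Lib.Helper66.TK8

section Descent
variable {R T X Y : Type*} [CommRing R] [CommRing T] [CommRing X] [CommRing Y]
  [Algebra R T] [Algebra R X] [Algebra R Y] (g : X →ₐ[R] Y)

/-- the base change equivalence `(X ⊗ T) ⊗[X] Y ≃ Y ⊗ T`, linear over `X ⊗ T` acting through
`g ⊗ id` -/
theorem exists_equiv :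
    letI : Algebra X Y := g.toRingHom.toAlgebra
    letI : Algebra (X ⊗[R] T) (Y ⊗[R] T) :=
      (Algebra.TensorProduct.map g (AlgHom.id R T)).toRingHom.toAlgebra
    Nonempty ((X ⊗[R] T) ⊗[X] Y ≃ₗ[X ⊗[R] T] (Y ⊗[R] T)) := by
  letI : Algebra X Y := g.toRingHom.toAlgebra
  letI : Algebra (X ⊗[R] T) (Y ⊗[R] T) :=
    (Algebra.TensorProduct.map g (AlgHom.id R T)).toRingHom.toAlgebra
  haveI : IsScalarTower R X Y := IsScalarTower.of_algebraMap_eq (fun r => (g.commutes r).symm)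
  haveI : IsScalarTower X (X ⊗[R] T) (Y ⊗[R] T) := by
    apply IsScalarTower.of_algebraMap_eq
    intro x
    show (algebraMap X Y x) ⊗ₜ[R] (1 : T) =
      Algebra.TensorProduct.map g (AlgHom.id R T) (x ⊗ₜ[R] (1 : T))
    rw [Algebra.TensorProduct.map_tmul]
    rfl
  have H : (algebraMap (X ⊗[R] T) (Y ⊗[R] T)).comp
      (Algebra.TensorProduct.includeRight : T →ₐ[R] X ⊗[R] T).toRingHom =
      (Algebra.TensorProduct.includeRight : T →ₐ[R] Y ⊗[R] T).toRingHom := by
    ext t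
    show Algebra.TensorProduct.map g (AlgHom.id R T) ((1 : X) ⊗ₜ[R] t) = (1 : Y) ⊗ₜ[R] t
    rw [Algebra.TensorProduct.map_tmul, map_one, AlgHom.id_apply]
  have hP : Algebra.IsPushout X Y (X ⊗[R] T) (Y ⊗[R] T) :=
    Algebra.IsPushout.tensorProduct_tensorProduct R T X Y H
  have hP' : Algebra.IsPushout X (X ⊗[R] T) Y (Y ⊗[R] T) := hP.symm
  exact ⟨(Algebra.IsPushout.equiv X (X ⊗[R] T) Y (Y ⊗[R] T)).toLinearEquiv⟩

/-- base change of a faithfully flat map is faithfully flat -/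
theorem ff_baseChange (h : g.toRingHom.FaithfullyFlat) :
    (Algebra.TensorProduct.map g (AlgHom.id R T)).toRingHom.FaithfullyFlat := by
  obtain ⟨e⟩ := exists_equiv (T := T) g
  letI : Algebra X Y := g.toRingHom.toAlgebra
  letI : Algebra (X ⊗[R] T) (Y ⊗[R] T) :=
    (Algebra.TensorProduct.map g (AlgHom.id R T)).toRingHom.toAlgebra
  haveI : Module.FaithfullyFlat X Y := h
  show Module.FaithfullyFlat (X ⊗[R] T) (Y ⊗[R] T)
  exact Module.FaithfullyFlat.of_linearEquiv (X ⊗[R] T) ((X ⊗[R] T) ⊗[X] Y) e.symm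

/-- faithful flatness of a ring map descends along a faithfully flat base change -/
theorem ff_descent [Module.FaithfullyFlat R T]
    (h : (Algebra.TensorProduct.map g (AlgHom.id R T)).toRingHom.FaithfullyFlat) :
    g.toRingHom.FaithfullyFlat := by
  obtain ⟨e⟩ := exists_equiv (T := T) g
  letI : Algebra X Y := g.toRingHom.toAlgebra
  letI : Algebra (X ⊗[R] T) (Y ⊗[R] T) :=
    (Algebra.TensorProduct.map g (AlgHom.id R T)).toRingHom.toAlgebra
  haveI : Module.FaithfullyFlat (X ⊗[R] T) (Y ⊗[R] T) := h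
  haveI : Module.FaithfullyFlat (X ⊗[R] T) ((X ⊗[R] T) ⊗[X] Y) :=
    Module.FaithfullyFlat.of_linearEquiv (X ⊗[R] T) (Y ⊗[R] T) e
  haveI : Module.FaithfullyFlat X (X ⊗[R] T) := inferInstance
  have hflat : Module.Flat X Y := Module.Flat.of_flat_tensorProduct X Y (X ⊗[R] T)
  show Module.FaithfullyFlat X Y
  refine { toFlat := hflat, submodule_ne_top := fun m hm htop => ?_ }
  -- m X' ≠ X'
  have h1 := Ideal.comap_map_eq_self_of_faithfullyFlat (B := X ⊗[R] T) m
  have h2 := Ideal.comap_map_eq_self_of_faithfullyFlat (B := Y ⊗[R] T)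
    (Ideal.map (algebraMap X (X ⊗[R] T)) m)
  have hmapY : Ideal.map (algebraMap X Y) m = ⊤ := by
    rw [Ideal.smul_top_eq_map] at htop
    exact Submodule.restrictScalars_injective X _ _ htop
  have hsq : (algebraMap (X ⊗[R] T) (Y ⊗[R] T)).comp (algebraMap X (X ⊗[R] T)) =
      (Algebra.TensorProduct.includeLeft : Y →ₐ[R] Y ⊗[R] T).toRingHom.comp (algebraMap X Y) := by
    ext x
    show Algebra.TensorProduct.map g (AlgHom.id R T) (x ⊗ₜ[R] (1 : T)) = (g x) ⊗ₜ[R] (1 : T)
    rw [Algebra.TensorProduct.map_tmul, map_one]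
  have h3 : Ideal.map (algebraMap (X ⊗[R] T) (Y ⊗[R] T))
      (Ideal.map (algebraMap X (X ⊗[R] T)) m) = ⊤ := by
    rw [Ideal.map_map, hsq, ← Ideal.map_map, hmapY, Ideal.map_top]
  rw [h3, Ideal.comap_top] at h2
  rw [← h2, Ideal.comap_top] at h1
  exact hm.ne_top h1.symm

end Descent

end Groth.Agent.Lib.Helper66.TK8
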