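import Mathlib
import Groth.Agent.Lib.Helper66.TK4
import Groth.Agent.Lib.Helper66.TK6
import Groth.Agent.Lib.Helper66.TK7
import Groth.Agent.Lib.Helper66.TK8
import Groth.Agent.Lib.Helper96.CartierG

/-!
# Takeuchi's theorem for finitely generated commutative Hopf algebras over a field (helper66)
-/

set_option autoImplicit false
open scoped TensorProduct
open WithConv

namespace Groth.Agent.Lib.Helper66.TK9
open Groth.Agent.Lib.Helper66.TK1 Groth.Agent.Lib.Helper66.TK2 Groth.Agent.Lib.Helper66.TK3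
  Groth.Agent.Lib.Helper66.TK4 Groth.Agent.Lib.Helper66.TK6 Groth.Agent.Lib.Helper66.TK7
  Groth.Agent.Lib.Helper66.TK8

section Bij
variable {R R' S S' : Type*} [CommRing R] [CommRing R'] [CommRing S] [CommRing S']

theorem ff_of_comp_bij (φ : R →+* S) (hφ : φ.FaithfullyFlat) (e₁ : R' →+* R)
    (he₁ : Function.Bijective e₁) (e₂ : S →+* S') (he₂ : Function.Bijective e₂) :
    ((e₂.comp φ).comp e₁).FaithfullyFlat := by
  rw [RingHom.FaithfullyFlat.iff_flat_and_comap_surjective] at hφ ⊢
  refine ⟨RingHom.Flat.comp (.of_bijective he₁) (RingHom.Flat.comp hφ.1 (.of_bijective he₂)), ?_⟩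
  let E₁ := RingEquiv.ofBijective e₁ he₁
  let E₂ := RingEquiv.ofBijective e₂ he₂
  intro p
  obtain ⟨q, hq⟩ := hφ.2 (PrimeSpectrum.comap (E₁.symm : R →+* R') p)
  refine ⟨PrimeSpectrum.comap (E₂.symm : S' →+* S) q, ?_⟩
  have hq' := congrArg PrimeSpectrum.asIdeal hq
  apply PrimeSpectrum.ext
  show Ideal.comap ((e₂.comp φ).comp e₁) (Ideal.comap (E₂.symm : S' →+* S) q.asIdeal) = p.asIdeal
  have h1 : Ideal.comap φ q.asIdeal = Ideal.comap (E₁.symm : R →+* R') p.asIdeal := hq'
  rw [Ideal.comap_comap]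
  have h2 : (E₂.symm : S' →+* S).comp ((e₂.comp φ).comp e₁) = φ.comp e₁ := by
    ext x
    show E₂.symm (E₂ (φ (e₁ x))) = φ (e₁ x)
    rw [RingEquiv.symm_apply_apply]
  rw [h2, ← Ideal.comap_comap, h1, Ideal.comap_comap]
  have h3 : (E₁.symm : R →+* R').comp e₁ = RingHom.id R' := by
    ext x
    show E₁.symm (E₁ x) = x
    rw [RingEquiv.symm_apply_apply]
  rw [h3, Ideal.comap_id]

end Bij

section Glue
variable {k : Type*} [Field k] {C B A : Type*} [CommRing C] [CommRing B] [CommRing A]
  [HopfAlgebra k C] [HopfAlgebra k B] [HopfAlgebra k A] (ι : C →ₐc[k] B) (f : B →ₐc[k] A)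

/-- **Gluing**: if `A` is faithfully flat over a Hopf subalgebra `C` of `B ⊆ A` and `B / C⁺B` has
nilpotent augmentation ideal, then `A` is faithfully flat over `B`. -/
theorem glue (hf : Function.Injective f)
    (hff : ((f.comp ι : C →ₐc[k] A) : C →+* A).FaithfullyFlat)
    (N : ℕ) (hN : (aug k (B ⧸ augMap ι)) ^ N = ⊥) :
    (f : B →+* A).FaithfullyFlat := by
  letI algCB : Algebra C B := (ι : C →+* B).toAlgebra
  letI algCA : Algebra C A := ((f.comp ι : C →ₐc[k] A) : C →+* A).toAlgebra
  haveI : IsScalarTower k C B :=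
    IsScalarTower.of_algebraMap_eq (fun r => (AlgHom.commutes (ι : C →ₐ[k] B) r).symm)
  haveI : IsScalarTower k C A := IsScalarTower.of_algebraMap_eq
    (fun r => (AlgHom.commutes ((f.comp ι : C →ₐc[k] A) : C →ₐ[k] A) r).symm)
  haveI : Module.FaithfullyFlat C A := hff
  haveI : Nontrivial A := (Bialgebra.counitAlgHom k A).toRingHom.domain_nontrivial
  let fC : B →ₐ[C] A := { (f : B →+* A) with commutes' := fun z => rfl }
  have hcD : ∀ z, algebraMap C B z = ι z := fun z => rfl
  have hcT : ∀ z, algebraMap C A z = (f : B →ₐ[k] A) (ι z) := fun z => rfl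
  have hcD' : ∀ z, algebraMap C A z = (f.comp ι) z := fun z => rfl
  have hcT' : ∀ z, algebraMap C A z = (AlgHom.id k A) ((f.comp ι) z) := fun z => rfl
  have hγB_bij := γ_bijective ι (f : B →ₐ[k] A) hcD hcT (qmap ι : B →ₐ[k] B ⧸ augMap ι)
    (qmap_surjective ι) (qmap_c ι) (le_of_eq (ker_qmap ι))
  have hγA_bij := γ_bijective (f.comp ι) (AlgHom.id k A) hcD' hcT'
    (qmap (f.comp ι) : A →ₐ[k] A ⧸ augMap (f.comp ι))
    (qmap_surjective (f.comp ι)) (qmap_c (f.comp ι)) (le_of_eq (ker_qmap (f.comp ι)))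
  have hnat : ∀ y, γ (f.comp ι) (AlgHom.id k A) hcD' hcT'
      (qmap (f.comp ι) : A →ₐ[k] A ⧸ augMap (f.comp ι)) (qmap_c (f.comp ι))
      (Algebra.TensorProduct.map fC (AlgHom.id C A) y) =
      Algebra.TensorProduct.map (barAlgHom ι f) (AlgHom.id k A)
        (γ ι (f : B →ₐ[k] A) hcD hcT (qmap ι : B →ₐ[k] B ⧸ augMap ι) (qmap_c ι) y) :=
    γ_natural ι (f.comp ι) (f : B →ₐ[k] A) (AlgHom.id k A) hcD hcT hcD' hcT' _ _ (qmap_c ι)
      (qmap_c (f.comp ι)) f fC (fun d => rfl) (fun d => rfl) (barAlgHom ι f) (fun d => rfl)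
  -- injectivity of `f ⊗ id`
  have hinj1 : Function.Injective (Algebra.TensorProduct.map fC (AlgHom.id C A)) := by
    have h1 : ∀ y, Algebra.TensorProduct.map fC (AlgHom.id C A) y =
        LinearMap.rTensor A fC.toLinearMap y := by
      intro y
      induction y using TensorProduct.induction_on with
      | zero => simp
      | tmul b a => rfl
      | add y y' hy hy' => rw [map_add, map_add, hy, hy']
    have h2 := Module.Flat.rTensor_preserves_injective_linearMap (M := A) fC.toLinearMap hf
    intro y y' hyy'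
    rw [h1, h1] at hyy'
    exact h2 hyy'
  have hinj2 : Function.Injective (Algebra.TensorProduct.map (barAlgHom ι f) (AlgHom.id k A)) := by
    intro z z' hzz'
    obtain ⟨y, rfl⟩ := hγB_bij.2 z
    obtain ⟨y', rfl⟩ := hγB_bij.2 z'
    rw [← hnat, ← hnat] at hzz'
    rw [hinj1 (hγA_bij.1 hzz')]
  have hinj3 : Function.Injective (barMap ι f) := by
    intro x x' hxx'
    have h1 : Algebra.TensorProduct.map (barAlgHom ι f) (AlgHom.id k A) (x ⊗ₜ[k] (1 : A)) =
        Algebra.TensorProduct.map (barAlgHom ι f) (AlgHom.id k A) (x' ⊗ₜ[k] (1 : A)) := by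
      rw [Algebra.TensorProduct.map_tmul, Algebra.TensorProduct.map_tmul]
      congr 1
    have h2 := hinj2 h1
    exact Algebra.TensorProduct.includeLeft_injective (S := k) (algebraMap k A).injective h2
  -- Case 2 for the quotients
  have hbar := faithfullyFlat_of_nilpotent (barMap ι f) hinj3 N hN
  have hbc : (Algebra.TensorProduct.map (barAlgHom ι f) (AlgHom.id k A)).toRingHom.FaithfullyFlat :=
    ff_baseChange (T := A) (barAlgHom ι f) hbar
  -- transport along the Galois isomorphisms
  let EA := RingEquiv.ofBijective _ hγA_bij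
  have heq : (Algebra.TensorProduct.map fC (AlgHom.id C A)).toRingHom =
      ((EA.symm : _ →+* _).comp (Algebra.TensorProduct.map (barAlgHom ι f)
        (AlgHom.id k A)).toRingHom).comp
        (γ ι (f : B →ₐ[k] A) hcD hcT (qmap ι : B →ₐ[k] B ⧸ augMap ι) (qmap_c ι)) := by
    apply RingHom.ext
    intro y
    show Algebra.TensorProduct.map fC (AlgHom.id C A) y =
      EA.symm (Algebra.TensorProduct.map (barAlgHom ι f) (AlgHom.id k A)
        (γ ι (f : B →ₐ[k] A) hcD hcT (qmap ι : B →ₐ[k] B ⧸ augMap ι) (qmap_c ι) y))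
    rw [← hnat]
    exact (EA.symm_apply_apply _).symm
  have hfin : (Algebra.TensorProduct.map fC (AlgHom.id C A)).toRingHom.FaithfullyFlat := by
    rw [heq]
    exact ff_of_comp_bij _ hbc _ hγB_bij _ EA.symm.bijective
  exact ff_descent (R := C) (T := A) fC hfin

end Glue

section AugBar
variable {k : Type*} [Field k] {C B : Type*} [CommRing C] [CommRing B]
  [HopfAlgebra k C] [HopfAlgebra k B] (ι : C →ₐc[k] B)

theorem aug_bar_nilpotent [IsNoetherianRing B] (q : ℕ) (hq : ∀ x ∈ aug k B, x ^ q ∈ augMap ι) :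
    ∃ N : ℕ, (aug k (B ⧸ augMap ι)) ^ N = ⊥ := by
  have h1 : aug k B ≤ (augMap ι).radical := fun x hx => ⟨q, hq x hx⟩
  obtain ⟨N, hN⟩ := Ideal.exists_pow_le_of_le_radical_of_fg h1 (IsNoetherian.noetherian _)
  refine ⟨N, ?_⟩
  have h2 : aug k (B ⧸ augMap ι) ≤ Ideal.map (Ideal.Quotient.mk (augMap ι)) (aug k B) := by
    intro y hy
    obtain ⟨x, rfl⟩ := Ideal.Quotient.mk_surjective y
    apply Ideal.mem_map_of_mem
    rw [mem_aug_iff] at hy ⊢
    exact hy
  rw [eq_bot_iff]
  calc (aug k (B ⧸ augMap ι)) ^ N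
      ≤ (Ideal.map (Ideal.Quotient.mk (augMap ι)) (aug k B)) ^ N := Ideal.pow_right_mono h2 N
    _ = Ideal.map (Ideal.Quotient.mk (augMap ι)) ((aug k B) ^ N) := (Ideal.map_pow _ _ _).symm
    _ ≤ Ideal.map (Ideal.Quotient.mk (augMap ι)) (augMap ι) := Ideal.map_mono hN
    _ = ⊥ := Ideal.map_quotient_self _

end AugBar

section AlgClosed
universe u v w
variable {k : Type u} [Field k] [IsAlgClosed k] {B : Type w} {A : Type v} [CommRing B] [CommRing A]
  [HopfAlgebra k B] [HopfAlgebra k A] [Algebra.FiniteType k B] [Algebra.FiniteType k A]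
  (f : B →ₐc[k] A)

theorem ff_algClosed_charP (hf : Function.Injective f) (p : ℕ) [Fact p.Prime] [CharP k p] :
    (f : B →+* A).FaithfullyFlat := by
  obtain ⟨n, hred⟩ := exists_frobN_isReduced (k := k) p (B := B)
  letI := hopfAlgebraOfSub (frobN (k := k) p (B := B) n) (frobN_comul p n) (frobN_antipode p n)
  let ι : frobN (k := k) p (B := B) n →ₐc[k] B :=
    subBialgHom (frobN (k := k) p (B := B) n) (frobN_comul p n) (frobN_antipode p n)
  have hι : Function.Injective ι := Subtype.val_injective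
  haveI : Algebra.FiniteType k (frobN (k := k) p (B := B) n) := frobN_finiteType p n
  have h1 := faithfullyFlat_of_isReduced (f.comp ι) (hf.comp hι)
  haveI : IsNoetherianRing B := Algebra.FiniteType.isNoetherianRing k B
  obtain ⟨N, hN⟩ := aug_bar_nilpotent ι (p ^ n) (by
    intro x hx
    have hx' : (⟨x ^ p ^ n, pow_mem_frobN p n x⟩ : frobN (k := k) p (B := B) n) ∈
        aug k (frobN (k := k) p (B := B) n) := by
      rw [mem_aug_iff] at hx ⊢
      show Coalgebra.counit (R := k) (x ^ p ^ n) = 0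
      have : Coalgebra.counit (R := k) (x ^ p ^ n) = (Bialgebra.counitAlgHom k B x) ^ p ^ n :=
        map_pow (Bialgebra.counitAlgHom k B) x _
      rw [this]
      have hx0 : Bialgebra.counitAlgHom k B x = 0 := hx
      rw [hx0, zero_pow (pow_pos (Fact.out : p.Prime).pos n).ne']
    exact c_mem_augMap ι hx')
  exact glue ι f hf h1 N hN

/-- **Takeuchi's theorem**, finitely generated case over an algebraically closed field -/
theorem ff_algClosed (hf : Function.Injective f) : (f : B →+* A).FaithfullyFlat := by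
  obtain ⟨p, hp⟩ := CharP.exists k
  rcases CharP.char_is_prime_or_zero k p with hpp | hp0
  · haveI : Fact p.Prime := ⟨hpp⟩
    exact ff_algClosed_charP f hf p
  · subst hp0
    haveI : CharZero k := CharP.charP_to_charZero k
    haveI : IsReduced B := Groth.Agent.Lib.Helper96.Cartier.isReduced k B
    exact faithfullyFlat_of_isReduced f hf

end AlgClosed

section General
universe u v w
variable {k : Type u} [Field k] {B : Type w} {A : Type v} [CommRing B] [CommRing A]
  [HopfAlgebra k B] [HopfAlgebra k A] [Algebra.FiniteType k B] [Algebra.FiniteType k A]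
  (f : B →ₐc[k] A)

/-- **Takeuchi's theorem**, finitely generated case: a finitely generated commutative Hopf algebra
over a field is faithfully flat over every finitely generated Hopf subalgebra. -/
theorem ff_finiteType (hf : Function.Injective f) : (f : B →+* A).FaithfullyFlat := by
  let K := AlgebraicClosure k
  let fK : K ⊗[k] B →ₐc[K] K ⊗[k] A := Bialgebra.TensorProduct.map (BialgHom.id K K) f
  have hfK_apply : ∀ y, fK y = LinearMap.lTensor K (f : B →ₐ[k] A).toLinearMap y := by
    intro y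
    induction y using TensorProduct.induction_on with
    | zero => simp
    | tmul c b => rfl
    | add y y' hy hy' => rw [map_add, map_add, hy, hy']
  have hfK : Function.Injective fK := by
    have h2 := Module.Flat.lTensor_preserves_injective_linearMap (M := K)
      (f : B →ₐ[k] A).toLinearMap hf
    intro y y' hyy'
    rw [hfK_apply, hfK_apply] at hyy'
    exact h2 hyy'
  haveI : Algebra.FiniteType K (K ⊗[k] B) := inferInstance
  haveI : Algebra.FiniteType K (K ⊗[k] A) := inferInstance
  have h1 := ff_algClosed fK hfK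
  have heq : (Algebra.TensorProduct.map (f : B →ₐ[k] A) (AlgHom.id k K)).toRingHom =
      (((Algebra.TensorProduct.comm k K A) : K ⊗[k] A →+* A ⊗[k] K).comp
        (fK : K ⊗[k] B →+* K ⊗[k] A)).comp
        ((Algebra.TensorProduct.comm k B K) : B ⊗[k] K →+* K ⊗[k] B) := by
    apply RingHom.ext
    intro y
    induction y using TensorProduct.induction_on with
    | zero => simp
    | tmul b c => rfl
    | add y y' hy hy' => rw [map_add, map_add, hy, hy']
  have h2 : (Algebra.TensorProduct.map (f : B →ₐ[k] A) (AlgHom.id k K)).toRingHom.FaithfullyFlat := by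
    rw [heq]
    exact ff_of_comp_bij _ h1 _ (Algebra.TensorProduct.comm k B K).bijective _
      (Algebra.TensorProduct.comm k K A).bijective
  exact ff_descent (R := k) (T := K) (f : B →ₐ[k] A) h2

end General

end Groth.Agent.Lib.Helper66.TK9
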