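import Mathlib
import Groth.Agent.Lib.Helper66.TK9
import Groth.Agent.Lib.Helper32.HopfSub
import Groth.Agent.Lib.Helper66.TK10a

/-!
# Takeuchi's theorem: a commutative Hopf algebra over a field is faithfully flat over every Hopf
subalgebra (helper66)
-/

set_option autoImplicit false
open scoped TensorProduct
open WithConv

namespace Groth.Agent.Lib.Helper66.TK10
open Groth.Agent.Lib.Helper66.SubBialg Groth.Agent.Lib.Helper66.TK1 Groth.Agent.Lib.Helper66.TK3
  Groth.Agent.Lib.Helper66.TK7 Groth.Agent.Lib.Helper66.TK9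

universe u v w

section HS
variable {k : Type*} [Field k] {A : Type*} [CommRing A] [HopfAlgebra k A]

/-- Hopf subalgebra predicate -/
def IsHS (B : Subalgebra k A) : Prop :=
  (∀ b ∈ B, Coalgebra.comul (R := k) b ∈ (jmap B).range) ∧
    ∀ b ∈ B, HopfAlgebra.antipode k b ∈ B

theorem jmap_range_mono {B₁ B₂ : Subalgebra k A} (h : B₁ ≤ B₂) :
    (jmap B₁).range ≤ (jmap B₂).range := by
  rintro _ ⟨z, rfl⟩
  refine ⟨Algebra.TensorProduct.map (Subalgebra.inclusion h) (Subalgebra.inclusion h) z, ?_⟩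
  show jmap B₂ (Algebra.TensorProduct.map (Subalgebra.inclusion h) (Subalgebra.inclusion h) z) =
    jmap B₁ z
  rw [← AlgHom.comp_apply, ← Algebra.TensorProduct.map_comp]
  rfl

theorem isHS_sup {B₁ B₂ : Subalgebra k A} (h₁ : IsHS B₁) (h₂ : IsHS B₂) : IsHS (B₁ ⊔ B₂) := by
  constructor
  · have h : B₁ ⊔ B₂ ≤ ((jmap (B₁ ⊔ B₂)).range).comap (Bialgebra.comulAlgHom k A) := by
      apply sup_le
      · intro b hb
        exact jmap_range_mono le_sup_left (h₁.1 b hb)
      · intro b hb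
        exact jmap_range_mono le_sup_right (h₂.1 b hb)
    exact fun b hb => h hb
  · have h : B₁ ⊔ B₂ ≤ (B₁ ⊔ B₂).comap (HopfAlgebra.antipodeAlgHom k A) := by
      apply sup_le
      · intro b hb
        exact (le_sup_left : B₁ ≤ B₁ ⊔ B₂) (h₁.2 b hb)
      · intro b hb
        exact (le_sup_right : B₂ ≤ B₁ ⊔ B₂) (h₂.2 b hb)
    exact fun b hb => h hb

theorem isHS_bot : IsHS (⊥ : Subalgebra k A) := by
  constructor
  · intro b hb
    obtain ⟨c, rfl⟩ := Algebra.mem_bot.mp hb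
    have : Coalgebra.comul (R := k) (algebraMap k A c) = algebraMap k (A ⊗[k] A) c :=
      AlgHom.commutes (Bialgebra.comulAlgHom k A) c
    rw [this]
    exact Subalgebra.algebraMap_mem _ c
  · intro b hb
    obtain ⟨c, rfl⟩ := Algebra.mem_bot.mp hb
    have : HopfAlgebra.antipode k (algebraMap k A c) = algebraMap k A c :=
      AlgHom.commutes (HopfAlgebra.antipodeAlgHom k A) c
    rw [this]
    exact Subalgebra.algebraMap_mem _ c

end HS

section HS1
variable {k : Type u} [Field k] {A : Type u} [CommRing A] [HopfAlgebra k A]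

theorem isHS_of_isHopfSubalgebra {B : Subalgebra k A} (h : SGA3.IsHopfSubalgebra k A B) :
    IsHS B := by
  refine ⟨fun b hb => ?_, h.2⟩
  obtain ⟨z, hz⟩ := h.1 b hb
  exact ⟨z, hz⟩

theorem isHopfSubalgebra_of_isHS {B : Subalgebra k A} (h : IsHS B) :
    SGA3.IsHopfSubalgebra k A B := by
  refine ⟨fun b hb => ?_, h.2⟩
  obtain ⟨z, hz⟩ := h.1 b hb
  exact ⟨z, hz⟩

theorem exists_fg_isHS_finset (s : Finset A) :
    ∃ B : Subalgebra k A, IsHS B ∧ B.FG ∧ ∀ x ∈ s, x ∈ B := by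
  classical
  induction s using Finset.induction_on with
  | empty => exact ⟨⊥, isHS_bot, Subalgebra.fg_bot, fun x hx => absurd hx (Finset.notMem_empty x)⟩
  | insert a s _ ih =>
    obtain ⟨B, hB, hfg, hs⟩ := ih
    obtain ⟨B', ha, hfg', hB'⟩ := Groth.Agent.Lib.Helper32.HopfSub.main k A a
    refine ⟨B ⊔ B', isHS_sup hB (isHS_of_isHopfSubalgebra hB'), hfg.sup hfg', fun x hx => ?_⟩
    rcases Finset.mem_insert.mp hx with rfl | hx
    · exact (le_sup_right : B' ≤ B ⊔ B') ha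
    · exact (le_sup_left : B ≤ B ⊔ B') (hs x hx)

end HS1

section Nested
variable {k : Type u} [Field k] {A : Type v} [CommRing A] [HopfAlgebra k A]

/-- the image in `A` of a Hopf subalgebra of a Hopf subalgebra `B` of `A` -/
theorem isHS_map (B : Subalgebra k A) (hB : IsHS B) (B' : Subalgebra k B)
    (hB' : letI := hopfAlgebraOfSub B hB.1 hB.2
      IsHS B') : IsHS (B'.map B.val) := by
  letI := hopfAlgebraOfSub B hB.1 hB.2
  have hmem : ∀ x : B', ((x : B) : A) ∈ B'.map B.val := fun x => ⟨x, x.2, rfl⟩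
  let e : B' →ₐ[k] (B'.map B.val) := (B.val.comp B'.val).codRestrict _ hmem
  constructor
  · rintro _ ⟨b', hb', rfl⟩
    obtain ⟨z, hz⟩ := hB'.1 b' hb'
    refine ⟨Algebra.TensorProduct.map e e z, ?_⟩
    have h1 : jmap B (Coalgebra.comul (R := k) b') = Coalgebra.comul (R := k) (b' : A) :=
      comul_val B hB.1 b'
    show jmap (B'.map B.val) (Algebra.TensorProduct.map e e z) =
      Coalgebra.comul (R := k) ((b' : B) : A)
    rw [← h1]
    have hz' : jmap B' z = Coalgebra.comul (R := k) b' := hz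
    rw [← hz', ← AlgHom.comp_apply, ← AlgHom.comp_apply, ← Algebra.TensorProduct.map_comp,
      ← Algebra.TensorProduct.map_comp]
    rfl
  · rintro _ ⟨b', hb', rfl⟩
    exact ⟨HopfAlgebra.antipode k b', hB'.2 b' hb', rfl⟩

/-- faithful flatness for nested finitely generated Hopf subalgebras -/
theorem ff_nested (B₀ A₀ : Subalgebra k A) (h₀ : IsHS B₀) (h₁ : IsHS A₀) (hfg₀ : B₀.FG)
    (hfg₁ : A₀.FG) (hle : B₀ ≤ A₀) :
    (Subalgebra.inclusion hle : B₀ →+* A₀).FaithfullyFlat := by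
  letI := hopfAlgebraOfSub B₀ h₀.1 h₀.2
  letI := hopfAlgebraOfSub A₀ h₁.1 h₁.2
  haveI : Algebra.FiniteType k B₀ := (Subalgebra.fg_iff_finiteType B₀).mp hfg₀
  haveI : Algebra.FiniteType k A₀ := (Subalgebra.fg_iff_finiteType A₀).mp hfg₁
  exact ff_finiteType (inclBialgHom B₀ A₀ h₀.1 h₀.2 h₁.1 h₁.2 hle)
    (inclBialgHom_injective B₀ A₀ h₀.1 h₀.2 h₁.1 h₁.2 hle)

end Nested

section Main
variable {k : Type u} [Field k] {A : Type u} [CommRing A] [HopfAlgebra k A]

theorem exists_nested (B : Subalgebra k A) (hB : IsHS B) (s : Finset B) (t : Finset A) :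
    ∃ B₀ A₀ : Subalgebra k A, IsHS B₀ ∧ IsHS A₀ ∧ B₀.FG ∧ A₀.FG ∧ B₀ ≤ B ∧ B₀ ≤ A₀ ∧
      (∀ b ∈ s, (b : A) ∈ B₀) ∧ ∀ x ∈ t, x ∈ A₀ := by
  classical
  letI := hopfAlgebraOfSub B hB.1 hB.2
  obtain ⟨B', hB', hfg', hs⟩ := exists_fg_isHS_finset (k := k) (A := B) s
  have h₀ : IsHS (B'.map B.val) := isHS_map B hB B' hB'
  have hfg₀ : (B'.map B.val).FG := hfg'.map _
  obtain ⟨g, hg⟩ := hfg₀
  obtain ⟨A₀, hA₀, hfgA, ht⟩ := exists_fg_isHS_finset (k := k) (A := A) (t ∪ g)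
  refine ⟨B'.map B.val, A₀, h₀, hA₀, ⟨g, hg⟩, hfgA, ?_, ?_, ?_, ?_⟩
  · rintro _ ⟨b', -, rfl⟩
    exact b'.2
  · rw [← hg]
    apply Algebra.adjoin_le
    intro x hx
    exact ht x (Finset.mem_union_right _ hx)
  · intro b hb
    exact ⟨b, hs b hb, rfl⟩
  · intro x hx
    exact ht x (Finset.mem_union_left _ hx)

/-- **Takeuchi's theorem**: a commutative Hopf algebra over a field is faithfully flat over every
Hopf subalgebra. -/
theorem faithfullyFlat_sub (B : Subalgebra k A) (hB : IsHS B) : Module.FaithfullyFlat B A := by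
  rw [← RingHom.faithfullyFlat_algebraMap_iff]
  apply Groth.Agent.Lib.Helper66.TK10a.ff_of_approx.{u, u, u, u}
  intro s t
  obtain ⟨B₀, A₀, h₀, h₁, hfg₀, hfg₁, hle₀, hle, hs, ht⟩ := exists_nested B hB s t
  refine ⟨B₀, A₀, inferInstance, inferInstance, (Subalgebra.inclusion hle₀ : B₀ →+* B),
    (A₀.val : A₀ →+* A), (Subalgebra.inclusion hle : B₀ →+* A₀),
    ff_nested B₀ A₀ h₀ h₁ hfg₀ hfg₁ hle, ?_, Subtype.val_injective, ?_, ?_⟩
  · rfl
  · intro r hr
    exact ⟨⟨(r : A), hs r hr⟩, rfl⟩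
  · intro x hx
    exact ⟨⟨x, ht x hx⟩, rfl⟩

end Main

end Groth.Agent.Lib.Helper66.TK10
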