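import Mathlib

/-!
# Truncated polynomial structure of height ≤ 1 Hopf algebras (helper66)

Key lemma: a `k`-algebra `B` with augmentation, generators `x i` of the augmentation ideal and
derivations `D i` with `ε (D i (x j)) = δ i j` in characteristic `p`: reduced polynomials
(degree `< p` in each variable) in the `x i` are linearly independent modulo any `D`-stable ideal
`J` inside the augmentation ideal.
-/

set_option autoImplicit false
open MvPolynomial TensorProduct

namespace Groth.Agent.Lib.Helper66.TruncPoly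

section Deg
variable {n : ℕ}

/-- total degree of an exponent vector -/
def deg (d : Fin n →₀ ℕ) : ℕ := ∑ i, d i

theorem deg_add_single (d : Fin n →₀ ℕ) (i : Fin n) : deg (d + Finsupp.single i 1) = deg d + 1 := by
  unfold deg
  simp only [Finsupp.coe_add, Pi.add_apply, Finset.sum_add_distrib]
  congr 1
  rw [Finset.sum_eq_single i]
  · simp
  · intro j _ hj; simp [Finsupp.single_apply, Ne.symm hj]
  · simp

end Deg

section General
variable {R B : Type*} [CommRing R] [CommRing B] [Algebra R B] {n : ℕ}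

theorem aeval_mem_pow (I : Ideal B) (x : Fin n → B) (hx : ∀ i, x i ∈ I) (r : ℕ)
    (P : MvPolynomial (Fin n) R) (hP : ∀ d ∈ P.support, r ≤ deg d) : aeval x P ∈ I ^ r := by
  rw [aeval_def, eval₂_eq']
  refine Ideal.sum_mem _ fun d hd => ?_
  refine Ideal.mul_mem_left _ _ ?_
  have h1 : ∏ i, x i ^ d i ∈ I ^ (deg d) := by
    unfold deg
    rw [← Finset.prod_pow_eq_pow_sum]
    exact Ideal.prod_mem_prod fun i _ => Ideal.pow_mem_pow (hx i) _
  exact Ideal.pow_le_pow_right (hP d hd) h1

theorem derivation_mem_pow (I : Ideal B) (D : Derivation R B B) (r : ℕ) (a : B)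
    (ha : a ∈ I ^ (r + 1)) : D a ∈ I ^ r := by
  induction r generalizing a with
  | zero => simp
  | succ r ih =>
    rw [pow_succ] at ha
    refine Submodule.mul_induction_on ha ?_ ?_
    · intro b hb c hc
      rw [D.leibniz]
      refine Ideal.add_mem _ ?_ ?_
      · rw [smul_eq_mul]; exact Ideal.mul_mem_right _ _ hb
      · rw [smul_eq_mul, pow_succ, mul_comm c]
        exact Ideal.mul_mem_mul (ih b hb) hc
    · intro a b ha hb
      rw [map_add]; exact Ideal.add_mem _ ha hb

theorem chain_rule (x : Fin n → B) (D : Derivation R B B) (P : MvPolynomial (Fin n) R) :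
    D (aeval x P) = ∑ j, aeval x (pderiv j P) * D (x j) := by
  induction P using MvPolynomial.induction_on with
  | C a => simp
  | add P Q hP hQ => simp [hP, hQ, add_mul, Finset.sum_add_distrib]
  | mul_X P i hP =>
    simp only [map_mul, aeval_X, D.leibniz, hP, pderiv_mul, map_add, smul_eq_mul, add_mul,
      Finset.sum_add_distrib]
    rw [add_comm]
    congr 1
    · rw [Finset.mul_sum]; refine Finset.sum_congr rfl fun j _ => by ring
    · rw [Finset.sum_eq_single i]
      · simp
      · intro j _ hj; simp [pderiv_X, Pi.single_apply, hj]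
      · simp

end General


section PDeriv
variable {R : Type*} [CommRing R] {n : ℕ}

theorem support_pderiv_sub {i : Fin n} (P : MvPolynomial (Fin n) R) (m : Fin n →₀ ℕ)
    (hm : m ∈ (pderiv i P).support) : m + Finsupp.single i 1 ∈ P.support := by
  rw [mem_support_iff, coeff_pderiv] at hm
  rw [mem_support_iff]
  intro h
  rw [h, zero_mul] at hm
  exact hm rfl

theorem pderiv_mem_restrictDegree {i : Fin n} (P : MvPolynomial (Fin n) R) (N : ℕ)
    (hP : P ∈ restrictDegree (Fin n) R N) : pderiv i P ∈ restrictDegree (Fin n) R N := by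
  rw [mem_restrictDegree] at hP ⊢
  intro m hm j
  have := hP _ (support_pderiv_sub P m hm) j
  simp only [Finsupp.coe_add, Pi.add_apply] at this
  omega

theorem deg_le_of_pderiv {i : Fin n} (P : MvPolynomial (Fin n) R) (r : ℕ)
    (hP : ∀ d ∈ P.support, r + 1 ≤ deg d) : ∀ m ∈ (pderiv i P).support, r ≤ deg m := by
  intro m hm
  have := hP _ (support_pderiv_sub P m hm)
  rw [deg_add_single] at this
  omega

end PDeriv

section Key
variable {k B : Type*} [Field k] [CommRing B] [Algebra k B] (p : ℕ) [Fact p.Prime] [CharP k p] {n : ℕ}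
  (ε : B →ₐ[k] k) (x : Fin n → B) (J : Ideal B) (D : Fin n → Derivation k B B)

include ε in
theorem counit_aeval (hx : ∀ i, ε (x i) = 0) (P : MvPolynomial (Fin n) k) :
    ε (aeval x P) = coeff 0 P := by
  have h1 : ε (aeval x P) = aeval (fun i => ε (x i)) P := by
    rw [← AlgHom.comp_apply, comp_aeval]
  rw [h1]
  have h2 : (fun i => ε (x i)) = (0 : Fin n → k) := funext hx
  rw [h2, aeval_zero]
  simp [constantCoeff_eq]

theorem lowdeg_step_gen (q : ℕ) (hq : ∀ m : ℕ, 0 < m → m ≤ q → (m : k) ≠ 0) (I : Ideal B) (hI : ∀ a, a ∈ I ↔ ε a = 0) (hx : ∀ i, x i ∈ I) (hJ : J ≤ I)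
    (hDJ : ∀ i, ∀ a ∈ J, D i a ∈ J) (hD : ∀ i j, ε (D i (x j)) = if i = j then 1 else 0)
    (r : ℕ) (P : MvPolynomial (Fin n) k) (hP : P ∈ restrictDegree (Fin n) k q)
    (hdeg : ∀ d ∈ P.support, r ≤ deg d)
    (h : aeval x P ∈ I ^ (r + 1) ⊔ J) : ∀ d ∈ P.support, r + 1 ≤ deg d := by
  induction r generalizing P with
  | zero =>
    intro d hd
    have h1 : aeval x P ∈ I := by
      have : I ^ (0 + 1) ⊔ J ≤ I := by
        rw [zero_add, pow_one]; exact sup_le le_rfl hJ
      exact this h
    rw [hI, counit_aeval ε x (fun i => (hI _).1 (hx i))] at h1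
    by_contra hlt
    have h2 : deg d = 0 := by omega
    have h3 : d = 0 := by
      ext i
      unfold deg at h2
      rw [Finset.sum_eq_zero_iff] at h2
      simpa using h2 i (Finset.mem_univ _)
    rw [h3, mem_support_iff] at hd
    exact hd h1
  | succ r ih =>
    -- the derivatives
    have key : ∀ i, ∀ m ∈ (pderiv i P).support, r + 1 ≤ deg m := by
      intro i
      refine ih (pderiv i P) (pderiv_mem_restrictDegree P _ hP) (deg_le_of_pderiv P r hdeg) ?_
      have h1 : D i (aeval x P) ∈ I ^ (r + 1) ⊔ J := by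
        obtain ⟨a, ha, j, hj, haj⟩ := Submodule.mem_sup.1 h
        rw [← haj, map_add]
        exact Submodule.add_mem_sup (derivation_mem_pow I (D i) (r + 1) a ha) (hDJ i j hj)
      have h2 : D i (aeval x P) - aeval x (pderiv i P) ∈ I ^ (r + 1) := by
        rw [chain_rule]
        have h3 : aeval x (pderiv i P) = ∑ j, aeval x (pderiv j P) * (if i = j then 1 else 0) := by
          simp
        rw [h3, ← Finset.sum_sub_distrib]
        refine Ideal.sum_mem _ fun j _ => ?_
        rw [← mul_sub, pow_succ]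
        refine Ideal.mul_mem_mul (aeval_mem_pow I x hx r _ (deg_le_of_pderiv P r hdeg)) ?_
        rw [hI, map_sub, hD]
        split_ifs <;> simp
      have h4 : aeval x (pderiv i P) = D i (aeval x P) - (D i (aeval x P) - aeval x (pderiv i P)) := by
        ring
      rw [h4]
      exact Submodule.sub_mem _ h1 (Submodule.mem_sup_left h2)
    intro d hd
    have h0 := hdeg d hd
    by_contra hlt
    have h2 : deg d = r + 1 := by omega
    have h3 : ∃ i, d i ≠ 0 := by
      by_contra hne
      push Not at hne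
      have : deg d = 0 := by
        unfold deg
        exact Finset.sum_eq_zero fun i _ => hne i
      omega
    obtain ⟨i, hi⟩ := h3
    have h5 : (d - Finsupp.single i 1) + Finsupp.single i 1 = d := by
      ext j
      by_cases hj : j = i
      · subst hj; simp; omega
      · simp [Finsupp.single_apply, Ne.symm hj]
    have h6 : (d - Finsupp.single i 1) ∈ (pderiv i P).support := by
      rw [mem_support_iff, coeff_pderiv, h5]
      refine mul_ne_zero (mem_support_iff.1 hd) ?_
      have h7 : ((((d - Finsupp.single i 1 : Fin n →₀ ℕ) i : ℕ)) : k) + 1 = ((d i : ℕ) : k) := by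
        have : (d - Finsupp.single i 1 : Fin n →₀ ℕ) i + 1 = d i := by simp; omega
        rw [← this]; push_cast; ring
      rw [h7]
      have h9 := (mem_restrictDegree _ _ _).1 hP d hd i
      exact hq _ (Nat.pos_of_ne_zero hi) h9
    have h7 := key i _ h6
    have h8 := deg_add_single (d - Finsupp.single i 1) i
    rw [h5] at h8
    omega

theorem eq_zero_of_aeval_mem_gen (q : ℕ) (hq : ∀ m : ℕ, 0 < m → m ≤ q → (m : k) ≠ 0) (I : Ideal B) (hI : ∀ a, a ∈ I ↔ ε a = 0) (hx : ∀ i, x i ∈ I) (hJ : J ≤ I)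
    (hDJ : ∀ i, ∀ a ∈ J, D i a ∈ J) (hD : ∀ i j, ε (D i (x j)) = if i = j then 1 else 0)
    (P : MvPolynomial (Fin n) k) (hP : P ∈ restrictDegree (Fin n) k q)
    (h : aeval x P ∈ J) : P = 0 := by
  have key : ∀ r, ∀ d ∈ P.support, r ≤ deg d := by
    intro r
    induction r with
    | zero => intro d _; exact Nat.zero_le _
    | succ r ih =>
      exact lowdeg_step_gen ε x J D q hq I hI hx hJ hDJ hD r P hP ih (Submodule.mem_sup_right h)
  by_contra hne
  obtain ⟨d, hd⟩ := (MvPolynomial.support_nonempty (p := P)).2 hne  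
  have := key (deg d + 1) d hd
  omega

include p in
theorem char_cast_ne_zero : ∀ m : ℕ, 0 < m → m ≤ p - 1 → (m : k) ≠ 0 := by
  intro m hm0 hm h8
  rw [CharP.cast_eq_zero_iff k p] at h8
  have h10 := Nat.le_of_dvd hm0 h8
  have := (Fact.out : p.Prime).pos
  omega

theorem lowdeg_step (I : Ideal B) (hI : ∀ a, a ∈ I ↔ ε a = 0) (hx : ∀ i, x i ∈ I) (hJ : J ≤ I)
    (hDJ : ∀ i, ∀ a ∈ J, D i a ∈ J) (hD : ∀ i j, ε (D i (x j)) = if i = j then 1 else 0)
    (r : ℕ) (P : MvPolynomial (Fin n) k) (hP : P ∈ restrictDegree (Fin n) k (p - 1))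
    (hdeg : ∀ d ∈ P.support, r ≤ deg d)
    (h : aeval x P ∈ I ^ (r + 1) ⊔ J) : ∀ d ∈ P.support, r + 1 ≤ deg d :=
  lowdeg_step_gen ε x J D (p - 1) (char_cast_ne_zero (k := k) p) I hI hx hJ hDJ hD r P hP hdeg h

theorem eq_zero_of_aeval_mem (I : Ideal B) (hI : ∀ a, a ∈ I ↔ ε a = 0) (hx : ∀ i, x i ∈ I) (hJ : J ≤ I)
    (hDJ : ∀ i, ∀ a ∈ J, D i a ∈ J) (hD : ∀ i j, ε (D i (x j)) = if i = j then 1 else 0)
    (P : MvPolynomial (Fin n) k) (hP : P ∈ restrictDegree (Fin n) k (p - 1))
    (h : aeval x P ∈ J) : P = 0 :=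
  eq_zero_of_aeval_mem_gen ε x J D (p - 1) (char_cast_ne_zero (k := k) p) I hI hx hJ hDJ hD P hP h

end Key


section Trunc
variable (R : Type*) [CommRing R] (p n : ℕ)

/-- the ideal `(X_i^p)` -/
noncomputable def JX : Ideal (MvPolynomial (Fin n) R) :=
  Ideal.span (Set.range fun i : Fin n => (X i : MvPolynomial (Fin n) R) ^ p)

variable {R p n}

theorem exists_reduced (hp : 0 < p) (P : MvPolynomial (Fin n) R) :
    ∃ Q ∈ restrictDegree (Fin n) R (p - 1), P - Q ∈ JX R p n := by
  induction P using MvPolynomial.induction_on' with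
  | monomial d c =>
    by_cases h : ∀ i, d i ≤ p - 1
    · refine ⟨monomial d c, ?_, by simp⟩
      rw [mem_restrictDegree]
      intro s hs i
      have := support_monomial_subset hs
      rw [Finset.mem_singleton] at this
      rw [this]; exact h i
    · push Not at h
      obtain ⟨i, hi⟩ := h
      refine ⟨0, zero_mem _, ?_⟩
      rw [sub_zero]
      have h1 : monomial d c = monomial (d - Finsupp.single i p) c * (X i) ^ p := by
        rw [X_pow_eq_monomial, monomial_mul, mul_one]
        have : d - Finsupp.single i p + Finsupp.single i p = d := by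
          ext j
          by_cases hj : j = i
          · subst hj; simp; omega
          · simp [Finsupp.single_apply, Ne.symm hj]
        rw [this]
      rw [h1]
      exact Ideal.mul_mem_left _ _ (Ideal.subset_span ⟨i, rfl⟩)
  | add P Q hP hQ =>
    obtain ⟨P', hP', hP''⟩ := hP
    obtain ⟨Q', hQ', hQ''⟩ := hQ
    refine ⟨P' + Q', add_mem hP' hQ', ?_⟩
    have : P + Q - (P' + Q') = (P - P') + (Q - Q') := by ring
    rw [this]; exact add_mem hP'' hQ''

theorem eq_zero_of_reduced_of_mem (hp : 0 < p) (Q : MvPolynomial (Fin n) R)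
    (hQ : Q ∈ restrictDegree (Fin n) R (p - 1)) (hQJ : Q ∈ JX R p n) : Q = 0 := by
  have hup : IsUpperSet {d : Fin n →₀ ℕ | ∃ i, p ≤ d i} := by
    intro a b hab ⟨i, hi⟩
    exact ⟨i, hi.trans (hab i)⟩
  have h1 : JX R p n ≤ restrictSupportIdeal (R := R) {d : Fin n →₀ ℕ | ∃ i, p ≤ d i} hup := by
    unfold JX
    rw [Ideal.span_le]
    rintro _ ⟨i, rfl⟩
    show (X i : MvPolynomial (Fin n) R) ^ p ∈ restrictSupport R _
    rw [X_pow_eq_monomial, monomial_mem_restrictSupport]
    left
    exact ⟨i, by simp⟩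
  have h2 : Q ∈ restrictSupport R {d : Fin n →₀ ℕ | ∃ i, p ≤ d i} := h1 hQJ
  rw [mem_restrictSupport_iff] at h2
  rw [mem_restrictDegree] at hQ
  by_contra hne
  obtain ⟨d, hd⟩ := (MvPolynomial.support_nonempty (p := Q)).2 hne
  obtain ⟨i, hi⟩ := h2 hd
  have := hQ d hd i
  omega

variable (R p n) in
/-- reduced polynomials map isomorphically onto the quotient -/
noncomputable def reducedEquiv (hp : 0 < p) :
    restrictDegree (Fin n) R (p - 1) ≃ₗ[R] (MvPolynomial (Fin n) R ⧸ JX R p n) :=
  LinearEquiv.ofBijective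
    (((Ideal.Quotient.mkₐ R (JX R p n)).toLinearMap).comp (restrictDegree (Fin n) R (p - 1)).subtype)
    (by
      constructor
      · rw [← LinearMap.ker_eq_bot, LinearMap.ker_eq_bot']
        intro Q hQ
        have h1 : (Q : MvPolynomial (Fin n) R) ∈ JX R p n := by
          rw [← Ideal.Quotient.eq_zero_iff_mem]
          exact hQ
        have h2 : (Q : MvPolynomial (Fin n) R) = 0 := eq_zero_of_reduced_of_mem hp (Q : MvPolynomial (Fin n) R) Q.2 h1
        exact Subtype.ext h2
      · intro y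
        obtain ⟨P, rfl⟩ := Ideal.Quotient.mk_surjective y
        obtain ⟨Q, hQ, hPQ⟩ := exists_reduced hp P
        refine ⟨⟨Q, hQ⟩, ?_⟩
        symm
        exact (Ideal.Quotient.mk_eq_mk_iff_sub_mem _ _).2 hPQ)

theorem card_reduced (hp : 0 < p) : Nat.card {d : Fin n →₀ ℕ | ∀ i, d i ≤ p - 1} = p ^ n := by
  have e1 : {d : Fin n →₀ ℕ | ∀ i, d i ≤ p - 1} ≃ {s : Fin n → ℕ // ∀ i, s i < p} :=
    Equiv.subtypeEquiv Finsupp.equivFunOnFinite fun f => by
      refine forall_congr' fun i => ?_
      simp only [Finsupp.equivFunOnFinite_apply]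
      omega
  have e2 : {s : Fin n → ℕ // ∀ i, s i < p} ≃ (Fin n → {m : ℕ // m < p}) :=
    (@Equiv.subtypePiEquivPi (Fin n) (fun _ => ℕ) fun _ m => m < p)
  have e3 : (Fin n → {m : ℕ // m < p}) ≃ (Fin n → Fin p) :=
    Equiv.arrowCongr (Equiv.refl _) Fin.equivSubtype.symm
  rw [Nat.card_congr (e1.trans (e2.trans e3))]
  simp

theorem free_quot (hp : 0 < p) : Module.Free R (MvPolynomial (Fin n) R ⧸ JX R p n) :=
  Module.Free.of_equiv' (Module.Free.of_basis (basisRestrictSupport R _)) (reducedEquiv R p n hp)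

theorem finite_quot (hp : 0 < p) : Module.Finite R (MvPolynomial (Fin n) R ⧸ JX R p n) :=
  Module.Finite.equiv (reducedEquiv R p n hp)

theorem finrank_quot [Nontrivial R] (hp : 0 < p) :
    Module.finrank R (MvPolynomial (Fin n) R ⧸ JX R p n) = p ^ n := by
  rw [← (reducedEquiv R p n hp).finrank_eq]
  have := Module.finrank_eq_nat_card_basis
    (basisRestrictSupport R {d : Fin n →₀ ℕ | ∀ i, d i ≤ p - 1})
  rw [card_reduced hp] at this
  exact this

end Trunc


section Gen
variable {R B : Type*} [CommRing R] [CommRing B] [Algebra R B] {n : ℕ}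

theorem approx_step (ε : B →ₐ[R] R) (I : Ideal B) (hI : ∀ a, a ∈ I ↔ ε a = 0) (x : Fin n → B)
    (hspan : I = Ideal.span (Set.range x)) (r : ℕ) (z : B) (hz : z ∈ I ^ r) :
    ∃ t ∈ (aeval x : MvPolynomial (Fin n) R →ₐ[R] B).range, t ∈ I ^ r ∧ z - t ∈ I ^ (r + 1) := by
  induction r generalizing z with
  | zero =>
    refine ⟨algebraMap R B (ε z), Subalgebra.algebraMap_mem _ _, by simp, ?_⟩
    rw [zero_add, pow_one, hI, map_sub, AlgHom.commutes]
    simp
  | succ r ih =>
    have hxI : ∀ i, x i ∈ I := fun i => by rw [hspan]; exact Ideal.subset_span ⟨i, rfl⟩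
    rw [pow_succ] at hz
    nth_rw 2 [hspan] at hz
    rw [← smul_eq_mul, Ideal.span, Submodule.mem_ideal_smul_span_iff_exists_sum] at hz
    obtain ⟨a, ha, rfl⟩ := hz
    rw [Finsupp.sum_fintype _ _ (fun i => by simp)]
    choose t ht1 ht2 ht3 using fun i => ih (a i) (ha i)
    refine ⟨∑ i, t i * x i, ?_, ?_, ?_⟩
    · refine Subalgebra.sum_mem _ fun i _ => Subalgebra.mul_mem _ (ht1 i) ⟨X i, by simp⟩
    · refine Ideal.sum_mem _ fun i _ => ?_
      rw [pow_succ]; exact Ideal.mul_mem_mul (ht2 i) (hxI i)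
    · rw [← Finset.sum_sub_distrib]
      refine Ideal.sum_mem _ fun i _ => ?_
      rw [smul_eq_mul, ← sub_mul, pow_succ]
      exact Ideal.mul_mem_mul (ht3 i) (hxI i)

theorem aeval_surjective (ε : B →ₐ[R] R) (I : Ideal B) (hI : ∀ a, a ∈ I ↔ ε a = 0) (x : Fin n → B)
    (hspan : I = Ideal.span (Set.range x)) (N : ℕ) (hN : I ^ N = ⊥) :
    Function.Surjective (aeval x : MvPolynomial (Fin n) R →ₐ[R] B) := by
  have key : ∀ r : ℕ, ∀ b : B, ∃ t ∈ (aeval x : MvPolynomial (Fin n) R →ₐ[R] B).range,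
      b - t ∈ I ^ r := by
    intro r
    induction r with
    | zero => intro b; exact ⟨0, Subalgebra.zero_mem _, by simp⟩
    | succ r ih =>
      intro b
      obtain ⟨t, ht, hbt⟩ := ih b
      obtain ⟨t', ht', _, h3⟩ := approx_step ε I hI x hspan r (b - t) hbt
      refine ⟨t + t', Subalgebra.add_mem _ ht ht', ?_⟩
      have : b - (t + t') = b - t - t' := by ring
      rw [this]; exact h3
  intro b
  obtain ⟨t, ht, hbt⟩ := key N b
  rw [hN, Ideal.mem_bot, sub_eq_zero] at hbt
  rw [hbt]
  exact ht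

theorem JX_le_comap (x : Fin n → B) (J : Ideal B) (p : ℕ) (hxp : ∀ i, x i ^ p ∈ J) :
    ∀ P ∈ JX R p n, aeval x P ∈ J := by
  intro P hP
  have : JX R p n ≤ Ideal.comap (aeval x : MvPolynomial (Fin n) R →ₐ[R] B) J := by
    unfold JX
    rw [Ideal.span_le]
    rintro _ ⟨i, rfl⟩
    show aeval x (X i ^ p) ∈ J
    rw [map_pow, aeval_X]
    exact hxp i
  exact this hP

theorem exists_reduced_aeval (ε : B →ₐ[R] R) (I : Ideal B) (hI : ∀ a, a ∈ I ↔ ε a = 0)
    (x : Fin n → B) (hspan : I = Ideal.span (Set.range x)) (N : ℕ) (hN : I ^ N = ⊥)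
    (J : Ideal B) (p : ℕ) (hp : 0 < p) (hxp : ∀ i, x i ^ p ∈ J) (b : B) :
    ∃ Q ∈ restrictDegree (Fin n) R (p - 1), b - aeval x Q ∈ J := by
  obtain ⟨P, rfl⟩ := aeval_surjective ε I hI x hspan N hN b
  obtain ⟨Q, hQ, hPQ⟩ := exists_reduced (R := R) hp P
  refine ⟨Q, hQ, ?_⟩
  rw [← map_sub]
  exact JX_le_comap x J p hxp _ hPQ

end Gen


section Main
variable {R B : Type*} [CommRing R] [CommRing B] [Algebra R B] {n : ℕ}

theorem algEquiv_of_reduced (x : Fin n → B) (J : Ideal B) (p : ℕ) (hp : 0 < p)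
    (hxp : ∀ i, x i ^ p ∈ J)
    (hsurj : ∀ b : B, ∃ P : MvPolynomial (Fin n) R, b - aeval x P ∈ J)
    (hinj : ∀ P ∈ restrictDegree (Fin n) R (p - 1), aeval x P ∈ J → P = 0) :
    Nonempty ((B ⧸ J) ≃ₐ[R] (MvPolynomial (Fin n) R ⧸ JX R p n)) := by
  let φ : MvPolynomial (Fin n) R →ₐ[R] B ⧸ J := (Ideal.Quotient.mkₐ R J).comp (aeval x)
  have hφ : ∀ P ∈ JX R p n, φ P = 0 := by
    intro P hP
    exact Ideal.Quotient.eq_zero_iff_mem.2 (JX_le_comap x J p hxp P hP)
  let ψ : (MvPolynomial (Fin n) R ⧸ JX R p n) →ₐ[R] B ⧸ J := Ideal.Quotient.liftₐ (JX R p n) φ hφ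
  have hψ : Function.Bijective ψ := by
    constructor
    · rw [injective_iff_map_eq_zero]
      intro y hy
      obtain ⟨P, rfl⟩ := Ideal.Quotient.mk_surjective y
      have h1 : φ P = 0 := hy
      obtain ⟨Q, hQ, hPQ⟩ := exists_reduced (R := R) hp P
      have h2 : φ Q = 0 := by
        have := hφ _ hPQ
        rw [map_sub, h1, zero_sub, neg_eq_zero] at this
        exact this
      have h3 : aeval x Q ∈ J := Ideal.Quotient.eq_zero_iff_mem.1 h2
      have h4 := hinj Q hQ h3
      rw [h4, sub_zero] at hPQ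
      exact Ideal.Quotient.eq_zero_iff_mem.2 hPQ
    · intro y
      obtain ⟨b, rfl⟩ := Ideal.Quotient.mk_surjective y
      obtain ⟨P, hP⟩ := hsurj b
      refine ⟨Ideal.Quotient.mk _ P, ?_⟩
      symm
      exact (Ideal.Quotient.mk_eq_mk_iff_sub_mem _ _).2 hP
  exact ⟨(AlgEquiv.ofBijective ψ hψ).symm⟩

end Main


section Hopf
variable {k A : Type*} [CommRing k] [CommRing A] [Bialgebra k A]

/-- contraction of the second tensor factor against a functional -/
noncomputable def contr (v : A →ₗ[k] k) : A ⊗[k] A →ₗ[k] A :=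
  (TensorProduct.rid k A).toLinearMap ∘ₗ LinearMap.lTensor A v

@[simp] theorem contr_tmul (v : A →ₗ[k] k) (a b : A) : contr v (a ⊗ₜ[k] b) = v b • a := by
  simp [contr]

theorem contr_counit_comul (a : A) :
    contr (Coalgebra.counit (R := k) (A := A)) (Coalgebra.comul (R := k) a) = a := by
  unfold contr
  rw [LinearMap.comp_apply, Coalgebra.lTensor_counit_comul]
  simp

theorem contr_mul (v : A →ₗ[k] k)
    (hv : ∀ a b, v (a * b) = Coalgebra.counit (R := k) a * v b + v a * Coalgebra.counit (R := k) b)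
    (s t : A ⊗[k] A) :
    contr v (s * t) = contr (Coalgebra.counit (R := k) (A := A)) s * contr v t
      + contr v s * contr (Coalgebra.counit (R := k) (A := A)) t := by
  induction s using TensorProduct.induction_on with
  | zero => simp
  | add s1 s2 h1 h2 => rw [add_mul, map_add, h1, h2, map_add, map_add]; ring
  | tmul a a' =>
    induction t using TensorProduct.induction_on with
    | zero => simp
    | add t1 t2 h1 h2 => rw [mul_add, map_add, h1, h2, map_add, map_add]; ring
    | tmul b b' =>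
      rw [Algebra.TensorProduct.tmul_mul_tmul]
      simp only [contr_tmul, hv]
      simp only [Algebra.smul_def, map_add, map_mul]
      ring

/-- the (left-invariant) derivation attached to an `ε`-derivation `v`. -/
noncomputable def derivOf (v : A →ₗ[k] k)
    (hv : ∀ a b, v (a * b) = Coalgebra.counit (R := k) a * v b + v a * Coalgebra.counit (R := k) b) :
    Derivation k A A :=
  Derivation.mk' (contr v ∘ₗ Coalgebra.comul) (by
    intro a b
    simp only [LinearMap.comp_apply]
    rw [Bialgebra.comul_mul, contr_mul v hv, contr_counit_comul, contr_counit_comul]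
    simp only [smul_eq_mul]; ring)

theorem derivOf_apply (v : A →ₗ[k] k) (hv) (a : A) :
    derivOf v hv a = contr v (Coalgebra.comul (R := k) a) := rfl

theorem counit_contr (v : A →ₗ[k] k) (s : A ⊗[k] A) :
    Coalgebra.counit (R := k) (contr v s) =
      v ((TensorProduct.lid k A) (LinearMap.rTensor A (Coalgebra.counit (R := k) (A := A)) s)) := by
  induction s using TensorProduct.induction_on with
  | zero => simp
  | add s1 s2 h1 h2 => simp only [map_add, h1, h2]
  | tmul a b => simp [mul_comm]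

theorem counit_derivOf (v : A →ₗ[k] k) (hv) (a : A) :
    Coalgebra.counit (R := k) (derivOf v hv a) = v a := by
  rw [derivOf_apply, counit_contr, Coalgebra.rTensor_counit_comul]
  simp

end Hopf


section Cot
variable {k A : Type*} [Field k] [CommRing A] [Bialgebra k A]

/-- projection of `A` onto the augmentation ideal -/
noncomputable def augProj (I : Ideal A) (hI : ∀ a, a ∈ I ↔ Coalgebra.counit (R := k) a = 0) :
    A →ₗ[k] I where
  toFun a := ⟨a - algebraMap k A (Coalgebra.counit (R := k) a), by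
    rw [hI, map_sub, Bialgebra.counit_algebraMap]; simp⟩
  map_add' a b := by
    apply Subtype.ext
    simp only [map_add, Submodule.coe_add]; ring
  map_smul' c a := by
    apply Subtype.ext
    simp only [map_smul, RingHom.id_apply, Submodule.coe_smul_of_tower, smul_sub]
    congr 1
    simp [Algebra.smul_def]

theorem augProj_of_mem (I : Ideal A) (hI : ∀ a, a ∈ I ↔ Coalgebra.counit (R := k) a = 0)
    (a : A) (ha : a ∈ I) : augProj I hI a = ⟨a, ha⟩ := by
  apply Subtype.ext
  show a - algebraMap k A (Coalgebra.counit (R := k) a) = a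
  rw [(hI a).1 ha]; simp

/-- the `ε`-derivation attached to a functional on the cotangent space -/
noncomputable def epsDer (I : Ideal A) (hI : ∀ a, a ∈ I ↔ Coalgebra.counit (R := k) a = 0)
    (f : I.Cotangent →ₗ[k] k) : A →ₗ[k] k :=
  f ∘ₗ (I.toCotangent.restrictScalars k) ∘ₗ augProj I hI

theorem epsDer_mul (I : Ideal A) (hI : ∀ a, a ∈ I ↔ Coalgebra.counit (R := k) a = 0)
    (f : I.Cotangent →ₗ[k] k) (a b : A) :
    epsDer I hI f (a * b) = Coalgebra.counit (R := k) a * epsDer I hI f b
      + epsDer I hI f a * Coalgebra.counit (R := k) b := by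
  have h1 : augProj I hI (a * b) = (augProj I hI a : A) • augProj I hI b
      + Coalgebra.counit (R := k) a • augProj I hI b
      + Coalgebra.counit (R := k) b • augProj I hI a := by
    apply Subtype.ext
    simp only [Submodule.coe_add, Submodule.coe_smul_of_tower, Submodule.coe_smul]
    show a * b - algebraMap k A (Coalgebra.counit (R := k) (a * b))
      = (a - algebraMap k A (Coalgebra.counit (R := k) a)) • (b - algebraMap k A (Coalgebra.counit (R := k) b))
        + Coalgebra.counit (R := k) a • (b - algebraMap k A (Coalgebra.counit (R := k) b))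
        + Coalgebra.counit (R := k) b • (a - algebraMap k A (Coalgebra.counit (R := k) a))
    simp only [Algebra.smul_def, Algebra.algebraMap_self, RingHom.id_apply, Bialgebra.counit_mul, map_mul]
    ring
  have h2 : (I.toCotangent.restrictScalars k) ((augProj I hI a : A) • augProj I hI b) = 0 := by
    rw [LinearMap.restrictScalars_apply, Ideal.toCotangent_eq_zero, pow_two]
    exact Ideal.mul_mem_mul (augProj I hI a).2 (augProj I hI b).2
  simp only [epsDer, LinearMap.comp_apply]
  rw [h1]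
  simp only [map_add]
  rw [h2, map_smul, map_smul, map_zero, zero_add, map_smul, map_smul]
  simp only [smul_eq_mul]; ring

theorem exists_derivations {n : ℕ} (I : Ideal A)
    (hI : ∀ a, a ∈ I ↔ Coalgebra.counit (R := k) a = 0)
    (b : Module.Basis (Fin n) k I.Cotangent) (x : Fin n → A) (hx : ∀ i, x i ∈ I)
    (hxb : ∀ i, I.toCotangent ⟨x i, hx i⟩ = b i) :
    ∃ D : Fin n → Derivation k A A,
      ∀ i j, Coalgebra.counit (R := k) (D i (x j)) = if i = j then 1 else 0 := by
  refine ⟨fun i => derivOf (epsDer I hI (b.coord i)) (epsDer_mul I hI _), fun i j => ?_⟩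
  rw [counit_derivOf]
  simp only [epsDer, LinearMap.comp_apply, LinearMap.restrictScalars_apply]
  rw [augProj_of_mem I hI _ (hx j), hxb]
  simp [Finsupp.single_apply, eq_comm]

theorem span_eq_of_basis {n : ℕ} (I : Ideal A) (hfg : I.FG) (hjac : I ≤ Ideal.jacobson ⊥)
    (b : Module.Basis (Fin n) k I.Cotangent) (x : Fin n → A) (hx : ∀ i, x i ∈ I)
    (hxb : ∀ i, I.toCotangent ⟨x i, hx i⟩ = b i) : I = Ideal.span (Set.range x) := by
  refine le_antisymm ?_ (Ideal.span_le.2 (by rintro _ ⟨i, rfl⟩; exact hx i))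
  refine Submodule.le_of_le_smul_of_le_jacobson_bot hfg hjac ?_
  intro a ha
  have h1 : I.toCotangent ⟨a, ha⟩ = I.toCotangent (∑ i, b.repr (I.toCotangent ⟨a, ha⟩) i • ⟨x i, hx i⟩) := by
    rw [map_sum]
    conv_lhs => rw [← b.sum_repr (I.toCotangent ⟨a, ha⟩)]
    refine Finset.sum_congr rfl fun i _ => ?_
    rw [LinearMap.map_smul_of_tower, hxb]
  rw [Ideal.toCotangent_eq] at h1
  have h2 : a = (∑ i, b.repr (I.toCotangent ⟨a, ha⟩) i • x i)
      + (a - ∑ i, b.repr (I.toCotangent ⟨a, ha⟩) i • x i) := by ring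
  rw [h2]
  refine Submodule.add_mem_sup ?_ ?_
  · refine Submodule.sum_mem _ fun i _ => ?_
    rw [Algebra.smul_def]
    exact Ideal.mul_mem_left _ _ (Ideal.subset_span ⟨i, rfl⟩)
  · rw [smul_eq_mul, ← pow_two]
    convert h1 using 2
    simp

end Cot


section DerP
variable {k B : Type*} [Field k] [CommRing B] [Algebra k B] (p : ℕ) [CharP k p]

theorem derivation_pow_p (D : Derivation k B B) (a : B) : D (a ^ p) = 0 := by
  rw [D.leibniz_pow, ← Nat.cast_smul_eq_nsmul k, CharP.cast_eq_zero, zero_smul]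

theorem derivation_mem_span_pow (D : Derivation k B B) (S : Set B) (a : B)
    (ha : a ∈ Ideal.span ((fun a : B => a ^ p) '' S)) :
    D a ∈ Ideal.span ((fun a : B => a ^ p) '' S) := by
  induction ha using Submodule.span_induction with
  | mem y hy =>
    obtain ⟨s, _, rfl⟩ := hy
    simp only []
    rw [derivation_pow_p]; exact zero_mem _
  | zero => simp
  | add y z _ _ hy hz => rw [map_add]; exact add_mem hy hz
  | smul c y hy hDy =>
    rw [smul_eq_mul, D.leibniz]
    exact add_mem (Ideal.mul_mem_left _ _ hDy) (Ideal.mul_mem_right _ _ hy)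

end DerP

section HopfMain
variable {k A : Type*} [Field k] [CommRing A] [Bialgebra k A] (p : ℕ) [Fact p.Prime] [CharP k p]

theorem hopf_field_main (I : Ideal A) (hI : ∀ a, a ∈ I ↔ Coalgebra.counit (R := k) a = 0)
    (hfg : I.FG) (N : ℕ) (hN : I ^ N = ⊥) {n : ℕ}
    (b : Module.Basis (Fin n) k I.Cotangent) (x : Fin n → A) (hx : ∀ i, x i ∈ I)
    (hxb : ∀ i, I.toCotangent ⟨x i, hx i⟩ = b i) :
    I = Ideal.span (Set.range x) ∧
    ∀ P ∈ restrictDegree (Fin n) k (p - 1),
      aeval x P ∈ Ideal.span ((fun a : A => a ^ p) '' (I : Set A)) → P = 0 := by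
  have hjac : I ≤ Ideal.jacobson ⊥ := by
    intro a ha
    have h1 : a ∈ nilradical A := by
      rw [mem_nilradical]
      refine ⟨N, ?_⟩
      have := Ideal.pow_mem_pow ha N
      rwa [hN, Ideal.mem_bot] at this
    exact (Ideal.radical_le_jacobson (I := (⊥ : Ideal A))) h1
  refine ⟨span_eq_of_basis I hfg hjac b x hx hxb, ?_⟩
  obtain ⟨D, hD⟩ := exists_derivations I hI b x hx hxb
  intro P hP hPJ
  have hp : 0 < p := (Fact.out : p.Prime).pos
  refine eq_zero_of_aeval_mem p (Bialgebra.counitAlgHom k A) x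
    (Ideal.span ((fun a : A => a ^ p) '' (I : Set A))) D I
    (fun a => by rw [hI]; rfl) hx ?_ ?_ (fun i j => by rw [← hD i j]; rfl) P hP hPJ
  · rw [Ideal.span_le]
    rintro _ ⟨a, ha, rfl⟩
    exact Ideal.pow_mem_of_mem _ ha _ hp
  · intro i a ha
    exact derivation_mem_span_pow p (D i) _ a ha

end HopfMain

section FieldBij
variable {k A : Type*} [Field k] [CommRing A] [Bialgebra k A] [Module.Finite k A]
  (p : ℕ) [Fact p.Prime] [CharP k p]

theorem finite_cotangent (I : Ideal A) (hI : ∀ a, a ∈ I ↔ Coalgebra.counit (R := k) a = 0) :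
    Module.Finite k I.Cotangent := by
  refine Module.Finite.of_surjective ((I.toCotangent.restrictScalars k) ∘ₗ augProj I hI) ?_
  intro y
  obtain ⟨z, rfl⟩ := I.toCotangent_surjective y
  exact ⟨z, by rw [LinearMap.comp_apply, augProj_of_mem I hI z z.2]; rfl⟩

theorem field_reduced_bijective
    (h1 : ∀ f : A, Coalgebra.counit (R := k) f = 0 → f ^ p = 0)
    (I : Ideal A) (hI : ∀ a, a ∈ I ↔ Coalgebra.counit (R := k) a = 0) {n : ℕ}
    (b : Module.Basis (Fin n) k I.Cotangent) (x : Fin n → A) (hx : ∀ i, x i ∈ I)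
    (hxb : ∀ i, I.toCotangent ⟨x i, hx i⟩ = b i) :
    Function.Bijective ((aeval x : MvPolynomial (Fin n) k →ₐ[k] A).toLinearMap ∘ₗ
      (restrictDegree (Fin n) k (p - 1)).subtype) := by
  have hp : 0 < p := (Fact.out : p.Prime).pos
  have hnoeth : IsNoetherianRing A := isNoetherian_of_tower k (inferInstance : IsNoetherian k A)
  have hfg : I.FG := IsNoetherian.noetherian I
  have hnil : I ≤ nilradical A := by
    intro a ha
    rw [mem_nilradical]
    exact ⟨p, h1 a ((hI a).1 ha)⟩
  obtain ⟨N, hN⟩ := (Ideal.FG.isNilpotent_iff_le_nilradical hfg).2 hnil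
  rw [Ideal.zero_eq_bot] at hN
  obtain ⟨hspan, hinj⟩ := hopf_field_main p I hI hfg N hN b x hx hxb
  have hJ : Ideal.span ((fun a : A => a ^ p) '' (I : Set A)) = ⊥ := by
    rw [Ideal.span_eq_bot]
    rintro _ ⟨a, ha, rfl⟩
    exact h1 a ((hI a).1 ha)
  rw [hJ] at hinj
  constructor
  · rw [← LinearMap.ker_eq_bot, LinearMap.ker_eq_bot']
    intro Q hQ
    have h2 : aeval x (Q : MvPolynomial (Fin n) k) = 0 := hQ
    have h3 : (Q : MvPolynomial (Fin n) k) = 0 := hinj Q Q.2 (by rw [h2]; exact zero_mem _)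
    exact Subtype.ext h3
  · intro a
    obtain ⟨Q, hQ, hQa⟩ := exists_reduced_aeval (Bialgebra.counitAlgHom k A) I
      (fun a => by rw [hI]; rfl) x hspan N hN ⊥ p hp
      (fun i => by rw [Ideal.mem_bot]; exact h1 _ ((hI _).1 (hx i))) a
    rw [Ideal.mem_bot, sub_eq_zero] at hQa
    exact ⟨⟨Q, hQ⟩, hQa.symm⟩

end FieldBij

theorem basisRestrictSupport_coe {R : Type*} [CommRing R] {n : ℕ} (S : Set (Fin n →₀ ℕ)) (d : S) :
    ((basisRestrictSupport R S d : restrictSupport R S) : MvPolynomial (Fin n) R) = monomial d.1 1 := by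
  have h := (basisRestrictSupport R S).repr_self d
  ext m
  have h3 : ∀ (q : restrictSupport R S) (e : S), ((basisRestrictSupport R S).repr q) e = coeff e.1 q.1 := by
    intro q e
    rfl
  by_cases hm : m ∈ S
  · have h5 : coeff m ((basisRestrictSupport R S d : restrictSupport R S) : MvPolynomial (Fin n) R)
        = (Finsupp.single d (1 : R)) ⟨m, hm⟩ :=
      (h3 _ ⟨m, hm⟩).symm.trans (DFunLike.congr_fun h ⟨m, hm⟩)
    rw [h5, coeff_monomial]
    simp [Finsupp.single_apply, Subtype.ext_iff]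
  · have h4 : m ∉ ((basisRestrictSupport R S d : restrictSupport R S) : MvPolynomial (Fin n) R).support := by
      intro h5
      exact hm ((mem_restrictSupport_iff R).1 (basisRestrictSupport R S d).2 h5)
    rw [notMem_support_iff] at h4
    rw [h4, coeff_monomial, if_neg]
    intro h6; exact hm (h6 ▸ d.2)

theorem one_tmul_aeval_monomial {R k A : Type*} [CommRing R] [CommRing k] [Algebra R k] [CommRing A] [Algebra R A]
    {n : ℕ} (x : Fin n → A) (d : Fin n →₀ ℕ) :
    (1 : k) ⊗ₜ[R] (aeval x (monomial d (1 : R))) =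
      aeval (fun i => (1 : k) ⊗ₜ[R] x i) (monomial d (1 : k)) := by
  have h1 : (1 : k) ⊗ₜ[R] (aeval x (monomial d (1 : R)))
      = ((Algebra.TensorProduct.includeRight : A →ₐ[R] k ⊗[R] A).comp (aeval x)) (monomial d (1 : R)) := rfl
  rw [h1, comp_aeval, aeval_monomial, aeval_monomial]
  simp

theorem repr_symm_toLinearMap_single {ι R M : Type*} [CommRing R] [AddCommGroup M] [Module R M]
    (b : Module.Basis ι R M) (i : ι) : (b.repr.symm.toLinearMap) (Finsupp.single i 1) = b i := by
  simp


/-- basis of reduced polynomials -/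
noncomputable def reducedBasis (R : Type*) [CommRing R] (p n : ℕ) :
    Module.Basis {d : Fin n →₀ ℕ | ∀ i, d i ≤ p - 1} R (restrictDegree (Fin n) R (p - 1)) :=
  basisRestrictSupport R _

theorem reducedBasis_coe (R : Type*) [CommRing R] (p n : ℕ) (d : {d : Fin n →₀ ℕ | ∀ i, d i ≤ p - 1}) :
    ((reducedBasis R p n d : restrictDegree (Fin n) R (p - 1)) : MvPolynomial (Fin n) R)
      = monomial d.1 1 :=
  basisRestrictSupport_coe _ d

end Groth.Agent.Lib.Helper66.TruncPoly
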