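import Mathlib
import Groth.Agent.Lib.Helper66.TruncPoly
import Groth.Agent.Lib.Helper66.SubBialg

/-!
# Frobenius subalgebra of a finite infinitesimal bialgebra: freeness and order (helper66)
-/

set_option autoImplicit false
open TensorProduct MvPolynomial

namespace Groth.Agent.Lib.Helper66.FrobSub
open Groth.Agent.Lib.Helper66.TruncPoly Groth.Agent.Lib.Helper66.SubBialg

section Exact
variable {k A : Type*} [Field k] [CommRing A] [Bialgebra k A] {n : ℕ}

theorem exists_exact_derivations (I : Ideal A)
    (hI : ∀ a, a ∈ I ↔ Coalgebra.counit (R := k) a = 0) (N : ℕ) (hN : I ^ N = ⊥)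
    (x : Fin n → A) (D : Fin n → Derivation k A A)
    (hD : ∀ i j, Coalgebra.counit (R := k) (D i (x j)) = if i = j then 1 else 0) :
    ∃ D' : Fin n → Derivation k A A, ∀ i j, D' i (x j) = if i = j then 1 else 0 := by
  classical
  let M : Matrix (Fin n) (Fin n) A := Matrix.of fun i j => D i (x j)
  have h1 : (Bialgebra.counitAlgHom k A) M.det = 1 := by
    rw [AlgHom.map_det]
    have : (Bialgebra.counitAlgHom k A).mapMatrix M = 1 := by
      ext i j
      simp only [AlgHom.mapMatrix_apply, Matrix.map_apply, M, Matrix.of_apply, Matrix.one_apply]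
      exact hD i j
    rw [this, Matrix.det_one]
  have h2 : M.det - 1 ∈ I := by
    rw [hI]
    have : Coalgebra.counit (R := k) M.det = 1 := h1
    rw [map_sub, this, Bialgebra.counit_one, sub_self]
  have h3 : IsNilpotent (M.det - 1) := by
    refine ⟨N, ?_⟩
    have := Ideal.pow_mem_pow h2 N
    rwa [hN, Ideal.mem_bot] at this
  have h4 : IsUnit M.det := by
    have := h3.isUnit_add_one
    simpa using this
  refine ⟨fun i => ∑ l, (M⁻¹ i l) • D l, fun i j => ?_⟩
  have h5 : (∑ l, (M⁻¹ i l) • D l) (x j) = ∑ l, M⁻¹ i l * M l j := by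
    have h6 : ∀ (s : Finset (Fin n)), (∑ l ∈ s, (M⁻¹ i l) • D l) (x j) = ∑ l ∈ s, M⁻¹ i l * M l j := by
      intro s
      induction s using Finset.induction_on with
      | empty => simp
      | insert a s ha ih =>
        rw [Finset.sum_insert ha, Finset.sum_insert ha, Derivation.add_apply, ih,
          Derivation.smul_apply]
        rfl
    exact h6 _
  rw [h5, ← Matrix.mul_apply, Matrix.nonsing_inv_mul M h4, Matrix.one_apply]

end Exact

section Frob
variable (k A : Type*) [Field k] [CommRing A] [Bialgebra k A] (p : ℕ) [Fact p.Prime] [CharP k p]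

/-- the subalgebra generated by `p`-th powers -/
def frobSub : Subalgebra k A := Algebra.adjoin k (Set.range fun a : A => a ^ p)

variable {k A}

theorem pow_mem_frobSub (a : A) : a ^ p ∈ frobSub k A p :=
  Algebra.subset_adjoin ⟨a, rfl⟩

theorem nontrivial_tensor : Nontrivial (A ⊗[k] A) := by
  let f : A ⊗[k] A →ₐ[k] k := (Algebra.TensorProduct.lid k k).toAlgHom.comp
    (Algebra.TensorProduct.map (Bialgebra.counitAlgHom k A) (Bialgebra.counitAlgHom k A))
  exact f.toRingHom.domain_nontrivial

include p in
theorem charP_tensor : CharP (A ⊗[k] A) p := by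
  haveI := nontrivial_tensor (k := k) (A := A)
  exact charP_of_injective_algebraMap (algebraMap k (A ⊗[k] A)).injective p

theorem frobSub_stable :
    ∀ b ∈ frobSub k A p, Coalgebra.comul (R := k) b ∈ (jmap (frobSub k A p)).range := by
  haveI := charP_tensor (k := k) (A := A) p
  have h1 : frobSub k A p ≤ ((jmap (frobSub k A p)).range).comap (Bialgebra.comulAlgHom k A) := by
    unfold frobSub
    rw [Algebra.adjoin_le_iff]
    rintro _ ⟨a, rfl⟩
    show Coalgebra.comul (R := k) (a ^ p) ∈ (jmap (Algebra.adjoin k (Set.range fun a : A => a ^ p))).range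
    have h2 : Coalgebra.comul (R := k) (a ^ p) = (Coalgebra.comul (R := k) a) ^ p :=
      map_pow (Bialgebra.comulAlgHom k A) a p
    rw [h2]
    have h3 : ∀ t : A ⊗[k] A, t ^ p ∈ (jmap (Algebra.adjoin k (Set.range fun a : A => a ^ p))).range := by
      intro t
      induction t using TensorProduct.induction_on with
      | zero =>
        rw [zero_pow (Fact.out : p.Prime).ne_zero]; exact Subalgebra.zero_mem _
      | tmul x y =>
        rw [Algebra.TensorProduct.tmul_pow]
        exact ⟨⟨x ^ p, Algebra.subset_adjoin ⟨x, rfl⟩⟩ ⊗ₜ ⟨y ^ p, Algebra.subset_adjoin ⟨y, rfl⟩⟩, rfl⟩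
      | add x y hx hy =>
        rw [add_pow_char]
        exact Subalgebra.add_mem _ hx hy
    exact h3 _
  exact fun b hb => h1 hb

theorem derivation_frobSub (D : Derivation k A A) : ∀ b ∈ frobSub k A p, D b = 0 := by
  intro b hb
  unfold frobSub at hb
  induction hb using Algebra.adjoin_induction with
  | mem y hy =>
    obtain ⟨a, rfl⟩ := hy
    exact derivation_pow_p p D a
  | algebraMap r => exact D.map_algebraMap r
  | add y z _ _ hy hz => rw [map_add, hy, hz, add_zero]
  | mul y z _ _ hy hz => rw [D.leibniz, hy, hz, smul_zero, smul_zero, add_zero]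

end Frob


section ExactIndep
variable {R A : Type*} [CommRing R] [CommRing A] [Algebra R A] {n : ℕ}

theorem eq_zero_of_pderiv_eq_zero (p : ℕ) (hunit : ∀ m : ℕ, 0 < m → m < p → IsUnit (m : R))
    (hinj : Function.Injective (algebraMap R A)) (x : Fin n → A)
    (P : MvPolynomial (Fin n) R) (hP : P ∈ restrictDegree (Fin n) R (p - 1))
    (h : aeval x P = 0) (hd : ∀ i, pderiv i P = 0) : P = 0 := by
  have h1 : ∀ d ∈ P.support, d = 0 := by
    intro d hd'
    by_contra hne
    have h3 : ∃ i, d i ≠ 0 := by
      by_contra hno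
      push Not at hno
      exact hne (Finsupp.ext hno)
    obtain ⟨i, hi⟩ := h3
    have h5 : (d - Finsupp.single i 1) + Finsupp.single i 1 = d := by
      ext j
      by_cases hj : j = i
      · subst hj; simp; omega
      · simp [Finsupp.single_apply, Ne.symm hj]
    have h6 : coeff (d - Finsupp.single i 1) (pderiv i P) = 0 := by rw [hd i]; simp
    rw [coeff_pderiv, h5] at h6
    have h7 : ((((d - Finsupp.single i 1 : Fin n →₀ ℕ) i : ℕ)) : R) + 1 = ((d i : ℕ) : R) := by
      have : (d - Finsupp.single i 1 : Fin n →₀ ℕ) i + 1 = d i := by simp; omega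
      rw [← this]; push_cast; ring
    rw [h7] at h6
    have h9 := (mem_restrictDegree _ _ _).1 hP d hd' i
    have h10 : IsUnit ((d i : ℕ) : R) := hunit _ (Nat.pos_of_ne_zero hi) (by omega)
    have h11 : coeff d P = 0 := by
      have := h10.mul_left_eq_zero.1 h6
      exact this
    exact (mem_support_iff.1 hd') h11
  have h2 : P = C (coeff 0 P) := by
    ext d
    rw [coeff_C]
    by_cases hd0 : 0 = d
    · rw [if_pos hd0, hd0]
    · rw [if_neg hd0]
      by_contra hne
      exact hd0 (h1 d (mem_support_iff.2 hne)).symm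
  rw [h2, aeval_C] at h
  have h3 : coeff 0 P = 0 := hinj (by rw [h, map_zero])
  rw [h2, h3, map_zero]

theorem eq_zero_of_exact_derivations (p : ℕ) (hunit : ∀ m : ℕ, 0 < m → m < p → IsUnit (m : R))
    (hinj : Function.Injective (algebraMap R A)) (x : Fin n → A)
    (E : Fin n → Derivation R A A) (hE : ∀ i j, E i (x j) = if i = j then 1 else 0)
    (P : MvPolynomial (Fin n) R) (hP : P ∈ restrictDegree (Fin n) R (p - 1))
    (h : aeval x P = 0) : P = 0 := by
  have key : ∀ m : ℕ, ∀ P : MvPolynomial (Fin n) R, P ∈ restrictDegree (Fin n) R (p - 1) →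
      aeval x P = 0 → (∀ d ∈ P.support, deg d < m) → P = 0 := by
    intro m
    induction m with
    | zero =>
      intro P _ _ hdeg
      by_contra hne
      obtain ⟨d, hd⟩ := (MvPolynomial.support_nonempty (p := P)).2 hne
      exact absurd (hdeg d hd) (Nat.not_lt_zero _)
    | succ m ih =>
      intro P hP h hdeg
      refine eq_zero_of_pderiv_eq_zero p hunit hinj x P hP h fun i => ?_
      refine ih (pderiv i P) (pderiv_mem_restrictDegree P _ hP) ?_ ?_
      · have := chain_rule x (E i) P
        rw [h, map_zero] at this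
        rw [this]
        rw [Finset.sum_eq_single i]
        · rw [hE, if_pos rfl, mul_one]
        · intro j _ hj; rw [hE, if_neg (Ne.symm hj), mul_zero]
        · simp
      · intro d hd
        have := hdeg _ (support_pderiv_sub P d hd)
        rw [deg_add_single] at this
        omega
  exact key (P.support.sup deg + 1) P hP h fun d hd => Nat.lt_succ_of_le (Finset.le_sup hd)

end ExactIndep


section FreeOverFrob
variable {k A : Type*} [Field k] [CommRing A] [Bialgebra k A] [Module.Finite k A]
  (p : ℕ) [Fact p.Prime] [CharP k p]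

/-- a `k`-derivation killing the subalgebra `B` is `B`-linear -/
noncomputable def derivationOver (B : Type*) [CommRing B] [Algebra B A] (D : Derivation k A A)
    (hD : ∀ b : B, D (algebraMap B A b) = 0) : Derivation B A A :=
  Derivation.mk'
    ({ toFun := fun a => D a
       map_add' := fun a a' => map_add D a a'
       map_smul' := fun b a => by
         show D (b • a) = b • D a
         rw [Algebra.smul_def, D.leibniz, hD b, smul_zero, add_zero, smul_eq_mul,
           ← Algebra.smul_def] } : A →ₗ[B] A)
    (fun a a' => D.leibniz a a')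

theorem derivationOver_apply (B : Type*) [CommRing B] [Algebra B A] (D : Derivation k A A)
    (hD : ∀ b : B, D (algebraMap B A b) = 0) (a : A) : derivationOver B D hD a = D a := rfl

theorem finrank_eq_pow_mul_of_sub (B : Type*) [CommRing B] [Algebra k B] [Algebra B A]
    [IsScalarTower k B A] (hinj : Function.Injective (algebraMap B A))
    (hBp : ∀ a : A, ∃ c : B, algebraMap B A c = a ^ p)
    (hBD : ∀ (D : Derivation k A A), ∀ b : B, D (algebraMap B A b) = 0) (I : Ideal A)
    (hI : ∀ a, a ∈ I ↔ Coalgebra.counit (R := k) a = 0) (N : ℕ) (hN : I ^ N = ⊥) {n : ℕ}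
    (b : Module.Basis (Fin n) k I.Cotangent) :
    Module.finrank k A = p ^ n * Module.finrank k B := by
  have hp : 0 < p := (Fact.out : p.Prime).pos
  have hnoeth : IsNoetherianRing A := isNoetherian_of_tower k (inferInstance : IsNoetherian k A)
  have hfg : I.FG := IsNoetherian.noetherian I
  have hnilI : ∀ a ∈ I, a ^ N = 0 := by
    intro a ha
    have := Ideal.pow_mem_pow ha N
    rwa [hN, Ideal.mem_bot] at this
  have hjac : I ≤ Ideal.jacobson ⊥ := by
    intro a ha
    have h1 : a ∈ nilradical A := by
      rw [mem_nilradical]; exact ⟨N, hnilI a ha⟩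
    exact (Ideal.radical_le_jacobson (I := (⊥ : Ideal A))) h1
  choose y hy using fun i => I.toCotangent_surjective (b i)
  set x : Fin n → A := fun i => (y i : A) with hxdef
  have hx : ∀ i, x i ∈ I := fun i => (y i).2
  have hxb : ∀ i, I.toCotangent ⟨x i, hx i⟩ = b i := fun i => hy i
  have hspan := span_eq_of_basis I hfg hjac b x hx hxb
  obtain ⟨D, hD⟩ := exists_derivations I hI b x hx hxb
  obtain ⟨D', hD'⟩ := exists_exact_derivations I hI N hN x D hD
  let E : Fin n → Derivation B A A := fun i =>
    derivationOver B (D' i) (hBD (D' i))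
  have hE : ∀ i j, E i (x j) = if i = j then 1 else 0 := fun i j => hD' i j
  have hunit : ∀ m : ℕ, 0 < m → m < p → IsUnit (m : B) := by
    intro m hm0 hmp
    have h1 : (m : k) ≠ 0 := by
      intro h
      rw [CharP.cast_eq_zero_iff k p] at h
      exact absurd (Nat.le_of_dvd hm0 h) (by omega)
    have h2 : (m : B) = algebraMap k B (m : k) := by simp
    rw [h2]
    exact (IsUnit.mk0 _ h1).map (algebraMap k B)
  -- the comparison map
  let f : restrictDegree (Fin n) B (p - 1) →ₗ[B] A :=
    (aeval x : MvPolynomial (Fin n) B →ₐ[B] A).toLinearMap ∘ₗ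
      (restrictDegree (Fin n) B (p - 1)).subtype
  have hfinj : Function.Injective f := by
    refine (injective_iff_map_eq_zero f).2 ?_
    intro Q hQ
    have h2 : aeval x (Q : MvPolynomial (Fin n) B) = 0 := hQ
    exact Subtype.ext (eq_zero_of_exact_derivations p hunit hinj x E hE Q Q.2 h2)
  have hfsurj : Function.Surjective f := by
    rw [← LinearMap.range_eq_top, eq_top_iff]
    haveI : Module.Finite B A := Module.Finite.of_restrictScalars_finite k B A
    let IB : Ideal B := RingHom.ker ((Bialgebra.counitAlgHom k A).toRingHom.comp (algebraMap B A))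
    have hIBjac : IB ≤ Ideal.jacobson ⊥ := by
      intro c hc
      have h1 : c ∈ nilradical B := by
        rw [mem_nilradical]
        refine ⟨N, ?_⟩
        apply hinj
        have hcI : algebraMap B A c ∈ I := by rw [hI]; exact hc
        rw [map_pow, map_zero]
        exact hnilI _ hcI
      exact (Ideal.radical_le_jacobson (I := (⊥ : Ideal B))) h1
    refine Submodule.le_of_le_smul_of_le_jacobson_bot (Module.Finite.fg_top) hIBjac ?_
    intro a _
    obtain ⟨Q, hQ, hQa⟩ := exists_reduced_aeval (Bialgebra.counitAlgHom k A) I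
      (fun a => by rw [hI]; rfl) x hspan N hN
      (Ideal.span ((fun a : A => a ^ p) '' (I : Set A))) p hp
      (fun i => Ideal.subset_span ⟨_, hx i, rfl⟩) a
    have h1 : a = aeval x Q + (a - aeval x Q) := by ring
    rw [h1]
    refine Submodule.add_mem_sup ?_ ?_
    · refine ⟨⟨MvPolynomial.map (algebraMap k B) Q, ?_⟩, ?_⟩
      · rw [mem_restrictDegree] at hQ ⊢
        intro s hs i
        exact hQ s (MvPolynomial.support_map_subset _ _ hs) i
      · show aeval x (MvPolynomial.map (algebraMap k B) Q) = aeval x Q
        exact aeval_map_algebraMap (A := B) x Q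
    · rw [Ideal.smul_top_eq_map]
      show a - aeval x Q ∈ IB.map (algebraMap B A)
      have h2 : Ideal.span ((fun a : A => a ^ p) '' (I : Set A)) ≤ IB.map (algebraMap B A) := by
        rw [Ideal.span_le]
        rintro _ ⟨c, hc, rfl⟩
        obtain ⟨c', hc'⟩ := hBp c
        have h3 : c' ∈ IB := by
          show (Bialgebra.counitAlgHom k A) (algebraMap B A c') = 0
          have h4 : (Bialgebra.counitAlgHom k A) c = 0 := (hI c).1 hc
          rw [hc', map_pow, h4, zero_pow (Fact.out : p.Prime).ne_zero]
        simp only []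
        rw [← hc']
        exact Ideal.mem_map_of_mem (algebraMap B A) h3
      exact h2 hQa
  let e : restrictDegree (Fin n) B (p - 1) ≃ₗ[B] A := LinearEquiv.ofBijective f ⟨hfinj, hfsurj⟩
  haveI : Module.Free B A := Module.Free.of_equiv' (Module.Free.of_basis (reducedBasis B p n)) e
  have hBnt : Nontrivial B := by
    have : Nontrivial A := by
      refine ⟨⟨1, 0, fun h => ?_⟩⟩
      have := congrArg (Coalgebra.counit (R := k)) h
      rw [Bialgebra.counit_one, map_zero] at this
      exact one_ne_zero this
    exact (algebraMap B A).domain_nontrivial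
  have h4 : Module.finrank B A = p ^ n := by
    rw [← e.finrank_eq]
    have := Module.finrank_eq_nat_card_basis (reducedBasis B p n)
    rw [card_reduced hp] at this
    exact this
  rw [← Module.finrank_mul_finrank k B A, h4, mul_comm]

theorem finrank_eq_pow_mul_frobSub (I : Ideal A)
    (hI : ∀ a, a ∈ I ↔ Coalgebra.counit (R := k) a = 0) (N : ℕ) (hN : I ^ N = ⊥) {n : ℕ}
    (b : Module.Basis (Fin n) k I.Cotangent) :
    Module.finrank k A = p ^ n * Module.finrank k (frobSub k A p) :=
  finrank_eq_pow_mul_of_sub p (frobSub k A p) Subtype.val_injective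
    (fun a => ⟨⟨a ^ p, pow_mem_frobSub p a⟩, rfl⟩)
    (fun D c => derivation_frobSub p D _ c.2) I hI N hN b

end FreeOverFrob


section Order
universe u v
variable {k : Type u} [Field k]

theorem finrank_eq_one_of_cotangent_trivial {A : Type v} [CommRing A] [Bialgebra k A]
    [Module.Finite k A] (I : Ideal A) (hI : ∀ a, a ∈ I ↔ Coalgebra.counit (R := k) a = 0)
    (N : ℕ) (hN : I ^ N = ⊥) (h0 : Module.finrank k I.Cotangent = 0) :
    Module.finrank k A = 1 := by
  haveI := finite_cotangent I hI
  have h1 : Subsingleton I.Cotangent := Module.finrank_zero_iff.1 h0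
  have h2 : IsIdempotentElem I := (Ideal.cotangent_subsingleton_iff I).1 h1
  have hnt : Nontrivial A := by
    refine ⟨⟨1, 0, fun h => ?_⟩⟩
    have := congrArg (Coalgebra.counit (R := k)) h
    rw [Bialgebra.counit_one, map_zero] at this
    exact one_ne_zero this
  have h3 : I = ⊥ := by
    rcases Nat.eq_zero_or_pos N with hN0 | hN0
    · rw [hN0, pow_zero] at hN
      exact absurd hN (by simp)
    · have : I ^ N = I := h2.pow_eq (Nat.pos_iff_ne_zero.1 hN0)
      rw [← this, hN]
  have hinj : Function.Injective (Bialgebra.counitAlgHom k A).toLinearMap := by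
    rw [← LinearMap.ker_eq_bot, LinearMap.ker_eq_bot']
    intro a ha
    have : a ∈ I := (hI a).2 ha
    rwa [h3, Ideal.mem_bot] at this
  have hsurj : Function.Surjective (Bialgebra.counitAlgHom k A).toLinearMap := by
    intro c
    exact ⟨algebraMap k A c, by simp⟩
  have e := LinearEquiv.ofBijective (Bialgebra.counitAlgHom k A).toLinearMap ⟨hinj, hsurj⟩
  rw [e.finrank_eq, Module.finrank_self]

theorem exists_finrank_eq_pow (p : ℕ) [Fact p.Prime] [CharP k p] :
    ∀ (m : ℕ) (A : Type v) [CommRing A] [Bialgebra k A] [Module.Finite k A],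
      (∃ N : ℕ, (RingHom.ker (Bialgebra.counitAlgHom k A)) ^ N = ⊥) →
      Module.finrank k A = m → ∃ n : ℕ, m = p ^ n := by
  intro m
  induction m using Nat.strong_induction_on with
  | _ m ih =>
    intro A _ _ _ hnil hm
    obtain ⟨N, hN⟩ := hnil
    set I : Ideal A := RingHom.ker (Bialgebra.counitAlgHom k A) with hIdef
    have hI : ∀ a, a ∈ I ↔ Coalgebra.counit (R := k) a = 0 := fun a => by
      rw [hIdef, RingHom.mem_ker]; rfl
    haveI := finite_cotangent I hI
    by_cases h0 : Module.finrank k I.Cotangent = 0
    · refine ⟨0, ?_⟩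
      rw [← hm, finrank_eq_one_of_cotangent_trivial I hI N hN h0, pow_zero]
    · have h1 := finrank_eq_pow_mul_frobSub p I hI N hN (Module.finBasis k I.Cotangent)
      letI : Bialgebra k (frobSub k A p) := bialgebraOfSub (frobSub k A p) (frobSub_stable p)
      have hnt : Nontrivial A := by
        refine ⟨⟨1, 0, fun h => ?_⟩⟩
        have := congrArg (Coalgebra.counit (R := k)) h
        rw [Bialgebra.counit_one, map_zero] at this
        exact one_ne_zero this
      have hBpos : 0 < Module.finrank k (frobSub k A p) := Module.finrank_pos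
      have hp2 : 2 ≤ p := (Fact.out : p.Prime).two_le
      have hlt : Module.finrank k (frobSub k A p) < m := by
        rw [← hm, h1]
        have h2 : 2 ≤ p ^ Module.finrank k I.Cotangent := by
          calc 2 ≤ p := hp2
            _ = p ^ 1 := (pow_one p).symm
            _ ≤ p ^ Module.finrank k I.Cotangent :=
              Nat.pow_le_pow_right (by omega) (Nat.pos_of_ne_zero h0)
        nlinarith
      have hNB : (RingHom.ker (Bialgebra.counitAlgHom k (frobSub k A p))) ^ N = ⊥ := by
        rw [eq_bot_iff]
        intro c hc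
        have h3 : (RingHom.ker (Bialgebra.counitAlgHom k (frobSub k A p))).map
            (algebraMap (frobSub k A p) A) ≤ I := by
          rw [Ideal.map_le_iff_le_comap]
          intro c hc
          show (c : A) ∈ I
          rw [hI]
          exact hc
        have h4 : algebraMap (frobSub k A p) A c ∈ I ^ N := by
          have := Ideal.mem_map_of_mem (algebraMap (frobSub k A p) A) hc
          rw [Ideal.map_pow] at this
          exact Ideal.pow_right_mono h3 N this
        rw [hN, Ideal.mem_bot] at h4
        rw [Ideal.mem_bot]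
        exact Subtype.ext h4
      obtain ⟨n', hn'⟩ := ih _ hlt (frobSub k A p) ⟨N, hNB⟩ rfl
      exact ⟨Module.finrank k I.Cotangent + n', by rw [← hm, h1, hn', pow_add]⟩

theorem finrank_cotangent_eq_zero_of_charZero [CharZero k] {A : Type v} [CommRing A]
    [Bialgebra k A] [Module.Finite k A] (I : Ideal A)
    (hI : ∀ a, a ∈ I ↔ Coalgebra.counit (R := k) a = 0) (N : ℕ) (hN : I ^ N = ⊥) :
    Module.finrank k I.Cotangent = 0 := by
  haveI := finite_cotangent I hI
  by_contra h0
  let b := Module.finBasis k I.Cotangent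
  choose y hy using fun i => I.toCotangent_surjective (b i)
  obtain ⟨D, hD⟩ := exists_derivations I hI b (fun i => (y i : A)) (fun i => (y i).2) (fun i => hy i)
  let i₀ : Fin (Module.finrank k I.Cotangent) := ⟨0, Nat.pos_of_ne_zero h0⟩
  have hP : (X i₀ ^ N : MvPolynomial (Fin (Module.finrank k I.Cotangent)) k) ∈
      restrictDegree (Fin (Module.finrank k I.Cotangent)) k N := by
    rw [mem_restrictDegree, X_pow_eq_monomial]
    intro s hs j
    have := support_monomial_subset hs
    rw [Finset.mem_singleton] at this
    rw [this, Finsupp.single_apply]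
    split_ifs <;> omega
  have h1 : aeval (fun i => (y i : A)) (X i₀ ^ N : MvPolynomial (Fin (Module.finrank k I.Cotangent)) k)
      ∈ (⊥ : Ideal A) := by
    rw [map_pow, aeval_X, ← hN]
    exact Ideal.pow_mem_pow (y i₀).2 N
  have h2 := eq_zero_of_aeval_mem_gen (Bialgebra.counitAlgHom k A) (fun i => (y i : A)) ⊥ D N
    (fun m hm _ => by exact_mod_cast hm.ne') I (fun a => by rw [hI]; rfl) (fun i => (y i).2) bot_le
    (fun i a ha => by rw [Ideal.mem_bot] at ha; rw [ha, map_zero]; exact zero_mem _)
    (fun i j => by rw [← hD i j]; rfl) _ hP h1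
  exact (pow_ne_zero N (X_ne_zero i₀)) h2

end Order

end Groth.Agent.Lib.Helper66.FrobSub
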