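import Mathlib
import Groth.Prelude.Def_W4c1chowmix47Eta

set_option autoImplicit false
universe u
open EtaPt TensorProduct

namespace Groth.Agent.Lib.Helper66.EtaPt

variable (η : EtaPt.FieldEndo.{u})

theorem map_comp_apply {K L E : Type u} [Field K] [Field L] [Field E] (f : K →+* L) (g : L →+* E)
    (x : η.obj K) : η.map (g.comp f) x = η.map g (η.map f x) := by
  rw [η.map_comp]; rfl

theorem map_id_apply {K : Type u} [Field K] (x : η.obj K) : η.map (RingHom.id K) x = x := by
  rw [η.map_id]; rfl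

theorem eta_natural_apply {K L : Type u} [Field K] [Field L] (f : K →+* L) (x : K) :
    η.map f (η.eta K x) = η.eta L (f x) :=
  congrArg (fun h => h x) (congrArg DFunLike.coe (η.eta_natural f))

theorem bijective_map_ringEquiv {K L : Type u} [Field K] [Field L] (e : K ≃+* L) :
    Function.Bijective (η.map e.toRingHom) := by
  refine Function.bijective_iff_has_inverse.mpr ⟨η.map e.symm.toRingHom, fun x => ?_, fun x => ?_⟩
  · rw [← map_comp_apply]
    have : e.symm.toRingHom.comp e.toRingHom = RingHom.id K := by ext; simp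
    rw [this, map_id_apply]
  · rw [← map_comp_apply]
    have : e.toRingHom.comp e.symm.toRingHom = RingHom.id L := by ext; simp
    rw [this, map_id_apply]

theorem bijective_eta_of_ringEquiv {K L : Type u} [Field K] [Field L] (e : K ≃+* L)
    (h : Function.Bijective (η.eta K)) : Function.Bijective (η.eta L) := by
  have h1 : (η.map e.toRingHom).comp (η.eta K) = (η.eta L).comp e.toRingHom := η.eta_natural _
  have h2 : Function.Bijective ((η.eta L).comp e.toRingHom) := by
    rw [← h1]; exact (bijective_map_ringEquiv η e).comp h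
  have h3 : (η.eta L : L → η.obj L) = ((η.eta L).comp e.toRingHom) ∘ e.symm := by
    ext x; simp
  rw [h3]; exact h2.comp e.symm.bijective

theorem pow_inj_of_hom {K L : Type u} [Field K] [Field L] (f : K →+* L) (n : ℕ) {a b : L}
    (h : a ^ ringExpChar K ^ n = b ^ ringExpChar K ^ n) : a = b := by
  have : ExpChar L (ringExpChar K) := expChar_of_injective_ringHom f.injective _
  exact iterateFrobenius_inj L (ringExpChar K) n h

theorem hom_ext_of_comp_eta {K L : Type u} [Field K] [Field L] (h₁ h₂ : η.obj K →+* L)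
    (h : h₁.comp (η.eta K) = h₂.comp (η.eta K)) : h₁ = h₂ := by
  ext x
  obtain ⟨n, y, hy⟩ := η.exists_pow_mem_range_eta K x
  apply pow_inj_of_hom (h₁.comp (η.eta K)) n
  rw [← map_pow, ← map_pow, ← hy]
  exact congrArg (fun f => f y) (congrArg DFunLike.coe h)

theorem eta_obj_eq (K : Type u) [Field K] : η.eta (η.obj K) = η.map (η.eta K) :=
  hom_ext_of_comp_eta η _ _ (η.eta_natural (η.eta K)).symm

theorem bijective_eta_obj (K : Type u) [Field K] : Function.Bijective (η.eta (η.obj K)) := by
  rw [eta_obj_eq]; exact η.bijective_map_eta K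

theorem bijective_eta_of_perfect (K : Type u) [Field K] [PerfectField K] :
    Function.Bijective (η.eta K) := by
  refine ⟨(η.eta K).injective, fun x => ?_⟩
  obtain ⟨n, y, hy⟩ := η.exists_pow_mem_range_eta K x
  have : PerfectRing K (ringExpChar K) := PerfectField.toPerfectRing _
  obtain ⟨z, hz⟩ := (bijective_iterateFrobenius (R := K) (p := ringExpChar K) (n := n)).2 y
  refine ⟨z, ?_⟩
  apply pow_inj_of_hom (η.eta K) n
  rw [← map_pow, ← hy, ← hz]; rfl

theorem Nmap_apply {A B : Type u} [CommRing A] [CommRing B] (f : A →+* B) (x : η.N A)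
    (q : PrimeSpectrum B) :
    η.Nmap f x q = η.map (Ideal.ResidueField.map (PrimeSpectrum.comap f q).asIdeal q.asIdeal f rfl)
      (x (PrimeSpectrum.comap f q)) := rfl

theorem t_apply {A : Type u} [CommRing A] (a : A) (p : PrimeSpectrum A) :
    η.t A a p = η.eta p.asIdeal.ResidueField (algebraMap A p.asIdeal.ResidueField a) := rfl

theorem resmap_comp' {A B C : Type u} [CommRing A] [CommRing B] [CommRing C]
    (I : Ideal A) [I.IsPrime] (J : Ideal B) [J.IsPrime] (K : Ideal C) [K.IsPrime]
    (f : A →+* B) (g : B →+* C) (h1 : I = J.comap f) (h2 : J = K.comap g)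
    (h3 : I = K.comap (g.comp f)) :
    Ideal.ResidueField.map I K (g.comp f) h3 =
      (Ideal.ResidueField.map J K g h2).comp (Ideal.ResidueField.map I J f h1) := by
  apply Ideal.ResidueField.ringHom_ext
  ext a
  simp

theorem resmap_comp {A B C : Type u} [CommRing A] [CommRing B] [CommRing C] (f : A →+* B)
    (g : B →+* C) (r : PrimeSpectrum C) :
    Ideal.ResidueField.map (PrimeSpectrum.comap (g.comp f) r).asIdeal r.asIdeal (g.comp f) rfl =
      (Ideal.ResidueField.map (PrimeSpectrum.comap g r).asIdeal r.asIdeal g rfl).comp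
        (Ideal.ResidueField.map (PrimeSpectrum.comap f (PrimeSpectrum.comap g r)).asIdeal
          (PrimeSpectrum.comap g r).asIdeal f rfl) :=
  resmap_comp' _ _ _ f g rfl rfl rfl

theorem Nmap_comp_apply {A B C : Type u} [CommRing A] [CommRing B] [CommRing C] (f : A →+* B)
    (g : B →+* C) (x : η.N A) : η.Nmap (g.comp f) x = η.Nmap g (η.Nmap f x) := by
  funext r
  rw [Nmap_apply, Nmap_apply, Nmap_apply, ← map_comp_apply, ← resmap_comp]
  rfl

theorem Nmap_mem_M {A B : Type u} [CommRing A] [CommRing B] (f : A →+* B) {x : η.N A}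
    (hx : x ∈ η.M A) : η.Nmap f x ∈ η.M B := by
  intro R _ _ _ hR g
  rw [← Nmap_comp_apply]
  exact hx R hR (g.comp f)

theorem inV_valuationSubring {L : Type u} [Field L] (hL : Function.Bijective (η.eta L))
    (V : ValuationSubring L) : η.InV V := by
  unfold EtaPt.FieldEndo.InV
  exact bijective_eta_of_ringEquiv η (FractionRing.algEquiv V L).symm.toRingEquiv hL

theorem exists_of_mem_M {A : Type u} [CommRing A] {x : η.N A} (hx : x ∈ η.M A)
    (R : Type u) [CommRing R] [IsDomain R] [ValuationRing R] (hR : η.InV R) (g : A →+* R) :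
    ∃ r : R, ∀ 𝔯 : PrimeSpectrum R,
      η.eta 𝔯.asIdeal.ResidueField (algebraMap R 𝔯.asIdeal.ResidueField r) =
        η.map (Ideal.ResidueField.map (PrimeSpectrum.comap g 𝔯).asIdeal 𝔯.asIdeal g rfl)
          (x (PrimeSpectrum.comap g 𝔯)) := by
  obtain ⟨r, hr⟩ := hx R hR g
  exact ⟨r, fun 𝔯 => congrFun hr 𝔯⟩

/-- the canonical map from the residue field at `⊥` of a valuation subring to the field -/
noncomputable def botLift {L : Type u} [Field L] (V : ValuationSubring L) :
    (⊥ : Ideal V).ResidueField →+* L :=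
  Ideal.ResidueField.lift ⊥ V.subtype bot_le (by
    intro v hv
    simp only [Submonoid.mem_comap, IsUnit.mem_submonoid_iff, isUnit_iff_ne_zero]
    intro h
    apply hv
    have : v = 0 := Subtype.ext h
    simp [this])

theorem botLift_algebraMap {L : Type u} [Field L] (V : ValuationSubring L) (r : V) :
    botLift V (algebraMap V _ r) = (r : L) := by
  unfold botLift
  rw [Ideal.ResidueField.lift_algebraMap]; rfl

theorem generic_component {A : Type u} [CommRing A] {x : η.N A} (hx : x ∈ η.M A)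
    {L : Type u} [Field L] (hL : Function.Bijective (η.eta L)) (V : ValuationSubring L)
    (g : A →+* V) (p : PrimeSpectrum A)
    (hp : p = PrimeSpectrum.comap g ⟨⊥, Ideal.isPrime_bot⟩)
    (ψ : p.asIdeal.ResidueField →+* L) (hψ : ∀ a, ψ (algebraMap A _ a) = (g a : L)) :
    ∃ r : V, η.eta L r = η.map ψ (x p) ∧ ∀ 𝔯 : PrimeSpectrum V,
      η.eta 𝔯.asIdeal.ResidueField (algebraMap V 𝔯.asIdeal.ResidueField r) =
        η.map (Ideal.ResidueField.map (PrimeSpectrum.comap g 𝔯).asIdeal 𝔯.asIdeal g rfl)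
          (x (PrimeSpectrum.comap g 𝔯)) := by
  subst hp
  obtain ⟨r, hr⟩ := exists_of_mem_M η hx V (inV_valuationSubring η hL V) g
  refine ⟨r, ?_, hr⟩
  have h0 := congrArg (η.map (botLift V)) (hr ⟨⊥, Ideal.isPrime_bot⟩)
  rw [eta_natural_apply, ← map_comp_apply] at h0
  erw [botLift_algebraMap] at h0
  rw [h0]
  congr 2
  apply Ideal.ResidueField.ringHom_ext
  ext a
  rw [RingHom.comp_apply, RingHom.comp_apply, RingHom.comp_apply, hψ]
  erw [Ideal.ResidueField.map_algebraMap, botLift_algebraMap]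

/-- the map `A → F(κ(p))` -/
noncomputable def phi {A : Type u} [CommRing A] (p : PrimeSpectrum A) :
    A →+* η.obj p.asIdeal.ResidueField :=
  (η.eta p.asIdeal.ResidueField).comp (algebraMap A p.asIdeal.ResidueField)

theorem phi_apply {A : Type u} [CommRing A] (p : PrimeSpectrum A) (a : A) :
    phi η p a = η.eta _ (algebraMap A p.asIdeal.ResidueField a) := rfl

theorem phi_eq_zero_iff {A : Type u} [CommRing A] (p : PrimeSpectrum A) (a : A) :
    phi η p a = 0 ↔ a ∈ p.asIdeal := by
  rw [phi_apply, map_eq_zero, Ideal.algebraMap_residueField_eq_zero]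

theorem t_eq_phi {A : Type u} [CommRing A] (p : PrimeSpectrum A) (a : A) :
    η.t A a p = phi η p a := rfl

theorem eq_zero_of_le {A : Type u} [CommRing A] {b : η.N A} (hb : b ∈ η.M A)
    (p q : PrimeSpectrum A) (hpq : p ≤ q) (h0 : b p = 0) : b q = 0 := by
  have hL := bijective_eta_obj η p.asIdeal.ResidueField
  have hunit : ∀ y : q.asIdeal.primeCompl, IsUnit (phi η p y) := fun y => by
    rw [isUnit_iff_ne_zero, ne_eq, phi_eq_zero_iff]
    exact fun h => y.2 (hpq h)
  let ψ₀ : Localization.AtPrime q.asIdeal →+* η.obj p.asIdeal.ResidueField :=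
    IsLocalization.lift (M := q.asIdeal.primeCompl) (g := phi η p) hunit
  obtain ⟨V, hV, hloc⟩ := IsLocalRing.exists_factor_valuationRing ψ₀
  let g₀ : Localization.AtPrime q.asIdeal →+* V := ψ₀.codRestrict V.toSubring hV
  let g : A →+* V := g₀.comp (algebraMap A _)
  have hg : ∀ a, ((g a : V) : η.obj p.asIdeal.ResidueField) = phi η p a := fun a => by
    change ψ₀ (algebraMap A _ a) = _
    exact IsLocalization.lift_eq _ _
  have hp : p = PrimeSpectrum.comap g ⟨⊥, Ideal.isPrime_bot⟩ := by
    ext a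
    change a ∈ p.asIdeal ↔ g a ∈ (⊥ : Ideal V)
    rw [Ideal.mem_bot, ← phi_eq_zero_iff η, ← hg]
    exact ⟨fun h => Subtype.ext h, fun h => by rw [h]; rfl⟩
  have hq : PrimeSpectrum.comap g ⟨IsLocalRing.maximalIdeal V, inferInstance⟩ = q := by
    ext a
    change g a ∈ IsLocalRing.maximalIdeal V ↔ a ∈ q.asIdeal
    rw [← IsLocalization.AtPrime.to_map_mem_maximal_iff (Localization.AtPrime q.asIdeal) q.asIdeal]
    change g₀ _ ∈ _ ↔ _
    rw [IsLocalRing.mem_maximalIdeal, IsLocalRing.mem_maximalIdeal, mem_nonunits_iff,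
      mem_nonunits_iff, not_iff_not]
    exact ⟨fun h => hloc.map_nonunit _ h, fun h => h.map g₀⟩
  obtain ⟨r, hr1, hr2⟩ := generic_component η hb hL V g p hp (η.eta _) (fun a => (hg a).symm)
  rw [h0, map_zero, map_eq_zero] at hr1
  have hr0 : r = 0 := Subtype.ext hr1
  have h2 := hr2 ⟨IsLocalRing.maximalIdeal V, inferInstance⟩
  rw [hr0, map_zero, map_zero] at h2
  have h3 := (map_eq_zero _).mp h2.symm
  rw [hq] at h3
  exact h3

theorem isIntegralElem_of_isIntegral_range {A L : Type u} [CommRing A] [CommRing L] (f : A →+* L)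
    (x : L) (h : IsIntegral f.range x) : f.IsIntegralElem x := by
  obtain ⟨P, hP, hx⟩ := h
  obtain ⟨Q, hQ1, -, hQ3⟩ := Polynomial.lifts_and_natDegree_eq_and_monic
    (Polynomial.mem_lifts_of_surjective (f := f.rangeRestrict) f.rangeRestrict_surjective P) hP
  refine ⟨Q, hQ3, ?_⟩
  rw [← hQ1, Polynomial.eval₂_map] at hx
  exact hx

theorem isIntegralElem_phi {A : Type u} [CommRing A] {x : η.N A} (hx : x ∈ η.M A)
    (p : PrimeSpectrum A) : (phi η p).IsIntegralElem (x p) := by
  have hL := bijective_eta_obj η p.asIdeal.ResidueField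
  apply isIntegralElem_of_isIntegral_range
  have key : x p ∈ ⨅ V : {V : ValuationSubring (η.obj p.asIdeal.ResidueField) //
      Set.range (phi η p) ⊆ V.toSubring}, V.1.toSubring := by
    rw [Subring.mem_iInf]
    rintro ⟨V, hV⟩
    let g : A →+* V := (phi η p).codRestrict V.toSubring (fun a => hV ⟨a, rfl⟩)
    have hg : ∀ a, ((g a : V) : η.obj p.asIdeal.ResidueField) = phi η p a := fun a => rfl
    have hp : p = PrimeSpectrum.comap g ⟨⊥, Ideal.isPrime_bot⟩ := by
      ext a
      change a ∈ p.asIdeal ↔ g a ∈ (⊥ : Ideal V)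
      rw [Ideal.mem_bot, ← phi_eq_zero_iff η, ← hg]
      exact ⟨fun h => Subtype.ext h, fun h => by rw [h]; rfl⟩
    obtain ⟨r, hr1, -⟩ := generic_component η hx hL V g p hp (η.eta _) (fun a => (hg a).symm)
    rw [← eta_obj_eq] at hr1
    have := hL.1 hr1
    change x p ∈ V
    rw [← this]
    exact r.2
  rw [iInf_valuationSubring_superset] at key
  have h2 : Subring.closure (Set.range (phi η p)) = (phi η p).range := by
    rw [← RingHom.coe_range, Subring.closure_eq]
  have key2 : IsIntegral (Subring.closure (Set.range (phi η p))) (x p) := key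
  rw [h2] at key2
  exact key2

/-- evaluation of an element of `M A` at a prime -/
noncomputable def evalM {A : Type u} [CommRing A] (p : PrimeSpectrum A) :
    η.M A →+* η.obj p.asIdeal.ResidueField :=
  (Pi.evalRingHom (fun p : PrimeSpectrum A => η.obj p.asIdeal.ResidueField) p).comp (η.M A).subtype

theorem evalM_apply {A : Type u} [CommRing A] (p : PrimeSpectrum A) (x : η.M A) :
    evalM η p x = (x : η.N A) p := rfl

theorem evalM_comp_q {A : Type u} [CommRing A] (p : PrimeSpectrum A) :
    (evalM η p).comp (η.q A) = phi η p := rfl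

theorem evalM_q {A : Type u} [CommRing A] (p : PrimeSpectrum A) (a : A) :
    evalM η p (η.q A a) = phi η p a := rfl

theorem coe_q {A : Type u} [CommRing A] (a : A) : ((η.q A a : η.M A) : η.N A) = η.t A a := rfl

theorem evalM_eval₂ {A : Type u} [CommRing A] (p : PrimeSpectrum A) (x : η.M A)
    (P : Polynomial A) :
    evalM η p (Polynomial.eval₂ (η.q A) x P) = Polynomial.eval₂ (phi η p) ((x : η.N A) p) P := by
  rw [Polynomial.hom_eval₂, evalM_comp_q, evalM_apply]

theorem M_ext {A : Type u} [CommRing A] {x y : η.M A} (h : ∀ p, evalM η p x = evalM η p y) :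
    x = y := Subtype.ext (funext h)

theorem evalM_eq_zero_of_le {A : Type u} [CommRing A] (b : η.M A)
    (p q : PrimeSpectrum A) (hpq : p ≤ q) (h0 : evalM η p b = 0) : evalM η q b = 0 :=
  eq_zero_of_le η b.2 p q hpq h0

theorem isIntegral_q {A : Type u} [CommRing A] (hA : (minimalPrimes A).Finite) :
    (η.q A).IsIntegral := by
  intro x
  have h1 : ∀ I : Ideal A, I ∈ minimalPrimes A → ∃ P : Polynomial A, P.Monic ∧
      ∀ hI : I.IsPrime, Polynomial.eval₂ (phi η ⟨I, hI⟩) ((x : η.N A) ⟨I, hI⟩) P = 0 := by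
    intro I hI
    obtain ⟨P, hP1, hP2⟩ := isIntegralElem_phi η x.2 ⟨I, hI.1.1⟩
    exact ⟨P, hP1, fun _ => hP2⟩
  choose! P hP1 hP2 using h1
  refine ⟨∏ I ∈ hA.toFinset, P I, Polynomial.monic_prod_of_monic _ _
    (fun I hI => hP1 I (hA.mem_toFinset.mp hI)), ?_⟩
  apply M_ext
  intro 𝔮
  rw [evalM_eval₂, map_zero, Polynomial.eval₂_finsetProd]
  obtain ⟨I, hI, hIq⟩ := Ideal.exists_minimalPrimes_le (J := 𝔮.asIdeal) bot_le
  have hI' : I ∈ minimalPrimes A := hI
  apply Finset.prod_eq_zero (hA.mem_toFinset.mpr hI')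
  have := evalM_eq_zero_of_le η (Polynomial.eval₂ (η.q A) x (P I)) ⟨I, hI.1.1⟩ 𝔮 hIq
    (by rw [evalM_eval₂]; exact hP2 I hI' _)
  rwa [evalM_eval₂] at this

theorem exists_valuationSubring_local {B : Type u} [CommRing B] {L : Type u} [Field L]
    (ψ : B →+* L) (Q : PrimeSpectrum B) (hker : RingHom.ker ψ ≤ Q.asIdeal) :
    ∃ (V : ValuationSubring L) (h : B →+* V), (∀ b, ((h b : V) : L) = ψ b) ∧
      PrimeSpectrum.comap h ⟨IsLocalRing.maximalIdeal V, inferInstance⟩ = Q := by
  have hunit : ∀ y : Q.asIdeal.primeCompl, IsUnit (ψ y) := fun y => by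
    rw [isUnit_iff_ne_zero]
    exact fun h => y.2 (hker h)
  let ψ₀ : Localization.AtPrime Q.asIdeal →+* L :=
    IsLocalization.lift (M := Q.asIdeal.primeCompl) (g := ψ) hunit
  obtain ⟨V, hV, hloc⟩ := IsLocalRing.exists_factor_valuationRing ψ₀
  let g₀ : Localization.AtPrime Q.asIdeal →+* V := ψ₀.codRestrict V.toSubring hV
  let g : B →+* V := g₀.comp (algebraMap B _)
  refine ⟨V, g, fun b => ?_, ?_⟩
  · change ψ₀ (algebraMap B _ b) = _
    exact IsLocalization.lift_eq _ _
  · ext a
    change g a ∈ IsLocalRing.maximalIdeal V ↔ a ∈ Q.asIdeal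
    rw [← IsLocalization.AtPrime.to_map_mem_maximal_iff (Localization.AtPrime Q.asIdeal) Q.asIdeal]
    change g₀ _ ∈ _ ↔ _
    rw [IsLocalRing.mem_maximalIdeal, IsLocalRing.mem_maximalIdeal, mem_nonunits_iff,
      mem_nonunits_iff, not_iff_not]
    exact ⟨fun h => hloc.map_nonunit _ h, fun h => h.map g₀⟩

theorem eq_comap_bot {B : Type u} [CommRing B] {L : Type u} [Field L]
    (ψ : B →+* L) {V : ValuationSubring L} (h : B →+* V) (hh : ∀ b, ((h b : V) : L) = ψ b)
    (p : PrimeSpectrum B) (hp : p.asIdeal = RingHom.ker ψ) :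
    p = PrimeSpectrum.comap h ⟨⊥, Ideal.isPrime_bot⟩ := by
  ext a
  change a ∈ p.asIdeal ↔ h a ∈ (⊥ : Ideal V)
  rw [Ideal.mem_bot, hp, RingHom.mem_ker, ← hh]
  exact ⟨fun h => Subtype.ext h, fun h => by rw [h]; rfl⟩

theorem ker_phi {A : Type u} [CommRing A] (p : PrimeSpectrum A) :
    RingHom.ker (phi η p) = p.asIdeal := by
  ext a; rw [RingHom.mem_ker, phi_eq_zero_iff]

theorem exists_minimal_ker_evalM_le {A : Type u} [CommRing A] (hA : (minimalPrimes A).Finite)
    (Q : PrimeSpectrum (η.M A)) :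
    ∃ p : PrimeSpectrum A, RingHom.ker (evalM η p) ≤ Q.asIdeal := by
  classical
  let J : Ideal A → Ideal (η.M A) := fun I =>
    if h : I.IsPrime then RingHom.ker (evalM η ⟨I, h⟩) else ⊤
  have h1 : hA.toFinset.inf J ≤ Q.asIdeal := by
    intro x hx
    have hx0 : x = 0 := by
      apply M_ext
      intro 𝔮
      obtain ⟨I, hI, hIq⟩ := Ideal.exists_minimalPrimes_le (J := 𝔮.asIdeal) bot_le
      have hI' : I ∈ minimalPrimes A := hI
      rw [map_zero]
      apply evalM_eq_zero_of_le η x ⟨I, hI.1.1⟩ 𝔮 hIq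
      have := (Finset.inf_le (f := J) (hA.mem_toFinset.mpr hI')) hx
      simp only [J, dif_pos hI.1.1] at this
      exact this
    rw [hx0]; exact zero_mem _
  obtain ⟨I, hI, hIQ⟩ := (Ideal.IsPrime.inf_le' Q.2).mp h1
  have hIp : I.IsPrime := (hA.mem_toFinset.mp hI).1.1
  refine ⟨⟨I, hIp⟩, ?_⟩
  simp only [J, dif_pos hIp] at hIQ
  exact hIQ

theorem mem_prime_iff {A : Type u} [CommRing A] (hA : (minimalPrimes A).Finite)
    (Q : PrimeSpectrum (η.M A)) (x : η.M A) :
    x ∈ Q.asIdeal ↔ evalM η (PrimeSpectrum.comap (η.q A) Q) x = 0 := by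
  obtain ⟨𝔭, h𝔭⟩ := exists_minimal_ker_evalM_le η hA Q
  have hL := bijective_eta_obj η 𝔭.asIdeal.ResidueField
  obtain ⟨V, h, hh, hQ⟩ := exists_valuationSubring_local (evalM η 𝔭) Q h𝔭
  have hg : ∀ a, (((h.comp (η.q A)) a : V) : η.obj 𝔭.asIdeal.ResidueField) = phi η 𝔭 a :=
    fun a => hh _
  have hp := eq_comap_bot (phi η 𝔭) (h.comp (η.q A)) hg 𝔭 (ker_phi η 𝔭).symm
  obtain ⟨r, hr1, hr2⟩ := generic_component η x.2 hL V (h.comp (η.q A)) 𝔭 hp (η.eta _)
    (fun a => (hg a).symm)
  rw [← eta_obj_eq] at hr1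
  have hr : r = h x := Subtype.ext ((hL.1 hr1).trans (hh x).symm)
  have h2 := hr2 ⟨IsLocalRing.maximalIdeal V, inferInstance⟩
  have hcomap : PrimeSpectrum.comap (h.comp (η.q A)) ⟨IsLocalRing.maximalIdeal V, inferInstance⟩ =
      PrimeSpectrum.comap (η.q A) Q := by
    rw [← hQ]; rfl
  have step1 : x ∈ Q.asIdeal ↔ h x ∈ IsLocalRing.maximalIdeal V := by
    conv_lhs => rw [← hQ]
    rfl
  rw [step1, ← hr, ← Ideal.algebraMap_residueField_eq_zero, ← map_eq_zero (η.eta _)]
  erw [h2]
  rw [map_eq_zero, ← hcomap]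
  rfl

/-- the prime of `M A` over a prime `P` of `A` -/
noncomputable def primeOver {A : Type u} [CommRing A] (P : PrimeSpectrum A) :
    PrimeSpectrum (η.M A) :=
  ⟨RingHom.ker (evalM η P), RingHom.ker_isPrime _⟩

theorem comap_q_primeOver {A : Type u} [CommRing A] (P : PrimeSpectrum A) :
    PrimeSpectrum.comap (η.q A) (primeOver η P) = P := by
  ext a
  change η.q A a ∈ RingHom.ker (evalM η P) ↔ _
  rw [RingHom.mem_ker, evalM_q, phi_eq_zero_iff]

theorem comap_q_injective {A : Type u} [CommRing A] (hA : (minimalPrimes A).Finite) :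
    Function.Injective (PrimeSpectrum.comap (η.q A)) := by
  intro Q Q' hQQ'
  ext x
  rw [mem_prime_iff η hA, mem_prime_iff η hA, hQQ']

theorem comap_q_bijective {A : Type u} [CommRing A] (hA : (minimalPrimes A).Finite) :
    Function.Bijective (PrimeSpectrum.comap (η.q A)) :=
  ⟨comap_q_injective η hA, fun P => ⟨primeOver η P, comap_q_primeOver η P⟩⟩

theorem exists_residue_factor {A : Type u} [CommRing A] (hA : (minimalPrimes A).Finite)
    (Q : PrimeSpectrum (η.M A)) :
    ∃ φ : Q.asIdeal.ResidueField →+* η.obj (PrimeSpectrum.comap (η.q A) Q).asIdeal.ResidueField,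
      φ.comp (Ideal.ResidueField.map (PrimeSpectrum.comap (η.q A) Q).asIdeal Q.asIdeal (η.q A) rfl) =
        η.eta (PrimeSpectrum.comap (η.q A) Q).asIdeal.ResidueField ∧
      ∀ x : η.M A, φ (algebraMap _ _ x) = evalM η (PrimeSpectrum.comap (η.q A) Q) x := by
  have h1 : Q.asIdeal ≤ RingHom.ker (evalM η (PrimeSpectrum.comap (η.q A) Q)) := fun x hx =>
    (mem_prime_iff η hA Q x).mp hx
  have h2 : Q.asIdeal.primeCompl ≤ (IsUnit.submonoid _).comap
      (evalM η (PrimeSpectrum.comap (η.q A) Q)) := by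
    intro y hy
    simp only [Submonoid.mem_comap, IsUnit.mem_submonoid_iff, isUnit_iff_ne_zero]
    exact fun h => hy ((mem_prime_iff η hA Q y).mpr h)
  refine ⟨Ideal.ResidueField.lift Q.asIdeal _ h1 h2, ?_, fun x => ?_⟩
  · apply Ideal.ResidueField.ringHom_ext
    ext a
    rw [RingHom.comp_apply, RingHom.comp_apply, RingHom.comp_apply]
    erw [Ideal.ResidueField.map_algebraMap, Ideal.ResidueField.lift_algebraMap]
    rfl
  · rw [Ideal.ResidueField.lift_algebraMap]

theorem pi_bijective {X Y : Type*} (σ : X → Y) (hσ : Function.Bijective σ) {B : Y → Type*}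
    {C : X → Type*} (f : ∀ x, B (σ x) → C x) (hf : ∀ x, Function.Bijective (f x)) :
    Function.Bijective (fun (y : ∀ y, B y) (x : X) => f x (y (σ x))) := by
  constructor
  · intro y y' h
    funext b
    obtain ⟨x, rfl⟩ := hσ.2 b
    exact (hf x).1 (congrFun h x)
  · intro z
    have hg : ∀ x, ∃ v, f x v = z x := fun x => (hf x).2 (z x)
    choose g hg using hg
    have hx : ∀ b, ∃ x, σ x = b := hσ.2
    choose s hs using hx
    refine ⟨fun b => (hs b) ▸ g (s b), ?_⟩
    funext x₀
    have key : ∀ x₁ (h₁ : σ x₁ = σ x₀), f x₀ (h₁ ▸ g x₁) = z x₀ := by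
      intro x₁ h₁
      obtain rfl := hσ.1 h₁
      exact hg x₁
    exact key (s (σ x₀)) (hs (σ x₀))

/-- if `φ ∘ ι = η_K` then `F(ι)` is bijective -/
theorem bijective_map_of_factor {K K' : Type u} [Field K] [Field K'] (ι : K →+* K')
    (φ : K' →+* η.obj K) (h : φ.comp ι = η.eta K) : Function.Bijective (η.map ι) := by
  have h1 : Function.Bijective ((η.map φ) ∘ (η.map ι)) := by
    have : (η.map φ) ∘ (η.map ι) = η.map (η.eta K) := by
      funext x
      rw [Function.comp_apply, ← map_comp_apply, h]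
    rw [this]; exact η.bijective_map_eta K
  have h2 : Function.Bijective (η.map φ) :=
    ⟨(η.map φ).injective, Function.Surjective.of_comp h1.2⟩
  exact (Function.Bijective.of_comp_iff' h2 _).mp h1

theorem Nmap_bijective_of {A B : Type u} [CommRing A] [CommRing B] (f : A →+* B)
    (h1 : Function.Bijective (PrimeSpectrum.comap f))
    (h2 : ∀ q : PrimeSpectrum B, Function.Bijective (η.map
      (Ideal.ResidueField.map (PrimeSpectrum.comap f q).asIdeal q.asIdeal f rfl))) :
    Function.Bijective (η.Nmap f) :=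
  pi_bijective (PrimeSpectrum.comap f) h1
    (B := fun p : PrimeSpectrum A => η.obj p.asIdeal.ResidueField)
    (C := fun q : PrimeSpectrum B => η.obj q.asIdeal.ResidueField)
    (fun q => η.map (Ideal.ResidueField.map (PrimeSpectrum.comap f q).asIdeal q.asIdeal f rfl)) h2

theorem bijective_Nmap_q {A : Type u} [CommRing A] (hA : (minimalPrimes A).Finite) :
    Function.Bijective (η.Nmap (η.q A)) := by
  apply Nmap_bijective_of η _ (comap_q_bijective η hA)
  intro Q
  obtain ⟨φ, hφ, -⟩ := exists_residue_factor η hA Q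
  exact bijective_map_of_factor η _ φ hφ

theorem comap_bijective_of_Nmap_bijective {A B : Type u} [CommRing A] [CommRing B] (f : A →+* B)
    (hN : Function.Bijective (η.Nmap f)) : Function.Bijective (PrimeSpectrum.comap f) := by
  classical
  constructor
  · intro q q' hqq'
    by_contra hne
    obtain ⟨y, hy⟩ := hN.2 (Pi.single q 1)
    have h1 := congrFun hy q'
    rw [Nmap_apply, Pi.single_eq_of_ne (Ne.symm hne), map_eq_zero] at h1
    have h2 := congrFun hy q
    rw [Nmap_apply, Pi.single_eq_same] at h2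
    have h3 : ∀ p p' : PrimeSpectrum A, p = p' → y p' = 0 → y p = 0 := by
      rintro p _ rfl h; exact h
    rw [h3 _ _ hqq' h1, map_zero] at h2
    exact zero_ne_one h2
  · intro p
    by_contra hne0
    have hne : ∀ q, PrimeSpectrum.comap f q ≠ p := fun q h => hne0 ⟨q, h⟩
    have h0 : η.Nmap f (Pi.single p 1) = η.Nmap f 0 := by
      funext q
      rw [Nmap_apply, Nmap_apply, Pi.single_eq_of_ne (hne q)]
      rfl
    have h1 := congrFun (hN.1 h0) p
    rw [Pi.single_eq_same] at h1
    exact one_ne_zero h1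

theorem bijective_map_resmap_of_Nmap_bijective {A B : Type u} [CommRing A] [CommRing B]
    (f : A →+* B) (hN : Function.Bijective (η.Nmap f)) (q : PrimeSpectrum B) :
    Function.Bijective (η.map
      (Ideal.ResidueField.map (PrimeSpectrum.comap f q).asIdeal q.asIdeal f rfl)) := by
  classical
  refine ⟨RingHom.injective _, fun w => ?_⟩
  obtain ⟨y, hy⟩ := hN.2 (Pi.single q w)
  have h2 := congrFun hy q
  rw [Nmap_apply, Pi.single_eq_same] at h2
  exact ⟨_, h2⟩

/-- lifting a ring hom with integral values into a fraction field through an integrally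
closed domain -/
theorem exists_lift_of_isIntegral {B R K : Type u} [CommRing B] [CommRing R] [IsDomain R]
    [IsIntegrallyClosed R] [Field K] [Algebra R K] [IsFractionRing R K] (G : B →+* K)
    (hG : ∀ b, IsIntegral R (G b)) : ∃ g' : B →+* R, ∀ b, algebraMap R K (g' b) = G b := by
  have hinj : Function.Injective (algebraMap R K) := IsFractionRing.injective R K
  have hmem : ∀ b, G b ∈ (algebraMap R K).range := fun b =>
    IsIntegrallyClosed.isIntegral_iff.mp (hG b)
  let e : R ≃+* (algebraMap R K).range := RingEquiv.ofBijective (algebraMap R K).rangeRestrict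
    ⟨fun x y h => hinj (congrArg Subtype.val h), (algebraMap R K).rangeRestrict_surjective⟩
  refine ⟨e.symm.toRingHom.comp (G.codRestrict _ hmem), fun b => ?_⟩
  have : e (e.symm (G.codRestrict _ hmem b)) = G.codRestrict _ hmem b := e.apply_symm_apply _
  exact congrArg Subtype.val this

theorem exists_factor_valuationRing {A B : Type u} [CommRing A] [CommRing B] (f : A →+* B)
    (hf : f.IsIntegral) (hN : Function.Bijective (η.Nmap f))
    (R : Type u) [CommRing R] [IsDomain R] [ValuationRing R] (hR : η.InV R) (g : A →+* R) :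
    ∃ g' : B →+* R, g'.comp f = g := by
  have hinj : Function.Injective (algebraMap R (FractionRing R)) := IsFractionRing.injective R _
  obtain ⟨q, hq⟩ := (comap_bijective_of_Nmap_bijective η f hN).2
    (PrimeSpectrum.comap g ⟨⊥, Ideal.isPrime_bot⟩)
  have hι := bijective_map_resmap_of_Nmap_bijective η f hN q
  have hmem : ∀ a, a ∈ (PrimeSpectrum.comap f q).asIdeal ↔
      ((algebraMap R (FractionRing R)).comp g) a = 0 := by
    intro a
    rw [hq, RingHom.comp_apply, map_eq_zero_iff _ hinj]
    rfl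
  let gbar : (PrimeSpectrum.comap f q).asIdeal.ResidueField →+* FractionRing R :=
    Ideal.ResidueField.lift _ ((algebraMap R (FractionRing R)).comp g)
      (fun a ha => (hmem a).mp ha) (by
        intro y hy
        simp only [Submonoid.mem_comap, IsUnit.mem_submonoid_iff, isUnit_iff_ne_zero]
        exact fun h => hy ((hmem y).mpr h))
  have hgbar : ∀ a, gbar (algebraMap A _ a) = algebraMap R (FractionRing R) (g a) := fun a =>
    Ideal.ResidueField.lift_algebraMap _ _ _ _ a
  let eη : FractionRing R ≃+* η.obj (FractionRing R) := RingEquiv.ofBijective (η.eta _) hR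
  let eι := RingEquiv.ofBijective _ hι
  let Gf : q.asIdeal.ResidueField →+* FractionRing R :=
    eη.symm.toRingHom.comp ((η.map gbar).comp (eι.symm.toRingHom.comp (η.eta _)))
  let G : B →+* FractionRing R := Gf.comp (algebraMap B _)
  have hGf : ∀ a, G (f a) = algebraMap R (FractionRing R) (g a) := by
    intro a
    change eη.symm (η.map gbar (eι.symm (η.eta _ (algebraMap B q.asIdeal.ResidueField (f a))))) = _
    rw [← Ideal.ResidueField.map_algebraMap (PrimeSpectrum.comap f q).asIdeal q.asIdeal f rfl,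
      ← eta_natural_apply]
    have h1 : eι.symm (η.map (Ideal.ResidueField.map (PrimeSpectrum.comap f q).asIdeal
        q.asIdeal f rfl) (η.eta _ (algebraMap A _ a))) = η.eta _ (algebraMap A _ a) :=
      eι.symm_apply_apply _
    rw [h1, eta_natural_apply, hgbar]
    exact eη.symm_apply_apply _
  have hint : ∀ b, IsIntegral R (G b) := by
    intro b
    obtain ⟨P, hP1, hP2⟩ := hf b
    refine ⟨P.map g, hP1.map g, ?_⟩
    rw [Polynomial.eval₂_map]
    have : (algebraMap R (FractionRing R)).comp g = G.comp f := by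
      ext a; exact (hGf a).symm
    rw [this, ← Polynomial.hom_eval₂, hP2, map_zero]
  obtain ⟨g', hg'⟩ := exists_lift_of_isIntegral G hint
  refine ⟨g', ?_⟩
  ext a
  apply hinj
  rw [RingHom.comp_apply, hg', hGf]

theorem mem_M_of_Nmap_mem_M {A B : Type u} [CommRing A] [CommRing B] (f : A →+* B)
    (hf : f.IsIntegral) (hN : Function.Bijective (η.Nmap f)) {x : η.N A}
    (hx : η.Nmap f x ∈ η.M B) : x ∈ η.M A := by
  intro R _ _ _ hR g
  obtain ⟨g', rfl⟩ := exists_factor_valuationRing η f hf hN R hR g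
  rw [Nmap_comp_apply]
  exact hx R hR g'

theorem bijOn_Nmap_M {A B : Type u} [CommRing A] [CommRing B] (f : A →+* B)
    (hf : f.IsIntegral) (hN : Function.Bijective (η.Nmap f)) :
    Set.BijOn (η.Nmap f) (η.M A) (η.M B) := by
  refine ⟨fun x hx => Nmap_mem_M η f hx, fun x _ y _ h => hN.1 h, fun y hy => ?_⟩
  obtain ⟨x, rfl⟩ := hN.2 y
  exact ⟨x, mem_M_of_Nmap_mem_M η f hf hN hy, rfl⟩

/-- the restriction of `Nmap f` to the `M` subrings -/
noncomputable def Mmap {A B : Type u} [CommRing A] [CommRing B] (f : A →+* B) :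
    η.M A →+* η.M B :=
  ((η.Nmap f).comp (η.M A).subtype).codRestrict (η.M B) (fun x => Nmap_mem_M η f x.2)

theorem coe_Mmap {A B : Type u} [CommRing A] [CommRing B] (f : A →+* B) (x : η.M A) :
    ((Mmap η f x : η.M B) : η.N B) = η.Nmap f (x : η.N A) := rfl

theorem Mmap_q {A B : Type u} [CommRing A] [CommRing B] (f : A →+* B) (a : A) :
    Mmap η f (η.q A a) = η.q B (f a) :=
  Subtype.ext (η.Nmap_t_apply f a)

theorem bijective_Mmap {A B : Type u} [CommRing A] [CommRing B] (f : A →+* B)
    (hf : f.IsIntegral) (hN : Function.Bijective (η.Nmap f)) :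
    Function.Bijective (Mmap η f) := by
  constructor
  · intro x y h
    exact Subtype.ext (hN.1 (congrArg Subtype.val h))
  · intro y
    obtain ⟨x, hx, hxy⟩ := (bijOn_Nmap_M η f hf hN).2.2 y.2
    exact ⟨⟨x, hx⟩, Subtype.ext hxy⟩

/-- if `F(ι)` is bijective then `ι` is an epimorphism of fields -/
theorem hom_ext_of_bijective_map {K K' L : Type u} [Field K] [Field K'] [Field L] (ι : K →+* K')
    (hι : Function.Bijective (η.map ι)) (h₁ h₂ : K' →+* L) (h : h₁.comp ι = h₂.comp ι) :
    h₁ = h₂ := by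
  ext z
  obtain ⟨w, hw⟩ := hι.2 (η.eta K' z)
  obtain ⟨n, v, hv⟩ := η.exists_pow_mem_range_eta K w
  have hz : z ^ ringExpChar K ^ n = ι v := by
    apply (η.eta K').injective
    rw [map_pow, ← hw, ← map_pow, ← hv, eta_natural_apply]
  apply pow_inj_of_hom (h₁.comp ι) n
  rw [← map_pow, ← map_pow, hz]
  exact congrArg (fun f => f v) (congrArg DFunLike.coe h)

theorem existsUnique_lift_q {A B : Type u} [CommRing A] [CommRing B] (g : A →+* B)
    (hg : g.IsIntegral) (hN : Function.Bijective (η.Nmap g)) :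
    ∃! g' : B →+* η.M A, g'.comp g = η.q A := by
  let e := RingEquiv.ofBijective (Mmap η g) (bijective_Mmap η g hg hN)
  refine ⟨e.symm.toRingHom.comp (η.q B), ?_, ?_⟩
  · refine RingHom.ext fun a => ?_
    change e.symm (η.q B (g a)) = η.q A a
    rw [← Mmap_q]
    exact e.symm_apply_apply _
  · intro g₁ hg₁
    have hcomp : ∀ g₂ : B →+* η.M A, g₂.comp g = η.q A → ∀ P : PrimeSpectrum A,
        ∃ (Q : PrimeSpectrum B) (hQ : PrimeSpectrum.comap g Q = P), 
          RingHom.ker ((evalM η P).comp g₂) = Q.asIdeal := by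
      intro g₂ hg₂ P
      refine ⟨⟨RingHom.ker ((evalM η P).comp g₂), RingHom.ker_isPrime _⟩, ?_, rfl⟩
      ext a
      change g a ∈ RingHom.ker ((evalM η P).comp g₂) ↔ _
      rw [RingHom.mem_ker, RingHom.comp_apply, ← RingHom.comp_apply g₂ g, hg₂, evalM_q,
        phi_eq_zero_iff]
    set g₀ := e.symm.toRingHom.comp (η.q B) with hg₀
    have hg₀' : g₀.comp g = η.q A := by
      refine RingHom.ext fun a => ?_
      change e.symm (η.q B (g a)) = η.q A a
      rw [← Mmap_q]
      exact e.symm_apply_apply _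
    ext b : 1
    apply M_ext
    intro P
    obtain ⟨Q₁, hQ₁, hk₁⟩ := hcomp g₁ hg₁ P
    obtain ⟨Q₀, hQ₀, hk₀⟩ := hcomp g₀ hg₀' P
    have hQQ : Q₁ = Q₀ := (comap_bijective_of_Nmap_bijective η g hN).1 (hQ₁.trans hQ₀.symm)
    subst hQQ
    subst hQ₁
    have hunits : ∀ (g₂ : B →+* η.M A), RingHom.ker ((evalM η (PrimeSpectrum.comap g Q₁)).comp g₂)
        = Q₁.asIdeal → Q₁.asIdeal.primeCompl ≤ (IsUnit.submonoid _).comap
          ((evalM η (PrimeSpectrum.comap g Q₁)).comp g₂) := by
      intro g₂ hk y hy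
      simp only [Submonoid.mem_comap, IsUnit.mem_submonoid_iff, isUnit_iff_ne_zero]
      intro h
      apply hy
      rw [← hk]; exact h
    let l₁ := Ideal.ResidueField.lift Q₁.asIdeal _ hk₁.ge (hunits g₁ hk₁)
    let l₀ := Ideal.ResidueField.lift Q₁.asIdeal _ hk₀.ge (hunits g₀ hk₀)
    have hl : l₁ = l₀ := by
      apply hom_ext_of_bijective_map η _ (bijective_map_resmap_of_Nmap_bijective η g hN Q₁)
      apply Ideal.ResidueField.ringHom_ext
      ext a
      rw [RingHom.comp_apply, RingHom.comp_apply, RingHom.comp_apply, RingHom.comp_apply]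
      erw [Ideal.ResidueField.map_algebraMap, Ideal.ResidueField.lift_algebraMap,
        Ideal.ResidueField.lift_algebraMap]
      rw [RingHom.comp_apply, RingHom.comp_apply, ← RingHom.comp_apply g₁ g,
        ← RingHom.comp_apply g₀ g, hg₁, hg₀']
    have h1 : l₁ (algebraMap B _ b) = evalM η _ (g₁ b) := Ideal.ResidueField.lift_algebraMap _ _ _ _ b
    have h0 : l₀ (algebraMap B _ b) = evalM η _ (g₀ b) := Ideal.ResidueField.lift_algebraMap _ _ _ _ b
    rw [← h1, ← h0, hl]

theorem isReduced_M (A : Type u) [CommRing A] : IsReduced (η.M A) := by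
  constructor
  rintro x ⟨n, hn⟩
  apply M_ext
  intro p
  rw [map_zero]
  have : (evalM η p x) ^ n = 0 := by rw [← map_pow, hn, map_zero]
  exact eq_zero_of_pow_eq_zero this

theorem t_injective (A : Type u) [CommRing A] [IsReduced A] : Function.Injective (η.t A) := by
  rw [injective_iff_map_eq_zero]
  intro a ha
  apply IsNilpotent.eq_zero
  rw [nilpotent_iff_mem_prime]
  intro J hJ
  have := congrFun ha ⟨J, hJ⟩
  rw [t_eq_phi] at this
  exact (phi_eq_zero_iff η ⟨J, hJ⟩ a).mp this

theorem q_injective (A : Type u) [CommRing A] [IsReduced A] : Function.Injective (η.q A) :=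
  fun a b h => t_injective η A (congrArg Subtype.val h)

theorem Nmap_q_eq_t {A : Type u} [CommRing A] (hA : (minimalPrimes A).Finite) (x : η.M A) :
    η.Nmap (η.q A) (x : η.N A) = η.t (η.M A) x := by
  funext Q
  obtain ⟨φ, hφ, hφ2⟩ := exists_residue_factor η hA Q
  apply (η.map φ).injective
  rw [Nmap_apply, ← map_comp_apply, hφ, t_apply, eta_natural_apply, hφ2, ← eta_obj_eq]
  rfl

theorem bijective_of_isIntegral_of_bijective_Nmap {A : Type u} [CommRing A]
    (hA : (minimalPrimes A).Finite) (B : Type u) [CommRing B] [IsReduced B] (f : η.M A →+* B)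
    (hf : f.IsIntegral) (hN : Function.Bijective (η.Nmap f)) : Function.Bijective f := by
  have hred := isReduced_M η A
  constructor
  · intro x y hxy
    apply t_injective η (η.M A)
    apply hN.1
    rw [η.Nmap_t_apply, η.Nmap_t_apply, hxy]
  · intro b
    obtain ⟨y, hy⟩ := hN.2 (η.t B b)
    obtain ⟨x, hx⟩ := (bijective_Nmap_q η hA).2 y
    have hfq : (f.comp (η.q A)).IsIntegral := RingHom.IsIntegral.trans _ _ (isIntegral_q η hA) hf
    have hNfq : Function.Bijective (η.Nmap (f.comp (η.q A))) := by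
      have : η.Nmap (f.comp (η.q A)) = (η.Nmap f) ∘ (η.Nmap (η.q A)) := by
        funext z; exact Nmap_comp_apply η _ _ z
      rw [this]; exact hN.comp (bijective_Nmap_q η hA)
    have hxM : x ∈ η.M A := by
      apply mem_M_of_Nmap_mem_M η _ hfq hNfq
      rw [Nmap_comp_apply, hx, hy]
      exact η.t_mem_M B b
    refine ⟨⟨x, hxM⟩, ?_⟩
    apply t_injective η B
    rw [← η.Nmap_t_apply, ← Nmap_q_eq_t η hA ⟨x, hxM⟩]
    change η.Nmap f (η.Nmap (η.q A) x) = _
    rw [hx, hy]

theorem exists_minimalPrimes_ker_evalM_le {A : Type u} [CommRing A]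
    (hA : (minimalPrimes A).Finite) (Q : PrimeSpectrum (η.M A)) :
    ∃ p : PrimeSpectrum A, p.asIdeal ∈ minimalPrimes A ∧ RingHom.ker (evalM η p) ≤ Q.asIdeal := by
  classical
  let J : Ideal A → Ideal (η.M A) := fun I =>
    if h : I.IsPrime then RingHom.ker (evalM η ⟨I, h⟩) else ⊤
  have h1 : hA.toFinset.inf J ≤ Q.asIdeal := by
    intro x hx
    have hx0 : x = 0 := by
      apply M_ext
      intro 𝔮
      obtain ⟨I, hI, hIq⟩ := Ideal.exists_minimalPrimes_le (J := 𝔮.asIdeal) bot_le
      have hI' : I ∈ minimalPrimes A := hI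
      rw [map_zero]
      apply evalM_eq_zero_of_le η x ⟨I, hI.1.1⟩ 𝔮 hIq
      have := (Finset.inf_le (f := J) (hA.mem_toFinset.mpr hI')) hx
      simp only [J, dif_pos hI.1.1] at this
      exact this
    rw [hx0]; exact zero_mem _
  obtain ⟨I, hI, hIQ⟩ := (Ideal.IsPrime.inf_le' Q.2).mp h1
  have hIp : I.IsPrime := (hA.mem_toFinset.mp hI).1.1
  refine ⟨⟨I, hIp⟩, hA.mem_toFinset.mp hI, ?_⟩
  simp only [J, dif_pos hIp] at hIQ
  exact hIQ

theorem finite_minimalPrimes_M {A : Type u} [CommRing A] (hA : (minimalPrimes A).Finite) :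
    (minimalPrimes (η.M A)).Finite := by
  have hfin : {p : PrimeSpectrum A | p.asIdeal ∈ minimalPrimes A}.Finite :=
    hA.preimage (fun p _ p' _ h => PrimeSpectrum.ext h)
  apply (hfin.image (fun p => (primeOver η p).asIdeal)).subset
  intro Q hQ
  obtain ⟨p, hp, hpQ⟩ := exists_minimalPrimes_ker_evalM_le η hA ⟨Q, hQ.1.1⟩
  refine ⟨p, hp, ?_⟩
  exact le_antisymm hpQ (hQ.2 ⟨(primeOver η p).2, bot_le⟩ hpQ)

theorem bijective_q_M {A : Type u} [CommRing A] (hA : (minimalPrimes A).Finite) :
    Function.Bijective (η.q (η.M A)) := by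
  have hfin := finite_minimalPrimes_M η hA
  have hred := isReduced_M η (η.M A)
  exact bijective_of_isIntegral_of_bijective_Nmap η hA _ (η.q (η.M A)) (isIntegral_q η hfin)
    (bijective_Nmap_q η hfin)

theorem ringExpChar_pos (K : Type u) [Field K] : 0 < ringExpChar K := by
  unfold ringExpChar; exact lt_max_of_lt_right Nat.one_pos

theorem M_eq_top_of_field (K : Type u) [Field K] : η.M K = ⊤ := by
  rw [eq_top_iff]
  intro x _ R _ _ _ hR g
  obtain ⟨p₀⟩ : Nonempty (PrimeSpectrum K) := ⟨⟨⊥, Ideal.isPrime_bot⟩⟩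
  obtain ⟨n, y, hy⟩ := η.exists_pow_mem_range_eta p₀.asIdeal.ResidueField (x p₀)
  obtain ⟨y₀, rfl⟩ : ∃ y₀ : K, algebraMap K _ y₀ = y :=
    (Ideal.algEquivResidueFieldOfField p₀.asIdeal).surjective y
  have hinj : Function.Injective (algebraMap R (FractionRing R)) := IsFractionRing.injective R _
  let gbar : p₀.asIdeal.ResidueField →+* FractionRing R :=
    ((algebraMap R (FractionRing R)).comp g).comp
      (Ideal.algEquivResidueFieldOfField p₀.asIdeal).symm.toAlgHom.toRingHom
  have hgbar : ∀ a, gbar (algebraMap K _ a) = algebraMap R _ (g a) := by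
    intro a
    change algebraMap R _ (g ((Ideal.algEquivResidueFieldOfField p₀.asIdeal).symm
      (algebraMap K _ a))) = _
    rw [← Ideal.algEquivResidueFieldOfField_apply, AlgEquiv.symm_apply_apply]
  obtain ⟨z, hz⟩ := hR.2 (η.map gbar (x p₀))
  have hzpow : z ^ ringExpChar p₀.asIdeal.ResidueField ^ n = algebraMap R _ (g y₀) := by
    apply (η.eta (FractionRing R)).injective
    rw [map_pow, hz, ← map_pow (η.map gbar), ← hy, eta_natural_apply η, hgbar]
  have hzint : IsIntegral R z := by
    apply IsIntegral.of_pow (pow_pos (ringExpChar_pos p₀.asIdeal.ResidueField) n)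
    rw [hzpow]; exact isIntegral_algebraMap
  obtain ⟨r, rfl⟩ := IsIntegrallyClosed.isIntegral_iff.mp hzint
  have hr : r ^ ringExpChar p₀.asIdeal.ResidueField ^ n = g y₀ := by
    apply hinj; rw [map_pow, hzpow]
  have key : ∀ (𝔯 : PrimeSpectrum R) (p' : PrimeSpectrum K)
      (ρ : p'.asIdeal.ResidueField →+* 𝔯.asIdeal.ResidueField)
      (_ : ∀ a, ρ (algebraMap K _ a) = algebraMap R _ (g a)),
      η.eta _ (algebraMap R 𝔯.asIdeal.ResidueField r) = η.map ρ (x p') := by
    intro 𝔯 p' ρ hρ
    obtain rfl : p' = p₀ := Subsingleton.elim _ _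
    apply pow_inj_of_hom ((η.eta _).comp ρ) n
    rw [← map_pow, ← map_pow, ← map_pow, hr, ← hy, eta_natural_apply η, hρ]
  refine ⟨r, ?_⟩
  funext 𝔯
  rw [t_apply, Nmap_apply]
  exact key 𝔯 _ _ (fun a => Ideal.ResidueField.map_algebraMap _ _ _ _ a)

theorem bijective_eta_residueField_bot {A : Type u} [CommRing A] [IsDomain A] (hA : η.InV A) :
    Function.Bijective (η.eta (⊥ : Ideal A).ResidueField) :=
  bijective_eta_of_ringEquiv η (FractionRing.algEquiv A (⊥ : Ideal A).ResidueField).toRingEquiv hA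

theorem eq_q_of_generic {A : Type u} [CommRing A] [IsDomain A] (x : η.M A) (a : A)
    (h : evalM η ⟨⊥, Ideal.isPrime_bot⟩ x = phi η ⟨⊥, Ideal.isPrime_bot⟩ a) : x = η.q A a := by
  apply M_ext
  intro p
  have := evalM_eq_zero_of_le η (x - η.q A a) ⟨⊥, Ideal.isPrime_bot⟩ p bot_le
    (by rw [map_sub, evalM_q, h, sub_self])
  rw [map_sub, sub_eq_zero] at this
  exact this

theorem bijective_q_of_isIntegrallyClosed (A : Type u) [CommRing A] [IsDomain A]
    [IsIntegrallyClosed A] (hA : η.InV A) : Function.Bijective (η.q A) := by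
  refine ⟨q_injective η A, fun x => ?_⟩
  obtain ⟨z, hz⟩ := (bijective_eta_residueField_bot η hA).2 ((x : η.N A) ⟨⊥, Ideal.isPrime_bot⟩)
  obtain ⟨P, hP1, hP2⟩ := isIntegralElem_phi η x.2 ⟨⊥, Ideal.isPrime_bot⟩
  have hzint : IsIntegral A z := by
    refine ⟨P, hP1, ?_⟩
    apply (η.eta (⊥ : Ideal A).ResidueField).injective
    rw [map_zero, Polynomial.hom_eval₂, hz]
    exact hP2
  obtain ⟨a, rfl⟩ := IsIntegrallyClosed.isIntegral_iff.mp hzint
  exact ⟨a, (eq_q_of_generic η x a hz.symm).symm⟩

theorem isIntegralElem_resmap {A B : Type u} [CommRing A] [CommRing B] (f : A →+* B)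
    (hf : f.IsIntegral) (Q : PrimeSpectrum B) (z : Q.asIdeal.ResidueField) :
    (Ideal.ResidueField.map (PrimeSpectrum.comap f Q).asIdeal Q.asIdeal f rfl).IsIntegralElem z := by
  set ι := Ideal.ResidueField.map (PrimeSpectrum.comap f Q).asIdeal Q.asIdeal f rfl with hι
  letI := ι.toAlgebra
  change IsIntegral (PrimeSpectrum.comap f Q).asIdeal.ResidueField z
  have hB : ∀ b : B, IsIntegral (PrimeSpectrum.comap f Q).asIdeal.ResidueField
      (algebraMap B Q.asIdeal.ResidueField b) := by
    intro b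
    obtain ⟨P, hP1, hP2⟩ := hf b
    refine ⟨P.map (algebraMap A _), hP1.map _, ?_⟩
    rw [Polynomial.eval₂_map]
    have : (algebraMap (PrimeSpectrum.comap f Q).asIdeal.ResidueField Q.asIdeal.ResidueField).comp
        (algebraMap A _) = (algebraMap B Q.asIdeal.ResidueField).comp f := by
      ext a
      exact Ideal.ResidueField.map_algebraMap _ _ _ _ a
    rw [this, ← Polynomial.hom_eval₂, hP2, map_zero]
  obtain ⟨x, y, hy, rfl⟩ := IsFractionRing.div_surjective (A := B ⧸ Q.asIdeal) z
  obtain ⟨x, rfl⟩ := Ideal.Quotient.mk_surjective x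
  obtain ⟨y, rfl⟩ := Ideal.Quotient.mk_surjective y
  rw [div_eq_mul_inv]
  exact (hB x).mul (hB y).inv

theorem exists_extension_algClosed {A B : Type u} [CommRing A] [CommRing B] (f : A →+* B)
    (hf : f.IsIntegral) (hs : Function.Surjective (PrimeSpectrum.comap f))
    {K' : Type u} [Field K'] [IsAlgClosed K'] (γ : A →+* K') :
    ∃ G : B →+* K', G.comp f = γ := by
  obtain ⟨Q, hQ⟩ := hs ⟨RingHom.ker γ, RingHom.ker_isPrime γ⟩
  have hmem : ∀ a, a ∈ (PrimeSpectrum.comap f Q).asIdeal ↔ γ a = 0 := by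
    intro a; rw [hQ]; rfl
  let γbar : (PrimeSpectrum.comap f Q).asIdeal.ResidueField →+* K' :=
    Ideal.ResidueField.lift _ γ (fun a ha => (hmem a).mp ha) (by
      intro y hy
      simp only [Submonoid.mem_comap, IsUnit.mem_submonoid_iff, isUnit_iff_ne_zero]
      exact fun h => hy ((hmem y).mpr h))
  have hγbar : ∀ a, γbar (algebraMap A _ a) = γ a := fun a =>
    Ideal.ResidueField.lift_algebraMap _ _ _ _ a
  set ι := Ideal.ResidueField.map (PrimeSpectrum.comap f Q).asIdeal Q.asIdeal f rfl with hι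
  letI := ι.toAlgebra
  letI := γbar.toAlgebra
  have halg : Algebra.IsAlgebraic (PrimeSpectrum.comap f Q).asIdeal.ResidueField
      Q.asIdeal.ResidueField :=
    ⟨fun z => IsIntegral.isAlgebraic (isIntegralElem_resmap f hf Q z)⟩
  let G' : Q.asIdeal.ResidueField →ₐ[(PrimeSpectrum.comap f Q).asIdeal.ResidueField] K' :=
    IsAlgClosed.lift
  refine ⟨G'.toRingHom.comp (algebraMap B _), ?_⟩
  ext a
  change G' (algebraMap B _ (f a)) = γ a
  rw [← Ideal.ResidueField.map_algebraMap (PrimeSpectrum.comap f Q).asIdeal Q.asIdeal f rfl]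
  have : G' (algebraMap (PrimeSpectrum.comap f Q).asIdeal.ResidueField Q.asIdeal.ResidueField
      (algebraMap A _ a)) = algebraMap _ K' (algebraMap A _ a) := G'.commutes _
  exact this.trans (hγbar a)

theorem generic_component' {A : Type u} [CommRing A] {x : η.N A}
    {L : Type u} [Field L] (V : ValuationSubring L)
    (g : A →+* V) (r : V) (hr : η.t V r = η.Nmap g x) (p : PrimeSpectrum A)
    (hp : p = PrimeSpectrum.comap g ⟨⊥, Ideal.isPrime_bot⟩)
    (ψ : p.asIdeal.ResidueField →+* L) (hψ : ∀ a, ψ (algebraMap A _ a) = (g a : L)) :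
    η.eta L r = η.map ψ (x p) := by
  subst hp
  have h0 := congrArg (η.map (botLift V)) (congrFun hr ⟨⊥, Ideal.isPrime_bot⟩)
  rw [t_apply, Nmap_apply, eta_natural_apply, ← map_comp_apply] at h0
  erw [botLift_algebraMap] at h0
  rw [h0]
  congr 2
  apply Ideal.ResidueField.ringHom_ext
  ext a
  rw [RingHom.comp_apply, RingHom.comp_apply, RingHom.comp_apply, hψ]
  erw [Ideal.ResidueField.map_algebraMap, botLift_algebraMap]

theorem mem_M_of_integral_surjective {A B : Type u} [CommRing A] [CommRing B] (f : A →+* B)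
    (hf : f.IsIntegral) (hs : Function.Surjective (PrimeSpectrum.comap f)) (x : η.N A)
    (hx : η.Nmap f x ∈ η.M B) : x ∈ η.M A := by
  intro R _ _ _ hR g
  let α : R →+* AlgebraicClosure (FractionRing R) :=
    (algebraMap (FractionRing R) (AlgebraicClosure (FractionRing R))).comp
      (algebraMap R (FractionRing R))
  have hα : Function.Injective α :=
    (RingHom.injective (algebraMap (FractionRing R) (AlgebraicClosure (FractionRing R)))).comp
      (IsFractionRing.injective R (FractionRing R))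
  have hkerα : RingHom.ker α = ⊥ := (RingHom.injective_iff_ker_eq_bot α).mp hα
  have hK' := bijective_eta_of_perfect η (AlgebraicClosure (FractionRing R))
  obtain ⟨G, hG⟩ := exists_extension_algClosed f hf hs (α.comp g)
  have hG' : ∀ a, G (f a) = α (g a) := fun a => congrArg (fun k => k a) (congrArg DFunLike.coe hG)
  set y := η.Nmap g x with hy
  have hK₀ : Function.Bijective (η.eta (⊥ : Ideal R).ResidueField) :=
    bijective_eta_of_ringEquiv η
      (FractionRing.algEquiv R (⊥ : Ideal R).ResidueField).toRingEquiv hR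
  obtain ⟨z, hz⟩ := hK₀.2 (y ⟨⊥, Ideal.isPrime_bot⟩)
  let j : (⊥ : Ideal R).ResidueField →+* AlgebraicClosure (FractionRing R) :=
    Ideal.ResidueField.lift ⊥ α bot_le (by
      intro v hv
      simp only [Submonoid.mem_comap, IsUnit.mem_submonoid_iff, isUnit_iff_ne_zero]
      intro h
      apply hv
      have : v = 0 := hα (by rw [h, map_zero])
      simp [this])
  have hj : ∀ r, j (algebraMap R _ r) = α r := fun r =>
    Ideal.ResidueField.lift_algebraMap _ _ _ _ r
  -- main claim
  have claim : ∀ (V : ValuationSubring (AlgebraicClosure (FractionRing R))) (h : R →+* V)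
      (_ : ∀ b, ((h b : V) : AlgebraicClosure (FractionRing R)) = α b),
      ∃ v : V, ((v : V) : AlgebraicClosure (FractionRing R)) = j z ∧ η.t V v = η.Nmap h y := by
    intro V h hh
    have hint : ∀ b, IsIntegral V (G b) := by
      intro b
      obtain ⟨P, hP1, hP2⟩ := hf b
      refine ⟨P.map (h.comp g), hP1.map _, ?_⟩
      rw [Polynomial.eval₂_map]
      have : (algebraMap V (AlgebraicClosure (FractionRing R))).comp (h.comp g) = G.comp f := by
        ext a
        rw [RingHom.comp_apply, RingHom.comp_apply, RingHom.comp_apply, hG']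
        exact hh (g a)
      rw [this, ← Polynomial.hom_eval₂, hP2, map_zero]
    obtain ⟨gB, hgB⟩ := exists_lift_of_isIntegral (R := V) G hint
    have hcomp : gB.comp f = h.comp g := by
      ext a
      rw [RingHom.comp_apply, RingHom.comp_apply]
      have := hgB (f a)
      rw [hG', ← hh] at this
      exact congrArg Subtype.val (Subtype.ext this)
    obtain ⟨v, hv⟩ := hx V (inV_valuationSubring η hK' V) gB
    rw [← Nmap_comp_apply, hcomp, Nmap_comp_apply] at hv
    refine ⟨v, ?_, hv⟩
    have hp := eq_comap_bot α h hh ⟨⊥, Ideal.isPrime_bot⟩ hkerα.symm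
    have := generic_component' η V h v hv ⟨⊥, Ideal.isPrime_bot⟩ hp j
      (fun a => (hj a).trans (hh a).symm)
    rw [← hy, ← hz, eta_natural_apply] at this
    exact hK'.1 this
  have hz0 : ∃ r₀ : R, algebraMap R _ r₀ = z := by
    obtain ⟨V, h, hh, hm⟩ := exists_valuationSubring_local α
      ⟨IsLocalRing.maximalIdeal R, inferInstance⟩ (by rw [hkerα]; exact bot_le)
    obtain ⟨v, hv1, -⟩ := claim V h hh
    rcases ValuationRing.isInteger_or_isInteger R z with ⟨r, hr⟩ | ⟨s, hs⟩
    · exact ⟨r, hr⟩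
    · by_cases hz0 : z = 0
      · exact ⟨0, by rw [hz0, map_zero]⟩
      by_cases hsu : IsUnit s
      · obtain ⟨u, rfl⟩ := hsu
        refine ⟨((u⁻¹ : Rˣ) : R), ?_⟩
        have h1 : algebraMap R (⊥ : Ideal R).ResidueField ((u⁻¹ : Rˣ) : R) *
            algebraMap R (⊥ : Ideal R).ResidueField (u : R) = 1 := by
          rw [← map_mul, Units.inv_mul, map_one]
        rw [hs] at h1
        exact eq_of_mul_inv_eq_one h1
      · exfalso
        have hsm : s ∈ IsLocalRing.maximalIdeal R := (IsLocalRing.mem_maximalIdeal s).mpr hsu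
        have hsV : h s ∈ IsLocalRing.maximalIdeal V := by
          have : s ∈ (PrimeSpectrum.comap h ⟨IsLocalRing.maximalIdeal V, inferInstance⟩).asIdeal := by
            rw [hm]; exact hsm
          exact this
        have h1 : v * h s = 1 := by
          apply Subtype.ext
          change (v : AlgebraicClosure (FractionRing R)) * (h s : V) = 1
          rw [hv1, hh, ← hj, hs, map_inv₀, mul_inv_cancel₀]
          exact (map_ne_zero j).mpr hz0
        exact (IsLocalRing.mem_maximalIdeal _).mp hsV (IsUnit.of_mul_eq_one v (by rw [mul_comm]; exact h1))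
  obtain ⟨r₀, rfl⟩ := hz0
  refine ⟨r₀, ?_⟩
  funext 𝔯
  obtain ⟨V, h, hh, hm⟩ := exists_valuationSubring_local α 𝔯 (by rw [hkerα]; exact bot_le)
  obtain ⟨v, hv1, hv2⟩ := claim V h hh
  have hv : v = h r₀ := Subtype.ext (by rw [hv1, hj, hh])
  subst hm
  have h2 := congrFun hv2 ⟨IsLocalRing.maximalIdeal V, inferInstance⟩
  rw [t_apply, Nmap_apply, hv, ← Ideal.ResidueField.map_algebraMap
    (PrimeSpectrum.comap h ⟨IsLocalRing.maximalIdeal V, inferInstance⟩).asIdeal
    (IsLocalRing.maximalIdeal V) h rfl, ← eta_natural_apply] at h2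
  exact (η.map _).injective h2

theorem mem_rel_iff {A B : Type u} [CommRing A] [CommRing B] (f : A →+* B) (b : B) :
    b ∈ η.rel f ↔ ∃ x ∈ η.M A, η.Nmap f x = η.t B b := by
  unfold EtaPt.FieldEndo.rel
  rw [Subring.mem_comap, Subring.mem_map]

theorem Nmap_injective_of_surjective {A B : Type u} [CommRing A] [CommRing B] (f : A →+* B)
    (hs : Function.Surjective (PrimeSpectrum.comap f)) : Function.Injective (η.Nmap f) := by
  intro x y hxy
  funext p
  obtain ⟨q, rfl⟩ := hs p
  have := congrFun hxy q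
  rw [Nmap_apply, Nmap_apply] at this
  exact (η.map _).injective this

theorem qRel_apply {A B : Type u} [CommRing A] [CommRing B] (f : A →+* B) (a : A) :
    ((η.qRel f a : η.rel f) : B) = f a := rfl

theorem qRel_injective_iff {A B : Type u} [CommRing A] [CommRing B] (f : A →+* B) :
    Function.Injective (η.qRel f) ↔ Function.Injective f := by
  constructor
  · intro h a b hab
    exact h (Subtype.ext hab)
  · intro h a b hab
    exact h (congrArg Subtype.val hab)

theorem qRel_bijective_iff {A B : Type u} [CommRing A] [CommRing B] (f : A →+* B) :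
    Function.Bijective (η.qRel f) ↔ Function.Injective f ∧ ∀ b ∈ η.rel f, ∃ a, f a = b := by
  constructor
  · rintro ⟨h1, h2⟩
    refine ⟨(qRel_injective_iff η f).mp h1, fun b hb => ?_⟩
    obtain ⟨a, ha⟩ := h2 ⟨b, hb⟩
    exact ⟨a, congrArg Subtype.val ha⟩
  · rintro ⟨h1, h2⟩
    refine ⟨(qRel_injective_iff η f).mpr h1, fun b => ?_⟩
    obtain ⟨a, ha⟩ := h2 b.1 b.2
    exact ⟨a, Subtype.ext ha⟩

/-- S13819 -/
theorem range_le_rel {A B' B : Type u} [CommRing A] [CommRing B'] [CommRing B]
    (f₁ : A →+* B') (f₂ : B' →+* B)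
    (h₁ : f₁.IsIntegral) (hN : Function.Bijective (η.Nmap f₁)) :
    f₂.range ≤ η.rel (f₂.comp f₁) := by
  rintro _ ⟨b', rfl⟩
  rw [mem_rel_iff]
  obtain ⟨x, hx, hxb⟩ := (bijOn_Nmap_M η f₁ h₁ hN).2.2 (η.t_mem_M B' b')
  refine ⟨x, hx, ?_⟩
  rw [Nmap_comp_apply, hxb, η.Nmap_t_apply]

/-- S13821 -/
theorem bijective_qRel_comp {A B C : Type u} [CommRing A] [CommRing B] [CommRing C]
    (f : A →+* B) (g : B →+* C)
    (hg : Function.Surjective (PrimeSpectrum.comap g)) :
    (Function.Bijective (η.qRel f) → Function.Bijective (η.qRel g) →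
      Function.Bijective (η.qRel (g.comp f))) ∧
      (Function.Injective g → Function.Bijective (η.qRel (g.comp f)) →
        Function.Bijective (η.qRel f)) := by
  constructor
  · intro hf' hg'
    rw [qRel_bijective_iff] at hf' hg' ⊢
    refine ⟨hg'.1.comp hf'.1, fun c hc => ?_⟩
    obtain ⟨x, hx, hxc⟩ := (mem_rel_iff η _ c).mp hc
    rw [Nmap_comp_apply] at hxc
    obtain ⟨b, rfl⟩ := hg'.2 c ((mem_rel_iff η g c).mpr ⟨_, Nmap_mem_M η f hx, hxc⟩)
    rw [← η.Nmap_t_apply] at hxc
    have hb := Nmap_injective_of_surjective η g hg hxc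
    obtain ⟨a, rfl⟩ := hf'.2 b ((mem_rel_iff η f b).mpr ⟨x, hx, hb⟩)
    exact ⟨a, rfl⟩
  · intro hginj hgf
    rw [qRel_bijective_iff] at hgf ⊢
    refine ⟨Function.Injective.of_comp (f := g) hgf.1, fun b hb => ?_⟩
    obtain ⟨x, hx, hxb⟩ := (mem_rel_iff η _ b).mp hb
    obtain ⟨a, ha⟩ := hgf.2 (g b) ((mem_rel_iff η _ _).mpr ⟨x, hx, by
      rw [Nmap_comp_apply, hxb, η.Nmap_t_apply]⟩)
    exact ⟨a, hginj ha⟩

/-- S13828 -/
theorem bijective_qRel_of_pullback {A A' B B' : Type u} [CommRing A] [CommRing A'] [CommRing B]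
    [CommRing B']
    (j : A →+* B) (f : A →+* A') (g : B →+* B') (j' : A' →+* B') (hcomm : j'.comp f = g.comp j)
    (hcart : ∀ (a' : A') (b : B), j' a' = g b → ∃! a : A, f a = a' ∧ j a = b)
    (h : Function.Bijective (η.qRel j')) : Function.Bijective (η.qRel j) := by
  rw [qRel_bijective_iff] at h ⊢
  have hcomm' : ∀ a, j' (f a) = g (j a) := fun a =>
    congrArg (fun k => k a) (congrArg DFunLike.coe hcomm)
  constructor
  · rw [injective_iff_map_eq_zero]
    intro a ha
    have hfa : f a = 0 := h.1 (by rw [hcomm', ha, map_zero, map_zero])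
    obtain ⟨a₀, -, huniq⟩ := hcart 0 0 (by rw [map_zero, map_zero])
    rw [huniq a ⟨hfa, ha⟩, huniq 0 ⟨map_zero _, map_zero _⟩]
  · intro b hb
    obtain ⟨x, hx, hxb⟩ := (mem_rel_iff η _ b).mp hb
    obtain ⟨a', ha'⟩ := h.2 (g b) ((mem_rel_iff η _ _).mpr ⟨η.Nmap f x, Nmap_mem_M η f hx, by
      rw [← Nmap_comp_apply, hcomm, Nmap_comp_apply, hxb, η.Nmap_t_apply]⟩)
    obtain ⟨a, ⟨-, ha⟩, -⟩ := hcart a' b ha'
    exact ⟨a, ha⟩

theorem exists_rho_aux {A B : Type u} [CommRing A] [CommRing B] (f : A →+* B) (b : η.rel f) :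
    ∃ x : η.M A, η.Nmap f (x : η.N A) = η.t B b := by
  obtain ⟨x, hx, hxb⟩ := (mem_rel_iff η f b.1).mp b.2
  exact ⟨⟨x, hx⟩, hxb⟩

/-- the canonical map `rel f → M A` when `Spec f` is surjective -/
noncomputable def rho {A B : Type u} [CommRing A] [CommRing B] (f : A →+* B)
    (hs : Function.Surjective (PrimeSpectrum.comap f)) : η.rel f →+* η.M A where
  toFun b := Classical.choose (exists_rho_aux η f b)
  map_one' := by
    apply Subtype.ext
    apply Nmap_injective_of_surjective η f hs
    rw [Classical.choose_spec (exists_rho_aux η f 1)]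
    simp
  map_mul' a b := by
    apply Subtype.ext
    apply Nmap_injective_of_surjective η f hs
    rw [Classical.choose_spec (exists_rho_aux η f (a * b))]
    simp only [Subring.coe_mul, map_mul]
    rw [Classical.choose_spec (exists_rho_aux η f a), Classical.choose_spec (exists_rho_aux η f b)]
  map_zero' := by
    apply Subtype.ext
    apply Nmap_injective_of_surjective η f hs
    rw [Classical.choose_spec (exists_rho_aux η f 0)]
    simp
  map_add' a b := by
    apply Subtype.ext
    apply Nmap_injective_of_surjective η f hs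
    rw [Classical.choose_spec (exists_rho_aux η f (a + b))]
    simp only [Subring.coe_add, map_add]
    rw [Classical.choose_spec (exists_rho_aux η f a), Classical.choose_spec (exists_rho_aux η f b)]

theorem Nmap_rho {A B : Type u} [CommRing A] [CommRing B] (f : A →+* B)
    (hs : Function.Surjective (PrimeSpectrum.comap f)) (b : η.rel f) :
    η.Nmap f ((rho η f hs b : η.M A) : η.N A) = η.t B b :=
  Classical.choose_spec (exists_rho_aux η f b)

theorem rho_comp_qRel {A B : Type u} [CommRing A] [CommRing B] (f : A →+* B)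
    (hs : Function.Surjective (PrimeSpectrum.comap f)) :
    (rho η f hs).comp (η.qRel f) = η.q A := by
  refine RingHom.ext fun a => ?_
  apply Subtype.ext
  apply Nmap_injective_of_surjective η f hs
  rw [RingHom.comp_apply, Nmap_rho, qRel_apply, coe_q, η.Nmap_t_apply]

theorem isNilpotent_of_rho_eq_zero {A B : Type u} [CommRing A] [CommRing B] (f : A →+* B)
    (hs : Function.Surjective (PrimeSpectrum.comap f)) (b : η.rel f) (hb : rho η f hs b = 0) :
    IsNilpotent b := by
  have h1 : η.t B b = 0 := by rw [← Nmap_rho η f hs, hb]; simp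
  have h2 : IsNilpotent (b : B) := by
    rw [nilpotent_iff_mem_prime]
    intro J hJ
    have := congrFun h1 ⟨J, hJ⟩
    rw [t_eq_phi] at this
    exact (phi_eq_zero_iff η ⟨J, hJ⟩ _).mp this
  obtain ⟨n, hn⟩ := h2
  exact ⟨n, Subtype.ext (by simpa using hn)⟩

theorem isIntegral_qRel {A B : Type u} [CommRing A] [CommRing B]
    (hA : (minimalPrimes A).Finite) (f : A →+* B)
    (hs : Function.Surjective (PrimeSpectrum.comap f)) : (η.qRel f).IsIntegral := by
  intro b
  obtain ⟨P, hP1, hP2⟩ := isIntegral_q η hA (rho η f hs b)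
  have h3 : rho η f hs (Polynomial.eval₂ (η.qRel f) b P) = 0 := by
    rw [Polynomial.hom_eval₂, rho_comp_qRel, hP2]
  obtain ⟨n, hn⟩ := isNilpotent_of_rho_eq_zero η f hs _ h3
  refine ⟨P ^ n, hP1.pow n, ?_⟩
  rw [Polynomial.eval₂_pow, hn]

theorem isIntegral_rho {A B : Type u} [CommRing A] [CommRing B]
    (hA : (minimalPrimes A).Finite) (f : A →+* B)
    (hs : Function.Surjective (PrimeSpectrum.comap f)) : (rho η f hs).IsIntegral := by
  apply RingHom.IsIntegral.tower_top (η.qRel f)
  rw [rho_comp_qRel]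
  exact isIntegral_q η hA

theorem exists_prime_over_rho {A B : Type u} [CommRing A] [CommRing B]
    (hA : (minimalPrimes A).Finite) (f : A →+* B)
    (hs : Function.Surjective (PrimeSpectrum.comap f)) (Q : PrimeSpectrum (η.rel f)) :
    ∃ Q' : PrimeSpectrum (η.M A), PrimeSpectrum.comap (rho η f hs) Q' = Q := by
  letI := (rho η f hs).toAlgebra
  have hint : Algebra.IsIntegral (η.rel f) (η.M A) := ⟨isIntegral_rho η hA f hs⟩
  have hQp := Q.2
  obtain ⟨Q', -, hQ'1, hQ'2⟩ := Ideal.exists_ideal_over_prime_of_isIntegral Q.asIdeal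
    (⊥ : Ideal (η.M A)) (by
      intro b hb
      have hb0 : rho η f hs b = 0 := hb
      obtain ⟨n, hn⟩ := isNilpotent_of_rho_eq_zero η f hs b hb0
      exact Q.2.mem_of_pow_mem n (by rw [hn]; exact zero_mem _))
  exact ⟨⟨Q', hQ'1⟩, PrimeSpectrum.ext hQ'2⟩

theorem mem_prime_rel_iff {A B : Type u} [CommRing A] [CommRing B]
    (hA : (minimalPrimes A).Finite) (f : A →+* B)
    (hs : Function.Surjective (PrimeSpectrum.comap f)) (Q : PrimeSpectrum (η.rel f))
    (b : η.rel f) :
    b ∈ Q.asIdeal ↔ evalM η (PrimeSpectrum.comap (η.qRel f) Q) (rho η f hs b) = 0 := by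
  obtain ⟨Q', rfl⟩ := exists_prime_over_rho η hA f hs Q
  have h1 : PrimeSpectrum.comap (η.qRel f) (PrimeSpectrum.comap (rho η f hs) Q') =
      PrimeSpectrum.comap (η.q A) Q' := by
    rw [← rho_comp_qRel η f hs]; rfl
  rw [h1, ← mem_prime_iff η hA]
  rfl

theorem comap_qRel_bijective {A B : Type u} [CommRing A] [CommRing B]
    (hA : (minimalPrimes A).Finite) (f : A →+* B)
    (hs : Function.Surjective (PrimeSpectrum.comap f)) :
    Function.Bijective (PrimeSpectrum.comap (η.qRel f)) := by
  constructor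
  · intro Q Q' hQQ'
    ext b
    rw [mem_prime_rel_iff η hA f hs, mem_prime_rel_iff η hA f hs, hQQ']
  · intro P
    obtain ⟨Q, rfl⟩ := hs P
    refine ⟨PrimeSpectrum.comap (η.rel f).subtype Q, ?_⟩
    rfl

theorem exists_residue_factor_rel {A B : Type u} [CommRing A] [CommRing B]
    (hA : (minimalPrimes A).Finite) (f : A →+* B)
    (hs : Function.Surjective (PrimeSpectrum.comap f)) (Q : PrimeSpectrum (η.rel f)) :
    ∃ φ : Q.asIdeal.ResidueField →+* η.obj (PrimeSpectrum.comap (η.qRel f) Q).asIdeal.ResidueField,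
      φ.comp (Ideal.ResidueField.map (PrimeSpectrum.comap (η.qRel f) Q).asIdeal Q.asIdeal
        (η.qRel f) rfl) = η.eta (PrimeSpectrum.comap (η.qRel f) Q).asIdeal.ResidueField := by
  have h1 : Q.asIdeal ≤ RingHom.ker ((evalM η (PrimeSpectrum.comap (η.qRel f) Q)).comp
      (rho η f hs)) := fun x hx => (mem_prime_rel_iff η hA f hs Q x).mp hx
  have h2 : Q.asIdeal.primeCompl ≤ (IsUnit.submonoid _).comap
      ((evalM η (PrimeSpectrum.comap (η.qRel f) Q)).comp (rho η f hs)) := by
    intro y hy
    simp only [Submonoid.mem_comap, IsUnit.mem_submonoid_iff, isUnit_iff_ne_zero]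
    exact fun h => hy ((mem_prime_rel_iff η hA f hs Q y).mpr h)
  refine ⟨Ideal.ResidueField.lift Q.asIdeal _ h1 h2, ?_⟩
  apply Ideal.ResidueField.ringHom_ext
  ext a
  rw [RingHom.comp_apply, RingHom.comp_apply, RingHom.comp_apply]
  erw [Ideal.ResidueField.map_algebraMap, Ideal.ResidueField.lift_algebraMap]
  rw [RingHom.comp_apply, ← RingHom.comp_apply (rho η f hs), rho_comp_qRel]
  rfl

theorem bijective_Nmap_qRel {A B : Type u} [CommRing A] [CommRing B]
    (hA : (minimalPrimes A).Finite) (f : A →+* B)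
    (hs : Function.Surjective (PrimeSpectrum.comap f)) :
    Function.Bijective (η.Nmap (η.qRel f)) := by
  apply Nmap_bijective_of η _ (comap_qRel_bijective η hA f hs)
  intro Q
  obtain ⟨φ, hφ⟩ := exists_residue_factor_rel η hA f hs Q
  exact bijective_map_of_factor η _ φ hφ

theorem eq_zero_of_Nmap_eq_zero_of_injective {C B : Type u} [CommRing C] [CommRing B]
    (j : C →+* B) (hj : Function.Injective j) {d : η.N C} (hd : d ∈ η.M C)
    (h : η.Nmap j d = 0) : d = 0 := by
  funext 𝔠
  obtain ⟨I, hI, hI𝔠⟩ := Ideal.exists_minimalPrimes_le (J := 𝔠.asIdeal) bot_le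
  obtain ⟨p', hp', hp'I⟩ := Ideal.exists_comap_eq_of_mem_minimalPrimes_of_injective hj I hI
  have h1 := congrFun h ⟨p', hp'⟩
  rw [Nmap_apply] at h1
  have h2 : d (PrimeSpectrum.comap j ⟨p', hp'⟩) = 0 := (map_eq_zero _).mp h1
  apply eq_zero_of_le η hd (PrimeSpectrum.comap j ⟨p', hp'⟩) 𝔠 _ h2
  change Ideal.comap j p' ≤ 𝔠.asIdeal
  rw [hp'I]; exact hI𝔠

theorem isIntegralElem_of_mem_rel {A B : Type u} [CommRing A] [CommRing B]
    (hA : (minimalPrimes A).Finite) (f : A →+* B)
    (hs : Function.Surjective (PrimeSpectrum.comap f)) {b : B} (hb : b ∈ η.rel f) :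
    f.IsIntegralElem b := by
  obtain ⟨P, hP1, hP2⟩ := isIntegral_qRel η hA f hs ⟨b, hb⟩
  refine ⟨P, hP1, ?_⟩
  have := congrArg (η.rel f).subtype hP2
  rw [Polynomial.hom_eval₂, map_zero] at this
  exact this

/-- S13820 -/
theorem rel_integralClosure_map (A B : Type u) [CommRing A] [CommRing B] [Algebra A B]
    (hA : (minimalPrimes A).Finite)
    (hs : Function.Surjective (PrimeSpectrum.comap (algebraMap A B))) :
    (η.rel (algebraMap A (integralClosure A B))).map (integralClosure A B).val.toRingHom =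
      η.rel (algebraMap A B) := by
  have hcomp : algebraMap A B =
      ((integralClosure A B).val.toRingHom).comp (algebraMap A (integralClosure A B)) := rfl
  apply le_antisymm
  · rintro _ ⟨c, hc, rfl⟩
    obtain ⟨x, hx, hxc⟩ := (mem_rel_iff η _ c).mp hc
    rw [mem_rel_iff]
    refine ⟨x, hx, ?_⟩
    rw [hcomp, Nmap_comp_apply, hxc, η.Nmap_t_apply]
  · intro b hb
    have hbC : b ∈ integralClosure A B := isIntegralElem_of_mem_rel η hA _ hs hb
    obtain ⟨x, hx, hxb⟩ := (mem_rel_iff η _ b).mp hb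
    refine ⟨⟨b, hbC⟩, ?_, rfl⟩
    change (⟨b, hbC⟩ : integralClosure A B) ∈ η.rel (algebraMap A (integralClosure A B))
    rw [mem_rel_iff]
    refine ⟨x, hx, ?_⟩
    rw [← sub_eq_zero]
    apply eq_zero_of_Nmap_eq_zero_of_injective η (integralClosure A B).val.toRingHom
      Subtype.val_injective
    · exact Subring.sub_mem _ (Nmap_mem_M η _ hx) (η.t_mem_M _ _)
    · rw [map_sub, ← Nmap_comp_apply, ← hcomp, hxb, η.Nmap_t_apply]
      exact sub_self _

theorem ringExpChar_pos' (R : Type u) [CommRing R] : 0 < ringExpChar R := by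
  unfold ringExpChar; exact lt_max_of_lt_right Nat.one_pos

theorem pow_inj_of_hom_domain {R k : Type u} [CommRing R] [IsDomain R] [Field k] (f : R →+* k)
    (n : ℕ) {a b : k} (h : a ^ ringExpChar R ^ n = b ^ ringExpChar R ^ n) : a = b := by
  obtain ⟨q, hq⟩ : ∃ q, ringExpChar R = q := ⟨_, rfl⟩
  have hR : ExpChar R q := hq ▸ inferInstance
  rw [hq] at h
  cases hR with
  | zero => simpa using h
  | prime hp =>
    have : CharP k q := (CharP.charP_iff_prime_eq_zero hp).mpr (by
      rw [← map_natCast f, CharP.cast_eq_zero, map_zero])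
    have : ExpChar k q := ExpChar.prime hp
    exact iterateFrobenius_inj k q n h

theorem pow_surj_of_perfect {R k : Type u} [CommRing R] [IsDomain R] [Field k] (f : R →+* k)
    (hperf : ∀ (k : Type u) [Field k], ringChar k = ringChar R →
      Function.Bijective (η.eta k) → PerfectField k)
    (hk : Function.Bijective (η.eta k)) (n : ℕ) (a : k) :
    ∃ b : k, b ^ ringExpChar R ^ n = a := by
  obtain ⟨q, hq⟩ : ∃ q, ringExpChar R = q := ⟨_, rfl⟩
  have hR : ExpChar R q := hq ▸ inferInstance
  rw [hq]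
  cases hR with
  | zero => exact ⟨a, by simp⟩
  | prime hp =>
    have : CharP k q := (CharP.charP_iff_prime_eq_zero hp).mpr (by
      rw [← map_natCast f, CharP.cast_eq_zero, map_zero])
    have : ExpChar k q := ExpChar.prime hp
    have hpf : PerfectField k := hperf k (by rw [ringChar.eq k q, ringChar.eq R q]) hk
    have : PerfectRing k q := PerfectField.toPerfectRing q
    exact (bijective_iterateFrobenius (R := k) (p := q) (n := n)).2 a

theorem ringExpChar_residueField_bot (R : Type u) [CommRing R] [IsDomain R] :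
    ringExpChar (⊥ : Ideal R).ResidueField = ringExpChar R := by
  have : ExpChar (⊥ : Ideal R).ResidueField (ringExpChar R) :=
    expChar_of_injective_ringHom (IsFractionRing.injective R (⊥ : Ideal R).ResidueField) _
  exact ringExpChar.eq _ _

theorem isIntegral_of_isIntegralElem_eta {R : Type u} [CommRing R] [IsDomain R]
    (z : (⊥ : Ideal R).ResidueField)
    (h : (phi η (⟨⊥, Ideal.isPrime_bot⟩ : PrimeSpectrum R)).IsIntegralElem (η.eta _ z)) :
    IsIntegral R z := by
  obtain ⟨P, hP1, hP2⟩ := h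
  refine ⟨P, hP1, ?_⟩
  apply (η.eta (⊥ : Ideal R).ResidueField).injective
  rw [map_zero, Polynomial.hom_eval₂]
  exact hP2

theorem isIntegralElem_pow {A L : Type u} [CommRing A] [CommRing L] (φ : A →+* L) {y : L}
    (h : φ.IsIntegralElem y) (m : ℕ) : φ.IsIntegralElem (y ^ m) := by
  letI := φ.toAlgebra
  exact IsIntegral.pow (R := A) h m

theorem isIntegralElem_of_pow {A L : Type u} [CommRing A] [CommRing L] (φ : A →+* L) {y : L}
    {m : ℕ} (hm : 0 < m) (h : φ.IsIntegralElem (y ^ m)) : φ.IsIntegralElem y := by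
  letI := φ.toAlgebra
  exact IsIntegral.of_pow (R := A) hm h

theorem exists_pow_eq_phi {R : Type u} [CommRing R] [IsDomain R] [IsIntegrallyClosed R]
    (y : η.obj (⊥ : Ideal R).ResidueField)
    (hy : (phi η (⟨⊥, Ideal.isPrime_bot⟩ : PrimeSpectrum R)).IsIntegralElem y) :
    ∃ (n : ℕ) (r : R), y ^ ringExpChar R ^ n = phi η ⟨⊥, Ideal.isPrime_bot⟩ r := by
  obtain ⟨n, z, hz⟩ := η.exists_pow_mem_range_eta (⊥ : Ideal R).ResidueField y
  rw [ringExpChar_residueField_bot] at hz
  have hzint : IsIntegral R z := by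
    apply isIntegral_of_isIntegralElem_eta η
    rw [hz]; exact isIntegralElem_pow _ hy _
  obtain ⟨r, rfl⟩ := IsIntegrallyClosed.isIntegral_iff.mp hzint
  exact ⟨n, r, hz.symm⟩

/-- key lifting lemma for valuation rings -/
theorem exists_mem_M_of_isIntegralElem {R : Type u} [CommRing R] [IsDomain R] [ValuationRing R]
    (hη : η.InV R ∨ ∀ (k : Type u) [Field k], ringChar k = ringChar R →
      Function.Bijective (η.eta k) → PerfectField k)
    (y : η.obj (⊥ : Ideal R).ResidueField)
    (hy : (phi η (⟨⊥, Ideal.isPrime_bot⟩ : PrimeSpectrum R)).IsIntegralElem y) :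
    ∃ x ∈ η.M R, x ⟨⊥, Ideal.isPrime_bot⟩ = y := by
  rcases hη with hInV | hperf
  · obtain ⟨w, rfl⟩ := (bijective_eta_residueField_bot η hInV).2 y
    obtain ⟨r, rfl⟩ := IsIntegrallyClosed.isIntegral_iff.mp (isIntegral_of_isIntegralElem_eta η w hy)
    exact ⟨η.t R r, η.t_mem_M R r, rfl⟩
  · obtain ⟨n, r, hr⟩ := exists_pow_eq_phi η y hy
    have hroot : ∀ 𝔯 : PrimeSpectrum R, ∃ b : η.obj 𝔯.asIdeal.ResidueField,
        b ^ ringExpChar R ^ n = phi η 𝔯 r := fun 𝔯 =>
      pow_surj_of_perfect η (phi η 𝔯) hperf (bijective_eta_obj η _) n _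
    choose x hx using hroot
    refine ⟨x, ?_, ?_⟩
    · intro R' _ _ _ hR' g
      have hK' : Function.Bijective (η.eta (FractionRing R')) := hR'
      obtain ⟨s, hs⟩ := pow_surj_of_perfect η ((algebraMap R' (FractionRing R')).comp g) hperf hK' n
        (algebraMap R' (FractionRing R') (g r))
      have hsint : IsIntegral R' s := by
        apply IsIntegral.of_pow (pow_pos (ringExpChar_pos' R) n)
        · rw [hs]; exact isIntegral_algebraMap
      obtain ⟨r', rfl⟩ := IsIntegrallyClosed.isIntegral_iff.mp hsint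
      have hr' : r' ^ ringExpChar R ^ n = g r := by
        apply IsFractionRing.injective R' (FractionRing R')
        rw [map_pow, hs]
      refine ⟨r', ?_⟩
      funext 𝔯'
      rw [t_apply, Nmap_apply]
      apply pow_inj_of_hom_domain ((phi η 𝔯').comp g) n
      rw [← map_pow, ← map_pow, ← map_pow, hr', hx, phi_apply, eta_natural_apply η,
        Ideal.ResidueField.map_algebraMap]
    · exact pow_inj_of_hom_domain (phi η ⟨⊥, Ideal.isPrime_bot⟩) n ((hx _).trans hr.symm)

theorem pow_aux {L : Type u} [Field L] (y z' s' r' : L) (N m : ℕ) (hN : N = m + 1)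
    (hz : z' = y ^ N) (h1 : z' * s' = r') : (y * s') ^ N = r' * s' ^ m := by
  subst hN
  rw [mul_pow, ← hz, pow_succ, ← h1]
  ring

theorem injOn_eval_bot {A : Type u} [CommRing A] [IsDomain A] :
    Set.InjOn (fun x : η.N A => x ⟨⊥, Ideal.isPrime_bot⟩) (η.M A) := by
  intro x hx y hy hxy
  funext q
  have h := eq_zero_of_le η (Subring.sub_mem _ hx hy) ⟨⊥, Ideal.isPrime_bot⟩ q bot_le (by
    change x _ - y _ = 0
    exact sub_eq_zero.mpr hxy)
  exact sub_eq_zero.mp h

theorem evalM_bot_injective {A : Type u} [CommRing A] [IsDomain A] :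
    Function.Injective (evalM η (⟨⊥, Ideal.isPrime_bot⟩ : PrimeSpectrum A)) := by
  intro x y hxy
  exact Subtype.ext (injOn_eval_bot η x.2 y.2 hxy)

/-- S13813 -/
theorem M_valuationRing_eq_integralClosure (R : Type u) [CommRing R] [IsDomain R]
    [ValuationRing R]
    (hη : η.InV R ∨ ∀ (k : Type u) [Field k], ringChar k = ringChar R →
      Function.Bijective (η.eta k) → PerfectField k) :
    Set.InjOn (fun x : η.N R => x ⟨⊥, Ideal.isPrime_bot⟩) (η.M R) ∧
      (fun x : η.N R => x ⟨⊥, Ideal.isPrime_bot⟩) '' (η.M R : Set (η.N R)) =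
        {y | ((η.eta (⊥ : Ideal R).ResidueField).comp
          (algebraMap R (⊥ : Ideal R).ResidueField)).IsIntegralElem y} := by
  refine ⟨injOn_eval_bot η, ?_⟩
  ext y
  constructor
  · rintro ⟨x, hx, rfl⟩
    exact isIntegralElem_phi η hx ⟨⊥, Ideal.isPrime_bot⟩
  · intro hy
    obtain ⟨x, hx, hxy⟩ := exists_mem_M_of_isIntegralElem η hη y hy
    exact ⟨x, hx, hxy⟩

/-- S13814 -/
theorem M_valuationRing_isDomain_preValuationRing (R : Type u) [CommRing R] [IsDomain R]
    [ValuationRing R]
    (hη : η.InV R ∨ ∀ (k : Type u) [Field k], ringChar k = ringChar R →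
      Function.Bijective (η.eta k) → PerfectField k) :
    IsDomain (η.M R) ∧ PreValuationRing (η.M R) ∧
      (∀ y : η.obj (⊥ : Ideal R).ResidueField, ∃ a b : η.M R,
        (b : η.N R) ⟨⊥, Ideal.isPrime_bot⟩ ≠ 0 ∧
          y * (b : η.N R) ⟨⊥, Ideal.isPrime_bot⟩ = (a : η.N R) ⟨⊥, Ideal.isPrime_bot⟩) ∧
      (fun x : η.N R => x ⟨⊥, Ideal.isPrime_bot⟩) '' (η.M R : Set (η.N R)) ∩
          Set.range (η.eta (⊥ : Ideal R).ResidueField) =
        Set.range ((η.eta (⊥ : Ideal R).ResidueField).comp
          (algebraMap R (⊥ : Ideal R).ResidueField)) := by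
  have hinj := evalM_bot_injective η (A := R)
  have hdom : IsDomain (η.M R) := hinj.isDomain (evalM η ⟨⊥, Ideal.isPrime_bot⟩)
  have hphi_int : ∀ r : R, (phi η (⟨⊥, Ideal.isPrime_bot⟩ : PrimeSpectrum R)).IsIntegralElem
      (phi η ⟨⊥, Ideal.isPrime_bot⟩ r) := fun r => (phi η _).isIntegralElem_map
  refine ⟨hdom, ?_, ?_, ?_⟩
  · -- PreValuationRing
    constructor
    intro a b
    rcases hη with hInV | hperf
    · obtain ⟨r, rfl⟩ := (bijective_q_of_isIntegrallyClosed η R hInV).2 a
      obtain ⟨s, rfl⟩ := (bijective_q_of_isIntegrallyClosed η R hInV).2 b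
      obtain ⟨c, hc | hc⟩ := ValuationRing.cond r s
      · exact ⟨η.q R c, Or.inl (by rw [← map_mul, hc])⟩
      · exact ⟨η.q R c, Or.inr (by rw [← map_mul, hc])⟩
    · obtain ⟨n₁, r₁, hr₁⟩ := exists_pow_eq_phi η _ (isIntegralElem_phi η a.2 ⟨⊥, Ideal.isPrime_bot⟩)
      obtain ⟨n₂, r₂, hr₂⟩ := exists_pow_eq_phi η _ (isIntegralElem_phi η b.2 ⟨⊥, Ideal.isPrime_bot⟩)
      -- common exponent
      have ha : (evalM η ⟨⊥, Ideal.isPrime_bot⟩ a) ^ ringExpChar R ^ (n₁ + n₂) =
          phi η ⟨⊥, Ideal.isPrime_bot⟩ (r₁ ^ ringExpChar R ^ n₂) := by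
        rw [pow_add, pow_mul, map_pow, ← hr₁]; rfl
      have hb : (evalM η ⟨⊥, Ideal.isPrime_bot⟩ b) ^ ringExpChar R ^ (n₁ + n₂) =
          phi η ⟨⊥, Ideal.isPrime_bot⟩ (r₂ ^ ringExpChar R ^ n₁) := by
        rw [add_comm, pow_add, pow_mul, map_pow, ← hr₂]; rfl
      have key : ∀ (a b : η.M R) (r s c : R) (N : ℕ),
          (evalM η ⟨⊥, Ideal.isPrime_bot⟩ a) ^ ringExpChar R ^ N = phi η ⟨⊥, Ideal.isPrime_bot⟩ r →
          (evalM η ⟨⊥, Ideal.isPrime_bot⟩ b) ^ ringExpChar R ^ N = phi η ⟨⊥, Ideal.isPrime_bot⟩ s →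
          r * c = s → ∃ c' : η.M R, a * c' = b := by
        intro a b r s c N har hbs hrc
        obtain ⟨c₀, hc₀⟩ := pow_surj_of_perfect η (phi η (⟨⊥, Ideal.isPrime_bot⟩ : PrimeSpectrum R))
          hperf (bijective_eta_obj η _) N (phi η ⟨⊥, Ideal.isPrime_bot⟩ c)
        have hc₀int : (phi η (⟨⊥, Ideal.isPrime_bot⟩ : PrimeSpectrum R)).IsIntegralElem c₀ := by
          apply isIntegralElem_of_pow _ (pow_pos (ringExpChar_pos' R) N)
          rw [hc₀]; exact hphi_int c
        obtain ⟨c', hc', hc'0⟩ := exists_mem_M_of_isIntegralElem η (Or.inr hperf) c₀ hc₀int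
        refine ⟨⟨c', hc'⟩, ?_⟩
        apply hinj
        apply pow_inj_of_hom_domain (phi η (⟨⊥, Ideal.isPrime_bot⟩ : PrimeSpectrum R)) N
        rw [map_mul, mul_pow, har, hbs, ← hrc, map_mul]
        congr 1
        rw [evalM_apply]
        change c' _ ^ _ = _
        rw [hc'0, hc₀]
      obtain ⟨c, hc | hc⟩ := ValuationRing.cond (r₁ ^ ringExpChar R ^ n₂) (r₂ ^ ringExpChar R ^ n₁)
      · obtain ⟨c', hc'⟩ := key a b _ _ c _ ha hb hc
        exact ⟨c', Or.inl hc'⟩
      · obtain ⟨c', hc'⟩ := key b a _ _ c _ hb ha hc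
        exact ⟨c', Or.inr hc'⟩
  · -- fractions
    intro y
    obtain ⟨n, z, hz⟩ := η.exists_pow_mem_range_eta (⊥ : Ideal R).ResidueField y
    rw [ringExpChar_residueField_bot] at hz
    obtain ⟨r, s, hs, rfl⟩ := IsFractionRing.div_surjective (A := R) z
    have hs0 : s ≠ 0 := nonZeroDivisors.ne_zero hs
    have hφs : phi η (⟨⊥, Ideal.isPrime_bot⟩ : PrimeSpectrum R) s ≠ 0 := by
      rw [ne_eq, phi_eq_zero_iff]; exact hs0
    have hw : (y * phi η ⟨⊥, Ideal.isPrime_bot⟩ s) ^ ringExpChar R ^ n =
        phi η ⟨⊥, Ideal.isPrime_bot⟩ (r * s ^ (ringExpChar R ^ n - 1)) := by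
      have h1 : η.eta _ (algebraMap R (⊥ : Ideal R).ResidueField r / algebraMap R _ s) *
          phi η ⟨⊥, Ideal.isPrime_bot⟩ s = phi η ⟨⊥, Ideal.isPrime_bot⟩ r := by
        rw [phi_apply, phi_apply, ← map_mul, div_mul_cancel₀]
        rw [ne_eq, Ideal.algebraMap_residueField_eq_zero]; exact hs0
      have h2 : ringExpChar R ^ n = (ringExpChar R ^ n - 1) + 1 :=
        (Nat.sub_add_cancel (pow_pos (ringExpChar_pos' R) n)).symm
      rw [map_mul, map_pow]
      exact pow_aux _ _ _ _ _ _ h2 hz h1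
    have hwint : (phi η (⟨⊥, Ideal.isPrime_bot⟩ : PrimeSpectrum R)).IsIntegralElem
        (y * phi η ⟨⊥, Ideal.isPrime_bot⟩ s) := by
      apply isIntegralElem_of_pow _ (pow_pos (ringExpChar_pos' R) n)
      rw [hw]; exact hphi_int _
    obtain ⟨a, ha, ha0⟩ := exists_mem_M_of_isIntegralElem η hη _ hwint
    exact ⟨⟨a, ha⟩, η.q R s, hφs, ha0.symm⟩
  · ext y
    constructor
    · rintro ⟨⟨x, hx, rfl⟩, ⟨z, hz⟩⟩
      have hzint : IsIntegral R z := by
        apply isIntegral_of_isIntegralElem_eta η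
        rw [hz]; exact isIntegralElem_phi η hx ⟨⊥, Ideal.isPrime_bot⟩
      obtain ⟨r, rfl⟩ := IsIntegrallyClosed.isIntegral_iff.mp hzint
      exact ⟨r, hz⟩
    · rintro ⟨r, rfl⟩
      exact ⟨⟨η.t R r, η.t_mem_M R r, rfl⟩, ⟨_, rfl⟩⟩

theorem isNilpotent_of_t_eq_zero {B : Type u} [CommRing B] (b : B) (h : η.t B b = 0) :
    IsNilpotent b := by
  rw [nilpotent_iff_mem_prime]
  intro J hJ
  have := congrFun h ⟨J, hJ⟩
  rw [t_eq_phi] at this
  exact (phi_eq_zero_iff η ⟨J, hJ⟩ _).mp this

theorem comp_q_of_compat {A B : Type u} [CommRing A] [CommRing B] (f : A →+* B)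
    (g : η.M A →+* η.M B) (hg : ∀ x : η.M A, ((g x : η.M B) : η.N B) = η.Nmap f (x : η.N A)) :
    g.comp (η.q A) = (η.q B).comp f := by
  refine RingHom.ext fun a => Subtype.ext ?_
  rw [RingHom.comp_apply, hg, coe_q, η.Nmap_t_apply]
  rfl

/-- S19577 -/
theorem isIntegral_iff_and_comap_surjective_iff_of_Mmap {A B : Type u} [CommRing A] [CommRing B]
    (hA : (minimalPrimes A).Finite) (hB : (minimalPrimes B).Finite) (f : A →+* B)
    (g : η.M A →+* η.M B) (hg : ∀ x : η.M A, ((g x : η.M B) : η.N B) = η.Nmap f (x : η.N A)) :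
    (f.IsIntegral ↔ g.IsIntegral) ∧
      (Function.Surjective (PrimeSpectrum.comap f) ↔
        Function.Surjective (PrimeSpectrum.comap g)) := by
  have hc := comp_q_of_compat η f g hg
  have hcomap : ∀ Q'' : PrimeSpectrum (η.M B),
      PrimeSpectrum.comap (η.q A) (PrimeSpectrum.comap g Q'') =
        PrimeSpectrum.comap f (PrimeSpectrum.comap (η.q B) Q'') := by
    intro Q''
    change PrimeSpectrum.comap (g.comp (η.q A)) Q'' = PrimeSpectrum.comap ((η.q B).comp f) Q''
    rw [hc]
  refine ⟨⟨fun hf => ?_, fun hgi => ?_⟩, ⟨fun hf => ?_, fun hgs => ?_⟩⟩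
  · apply RingHom.IsIntegral.tower_top (η.q A)
    rw [hc]
    exact RingHom.IsIntegral.trans _ _ hf (isIntegral_q η hB)
  · have h1 : ((η.q B).comp f).IsIntegral := by
      rw [← hc]; exact RingHom.IsIntegral.trans _ _ (isIntegral_q η hA) hgi
    intro b
    obtain ⟨P, hP1, hP2⟩ := h1 (η.q B b)
    rw [← Polynomial.hom_eval₂] at hP2
    obtain ⟨n, hn⟩ := isNilpotent_of_t_eq_zero η _ (congrArg Subtype.val hP2)
    refine ⟨P ^ n, hP1.pow n, ?_⟩
    rw [Polynomial.eval₂_pow, hn]
  · intro Q'
    obtain ⟨Q, hQ⟩ := hf (PrimeSpectrum.comap (η.q A) Q')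
    refine ⟨primeOver η Q, ?_⟩
    apply comap_q_injective η hA
    rw [hcomap, comap_q_primeOver, hQ]
  · intro P
    obtain ⟨Q'', hQ''⟩ := hgs (primeOver η P)
    refine ⟨PrimeSpectrum.comap (η.q B) Q'', ?_⟩
    rw [← hcomap, hQ'', comap_q_primeOver]

/-- S19578 -/
theorem comap_bijective_and_residue_factor_of_Mmap_bijective {A B : Type u} [CommRing A]
    [CommRing B] (f : A →+* B)
    (g : η.M A →+* η.M B) (hg : ∀ x : η.M A, ((g x : η.M B) : η.N B) = η.Nmap f (x : η.N A))
    (hbij : Function.Bijective g) :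
    Function.Bijective (PrimeSpectrum.comap f) ∧
      ∀ Q : PrimeSpectrum B,
        ∃ φ : Q.asIdeal.ResidueField →+* η.obj (PrimeSpectrum.comap f Q).asIdeal.ResidueField,
          φ.comp (Ideal.ResidueField.map (PrimeSpectrum.comap f Q).asIdeal Q.asIdeal f rfl) =
            η.eta (PrimeSpectrum.comap f Q).asIdeal.ResidueField := by
  have hc := comp_q_of_compat η f g hg
  let e := RingEquiv.ofBijective g hbij
  let ψ : ∀ P : PrimeSpectrum A, B →+* η.obj P.asIdeal.ResidueField := fun P =>
    (evalM η P).comp (e.symm.toRingHom.comp (η.q B))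
  have hψf : ∀ (P : PrimeSpectrum A) (a : A), ψ P (f a) = phi η P a := by
    intro P a
    change evalM η P (e.symm (η.q B (f a))) = _
    have : η.q B (f a) = e (η.q A a) := (congrArg (fun k => k a) (congrArg DFunLike.coe hc)).symm
    rw [this, e.symm_apply_apply, evalM_q]
  have key : ∀ (Q : PrimeSpectrum B) (b : B),
      b ∈ Q.asIdeal ↔ ψ (PrimeSpectrum.comap f Q) b = 0 := by
    intro Q b
    have h1 : g (e.symm (η.q B b)) = η.q B b := e.apply_symm_apply _
    have h2 := congrFun ((hg (e.symm (η.q B b))).symm.trans (congrArg Subtype.val h1)) Q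
    rw [Nmap_apply, coe_q, t_eq_phi] at h2
    rw [← phi_eq_zero_iff η Q b, ← h2, map_eq_zero]
    rfl
  refine ⟨⟨?_, ?_⟩, ?_⟩
  · intro Q Q' hQQ'
    ext b
    rw [key, key, hQQ']
  · intro P
    refine ⟨⟨RingHom.ker (ψ P), RingHom.ker_isPrime _⟩, ?_⟩
    ext a
    change f a ∈ RingHom.ker (ψ P) ↔ _
    rw [RingHom.mem_ker, hψf, phi_eq_zero_iff]
  · intro Q
    refine ⟨Ideal.ResidueField.lift Q.asIdeal (ψ (PrimeSpectrum.comap f Q))
      (fun b hb => (key Q b).mp hb) ?_, ?_⟩
    · intro y hy
      simp only [Submonoid.mem_comap, IsUnit.mem_submonoid_iff, isUnit_iff_ne_zero]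
      exact fun h => hy ((key Q y).mpr h)
    · apply Ideal.ResidueField.ringHom_ext
      ext a
      rw [RingHom.comp_apply, RingHom.comp_apply, RingHom.comp_apply]
      erw [Ideal.ResidueField.map_algebraMap, Ideal.ResidueField.lift_algebraMap]
      rw [hψf]
      rfl

/-- S13822 -/
theorem bijective_qRel_of_faithfullyFlat_baseChange (A A' B : Type u) [CommRing A] [CommRing A']
    [CommRing B] [Algebra A A'] [Algebra A B] [Module.FaithfullyFlat A A']
    (h : Function.Bijective
      (η.qRel (Algebra.TensorProduct.includeLeftRingHom : A' →+* A' ⊗[A] B))) :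
    Function.Bijective (η.qRel (algebraMap A B)) := by
  rw [qRel_bijective_iff] at h ⊢
  refine ⟨Module.FaithfullyFlat.injective_of_tensorProduct (R := A) (S := A') (T := B) h.1,
    fun b hb => ?_⟩
  obtain ⟨x, hx, hxb⟩ := (mem_rel_iff η _ b).mp hb
  have hcomm : (Algebra.TensorProduct.includeLeftRingHom : A' →+* A' ⊗[A] B).comp
      (algebraMap A A') =
      (Algebra.TensorProduct.includeRight : B →ₐ[A] A' ⊗[A] B).toRingHom.comp (algebraMap A B) :=
    Algebra.TensorProduct.includeLeftRingHom_comp_algebraMap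
  obtain ⟨a', ha'⟩ := h.2 ((1 : A') ⊗ₜ[A] b) ((mem_rel_iff η _ _).mpr
    ⟨η.Nmap (algebraMap A A') x, Nmap_mem_M η _ hx, by
      rw [← Nmap_comp_apply, hcomm, Nmap_comp_apply, hxb, η.Nmap_t_apply]
      rfl⟩)
  have ha'' : a' ⊗ₜ[A] (1 : B) = (1 : A') ⊗ₜ[A] b := ha'
  let π := (LinearMap.range (Algebra.linearMap A B)).mkQ
  have hinj := Module.FaithfullyFlat.tensorProduct_mk_injective (A := A) (B := A')
    (B ⧸ LinearMap.range (Algebra.linearMap A B))
  have h1 : π b = 0 := by
    apply hinj
    rw [map_zero]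
    have := congrArg (LinearMap.lTensor A' π) ha''
    rw [LinearMap.lTensor_tmul, LinearMap.lTensor_tmul] at this
    rw [TensorProduct.mk_apply, ← this]
    have h1 : π (1 : B) = 0 := by
      rw [Submodule.mkQ_apply, Submodule.Quotient.mk_eq_zero]
      exact ⟨1, by simp⟩
    rw [h1, TensorProduct.tmul_zero]
  rw [Submodule.mkQ_apply, Submodule.Quotient.mk_eq_zero] at h1
  obtain ⟨a, ha⟩ := h1
  exact ⟨a, ha⟩

theorem bijective_map_of_bijective {K L : Type u} [Field K] [Field L] (ρ : K →+* L)
    (h : Function.Bijective ρ) : Function.Bijective (η.map ρ) := by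
  have := bijective_map_ringEquiv η (RingEquiv.ofBijective ρ h)
  have h2 : (RingEquiv.ofBijective ρ h).toRingHom = ρ := by ext; rfl
  rwa [h2] at this

theorem bijective_map_resmap_of_surjective {A B : Type u} [CommRing A] [CommRing B] (f : A →+* B)
    (hf : Function.Surjective f) (q : PrimeSpectrum B) :
    Function.Bijective (η.map
      (Ideal.ResidueField.map (PrimeSpectrum.comap f q).asIdeal q.asIdeal f rfl)) :=
  bijective_map_of_bijective η _
    ((RingHom.surjectiveOnStalks_of_surjective hf).residueFieldMap_bijective _ _ rfl)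

/-- the map `Spec A ⊔ Spec B → Spec (A × B)` -/
noncomputable def sigmaProd (A B : Type u) [CommRing A] [CommRing B] :
    PrimeSpectrum A ⊕ PrimeSpectrum B → PrimeSpectrum (A × B) :=
  Sum.elim (PrimeSpectrum.comap (RingHom.fst A B)) (PrimeSpectrum.comap (RingHom.snd A B))

theorem sigmaProd_bijective (A B : Type u) [CommRing A] [CommRing B] :
    Function.Bijective (sigmaProd A B) := by
  have h01 : ∀ (p : PrimeSpectrum A) (q : PrimeSpectrum B),
      PrimeSpectrum.comap (RingHom.fst A B) p ≠ PrimeSpectrum.comap (RingHom.snd A B) q := by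
    intro p q h
    have h1 : ((0 : A), (1 : B)) ∈ (PrimeSpectrum.comap (RingHom.fst A B) p).asIdeal := by
      change (0 : A) ∈ p.asIdeal
      exact zero_mem _
    rw [h] at h1
    have h2 : (1 : B) ∈ q.asIdeal := h1
    exact q.2.ne_top ((Ideal.eq_top_iff_one _).mpr h2)
  constructor
  · rintro (p | q) (p' | q') h
    · exact congrArg Sum.inl
        (PrimeSpectrum.comap_injective_of_surjective _ Prod.fst_surjective h)
    · exact (h01 p q' h).elim
    · exact (h01 p' q h.symm).elim
    · exact congrArg Sum.inr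
        (PrimeSpectrum.comap_injective_of_surjective _ Prod.snd_surjective h)
  · intro 𝔓
    rcases (Ideal.ideal_prod_prime 𝔓.asIdeal).mp 𝔓.2 with ⟨p, hp, h⟩ | ⟨q, hq, h⟩
    · refine ⟨Sum.inl ⟨p, hp⟩, PrimeSpectrum.ext ?_⟩
      rw [h]
      change Ideal.comap (RingHom.fst A B) p = _
      simp [Ideal.prod]
    · refine ⟨Sum.inr ⟨q, hq⟩, PrimeSpectrum.ext ?_⟩
      rw [h]
      change Ideal.comap (RingHom.snd A B) q = _
      simp [Ideal.prod]

theorem bijective_Nmap_prod (A B : Type u) [CommRing A] [CommRing B] :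
    Function.Bijective (fun x : η.N (A × B) =>
      (η.Nmap (RingHom.fst A B) x, η.Nmap (RingHom.snd A B) x)) := by
  have hΦ := pi_bijective (sigmaProd A B) (sigmaProd_bijective A B)
    (B := fun 𝔓 : PrimeSpectrum (A × B) => η.obj 𝔓.asIdeal.ResidueField)
    (C := fun s : PrimeSpectrum A ⊕ PrimeSpectrum B =>
      Sum.rec (motive := fun _ => Type u) (fun p => η.obj p.asIdeal.ResidueField)
        (fun q => η.obj q.asIdeal.ResidueField) s)
    (fun s => Sum.rec
      (motive := fun s => η.obj (sigmaProd A B s).asIdeal.ResidueField →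
        Sum.rec (motive := fun _ => Type u) (fun p => η.obj p.asIdeal.ResidueField)
        (fun q => η.obj q.asIdeal.ResidueField) s)
      (fun p => η.map (Ideal.ResidueField.map
        (PrimeSpectrum.comap (RingHom.fst A B) p).asIdeal p.asIdeal (RingHom.fst A B) rfl))
      (fun q => η.map (Ideal.ResidueField.map
        (PrimeSpectrum.comap (RingHom.snd A B) q).asIdeal q.asIdeal (RingHom.snd A B) rfl)) s)
    (by
      rintro (p | q)
      · exact bijective_map_resmap_of_surjective η _ Prod.fst_surjective p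
      · exact bijective_map_resmap_of_surjective η _ Prod.snd_surjective q)
  constructor
  · intro x x' h
    apply hΦ.1
    funext s
    rcases s with p | q
    · exact congrFun (congrArg Prod.fst h) p
    · exact congrFun (congrArg Prod.snd h) q
  · rintro ⟨y, z⟩
    obtain ⟨x, hx⟩ := hΦ.2 (fun s => Sum.rec (motive := fun s =>
        Sum.rec (motive := fun _ => Type u) (fun p => η.obj p.asIdeal.ResidueField)
        (fun q => η.obj q.asIdeal.ResidueField) s) y z s)
    refine ⟨x, Prod.ext ?_ ?_⟩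
    · funext p
      exact congrFun hx (Sum.inl p)
    · funext q
      exact congrFun hx (Sum.inr q)

theorem exists_factor_prod {A B R : Type u} [CommRing A] [CommRing B] [CommRing R] [IsDomain R]
    (g : A × B →+* R) :
    (∃ gA : A →+* R, g = gA.comp (RingHom.fst A B)) ∨
      (∃ gB : B →+* R, g = gB.comp (RingHom.snd A B)) := by
  have hidem : g (1, 0) * g (1, 0) = g (1, 0) := by
    rw [← map_mul]; simp
  have hsum : g (1, 0) + g (0, 1) = 1 := by
    rw [← map_add]
    have : ((1 : A), (0 : B)) + ((0 : A), (1 : B)) = 1 := by ext <;> simp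
    rw [this, map_one]
  have h01 : g (1, 0) = 0 ∨ g (1, 0) = 1 := by
    have : g (1, 0) * (g (1, 0) - 1) = 0 := by rw [mul_sub, hidem, mul_one, sub_self]
    rcases mul_eq_zero.mp this with h | h
    · exact Or.inl h
    · exact Or.inr (sub_eq_zero.mp h)
  rcases h01 with h0 | h1
  · right
    have hg01 : g (0, 1) = 1 := by rw [h0, zero_add] at hsum; exact hsum
    refine ⟨{ toFun := fun b => g (0, b)
              map_one' := hg01
              map_mul' := fun b b' => by rw [← map_mul]; simp
              map_zero' := by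
                have : ((0 : A), (0 : B)) = 0 := rfl
                rw [this, map_zero]
              map_add' := fun b b' => by rw [← map_add]; simp }, ?_⟩
    ext ⟨a, b⟩
    change g (a, b) = g (0, b)
    have : g (a, b) = g (a, 0) + g (0, b) := by rw [← map_add]; simp
    rw [this]
    have h2 : g (a, 0) = g (1, 0) * g (a, 0) := by rw [← map_mul]; simp
    rw [h2, h0, zero_mul, zero_add]
  · left
    have hg01 : g (0, 1) = 0 := by rw [h1] at hsum; exact add_eq_left.mp hsum
    refine ⟨{ toFun := fun a => g (a, 0)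
              map_one' := h1
              map_mul' := fun a a' => by rw [← map_mul]; simp
              map_zero' := by
                have : ((0 : A), (0 : B)) = 0 := rfl
                rw [this, map_zero]
              map_add' := fun a a' => by rw [← map_add]; simp }, ?_⟩
    ext ⟨a, b⟩
    change g (a, b) = g (a, 0)
    have : g (a, b) = g (a, 0) + g (0, b) := by rw [← map_add]; simp
    rw [this]
    have h2 : g (0, b) = g (0, 1) * g (0, b) := by rw [← map_mul]; simp
    rw [h2, hg01, zero_mul, add_zero]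

/-- S13810 -/
theorem bijOn_M_prod (A B : Type u) [CommRing A] [CommRing B] :
    Set.BijOn (fun x : η.N (A × B) =>
        (η.Nmap (RingHom.fst A B) x, η.Nmap (RingHom.snd A B) x))
      (η.M (A × B)) ((η.M A : Set (η.N A)) ×ˢ (η.M B : Set (η.N B))) := by
  refine ⟨fun x hx => ⟨Nmap_mem_M η _ hx, Nmap_mem_M η _ hx⟩,
    fun x _ y _ h => (bijective_Nmap_prod η A B).1 h, ?_⟩
  rintro ⟨y, z⟩ ⟨hy, hz⟩
  obtain ⟨x, hx⟩ := (bijective_Nmap_prod η A B).2 (y, z)
  refine ⟨x, ?_, hx⟩
  have hx1 : η.Nmap (RingHom.fst A B) x = y := congrArg Prod.fst hx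
  have hx2 : η.Nmap (RingHom.snd A B) x = z := congrArg Prod.snd hx
  intro R _ _ _ hR g
  rcases exists_factor_prod g with ⟨gA, rfl⟩ | ⟨gB, rfl⟩
  · rw [Nmap_comp_apply, hx1]
    exact hy R hR gA
  · rw [Nmap_comp_apply, hx2]
    exact hz R hR gB

theorem map_mem_nonZeroDivisors_of_flat (A A' : Type u) [CommRing A] [CommRing A'] [Algebra A A']
    [Module.Flat A A'] :
    nonZeroDivisors A ≤ (nonZeroDivisors A').comap (algebraMap A A') := by
  intro d hd
  have h1 : IsSMulRegular A d := Module.Flat.isSMulRegular_of_nonZeroDivisors hd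
  have h2 : IsSMulRegular A' (algebraMap A A' d) := IsSMulRegular.of_flat h1
  exact IsRegular.mem_nonZeroDivisors (isLeftRegular_iff_isRegular.mp h2.isLeftRegular)

/-- S13823 -/
theorem bijective_qRel_integralClosure_of_faithfullyFlat (A A' : Type u) [CommRing A]
    [CommRing A'] [Algebra A A'] [Module.FaithfullyFlat A A']
    (h : Function.Bijective
      (η.qRel (algebraMap A' (integralClosure A' (FractionRing A'))))) :
    Function.Bijective (η.qRel (algebraMap A (integralClosure A (FractionRing A)))) := by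
  have hM := map_mem_nonZeroDivisors_of_flat A A'
  let ψ : FractionRing A →+* FractionRing A' :=
    IsLocalization.map (FractionRing A') (algebraMap A A') hM
  have hψ : ∀ a : A, ψ (algebraMap A (FractionRing A) a) =
      algebraMap A' (FractionRing A') (algebraMap A A' a) := fun a => IsLocalization.map_eq hM a
  have hint : ∀ b : integralClosure A (FractionRing A),
      ψ (b : FractionRing A) ∈ integralClosure A' (FractionRing A') := by
    intro b
    obtain ⟨P, hP1, hP2⟩ := b.2
    refine ⟨P.map (algebraMap A A'), hP1.map _, ?_⟩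
    rw [Polynomial.eval₂_map]
    have : (algebraMap A' (FractionRing A')).comp (algebraMap A A') =
        ψ.comp (algebraMap A (FractionRing A)) := by
      ext a; exact (hψ a).symm
    rw [this, ← Polynomial.hom_eval₂, hP2, map_zero]
  let ψbar : integralClosure A (FractionRing A) →+* integralClosure A' (FractionRing A') :=
    { toFun := fun b => ⟨ψ b, hint b⟩
      map_one' := Subtype.ext (by simp)
      map_mul' := fun a b => Subtype.ext (by simp)
      map_zero' := Subtype.ext (by simp)
      map_add' := fun a b => Subtype.ext (by simp) }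
  have hcomm : ψbar.comp (algebraMap A (integralClosure A (FractionRing A))) =
      (algebraMap A' (integralClosure A' (FractionRing A'))).comp (algebraMap A A') := by
    refine RingHom.ext fun a => Subtype.ext ?_
    exact hψ a
  rw [qRel_bijective_iff] at h ⊢
  have hinjQ : Function.Injective (algebraMap A (FractionRing A)) :=
    IsFractionRing.injective A (FractionRing A)
  have hinjQ' : Function.Injective (algebraMap A' (FractionRing A')) :=
    IsFractionRing.injective A' (FractionRing A')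
  refine ⟨fun a a' haa' => hinjQ (congrArg Subtype.val haa'), fun b hb => ?_⟩
  obtain ⟨x, hx, hxb⟩ := (mem_rel_iff η _ b).mp hb
  obtain ⟨a', ha'⟩ := h.2 (ψbar b) ((mem_rel_iff η _ _).mpr
    ⟨η.Nmap (algebraMap A A') x, Nmap_mem_M η _ hx, by
      rw [← Nmap_comp_apply, ← hcomm, Nmap_comp_apply, hxb, η.Nmap_t_apply]⟩)
  have ha'' : algebraMap A' (FractionRing A') a' = ψ (b : FractionRing A) :=
    congrArg Subtype.val ha'
  obtain ⟨⟨c, d⟩, hcd⟩ := IsLocalization.surj (nonZeroDivisors A) (b : FractionRing A)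
  have h1 : a' * algebraMap A A' d = algebraMap A A' c := by
    apply hinjQ'
    rw [map_mul, ha'', ← hψ, ← hψ, ← map_mul, hcd]
  have h2 : c ∈ Ideal.span {(d : A)} := by
    rw [← Ideal.comap_map_eq_self_of_faithfullyFlat (B := A') (Ideal.span {(d : A)}),
      Ideal.mem_comap, Ideal.map_span, Set.image_singleton, Ideal.mem_span_singleton']
    exact ⟨a', h1⟩
  obtain ⟨a, ha⟩ := Ideal.mem_span_singleton'.mp h2
  refine ⟨a, Subtype.ext ?_⟩
  have hunit : IsUnit (algebraMap A (FractionRing A) (d : A)) :=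
    IsLocalization.map_units (FractionRing A) d
  apply hunit.mul_right_cancel
  change algebraMap A (FractionRing A) a * _ = (b : FractionRing A) * _
  rw [hcd, ← map_mul, ha]

theorem pi_surjective {X Y : Type*} (σ : X → Y) (hσ : Function.Injective σ) {B : Y → Type*}
    {C : X → Type*} [∀ b, Zero (B b)] (f : ∀ x, B (σ x) → C x)
    (hf : ∀ x, Function.Surjective (f x)) :
    Function.Surjective (fun (y : ∀ y, B y) (x : X) => f x (y (σ x))) := by
  classical
  intro z
  have hg : ∀ x, ∃ v, f x v = z x := fun x => hf x (z x)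
  choose g hg using hg
  refine ⟨fun b => if h : ∃ x, σ x = b then h.choose_spec ▸ g h.choose else 0, ?_⟩
  funext x₀
  have key : ∀ x₁ (h₁ : σ x₁ = σ x₀), f x₀ (h₁ ▸ g x₁) = z x₀ := by
    intro x₁ h₁
    obtain rfl := hσ h₁
    exact hg x₁
  have hex : ∃ x, σ x = σ x₀ := ⟨x₀, rfl⟩
  simp only [dif_pos hex]
  exact key hex.choose hex.choose_spec

theorem bijective_map_resmap_of_isLocalization {A S : Type u} [CommRing A] [CommRing S]
    [Algebra A S] (M : Submonoid A) [IsLocalization M S] (q : PrimeSpectrum S) :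
    Function.Bijective (η.map (Ideal.ResidueField.map
      (PrimeSpectrum.comap (algebraMap A S) q).asIdeal q.asIdeal (algebraMap A S) rfl)) :=
  bijective_map_of_bijective η _
    ((RingHom.surjectiveOnStalks_of_isLocalization M S).residueFieldMap_bijective _ _ rfl)

theorem Nmap_surjective_of_isLocalization {A S : Type u} [CommRing A] [CommRing S]
    [Algebra A S] (M : Submonoid A) [IsLocalization M S] :
    Function.Surjective (η.Nmap (algebraMap A S)) :=
  pi_surjective (PrimeSpectrum.comap (algebraMap A S))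
    (PrimeSpectrum.localization_comap_injective S M)
    (B := fun p : PrimeSpectrum A => η.obj p.asIdeal.ResidueField)
    (C := fun q : PrimeSpectrum S => η.obj q.asIdeal.ResidueField)
    (fun q => η.map (Ideal.ResidueField.map
      (PrimeSpectrum.comap (algebraMap A S) q).asIdeal q.asIdeal (algebraMap A S) rfl))
    (fun q => (bijective_map_resmap_of_isLocalization η M q).2)

theorem t_mul_eq_zero_of_Nmap_away_eq_zero {A : Type u} [CommRing A] (f : A) (x : η.N A)
    (h : η.Nmap (algebraMap A (Localization.Away f)) x = 0) : η.t A f * x = 0 := by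
  funext p
  change η.t A f p * x p = 0
  by_cases hf : f ∈ p.asIdeal
  · rw [t_eq_phi, (phi_eq_zero_iff η p f).mpr hf, zero_mul]
  · have hp : p ∈ Set.range (PrimeSpectrum.comap (algebraMap A (Localization.Away f))) := by
      rw [PrimeSpectrum.localization_away_comap_range (Localization.Away f) f]
      exact hf
    obtain ⟨q, rfl⟩ := hp
    have := congrFun h q
    rw [Nmap_apply] at this
    rw [(map_eq_zero _).mp this, mul_zero]

/-- S13824 -/
theorem Nmap_away_isLocalization (A : Type u) [CommRing A] (f : A) :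
    (∀ y : η.N (Localization.Away f), ∃ (x : η.N A) (n : ℕ),
        y * η.t (Localization.Away f) (algebraMap A (Localization.Away f) f) ^ n =
          η.Nmap (algebraMap A (Localization.Away f)) x) ∧
      ∀ x : η.N A, η.Nmap (algebraMap A (Localization.Away f)) x = 0 →
        ∃ n : ℕ, η.t A f ^ n * x = 0 := by
  constructor
  · intro y
    obtain ⟨x, hx⟩ := Nmap_surjective_of_isLocalization η (Submonoid.powers f)
      (S := Localization.Away f) y
    exact ⟨x, 0, by rw [pow_zero, mul_one, hx]⟩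
  · intro x hx
    exact ⟨1, by rw [pow_one]; exact t_mul_eq_zero_of_Nmap_away_eq_zero η f x hx⟩

theorem finite_minimalPrimes_away {A : Type u} [CommRing A] (hA : (minimalPrimes A).Finite)
    (f : A) : (minimalPrimes (Localization.Away f)).Finite := by
  have h1 := IsLocalization.minimalPrimes_map (Submonoid.powers f) (Localization.Away f)
    (⊥ : Ideal A)
  rw [Ideal.map_bot] at h1
  change minimalPrimes (Localization.Away f) = _ at h1
  rw [h1]
  apply Set.Finite.preimage _ hA
  intro I _ J _ hIJ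
  have hI := IsLocalization.map_under (Submonoid.powers f) (Localization.Away f) I
  have hJ := IsLocalization.map_under (Submonoid.powers f) (Localization.Away f) J
  rw [← hI, ← hJ]
  exact congrArg _ hIJ

/-- evaluation of `M A` in a valuation subring (with `η` bijective at the ambient field) along
a ring hom -/
theorem exists_evalV {A : Type u} [CommRing A] {L : Type u} [Field L]
    (hL : Function.Bijective (η.eta L)) (V : ValuationSubring L) (g : A →+* V) :
    ∃ e : η.M A →+* V, (∀ m : η.M A, η.t V (e m) = η.Nmap g (m : η.N A)) ∧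
      ∀ a : A, e (η.q A a) = g a := by
  have hq := bijective_q_of_isIntegrallyClosed η V (inV_valuationSubring η hL V)
  let eq := RingEquiv.ofBijective (η.q V) hq
  refine ⟨eq.symm.toRingHom.comp (Mmap η g), fun m => ?_, fun a => ?_⟩
  · have h1 : η.q V (eq.symm (Mmap η g m)) = Mmap η g m := eq.apply_symm_apply _
    have h2 := congrArg Subtype.val h1
    exact h2
  · change eq.symm (Mmap η g (η.q A a)) = g a
    rw [Mmap_q]
    exact eq.symm_apply_apply _

/-- key extension-by-zero lemma -/
theorem mul_t_mem_M_of_integral {A : Type u} [CommRing A] (f : A) (x₁ : η.N A)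
    (hw : η.Nmap (algebraMap A (Localization.Away f)) x₁ ∈ η.M (Localization.Away f))
    (P : Polynomial A) (hP : P.Monic)
    (hPw : Polynomial.eval₂ ((η.q (Localization.Away f)).comp (algebraMap A (Localization.Away f)))
      (⟨_, hw⟩ : η.M (Localization.Away f)) P = 0) :
    η.t A f * x₁ ∈ η.M A := by
  intro R _ _ _ hR g
  rw [map_mul, η.Nmap_t_apply]
  by_cases hgf : g f = 0
  · exact ⟨0, by rw [hgf, map_zero, zero_mul]⟩
  have hα : Function.Injective (algebraMap R (FractionRing R)) :=
    IsFractionRing.injective R (FractionRing R)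
  have hkerα : RingHom.ker (algebraMap R (FractionRing R)) = ⊥ :=
    (RingHom.injective_iff_ker_eq_bot _).mp hα
  have hK : Function.Bijective (η.eta (FractionRing R)) := hR
  set yR := η.Nmap g x₁ with hyR
  let jK : (⊥ : Ideal R).ResidueField →+* FractionRing R :=
    Ideal.ResidueField.lift ⊥ (algebraMap R (FractionRing R)) bot_le (by
      intro v hv
      simp only [Submonoid.mem_comap, IsUnit.mem_submonoid_iff]
      rw [isUnit_iff_ne_zero]
      intro h
      apply hv
      have : v = 0 := hα (by rw [h, map_zero])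
      simp [this])
  have hjK : ∀ r, jK (algebraMap R _ r) = algebraMap R (FractionRing R) r := fun r =>
    Ideal.ResidueField.lift_algebraMap _ _ _ _ r
  obtain ⟨u, hu⟩ := hK.2 (η.map jK (yR ⟨⊥, Ideal.isPrime_bot⟩))
  -- Claim A
  have claim : ∀ (V : ValuationSubring (FractionRing R)) (h : R →+* V)
      (_ : ∀ b, ((h b : V) : FractionRing R) = algebraMap R (FractionRing R) b)
      (_ : IsUnit (h (g f))),
      ∃ v : V, ((v : V) : FractionRing R) = u ∧ η.t V v = η.Nmap h yR ∧
        Polynomial.eval₂ ((algebraMap R (FractionRing R)).comp g) u P = 0 := by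
    intro V h hh hunit
    let gV : Localization.Away f →+* V := IsLocalization.Away.lift f (g := h.comp g) hunit
    have hgV : gV.comp (algebraMap A (Localization.Away f)) = h.comp g :=
      IsLocalization.Away.lift_comp f hunit
    obtain ⟨e, he1, he2⟩ := exists_evalV η hK V gV
    refine ⟨e ⟨_, hw⟩, ?_, ?_, ?_⟩
    · have h1 : η.t V (e ⟨_, hw⟩) = η.Nmap h yR := by
        rw [he1, ← Nmap_comp_apply, hgV, Nmap_comp_apply]
      have hp := eq_comap_bot (algebraMap R (FractionRing R)) h hh ⟨⊥, Ideal.isPrime_bot⟩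
        hkerα.symm
      have := generic_component' η V h _ h1 ⟨⊥, Ideal.isPrime_bot⟩ hp jK
        (fun a => (hjK a).trans (hh a).symm)
      rw [← hu] at this
      exact hK.1 this
    · rw [he1, ← Nmap_comp_apply, hgV, Nmap_comp_apply]
    · have h1 := congrArg e hPw
      rw [Polynomial.hom_eval₂, map_zero] at h1
      have h2 : e.comp ((η.q (Localization.Away f)).comp (algebraMap A (Localization.Away f))) =
          h.comp g := by
        rw [← hgV]
        ext a
        exact congrArg Subtype.val (he2 _)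
      rw [h2] at h1
      have h3 := congrArg V.subtype h1
      rw [Polynomial.hom_eval₂, map_zero] at h3
      have h4 : (V.subtype : V →+* FractionRing R).comp (h.comp g) =
          (algebraMap R (FractionRing R)).comp g := by
        ext a; exact hh (g a)
      rw [h4] at h3
      have h5 : ((e ⟨_, hw⟩ : V) : FractionRing R) = u := by
        have h1 : η.t V (e ⟨_, hw⟩) = η.Nmap h yR := by
          rw [he1, ← Nmap_comp_apply, hgV, Nmap_comp_apply]
        have hp := eq_comap_bot (algebraMap R (FractionRing R)) h hh ⟨⊥, Ideal.isPrime_bot⟩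
          hkerα.symm
        have := generic_component' η V h _ h1 ⟨⊥, Ideal.isPrime_bot⟩ hp jK
          (fun a => (hjK a).trans (hh a).symm)
        rw [← hu] at this
        exact hK.1 this
      rw [← h5]
      exact h3
  -- units
  have hunit_of : ∀ (𝔯 : PrimeSpectrum R) (V : ValuationSubring (FractionRing R)) (h : R →+* V),
      PrimeSpectrum.comap h ⟨IsLocalRing.maximalIdeal V, inferInstance⟩ = 𝔯 →
      g f ∉ 𝔯.asIdeal → IsUnit (h (g f)) := by
    intro 𝔯 V h hm hgf𝔯
    by_contra hnu
    apply hgf𝔯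
    rw [← hm]
    exact (IsLocalRing.mem_maximalIdeal _).mpr hnu
  -- u comes from R
  have hu0 : ∃ r₁ : R, algebraMap R (FractionRing R) r₁ = u := by
    obtain ⟨V, h, hh, hm⟩ := exists_valuationSubring_local (algebraMap R (FractionRing R))
      ⟨⊥, Ideal.isPrime_bot⟩ (by rw [hkerα])
    obtain ⟨v, -, -, hPu⟩ := claim V h hh (hunit_of _ V h hm (by simpa using hgf))
    have hint : IsIntegral R u := by
      refine ⟨P.map g, hP.map g, ?_⟩
      rw [Polynomial.eval₂_map]; exact hPu
    exact IsIntegrallyClosed.isIntegral_iff.mp hint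
  obtain ⟨r₁, hr₁⟩ := hu0
  refine ⟨g f * r₁, ?_⟩
  funext 𝔯
  change η.t R (g f * r₁) 𝔯 = η.t R (g f) 𝔯 * yR 𝔯
  rw [map_mul]
  change η.t R (g f) 𝔯 * η.t R r₁ 𝔯 = _
  by_cases hgf𝔯 : g f ∈ 𝔯.asIdeal
  · rw [t_eq_phi, (phi_eq_zero_iff η 𝔯 (g f)).mpr hgf𝔯, zero_mul, zero_mul]
  · congr 1
    obtain ⟨V, h, hh, hm⟩ := exists_valuationSubring_local (algebraMap R (FractionRing R)) 𝔯
      (by rw [hkerα]; exact bot_le)
    obtain ⟨v, hv1, hv2, -⟩ := claim V h hh (hunit_of 𝔯 V h hm hgf𝔯)
    have hv : v = h r₁ := Subtype.ext (by rw [hv1, hh, hr₁])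
    subst hm
    have h2 := congrFun hv2 ⟨IsLocalRing.maximalIdeal V, inferInstance⟩
    rw [t_apply, Nmap_apply, hv, ← Ideal.ResidueField.map_algebraMap
      (PrimeSpectrum.comap h ⟨IsLocalRing.maximalIdeal V, inferInstance⟩).asIdeal
      (IsLocalRing.maximalIdeal V) h rfl, ← eta_natural_apply] at h2
    exact (η.map _).injective h2

theorem exists_mem_M_away {A : Type u} [CommRing A] (hA : (minimalPrimes A).Finite) (f : A)
    (y : η.N (Localization.Away f)) (hy : y ∈ η.M (Localization.Away f)) :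
    ∃ x ∈ η.M A, ∃ n : ℕ,
        y * η.t (Localization.Away f) (algebraMap A (Localization.Away f) f) ^ n =
          η.Nmap (algebraMap A (Localization.Away f)) x := by
  have hAf := finite_minimalPrimes_away hA f
  have hint := isIntegral_q η hAf ⟨y, hy⟩
  obtain ⟨k, P, hP1, hP2⟩ : ∃ (k : ℕ) (P : Polynomial A), P.Monic ∧
      Polynomial.eval₂ ((η.q (Localization.Away f)).comp (algebraMap A (Localization.Away f)))
        (η.q (Localization.Away f) (algebraMap A (Localization.Away f) f) ^ k *
          (⟨y, hy⟩ : η.M (Localization.Away f))) P = 0 := by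
    letI : Algebra (Localization.Away f) (η.M (Localization.Away f)) :=
      (η.q (Localization.Away f)).toAlgebra
    letI : Algebra A (η.M (Localization.Away f)) :=
      ((η.q (Localization.Away f)).comp (algebraMap A (Localization.Away f))).toAlgebra
    haveI : IsScalarTower A (Localization.Away f) (η.M (Localization.Away f)) :=
      IsScalarTower.of_algebraMap_eq (fun _ => rfl)
    obtain ⟨⟨_, k, rfl⟩, P, hP1, hP2⟩ :=
      IsIntegral.exists_multiple_integral_of_isLocalization (Submonoid.powers f)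
        (⟨y, hy⟩ : η.M (Localization.Away f)) hint
    refine ⟨k, P, hP1, ?_⟩
    rw [Submonoid.smul_def, Algebra.smul_def] at hP2
    rw [← map_pow, ← map_pow]
    exact hP2
  obtain ⟨x₁, hx₁⟩ := Nmap_surjective_of_isLocalization η (Submonoid.powers f)
    (S := Localization.Away f)
    (η.t (Localization.Away f) (algebraMap A (Localization.Away f) f) ^ k * y)
  have hw : η.Nmap (algebraMap A (Localization.Away f)) x₁ ∈ η.M (Localization.Away f) := by
    rw [hx₁]
    exact Subring.mul_mem _ (Subring.pow_mem _ (η.t_mem_M _ _) _) hy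
  have hPw : Polynomial.eval₂
      ((η.q (Localization.Away f)).comp (algebraMap A (Localization.Away f)))
      (⟨_, hw⟩ : η.M (Localization.Away f)) P = 0 := by
    have : (⟨_, hw⟩ : η.M (Localization.Away f)) =
        η.q (Localization.Away f) (algebraMap A (Localization.Away f) f) ^ k *
          (⟨y, hy⟩ : η.M (Localization.Away f)) := Subtype.ext hx₁
    rw [this]; exact hP2
  refine ⟨η.t A f * x₁, mul_t_mem_M_of_integral η f x₁ hw P hP1 hPw, k + 1, ?_⟩
  rw [map_mul, η.Nmap_t_apply, hx₁, pow_succ]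
  ring

/-- S13825 -/
theorem M_away_isLocalization (A : Type u) [CommRing A] (hA : (minimalPrimes A).Finite) (f : A) :
    (∀ y ∈ η.M (Localization.Away f), ∃ x ∈ η.M A, ∃ n : ℕ,
        y * η.t (Localization.Away f) (algebraMap A (Localization.Away f) f) ^ n =
          η.Nmap (algebraMap A (Localization.Away f)) x) ∧
      ∀ x ∈ η.M A, η.Nmap (algebraMap A (Localization.Away f)) x = 0 →
        ∃ n : ℕ, η.t A f ^ n * x = 0 :=
  ⟨fun y hy => exists_mem_M_away η hA f y hy, fun x _ hx =>
    ⟨1, by rw [pow_one]; exact t_mul_eq_zero_of_Nmap_away_eq_zero η f x hx⟩⟩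

theorem awayMap_comp {A B : Type u} [CommRing A] [CommRing B] (φ : A →+* B) (f : A) :
    (Localization.awayMap φ f).comp (algebraMap A (Localization.Away f)) =
      (algebraMap B (Localization.Away (φ f))).comp φ :=
  IsLocalization.map_comp _

theorem awayMap_algebraMap {A B : Type u} [CommRing A] [CommRing B] (φ : A →+* B) (f a : A) :
    Localization.awayMap φ f (algebraMap A (Localization.Away f) a) =
      algebraMap B (Localization.Away (φ f)) (φ a) :=
  IsLocalization.map_eq _ a

/-- S13829 -/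
theorem rel_away_isLocalization {A B : Type u} [CommRing A] [CommRing B]
    (hA : (minimalPrimes A).Finite) (φ : A →+* B) (f : A) :
    (η.rel φ).map (algebraMap B (Localization.Away (φ f))) ≤ η.rel (Localization.awayMap φ f) ∧
      ∀ y ∈ η.rel (Localization.awayMap φ f), ∃ x ∈ η.rel φ, ∃ n : ℕ,
        y * algebraMap B (Localization.Away (φ f)) (φ f) ^ n =
          algebraMap B (Localization.Away (φ f)) x := by
  constructor
  · rintro _ ⟨b, hb, rfl⟩
    obtain ⟨x, hx, hxb⟩ := (mem_rel_iff η φ b).mp hb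
    rw [mem_rel_iff]
    refine ⟨η.Nmap (algebraMap A (Localization.Away f)) x, Nmap_mem_M η _ hx, ?_⟩
    rw [← Nmap_comp_apply, awayMap_comp, Nmap_comp_apply, hxb, η.Nmap_t_apply]
  · intro y hy
    obtain ⟨m, hm, hmy⟩ := (mem_rel_iff η _ y).mp hy
    obtain ⟨x₀, hx₀, n, hx₀m⟩ := exists_mem_M_away η hA f m hm
    obtain ⟨l, b, hb⟩ := IsLocalization.Away.surj (φ f) y
    have hφf_f : Localization.awayMap φ f (algebraMap A (Localization.Away f) f) =
        algebraMap B (Localization.Away (φ f)) (φ f) := awayMap_algebraMap φ f f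
    have hR : η.Nmap (algebraMap B (Localization.Away (φ f))) (η.Nmap φ (x₀ * η.t A f ^ l)) =
        η.t _ y * η.t _ (algebraMap B (Localization.Away (φ f)) (φ f)) ^ n *
          η.t _ (algebraMap B (Localization.Away (φ f)) (φ f)) ^ l := by
      rw [← Nmap_comp_apply, ← awayMap_comp, Nmap_comp_apply, map_mul, map_pow, η.Nmap_t_apply,
        ← hx₀m, map_mul, map_mul, map_pow, map_pow, η.Nmap_t_apply, hφf_f, hmy]
    have hL : η.t _ (algebraMap B (Localization.Away (φ f)) (b * φ f ^ n)) =
        η.t _ y * η.t _ (algebraMap B (Localization.Away (φ f)) (φ f)) ^ l *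
          η.t _ (algebraMap B (Localization.Away (φ f)) (φ f)) ^ n := by
      rw [map_mul, map_mul, map_pow, map_pow, ← hb, map_mul, map_pow]
    have h1 : η.t _ (algebraMap B (Localization.Away (φ f)) (b * φ f ^ n)) =
        η.Nmap (algebraMap B (Localization.Away (φ f))) (η.Nmap φ (x₀ * η.t A f ^ l)) := by
      rw [hL, hR]; ring
    have h2 : η.Nmap (algebraMap B (Localization.Away (φ f)))
        (η.t B (b * φ f ^ n) - η.Nmap φ (x₀ * η.t A f ^ l)) = 0 := by
      rw [map_sub, η.Nmap_t_apply, h1, sub_self]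
    have h3 := t_mul_eq_zero_of_Nmap_away_eq_zero η (φ f) _ h2
    rw [mul_sub, sub_eq_zero, ← map_mul, ← η.Nmap_t_apply, ← map_mul] at h3
    refine ⟨φ f * (b * φ f ^ n), (mem_rel_iff η φ _).mpr ⟨η.t A f * (x₀ * η.t A f ^ l),
      Subring.mul_mem _ (η.t_mem_M A f) (Subring.mul_mem _ hx₀ (Subring.pow_mem _ (η.t_mem_M A f) l)),
      h3.symm⟩, l + n + 1, ?_⟩
    rw [map_mul, map_mul, map_pow, ← hb]
    ring

/-- S19575 -/
theorem bijective_qRel_awayMap {A B : Type u} [CommRing A] [CommRing B]
    (hA : (minimalPrimes A).Finite) (φ : A →+* B)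
    (h : Function.Bijective (η.qRel φ)) (f : A) :
    Function.Bijective (η.qRel (Localization.awayMap φ f)) := by
  rw [qRel_bijective_iff] at h ⊢
  constructor
  · rw [Localization.awayMap_injective_iff]
    intro a ha
    exact ⟨0, by rw [pow_zero, one_mul]; exact h.1 (by rw [ha, map_zero])⟩
  · intro y hy
    obtain ⟨x, hx, n, hxy⟩ := (rel_away_isLocalization η hA φ f).2 y hy
    obtain ⟨a, rfl⟩ := h.2 x hx
    refine ⟨IsLocalization.mk' (Localization.Away f) a
      (⟨f ^ n, n, rfl⟩ : Submonoid.powers f), ?_⟩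
    have hunit : IsUnit (algebraMap B (Localization.Away (φ f)) (φ f) ^ n) :=
      (IsLocalization.Away.algebraMap_isUnit (φ f)).pow n
    apply hunit.mul_right_cancel
    rw [hxy, ← awayMap_algebraMap φ f a, ← awayMap_algebraMap φ f f, ← map_pow, ← map_mul]
    congr 1
    rw [← map_pow]
    exact IsLocalization.mk'_spec _ a (⟨f ^ n, n, rfl⟩ : Submonoid.powers f)

theorem eq_top_of_forall_pow_mem {A : Type u} [CommRing A] (s : Finset A)
    (hspan : Ideal.span (s : Set A) = ⊤) (I : Ideal A)
    (h : ∀ f ∈ s, ∃ n : ℕ, f ^ n ∈ I) : I = ⊤ := by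
  rw [← Ideal.radical_eq_top, eq_top_iff, ← hspan, Ideal.span_le]
  intro f hf
  exact h f hf

/-- S19576 -/
theorem bijective_qRel_of_span {A B : Type u} [CommRing A] [CommRing B]
    (φ : A →+* B)
    (s : Finset A) (hspan : Ideal.span (s : Set A) = ⊤)
    (h : ∀ f ∈ s, Function.Bijective (η.qRel (Localization.awayMap φ f))) :
    Function.Bijective (η.qRel φ) := by
  have h' : ∀ f ∈ s, Function.Injective (Localization.awayMap φ f) ∧
      ∀ b ∈ η.rel (Localization.awayMap φ f), ∃ a, Localization.awayMap φ f a = b :=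
    fun f hf => (qRel_bijective_iff η _).mp (h f hf)
  rw [qRel_bijective_iff]
  constructor
  · rw [injective_iff_map_eq_zero]
    intro a ha
    let I : Ideal A :=
      { carrier := {c | c * a = 0}
        add_mem' := by
          intro c c' hc hc'
          change (c + c') * a = 0
          rw [add_mul, hc, hc', add_zero]
        zero_mem' := zero_mul a
        smul_mem' := by
          intro c c' hc'
          change c • c' * a = 0
          rw [smul_eq_mul, mul_assoc, hc', mul_zero] }
    have hI : I = ⊤ := by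
      apply eq_top_of_forall_pow_mem s hspan
      intro f hf
      obtain ⟨n, hn⟩ := (Localization.awayMap_injective_iff.mp (h' f hf).1) a ha
      exact ⟨n, hn⟩
    have h1 : (1 : A) ∈ I := by rw [hI]; exact Submodule.mem_top
    have h2 : (1 : A) * a = 0 := h1
    rwa [one_mul] at h2
  · intro b hb
    let I : Ideal A :=
      { carrier := {c | ∃ a, φ a = φ c * b}
        add_mem' := by
          rintro c c' ⟨a, ha⟩ ⟨a', ha'⟩
          exact ⟨a + a', by rw [map_add, map_add, add_mul, ha, ha']⟩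
        zero_mem' := ⟨0, by rw [map_zero, zero_mul]⟩
        smul_mem' := by
          rintro c c' ⟨a', ha'⟩
          exact ⟨c * a', by rw [smul_eq_mul, map_mul, map_mul, mul_assoc, ha']⟩ }
    have hI : I = ⊤ := by
      apply eq_top_of_forall_pow_mem s hspan
      intro f hf
      have hb' : algebraMap B (Localization.Away (φ f)) b ∈ η.rel (Localization.awayMap φ f) := by
        obtain ⟨x, hx, hxb⟩ := (mem_rel_iff η φ b).mp hb
        rw [mem_rel_iff]
        refine ⟨η.Nmap (algebraMap A (Localization.Away f)) x, Nmap_mem_M η _ hx, ?_⟩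
        rw [← Nmap_comp_apply, awayMap_comp, Nmap_comp_apply, hxb, η.Nmap_t_apply]
      obtain ⟨z, hz⟩ := (h' f hf).2 _ hb'
      obtain ⟨n, a', ha'⟩ := IsLocalization.Away.surj f z
      have h1 : algebraMap B (Localization.Away (φ f)) (b * φ f ^ n) =
          algebraMap B (Localization.Away (φ f)) (φ a') := by
        rw [map_mul, map_pow, ← hz, ← awayMap_algebraMap φ f f, ← map_pow, ← map_mul, ha',
          awayMap_algebraMap]
      obtain ⟨⟨_, k, rfl⟩, hk⟩ := (IsLocalization.eq_iff_exists (Submonoid.powers (φ f)) _).mp h1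
      refine ⟨n + k, f ^ k * a', ?_⟩
      change φ (f ^ k * a') = φ (f ^ (n + k)) * b
      rw [map_mul, map_pow, map_pow, ← hk, pow_add]
      ring
    have h1 : (1 : A) ∈ I := by rw [hI]; exact Submodule.mem_top
    obtain ⟨a, ha⟩ := h1
    exact ⟨a, by rw [ha, map_one, one_mul]⟩

end Groth.Agent.Lib.Helper66.EtaPt
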