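import Mathlib
import Groth.Prelude.Def_W4c1chowmix47Eta
import Groth.Prelude.Def_HTop2
import Groth.Agent.Lib.Helper66.EtaPt

set_option autoImplicit false
universe u
open CategoryTheory AlgebraicGeometry EtaPt

namespace Groth.Agent.Lib.Helper66.EtaSN

open Groth.Agent.Lib.Helper66.EtaPt

theorem residueFieldMap_spec_aux {R S : CommRingCat.{u}} (f : R ⟶ S) (y : Spec S) :
    CommRingCat.ofHom (algebraMap R ((Spec.map f) y).asIdeal.ResidueField) ≫
      (Scheme.Spec.residueFieldIso R ((Spec.map f) y)).inv ≫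
      (Spec.map f).residueFieldMap y ≫
      (Scheme.Spec.residueFieldIso S y).hom =
    f ≫ CommRingCat.ofHom (algebraMap S y.asIdeal.ResidueField) := by
  rw [Scheme.Spec.algebraMap_residueFieldIso_inv_assoc, Scheme.residue_residueFieldMap_assoc,
    Scheme.Hom.germ_stalkMap_assoc]
  have h1 : (Scheme.ΓSpecIso R).inv ≫ (Spec.map f).app ⊤ = f ≫ (Scheme.ΓSpecIso S).inv :=
    (Scheme.ΓSpecIso_inv_naturality f).symm
  rw [reassoc_of% h1]
  have h2 := (Iso.comp_inv_eq _).mp (Scheme.Spec.algebraMap_residueFieldIso_inv S y)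
  rw [h2]
  simp only [Category.assoc]
  rfl

theorem residueFieldMap_spec {R S : CommRingCat.{u}} (f : R ⟶ S) (y : Spec S) :
    (Scheme.Spec.residueFieldIso R ((Spec.map f) y)).inv ≫
      (Spec.map f).residueFieldMap y ≫
      (Scheme.Spec.residueFieldIso S y).hom =
    CommRingCat.ofHom (Ideal.ResidueField.map ((Spec.map f) y).asIdeal y.asIdeal f.hom rfl) := by
  apply CommRingCat.hom_ext
  apply Ideal.ResidueField.ringHom_ext
  have h := congrArg CommRingCat.Hom.hom (residueFieldMap_spec_aux f y)
  refine Eq.trans (show _ = _ from h) ?_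
  ext a
  simp

theorem isIso_residueFieldMap_iff {R S : CommRingCat.{u}} (f : R ⟶ S) (y : Spec S) :
    IsIso ((Spec.map f).residueFieldMap y) ↔
      Function.Bijective (Ideal.ResidueField.map ((Spec.map f) y).asIdeal y.asIdeal f.hom rfl) := by
  have h := residueFieldMap_spec f y
  constructor
  · intro hiso
    have : IsIso (CommRingCat.ofHom
        (Ideal.ResidueField.map ((Spec.map f) y).asIdeal y.asIdeal f.hom rfl)) := by
      rw [← h]; infer_instance
    exact (ConcreteCategory.isIso_iff_bijective _).mp this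
  · intro hbij
    have h1 : IsIso (CommRingCat.ofHom
        (Ideal.ResidueField.map ((Spec.map f) y).asIdeal y.asIdeal f.hom rfl)) :=
      (ConcreteCategory.isIso_iff_bijective _).mpr hbij
    rw [← h] at h1
    have h2 : IsIso ((Spec.map f).residueFieldMap y ≫ (Scheme.Spec.residueFieldIso S y).hom) :=
      IsIso.of_isIso_comp_left (Scheme.Spec.residueFieldIso R ((Spec.map f) y)).inv _
    exact IsIso.of_isIso_comp_right _ (Scheme.Spec.residueFieldIso S y).hom

theorem isUnivHomeo_of {X Y : Scheme.{u}} (f : X ⟶ Y) [IsIntegralHom f] [UniversallyInjective f]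
    [Surjective f] : FlatMor.IsUnivHomeo f := by
  intro X' Y' i₁ i₂ f' hpb
  have h1 : IsIntegralHom f' := MorphismProperty.of_isPullback hpb.flip inferInstance
  have h2 : UniversallyInjective f' := MorphismProperty.of_isPullback hpb.flip inferInstance
  have h3 : Surjective f' := MorphismProperty.of_isPullback hpb.flip inferInstance
  exact isHomeomorph_iff_continuous_isClosedMap_bijective.2
    ⟨f'.continuous, f'.isClosedMap, f'.injective, f'.surjective⟩

theorem isPurelyInseparable_of_bijective {F E : Type u} [Field F] [Field E] (f : F →+* E)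
    (hf : Function.Bijective f) : f.IsPurelyInseparable := by
  letI := f.toAlgebra
  change IsPurelyInseparable F E
  rw [isPurelyInseparable_iff]
  intro x
  obtain ⟨y, rfl⟩ := hf.2 x
  exact ⟨isIntegral_algebraMap, fun _ => ⟨y, rfl⟩⟩

/-- ring-level criterion for `Spec φ` to be a universal homeomorphism inducing isomorphisms on
residue fields -/
theorem isUnivHomeo_and_residueFieldsIso_of {A B : Type u} [CommRing A] [CommRing B] (φ : A →+* B)
    (hint : φ.IsIntegral) (hbij : Function.Bijective (PrimeSpectrum.comap φ))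
    (hres : ∀ Q : PrimeSpectrum B, Function.Bijective
      (Ideal.ResidueField.map (PrimeSpectrum.comap φ Q).asIdeal Q.asIdeal φ rfl)) :
    FlatMor.IsUnivHomeo (Spec.map (CommRingCat.ofHom φ)) ∧
      HTop.ResidueFieldsIso (Spec.map (CommRingCat.ofHom φ)) := by
  have hiso : HTop.ResidueFieldsIso (Spec.map (CommRingCat.ofHom φ)) := by
    intro y
    rw [isIso_residueFieldMap_iff]
    exact hres y
  refine ⟨?_, hiso⟩
  have h1 : IsIntegralHom (Spec.map (CommRingCat.ofHom φ)) :=
    IsIntegralHom.SpecMap_iff.mpr hint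
  have h2 : Surjective (Spec.map (CommRingCat.ofHom φ)) := ⟨hbij.2⟩
  have h3 : UniversallyInjective (Spec.map (CommRingCat.ofHom φ)) := by
    apply ((tfae_universallyInjective (Spec.map (CommRingCat.ofHom φ))).out 0 2).mpr
    refine ⟨hbij.1, fun x => ?_⟩
    have := hiso x
    exact isPurelyInseparable_of_bijective _ ((ConcreteCategory.isIso_iff_bijective _).mp this)
  exact isUnivHomeo_of _

theorem of_isUnivHomeo_of_residueFieldsIso {A C : Type u} [CommRing A] [CommRing C] (ψ : A →+* C)
    (h1 : FlatMor.IsUnivHomeo (Spec.map (CommRingCat.ofHom ψ)))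
    (h2 : HTop.ResidueFieldsIso (Spec.map (CommRingCat.ofHom ψ))) :
    ψ.IsIntegral ∧ Function.Bijective (PrimeSpectrum.comap ψ) ∧
      ∀ Q : PrimeSpectrum C, Function.Bijective
        (Ideal.ResidueField.map (PrimeSpectrum.comap ψ Q).asIdeal Q.asIdeal ψ rfl) := by
  refine ⟨?_, ?_, ?_⟩
  · have hc : UniversallyClosed (Spec.map (CommRingCat.ofHom ψ)) := by
      rw [universallyClosed_eq]
      exact MorphismProperty.universally_mono (fun X Y f hf => hf.isClosedMap) _ h1
    have : IsIntegralHom (Spec.map (CommRingCat.ofHom ψ)) :=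
      IsIntegralHom.iff_universallyClosed_and_isAffineHom.mpr ⟨hc, inferInstance⟩
    exact IsIntegralHom.SpecMap_iff.mp this
  · have : IsHomeomorph (Spec.map (CommRingCat.ofHom ψ)) :=
      MorphismProperty.universally_le _ _ h1
    exact this.bijective
  · intro Q
    exact (isIso_residueFieldMap_iff (CommRingCat.ofHom ψ) Q).mp (h2 Q)

theorem isRingSN_q_ident (A : Type u) [CommRing A] (hA : (minimalPrimes A).Finite) :
    HTop.IsRingSN (EtaPt.FieldEndo.ident.{u}.q A) := by
  refine ⟨?_, ?_⟩
  · apply isUnivHomeo_and_residueFieldsIso_of _ (isIntegral_q _ hA) (comap_q_bijective _ hA)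
    intro Q
    obtain ⟨φ, hφ, -⟩ := exists_residue_factor FieldEndo.ident.{u} hA Q
    exact bijective_map_of_factor FieldEndo.ident.{u} _ φ hφ
  · intro C _ ψ h1 h2
    obtain ⟨hint, hbij, hres⟩ := of_isUnivHomeo_of_residueFieldsIso ψ h1 h2
    exact existsUnique_lift_q FieldEndo.ident.{u} ψ hint
      (Nmap_bijective_of FieldEndo.ident.{u} ψ hbij hres)

theorem rel_ident_isRelativeSeminormalization (A B : Type u) [CommRing A] [CommRing B]
    [Algebra A B] (hA : (minimalPrimes A).Finite)
    (hs : Function.Surjective (PrimeSpectrum.comap (algebraMap A B))) :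
    (FlatMor.IsUnivHomeo (Spec.map (CommRingCat.ofHom
        (EtaPt.FieldEndo.ident.{u}.qRel (algebraMap A B)))) ∧
      HTop.ResidueFieldsIso (Spec.map (CommRingCat.ofHom
        (EtaPt.FieldEndo.ident.{u}.qRel (algebraMap A B))))) ∧
    ∀ C : Subalgebra A B,
      FlatMor.IsUnivHomeo (Spec.map (CommRingCat.ofHom (algebraMap A C))) →
      HTop.ResidueFieldsIso (Spec.map (CommRingCat.ofHom (algebraMap A C))) →
      C.toSubring ≤ EtaPt.FieldEndo.ident.{u}.rel (algebraMap A B) := by
  refine ⟨?_, ?_⟩
  · apply isUnivHomeo_and_residueFieldsIso_of _ (isIntegral_qRel _ hA _ hs)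
      (comap_qRel_bijective _ hA _ hs)
    intro Q
    obtain ⟨φ, hφ⟩ := exists_residue_factor_rel FieldEndo.ident.{u} hA _ hs Q
    exact bijective_map_of_factor FieldEndo.ident.{u} _ φ hφ
  · intro C h1 h2
    obtain ⟨hint, hbij, hres⟩ := of_isUnivHomeo_of_residueFieldsIso (algebraMap A C) h1 h2
    have := range_le_rel FieldEndo.ident.{u} (algebraMap A C) C.val.toRingHom hint
      (Nmap_bijective_of FieldEndo.ident.{u} _ hbij hres)
    intro c hc
    exact this ⟨⟨c, hc⟩, rfl⟩

end Groth.Agent.Lib.Helper66.EtaSN
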