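import Mathlib
import Groth.Prelude.Def_CartDual2

/-!
# Base change of the comultiplication (helper66)

`Θ R S A : A ⊗[R] A → (S ⊗[R] A) ⊗[S] (S ⊗[R] A)` for an arbitrary commutative `R`-algebra `S`,
its compatibility with comultiplication and the swap, and descent of cocommutativity.
-/

open scoped TensorProduct

namespace Groth.Agent.Lib.Helper66.CoBase

section Theta
variable (R : Type*) [CommRing R] (S : Type*) [CommRing S] [Algebra R S]
  (A : Type*) [CommRing A] [Algebra R A]

/-- the canonical map `A ⊗ A → A_S ⊗_S A_S` -/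
noncomputable def Θ : A ⊗[R] A →ₗ[R] (S ⊗[R] A) ⊗[S] (S ⊗[R] A) :=
  ((TensorProduct.AlgebraTensorModule.tensorTensorTensorComm R S R S S S A A).toLinearMap.restrictScalars R) ∘ₗ
    (TensorProduct.mk R (S ⊗[S] S) (A ⊗[R] A) (1 ⊗ₜ 1))

theorem Θ_tmul (x y : A) : Θ R S A (x ⊗ₜ y) = ((1 : S) ⊗ₜ[R] x) ⊗ₜ[S] ((1 : S) ⊗ₜ[R] y) := by
  simp [Θ]

theorem Θ_eq_zero_iff (x : A ⊗[R] A) : Θ R S A x = 0 ↔ (1 : S) ⊗ₜ[R] x = 0 := by
  unfold Θ
  rw [LinearMap.comp_apply, LinearMap.restrictScalars_apply, LinearEquiv.coe_coe,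
    LinearEquiv.map_eq_zero_iff, TensorProduct.mk_apply]
  let e : (S ⊗[S] S) ⊗[R] (A ⊗[R] A) ≃ₗ[R] S ⊗[R] (A ⊗[R] A) :=
    TensorProduct.congr ((TensorProduct.lid S S).restrictScalars R) (LinearEquiv.refl R _)
  have he : e (((1 : S) ⊗ₜ[S] (1 : S)) ⊗ₜ[R] x) = (1 : S) ⊗ₜ[R] x := by
    simp [e]
  rw [← he, LinearEquiv.map_eq_zero_iff]

theorem Θ_comm (x : A ⊗[R] A) :
    Θ R S A (TensorProduct.comm R A A x) = TensorProduct.comm S _ _ (Θ R S A x) := by
  induction x using TensorProduct.induction_on with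
  | zero => simp
  | tmul a b => simp [Θ_tmul]
  | add x y hx hy => simp only [map_add, hx, hy]

end Theta

section Comul
variable (R : Type*) [CommRing R] (S : Type*) [CommRing S] [Algebra R S]
  (A : Type*) [CommRing A] [Bialgebra R A]

theorem comul_one_tmul (a : A) :
    Coalgebra.comul (R := S) ((1 : S) ⊗ₜ[R] a) = Θ R S A (Coalgebra.comul (R := R) a) := by
  rw [TensorProduct.comul_tmul]
  rfl

theorem counit_one_tmul (a : A) :
    Coalgebra.counit (R := S) ((1 : S) ⊗ₜ[R] a) = algebraMap R S (Coalgebra.counit (R := R) a) := by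
  rw [TensorProduct.counit_tmul]
  simp [Algebra.smul_def]

theorem Θ_comm_comul [Coalgebra.IsCocomm S (S ⊗[R] A)] (a : A) :
    Θ R S A (TensorProduct.comm R A A (Coalgebra.comul (R := R) a)) =
      Θ R S A (Coalgebra.comul (R := R) a) := by
  rw [Θ_comm, ← comul_one_tmul, Coalgebra.comm_comul]

/-- descent of cocommutativity along one base change with `1 ⊗ -` injective on `A ⊗ A`. -/
theorem isCocomm_of_injective [Coalgebra.IsCocomm S (S ⊗[R] A)]
    (hinj : ∀ x : A ⊗[R] A, (1 : S) ⊗ₜ[R] x = 0 → x = 0) : Coalgebra.IsCocomm R A := by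
  refine ⟨?_⟩
  apply LinearMap.ext
  intro a
  rw [LinearMap.comp_apply, LinearEquiv.coe_coe, ← sub_eq_zero]
  apply hinj
  rw [← Θ_eq_zero_iff, map_sub, Θ_comm_comul, sub_self]

end Comul

section Local

/-- descent of cocommutativity from the localizations at all maximal ideals -/
theorem isCocomm_of_localization {R : Type*} [CommRing R] {A : Type*} [CommRing A] [Bialgebra R A]
    (h : ∀ (P : Ideal R) [P.IsMaximal],
      Coalgebra.IsCocomm (Localization.AtPrime P) (Localization.AtPrime P ⊗[R] A)) :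
    Coalgebra.IsCocomm R A := by
  refine ⟨?_⟩
  apply LinearMap.ext
  intro a
  rw [LinearMap.comp_apply, LinearEquiv.coe_coe, ← sub_eq_zero]
  refine Module.eq_zero_of_localization_maximal
    (fun P _ => Localization.AtPrime P ⊗[R] (A ⊗[R] A))
    (fun P _ => TensorProduct.mk R (Localization.AtPrime P) (A ⊗[R] A) 1) _ ?_
  intro P hP
  haveI := h P
  show (1 : Localization.AtPrime P) ⊗ₜ[R] _ = 0
  rw [← Θ_eq_zero_iff, map_sub, Θ_comm_comul, sub_self]

end Local

section Ker

/-- the kernel of `M → κ ⊗ M` is `(ker (R → κ)) M` when `R → κ` is surjective. -/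
theorem mem_smul_top_of_one_tmul_eq_zero {R κ M : Type*} [CommRing R] [CommRing κ] [Algebra R κ]
    (hsurj : Function.Surjective (algebraMap R κ)) [AddCommGroup M] [Module R M] (x : M)
    (h : (1 : κ) ⊗ₜ[R] x = 0) :
    x ∈ (RingHom.ker (algebraMap R κ)) • (⊤ : Submodule R M) := by
  set I : Ideal R := RingHom.ker (algebraMap R κ) with hI
  let f : I →ₗ[R] R := Submodule.subtype I
  let g : R →ₗ[R] κ := Algebra.linearMap R κ
  have hfg : Function.Exact f g := by
    intro y
    constructor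
    · intro hy
      exact ⟨⟨y, hy⟩, rfl⟩
    · rintro ⟨z, rfl⟩
      exact z.2
  have hg : Function.Surjective g := hsurj
  have hex := rTensor_exact M hfg hg
  have h1 : LinearMap.rTensor M g ((1 : R) ⊗ₜ[R] x) = 0 := by
    rw [LinearMap.rTensor_tmul]
    show (algebraMap R κ 1) ⊗ₜ[R] x = 0
    rw [map_one, h]
  obtain ⟨t, ht⟩ := (hex _).1 h1
  have key : ∀ t : I ⊗[R] M, TensorProduct.lid R M (LinearMap.rTensor M f t) ∈
      I • (⊤ : Submodule R M) := by
    intro t
    induction t using TensorProduct.induction_on with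
    | zero => simp
    | tmul i m =>
      rw [LinearMap.rTensor_tmul, TensorProduct.lid_tmul]
      exact Submodule.smul_mem_smul i.2 Submodule.mem_top
    | add t t' ht ht' =>
      rw [map_add, map_add]
      exact Submodule.add_mem _ ht ht'
  have := key t
  rw [ht, TensorProduct.lid_tmul, one_smul] at this
  exact this

end Ker

end Groth.Agent.Lib.Helper66.CoBase
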