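import Groth.Agent.Lib.Helper66.MR3

/-!
helper66: S2985 — two homomorphisms from a group of multiplicative type to a commutative affine
group over a local base which agree on the closed fibre are equal.
-/

set_option autoImplicit false
universe u
open TensorProduct Coalgebra WithConv
open Groth.Agent.Lib.Helper83.MultRigid

namespace Groth.Agent.Lib.Helper66.MR4

section Diag
variable {S : Type u} [CommRing S] {M : Type u} [Monoid M]
  {C : Type u} [CommRing C] [Bialgebra S C]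

/-- the equalizer modulo an ideal of coefficients, as a subalgebra -/
def eqMod (φ ψ : C →ₐc[S] MonoidAlgebra S M) (K : Ideal S) : Subalgebra S C where
  carrier := {c | ∀ m, (φ c - ψ c).coeff m ∈ K}
  mul_mem' := by
    intro c d hc hd m
    have h1 : φ (c * d) - ψ (c * d) = φ c * (φ d - ψ d) + (φ c - ψ c) * ψ d := by
      rw [map_mul, map_mul, mul_sub, sub_mul]; abel
    rw [h1, MonoidAlgebra.coeff_add, Finsupp.add_apply]
    refine Ideal.add_mem _ ?_ ?_
    · have := MR1.coeff_mul_mem (⊤ : Ideal S) K (φ c) (φ d - ψ d) (fun _ => Submodule.mem_top) hd m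
      rwa [Ideal.top_mul] at this
    · have := MR1.coeff_mul_mem K (⊤ : Ideal S) (φ c - ψ c) (ψ d) hc (fun _ => Submodule.mem_top) m
      rwa [Ideal.mul_top] at this
  add_mem' := by
    intro c d hc hd m
    have h1 : φ (c + d) - ψ (c + d) = (φ c - ψ c) + (φ d - ψ d) := by
      rw [map_add, map_add]; abel
    rw [h1, MonoidAlgebra.coeff_add, Finsupp.add_apply]
    exact Ideal.add_mem _ (hc m) (hd m)
  algebraMap_mem' := by
    intro r m
    have h1 : φ (algebraMap S C r) - ψ (algebraMap S C r) = 0 := by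
      have h2 : φ (algebraMap S C r) = algebraMap S _ r :=
        (φ : C →ₐ[S] MonoidAlgebra S M).commutes r
      have h3 : ψ (algebraMap S C r) = algebraMap S _ r :=
        (ψ : C →ₐ[S] MonoidAlgebra S M).commutes r
      rw [h2, h3, sub_self]
    rw [h1]
    simp

theorem exists_of_finiteType2 [Algebra.FiniteType S C] [Coalgebra.IsCocomm S C]
    (φ ψ : C →ₐc[S] MonoidAlgebra S M) (I : Ideal S)
    (h : ∀ c m, (φ c - ψ c).coeff m ∈ I) :
    ∃ r : S, r - 1 ∈ I ∧ ∀ c, r • (φ c - ψ c) = 0 := by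
  classical
  let J : Ideal S := Ideal.span {x | ∃ c m, x = (φ c - ψ c).coeff m}
  have hgen : ∀ c m, (φ c - ψ c).coeff m ∈ J := fun c m => Ideal.subset_span ⟨c, m, rfl⟩
  let φ' : C →ₗc[S] MonoidAlgebra S M := (φ : C →ₗc[S] MonoidAlgebra S M)
  let ψ' : C →ₗc[S] MonoidAlgebra S M := (ψ : C →ₗc[S] MonoidAlgebra S M)
  have hδ : ∀ c m, (coeffHom φ' m - coeffHom ψ' m) c = (φ c - ψ c).coeff m := by
    intro c m
    rw [MonoidAlgebra.coeff_sub, Finsupp.sub_apply]
    rfl
  have hcube : ∀ m, coeffHom φ' m - coeffHom ψ' m =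
      (coeffHom φ' m - coeffHom ψ' m) *
        ((coeffHom φ' m - coeffHom ψ' m) * (coeffHom φ' m - coeffHom ψ' m)) := by
    intro m
    have h1 : coeffHom φ' m * coeffHom φ' m = coeffHom φ' m := by rw [coeffHom_mul, if_pos rfl]
    have h2 : coeffHom ψ' m * coeffHom ψ' m = coeffHom ψ' m := by rw [coeffHom_mul, if_pos rfl]
    linear_combination (-(coeffHom φ' m + 1 - 3 * coeffHom ψ' m)) * h1 +
        (-(3 * coeffHom φ' m - coeffHom ψ' m - 1)) * h2
  have hle : (J : Submodule S S) ≤ I • (J : Submodule S S) := by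
    intro x hx
    refine Submodule.span_induction (p := fun x _ => x ∈ I • (J : Submodule S S))
      ?_ ?_ ?_ ?_ hx
    · rintro _ ⟨c, m, rfl⟩
      rw [← hδ, hcube m]
      have hI' : ∀ c, (coeffHom φ' m - coeffHom ψ' m) c ∈ I := fun c => by rw [hδ]; exact h c m
      have hJ' : ∀ c, (coeffHom φ' m - coeffHom ψ' m) c ∈ J := fun c => by
        rw [hδ]; exact hgen c m
      have hJJ : ∀ c, ((coeffHom φ' m - coeffHom ψ' m) * (coeffHom φ' m - coeffHom ψ' m)) c ∈ J :=
        fun c => Ideal.mul_le_left (convMul_mem _ _ J J hJ' hJ' c)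
      exact convMul_mem _ _ I J hI' hJJ c
    · exact Submodule.zero_mem _
    · intro x y _ _ hx hy
      exact Submodule.add_mem _ hx hy
    · intro r x _ hx
      exact Submodule.smul_mem _ _ hx
  obtain ⟨s, hs⟩ := (Algebra.FiniteType.out : (⊤ : Subalgebra S C).FG)
  let G : Finset S := s.biUnion fun y =>
    ((φ y - ψ y).coeff.support).image fun m => (φ y - ψ y).coeff m
  let J' : Ideal S := Ideal.span (G : Set S)
  have hJ'J : J' ≤ J := by
    refine Ideal.span_le.mpr ?_
    intro x hx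
    obtain ⟨y, _, hx⟩ := Finset.mem_biUnion.mp (Finset.mem_coe.mp hx)
    obtain ⟨m, _, rfl⟩ := Finset.mem_image.mp hx
    exact hgen y m
  have hT : ∀ c, c ∈ eqMod φ ψ J' := by
    have hle' : Algebra.adjoin S (s : Set C) ≤ eqMod φ ψ J' := by
      refine Algebra.adjoin_le ?_
      intro y hy m
      by_cases hms : m ∈ (φ y - ψ y).coeff.support
      · refine Ideal.subset_span (Finset.mem_coe.mpr (Finset.mem_biUnion.mpr ⟨y, hy, ?_⟩))
        exact Finset.mem_image.mpr ⟨m, hms, rfl⟩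
      · rw [Finsupp.notMem_support_iff.mp hms]
        exact Ideal.zero_mem _
    intro c
    have : c ∈ Algebra.adjoin S (s : Set C) := by rw [hs]; exact Algebra.mem_top
    exact hle' this
  have hJJ' : J ≤ J' := by
    refine Ideal.span_le.mpr ?_
    rintro _ ⟨c, m, rfl⟩
    exact hT c m
  have hFG : (J : Submodule S S).FG := by
    have : J = J' := le_antisymm hJJ' hJ'J
    rw [this]
    exact ⟨G, rfl⟩
  obtain ⟨r, hr, hr'⟩ :=
    Submodule.exists_sub_one_mem_and_smul_eq_zero_of_fg_of_le_smul I J hFG hle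
  refine ⟨r, hr, fun c => ?_⟩
  apply MonoidAlgebra.coeff_injective
  ext m
  rw [MonoidAlgebra.coeff_smul_apply]
  exact hr' _ (hgen c m)

end Diag


section Main
variable (R : Type u) [CommRing R] [IsLocalRing R]
  (A : Type u) [CommRing A] [HopfAlgebra R A]
  (C : Type u) [CommRing C] [Bialgebra R C] [Coalgebra.IsCocomm R C]

theorem main_const2 (hH : SGA3b.IsMultTypeConst R A) [Algebra.FiniteType R C]
    (φ ψ : C →ₐc[R] A)
    (hs : ∀ c : C, φ c - ψ c ∈ (IsLocalRing.maximalIdeal R) • (⊤ : Submodule R A)) :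
    ∀ c : C, φ c = ψ c := by
  obtain ⟨R', _, _, hff, M, _, ⟨e⟩⟩ := hH
  intro c
  set I : Ideal R' := (IsLocalRing.maximalIdeal R).map (algebraMap R R') with hI
  let φ' : R' ⊗[R] C →ₐc[R'] MonoidAlgebra R' M :=
    (e : (R' ⊗[R] A) →ₐc[R'] MonoidAlgebra R' M).comp (bc R' φ)
  let ψ' : R' ⊗[R] C →ₐc[R'] MonoidAlgebra R' M :=
    (e : (R' ⊗[R] A) →ₐc[R'] MonoidAlgebra R' M).comp (bc R' ψ)
  let eL : (R' ⊗[R] A) →ₗ[R'] MonoidAlgebra R' M :=
    ((e : (R' ⊗[R] A) →ₐc[R'] MonoidAlgebra R' M) : (R' ⊗[R] A) →ₗ[R'] MonoidAlgebra R' M)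
  have heL : ∀ y, eL y = e y := fun y => rfl
  have h1 : ∀ c' m, (φ' c' - ψ' c').coeff m ∈ I := by
    intro c' m
    have h1 := map_mem_smul_top eL I _ (bc_hyp2 R' _ φ ψ hs c')
    have h2 := coeff_mem_of_mem_smul_top I _ h1 m
    have h3 : eL (bc R' φ c' - bc R' ψ c') = φ' c' - ψ' c' := map_sub _ _ _
    rw [h3] at h2
    exact h2
  obtain ⟨r, hr, hr'⟩ := exists_of_finiteType2 φ' ψ' I h1
  set x : A := φ c - ψ c with hx
  have hxw : eL ((1 : R') ⊗ₜ[R] x) = φ' ((1 : R') ⊗ₜ[R] c) - ψ' ((1 : R') ⊗ₜ[R] c) := by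
    rw [hx, TensorProduct.tmul_sub, ← bc_tmul R' φ 1 c, ← bc_tmul R' ψ 1 c, map_sub]
    rfl
  have h0 : r • ((1 : R') ⊗ₜ[R] x) = 0 := by
    have h00 : eL (r • ((1 : R') ⊗ₜ[R] x)) = eL 0 := by
      rw [map_smul, hxw, hr', map_zero]
    exact e.injective h00
  have := MR2.eq_zero_of_smul_tmul_eq_zero R R' A x r hr h0
  rw [hx, sub_eq_zero] at this
  exact this

end Main

theorem main2 (R : Type u) [CommRing R] [IsLocalRing R]
    (A : Type u) [CommRing A] [HopfAlgebra R A] (hH : SGA3b.IsMultType R A)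
    (C : Type u) [CommRing C] [HopfAlgebra R C] [Coalgebra.IsCocomm R C]
    [Algebra.FiniteType R C]
    (φ ψ : C →ₐc[R] A)
    (hs : ∀ c : C, φ c - ψ c ∈ Ideal.map (algebraMap R A) (IsLocalRing.maximalIdeal R)) :
    φ = ψ := by
  obtain ⟨s, hspan, hf⟩ := hH
  obtain ⟨f, hfs, hfu⟩ : ∃ f ∈ s, IsUnit f := by
    by_contra hcon
    push Not at hcon
    have : Ideal.span s ≤ IsLocalRing.maximalIdeal R := by
      refine Ideal.span_le.mpr fun f hf' => ?_
      exact (IsLocalRing.mem_maximalIdeal f).mpr (hcon f hf')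
    rw [hspan] at this
    exact (IsLocalRing.maximalIdeal.isMaximal R).ne_top (top_le_iff.mp this)
  set Rf := Localization.Away f with hRf
  have hle : Submonoid.powers f ≤ IsUnit.submonoid R := by
    rintro _ ⟨n, rfl⟩
    exact hfu.pow n
  let e0 : R ≃ₐ[R] Rf := IsLocalization.atUnits R (Submonoid.powers f) hle
  haveI : IsLocalRing Rf := e0.toRingEquiv.isLocalRing
  haveI : Module.FaithfullyFlat R Rf :=
    Module.FaithfullyFlat.of_linearEquiv (R := R) (M := R) e0.symm.toLinearEquiv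
  have hs' : ∀ c : C, φ c - ψ c ∈ (IsLocalRing.maximalIdeal R) • (⊤ : Submodule R A) := by
    intro c
    rw [Ideal.smul_top_eq_map]
    exact hs c
  have hne := MR2.map_maximalIdeal_ne_top R Rf
  have key := main_const2 Rf (Rf ⊗[R] A) (Rf ⊗[R] C) (hf f hfs) (bc Rf φ) (bc Rf ψ)
    (fun c' => Submodule.smul_mono_left (IsLocalRing.le_maximalIdeal hne)
      (bc_hyp2 Rf _ φ ψ hs' c'))
  apply DFunLike.ext
  intro c
  have h1 := key ((1 : Rf) ⊗ₜ[R] c)
  rw [bc_tmul, bc_tmul] at h1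
  exact Module.FaithfullyFlat.tensorProduct_mk_injective (A := R) (B := Rf) A h1

end Groth.Agent.Lib.Helper66.MR4
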