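/-
Helper library (helper66): Hopf ideals generated by sets, the Frobenius ideal, primitive
elements from local dual algebras.  Used for S15064 (simple bi-infinitesimal group = alpha_p).
-/
import Mathlib
import Groth.Agent.Lib.Helper66.TruncPoly
import Groth.Agent.Lib.Helper66.FrobSub

open scoped TensorProduct
open WithConv
open Groth.Agent.Lib.Helper66.TruncPoly Groth.Agent.Lib.Helper66.FrobSub

set_option autoImplicit false

namespace Groth.Agent.Lib.Helper66.AlphaP

section A
variable {k A : Type*} [Field k] [CommRing A] [HopfAlgebra k A]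

theorem isHopfIdeal_span (S : Set A)
    (h1 : ∀ s ∈ S, Coalgebra.counit (R := k) s = 0)
    (h2 : ∀ s ∈ S, Algebra.TensorProduct.map (Ideal.Quotient.mkₐ k (Ideal.span S))
      (Ideal.Quotient.mkₐ k (Ideal.span S)) (Coalgebra.comul (R := k) s) = 0)
    (h3 : ∀ s ∈ S, HopfAlgebra.antipode k s ∈ Ideal.span S) :
    (Ideal.span S).IsHopfIdeal k := by
  have hc : ∀ x ∈ Ideal.span S, Coalgebra.counit (R := k) x = 0 := by
    have : Ideal.span S ≤ RingHom.ker (Bialgebra.counitAlgHom k A) := by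
      rw [Ideal.span_le]
      intro s hs
      exact h1 s hs
    exact fun x hx => this hx
  have hm : ∀ x ∈ Ideal.span S, Algebra.TensorProduct.map (Ideal.Quotient.mkₐ k (Ideal.span S))
      (Ideal.Quotient.mkₐ k (Ideal.span S)) (Coalgebra.comul (R := k) x) = 0 := by
    have : Ideal.span S ≤ RingHom.ker ((Algebra.TensorProduct.map (Ideal.Quotient.mkₐ k (Ideal.span S))
      (Ideal.Quotient.mkₐ k (Ideal.span S))).comp (Bialgebra.comulAlgHom k A)) := by
      rw [Ideal.span_le]
      intro s hs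
      exact h2 s hs
    exact fun x hx => this hx
  have ha : ∀ x ∈ Ideal.span S, HopfAlgebra.antipode k x ∈ Ideal.span S := by
    have : Ideal.span S ≤ (Ideal.span S).comap (HopfAlgebra.antipodeAlgHom k A) := by
      rw [Ideal.span_le]
      intro s hs
      exact h3 s hs
    exact fun x hx => this hx
  refine { counit_eq_zero := fun x hx => hc x hx, map_mkQ_comul_eq_zero := fun x hx => ?_, antipode_mem := fun x hx => ha x hx }
  exact hm x hx

end A

section B
variable {k A : Type*} [Field k] [CommRing A] [Bialgebra k A] (p : ℕ) [Fact p.Prime] [CharP k p]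

/-- the augmentation `A ⊗ A → k` -/
noncomputable def eps2 : A ⊗[k] A →ₐ[k] k :=
  (Algebra.TensorProduct.lid k k).toAlgHom.comp
    (Algebra.TensorProduct.map (Bialgebra.counitAlgHom k A) (Bialgebra.counitAlgHom k A))

theorem eps2_tmul (a b : A) : eps2 (k := k) (a ⊗ₜ[k] b) =
    Coalgebra.counit (R := k) a * Coalgebra.counit (R := k) b := by
  simp [eps2]

theorem eps2_comul (a : A) : eps2 (k := k) (Coalgebra.comul (R := k) a) = Coalgebra.counit (R := k) a := by
  have h := Coalgebra.sum_counit_smul (Coalgebra.Repr.arbitrary k a)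
  have h2 := congrArg (Coalgebra.counit (R := k)) h
  rw [← (Coalgebra.Repr.arbitrary k a).eq, map_sum]
  simp only [eps2_tmul]
  rw [map_sum] at h2
  simpa using h2

include p in
theorem pow_map_eq {T : Type*} [CommRing T] [Algebra k T] (f : A ⊗[k] A →ₐ[k] T)
    (hf1 : ∀ a : A, Coalgebra.counit (R := k) a = 0 → f ((a ^ p) ⊗ₜ 1) = 0)
    (hf2 : ∀ a : A, Coalgebra.counit (R := k) a = 0 → f (1 ⊗ₜ (a ^ p)) = 0) (z : A ⊗[k] A) :
    f z ^ p = algebraMap k T (eps2 (k := k) z ^ p) := by
  rcases subsingleton_or_nontrivial T with hT | hT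
  · exact Subsingleton.elim _ _
  haveI : CharP T p := charP_of_injective_algebraMap (algebraMap k T).injective p
  have hnt : Nontrivial A := by
    refine ⟨⟨1, 0, fun h => ?_⟩⟩
    have := congrArg (Coalgebra.counit (R := k)) h
    rw [Bialgebra.counit_one, map_zero] at this
    exact one_ne_zero this
  haveI : CharP A p := charP_of_injective_algebraMap (algebraMap k A).injective p
  have hp0 : p ≠ 0 := (Fact.out : p.Prime).ne_zero
  have key : ∀ a : A, f ((a ^ p) ⊗ₜ 1) = algebraMap k T (Coalgebra.counit (R := k) a ^ p) ∧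
      f (1 ⊗ₜ (a ^ p)) = algebraMap k T (Coalgebra.counit (R := k) a ^ p) := by
    intro a
    have h1 : a ^ p = (a - algebraMap k A (Coalgebra.counit (R := k) a)) ^ p +
        algebraMap k A (Coalgebra.counit (R := k) a ^ p) := by
      rw [sub_pow_char, map_pow]; ring
    have h0 : Coalgebra.counit (R := k) (a - algebraMap k A (Coalgebra.counit (R := k) a)) = 0 := by
      simp
    constructor
    · rw [h1, TensorProduct.add_tmul, map_add, hf1 _ h0, zero_add]
      rw [Algebra.algebraMap_eq_smul_one, ← TensorProduct.smul_tmul', map_smul,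
        ← Algebra.TensorProduct.one_def, map_one, ← Algebra.algebraMap_eq_smul_one]
    · rw [h1, TensorProduct.tmul_add, map_add, hf2 _ h0, zero_add]
      rw [Algebra.algebraMap_eq_smul_one, TensorProduct.tmul_smul, map_smul,
        ← Algebra.TensorProduct.one_def, map_one, ← Algebra.algebraMap_eq_smul_one]
  induction z using TensorProduct.induction_on with
  | zero => simp [zero_pow hp0]
  | tmul a b =>
    have h2 : (a ⊗ₜ[k] b) ^ p = ((a ^ p) ⊗ₜ[k] (1 : A)) * ((1 : A) ⊗ₜ[k] (b ^ p)) := by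
      rw [Algebra.TensorProduct.tmul_pow, Algebra.TensorProduct.tmul_mul_tmul, mul_one, one_mul]
    rw [← map_pow, h2, map_mul, (key a).1, (key b).2, eps2_tmul, mul_pow, map_mul]
  | add x y hx hy =>
    rw [map_add, add_pow_char, hx, hy, map_add, add_pow_char, map_add]

end B

section C
variable {k A : Type*} [Field k] [CommRing A] [HopfAlgebra k A] (p : ℕ) [Fact p.Prime] [CharP k p]

/-- the Frobenius ideal generated by `p`-th powers of augmentation ideal elements -/
def frobIdeal : Ideal A :=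
  Ideal.span {s | ∃ a : A, Coalgebra.counit (R := k) a = 0 ∧ s = a ^ p}

theorem frobIdeal_isHopfIdeal : (frobIdeal (k := k) (A := A) p).IsHopfIdeal k := by
  have hp0 : p ≠ 0 := (Fact.out : p.Prime).ne_zero
  unfold frobIdeal
  apply isHopfIdeal_span
  · rintro _ ⟨a, ha, rfl⟩
    have : Coalgebra.counit (R := k) (a ^ p) = (Coalgebra.counit (R := k) a) ^ p :=
      map_pow (Bialgebra.counitAlgHom k A) a p
    rw [this, ha, zero_pow hp0]
  · rintro _ ⟨a, ha, rfl⟩
    set J : Ideal A := Ideal.span {s | ∃ a : A, Coalgebra.counit (R := k) a = 0 ∧ s = a ^ p} with hJ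
    have h1 : Coalgebra.comul (R := k) (a ^ p) = (Coalgebra.comul (R := k) a) ^ p :=
      map_pow (Bialgebra.comulAlgHom k A) a p
    rw [h1, map_pow]
    rw [pow_map_eq p (Algebra.TensorProduct.map (Ideal.Quotient.mkₐ k J) (Ideal.Quotient.mkₐ k J))
      ?_ ?_, eps2_comul, ha, zero_pow hp0, map_zero]
    · intro b hb
      rw [Algebra.TensorProduct.map_tmul]
      have : (Ideal.Quotient.mkₐ k J) (b ^ p) = 0 := by
        rw [Ideal.Quotient.mkₐ_eq_mk, Ideal.Quotient.eq_zero_iff_mem]
        exact Ideal.subset_span ⟨b, hb, rfl⟩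
      rw [this, TensorProduct.zero_tmul]
    · intro b hb
      rw [Algebra.TensorProduct.map_tmul]
      have : (Ideal.Quotient.mkₐ k J) (b ^ p) = 0 := by
        rw [Ideal.Quotient.mkₐ_eq_mk, Ideal.Quotient.eq_zero_iff_mem]
        exact Ideal.subset_span ⟨b, hb, rfl⟩
      rw [this, TensorProduct.tmul_zero]
  · rintro _ ⟨a, ha, rfl⟩
    have : HopfAlgebra.antipode k (a ^ p) = (HopfAlgebra.antipode k a) ^ p :=
      map_pow (HopfAlgebra.antipodeAlgHom k A) a p
    rw [this]
    exact Ideal.subset_span ⟨_, by rw [HopfAlgebra.counit_antipode, ha], rfl⟩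

theorem frobIdeal_le_sq (I : Ideal A) (hI : ∀ a, a ∈ I ↔ Coalgebra.counit (R := k) a = 0) :
    frobIdeal (k := k) (A := A) p ≤ I ^ 2 := by
  have hp2 : 2 ≤ p := (Fact.out : p.Prime).two_le
  unfold frobIdeal
  rw [Ideal.span_le]
  rintro _ ⟨a, ha, rfl⟩
  exact Ideal.pow_le_pow_right hp2 (Ideal.pow_mem_pow ((hI a).2 ha) p)

end C

section Sep
variable {k A : Type*} [Field k] [AddCommGroup A] [Module k A] [FiniteDimensional k A]

theorem tensor_eq_zero_of_dual (z : A ⊗[k] A)
    (h : ∀ φ ψ : A →ₗ[k] k, LinearMap.mul' k k (TensorProduct.map φ ψ z) = 0) : z = 0 := by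
  let b := Module.finBasis k A
  apply (b.tensorProduct b).ext_elem
  rintro ⟨i, j⟩
  rw [map_zero, Finsupp.zero_apply]
  have key : (Finsupp.lapply (i, j) : _ →ₗ[k] k) ∘ₗ ((b.tensorProduct b).repr : A ⊗[k] A →ₗ[k] _)
      = LinearMap.mul' k k ∘ₗ TensorProduct.map (b.coord i) (b.coord j) := by
    apply TensorProduct.ext'
    intro x y
    simp [mul_comm]
  have := LinearMap.congr_fun key z
  simp only [LinearMap.comp_apply] at this
  erw [this]
  exact h _ _

end Sep

section Prim
universe u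
variable {k A : Type u} [Field k] [CommRing A] [Bialgebra k A] [Coalgebra.IsCocomm k A]
  [FiniteDimensional k A]

/-- evaluation at `1` as an algebra hom on the dual algebra -/
noncomputable def evOne : WithConv (A →ₗ[k] k) →ₐ[k] k :=
  AlgHom.ofLinearMap ((LinearMap.applyₗ (1 : A)) ∘ₗ (WithConv.linearEquiv k (A →ₗ[k] k)).toLinearMap)
    (by simp)
    (by
      intro f g
      simp [Bialgebra.comul_one, Algebra.TensorProduct.one_def])

theorem evOne_apply (f : WithConv (A →ₗ[k] k)) : evOne f = f.ofConv 1 := rfl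

theorem exists_primitive (hdual : IsLocalRing (WithConv (A →ₗ[k] k))) (hA : 1 < Module.finrank k A) :
    ∃ x : A, x ≠ 0 ∧ Coalgebra.counit (R := k) x = 0 ∧
      Coalgebra.comul x = x ⊗ₜ[k] (1 : A) + (1 : A) ⊗ₜ[k] x := by
  haveI := hdual
  let e : WithConv (A →ₗ[k] k) ≃ₗ[k] (A →ₗ[k] k) := WithConv.linearEquiv k (A →ₗ[k] k)
  haveI : Module.Finite k (WithConv (A →ₗ[k] k)) := Module.Finite.equiv e.symm
  haveI : IsArtinianRing (WithConv (A →ₗ[k] k)) := IsArtinianRing.of_finite k _
  set 𝔫 : Ideal (WithConv (A →ₗ[k] k)) := RingHom.ker (evOne (k := k) (A := A)) with h𝔫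
  have hmem : ∀ f, f ∈ 𝔫 ↔ f.ofConv 1 = 0 := fun f => by
    rw [h𝔫, RingHom.mem_ker]; rfl
  have hmax : 𝔫 = IsLocalRing.maximalIdeal (WithConv (A →ₗ[k] k)) := by
    apply IsLocalRing.eq_maximalIdeal
    exact RingHom.ker_isMaximal_of_surjective _
      (fun c => ⟨algebraMap k _ c, by simp⟩)
  obtain ⟨N, hN0⟩ := IsArtinianRing.isNilpotent_jacobson_bot (R := WithConv (A →ₗ[k] k))
  rw [IsLocalRing.jacobson_eq_maximalIdeal _ bot_ne_top, ← hmax] at hN0
  have hne : 𝔫 ≠ ⊥ := by
    intro h
    have hinj : Function.Injective (evOne (k := k) (A := A)).toLinearMap := by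
      rw [← LinearMap.ker_eq_bot, LinearMap.ker_eq_bot']
      intro f hf
      have : f ∈ 𝔫 := hf
      rwa [h, Ideal.mem_bot] at this
    have := LinearMap.finrank_le_finrank_of_injective hinj
    rw [Module.finrank_self, e.finrank_eq, Subspace.dual_finrank_eq] at this
    omega
  have hsq : ¬ (𝔫 ≤ 𝔫 ^ 2) := by
    intro h
    have h1 : ∀ m, 𝔫 ≤ 𝔫 ^ (m + 1) := by
      intro m
      induction m with
      | zero => simp
      | succ m ih =>
        calc 𝔫 ≤ 𝔫 ^ 2 := h
          _ = 𝔫 * 𝔫 := sq 𝔫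
          _ ≤ 𝔫 ^ (m + 1) * 𝔫 := Ideal.mul_mono_left ih
          _ = 𝔫 ^ (m + 1 + 1) := by rw [pow_succ 𝔫 (m + 1)]
    apply hne
    rw [eq_bot_iff]
    calc 𝔫 ≤ 𝔫 ^ (N + 1) := h1 N
      _ = 𝔫 ^ N * 𝔫 := by rw [pow_succ 𝔫 N]
      _ = ⊥ := by rw [hN0]; simp
  obtain ⟨φ₀, hφ₀, hφ₀'⟩ := SetLike.not_le_iff_exists.1 hsq
  let W : Submodule k (Module.Dual k A) := ((𝔫 ^ 2).restrictScalars k).map e.toLinearMap
  have hWmem : ∀ f : WithConv (A →ₗ[k] k), f ∈ 𝔫 ^ 2 → f.ofConv ∈ W := fun f hf =>
    ⟨f, hf, rfl⟩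
  have hW : W.dualCoannihilator.dualAnnihilator = W := Subspace.dualCoannihilator_dualAnnihilator_eq
  have hex : ∃ a ∈ W.dualCoannihilator, a ∉ Submodule.span k {(1 : A)} := by
    by_contra hcon
    push Not at hcon
    have hle : W.dualCoannihilator ≤ Submodule.span k {(1 : A)} := hcon
    have h2 := Submodule.dualAnnihilator_anti hle
    rw [hW] at h2
    have h3 : φ₀.ofConv ∈ (Submodule.span k {(1 : A)}).dualAnnihilator := by
      rw [Submodule.mem_dualAnnihilator]
      intro w hw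
      obtain ⟨c, rfl⟩ := Submodule.mem_span_singleton.1 hw
      rw [map_smul, (hmem φ₀).1 hφ₀, smul_zero]
    obtain ⟨ψ, hψ, hψe⟩ := h2 h3
    have : ψ = φ₀ := e.injective hψe
    exact hφ₀' (this ▸ hψ)
  obtain ⟨a, haW, ha1⟩ := hex
  have h1W : (1 : A) ∈ W.dualCoannihilator := by
    rw [Submodule.mem_dualCoannihilator]
    rintro _ ⟨f, hf, rfl⟩
    exact (hmem f).1 (Ideal.pow_le_self two_ne_zero hf)
  set x : A := a - (Coalgebra.counit (R := k) a) • (1 : A) with hx
  have hxW : x ∈ W.dualCoannihilator := Submodule.sub_mem _ haW (Submodule.smul_mem _ _ h1W)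
  have hx0 : x ≠ 0 := by
    intro h
    apply ha1
    rw [hx, sub_eq_zero] at h
    rw [h]
    exact Submodule.smul_mem _ _ (Submodule.subset_span rfl)
  have hεx : Coalgebra.counit (R := k) x = 0 := by
    rw [hx, map_sub, map_smul, Bialgebra.counit_one, smul_eq_mul, mul_one, sub_self]
  refine ⟨x, hx0, hεx, ?_⟩
  rw [← sub_eq_zero]
  apply tensor_eq_zero_of_dual
  intro φ ψ
  have h1 : (toConv φ - algebraMap k _ (φ 1)) * (toConv ψ - algebraMap k _ (ψ 1)) ∈ 𝔫 ^ 2 := by
    rw [sq]
    apply Ideal.mul_mem_mul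
    · rw [hmem]; simp
    · rw [hmem]; simp
  have h2 := (Submodule.mem_dualCoannihilator _).1 hxW _ (hWmem _ h1)
  rw [sub_mul, mul_sub, mul_sub] at h2
  simp only [ofConv_sub] at h2
  have h3 : (toConv φ * toConv ψ : WithConv (A →ₗ[k] k)).ofConv x =
      (LinearMap.mul' k k) ((TensorProduct.map φ ψ) (Coalgebra.comul x)) := rfl
  have h4 : ((1 : WithConv (A →ₗ[k] k))).ofConv x = 0 := by
    show algebraMap k k (Coalgebra.counit (R := k) x) = 0
    rw [hεx, map_zero]
  rw [Algebra.algebraMap_eq_smul_one, Algebra.algebraMap_eq_smul_one] at h2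
  simp only [mul_smul_comm, smul_mul_assoc, mul_one, one_mul, ofConv_smul, LinearMap.sub_apply,
    LinearMap.smul_apply, h3, h4, smul_eq_mul] at h2
  rw [map_sub, map_sub, map_add, map_add, TensorProduct.map_tmul, TensorProduct.map_tmul,
    LinearMap.mul'_apply, LinearMap.mul'_apply]
  linear_combination h2

end Prim

end Groth.Agent.Lib.Helper66.AlphaP
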