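import Mathlib

/-!
# Translation automorphism of `S ⊗ A` by an `S`-point of a commutative Hopf algebra (helper66)
-/

set_option autoImplicit false
open TensorProduct

namespace Groth.Agent.Lib.Helper66.Translate

section Theta
variable {k : Type*} [CommRing k] {A : Type*} [CommRing A] [HopfAlgebra k A]
  {S : Type*} [CommRing S] [Algebra k S]

open WithConv

/-- `b ↦ Σ L(b₁) ⊗ b₂` -/
noncomputable def gL (L : A →ₐ[k] S) : A →ₐ[k] S ⊗[k] A :=
  (Algebra.TensorProduct.map L (AlgHom.id k A)).comp (Bialgebra.comulAlgHom k A)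

/-- translation by the `S`-point `L`: `s ⊗ b ↦ Σ s L(b₁) ⊗ b₂`. -/
noncomputable def theta (L : A →ₐ[k] S) : S ⊗[k] A →ₐ[S] S ⊗[k] A :=
  Algebra.TensorProduct.lift (Algebra.ofId S (S ⊗[k] A)) (gL L) (fun _ _ => Commute.all _ _)

lemma inv_mul_conv (L : A →ₐ[k] S) :
    toConv (L.comp (HopfAlgebra.antipodeAlgHom k A)) * toConv L = 1 := by
  have h := AlgHom.comp_convMul_distrib L (toConv (HopfAlgebra.antipodeAlgHom k A)) (toConv (AlgHom.id k A))
  rw [AlgHom.antipode_id_cancel] at h
  simp only [AlgHom.comp_id] at h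
  apply WithConv.ofConv_injective
  rw [← h]
  ext b
  simp [AlgHom.convOne_def]

lemma gL_eq (L : A →ₐ[k] S) :
    gL L = ofConv (toConv ((Algebra.TensorProduct.includeLeft : S →ₐ[k] S ⊗[k] A).comp L) *
      toConv (Algebra.TensorProduct.includeRight : A →ₐ[k] S ⊗[k] A)) := by
  ext b
  rw [AlgHom.convMul_apply]
  simp only [gL, AlgHom.comp_apply, Bialgebra.comulAlgHom_apply]
  have : Algebra.TensorProduct.map L (AlgHom.id k A) =
      Algebra.TensorProduct.lift ((Algebra.TensorProduct.includeLeft : S →ₐ[k] S ⊗[k] A).comp L)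
        (Algebra.TensorProduct.includeRight : A →ₐ[k] S ⊗[k] A) (fun _ _ => Commute.all _ _) := by
    ext <;> simp
  exact DFunLike.congr_fun this _

lemma theta_gL (L L' : A →ₐ[k] S) (b : A) :
    theta L (gL L' b) =
      (toConv ((Algebra.TensorProduct.includeLeft : S →ₐ[k] S ⊗[k] A).comp L') * toConv (gL L)) b := by
  have h1 : ((theta L).restrictScalars k).comp (Algebra.TensorProduct.map L' (AlgHom.id k A)) =
      Algebra.TensorProduct.lift ((Algebra.TensorProduct.includeLeft : S →ₐ[k] S ⊗[k] A).comp L')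
        (gL L) (fun _ _ => Commute.all _ _) := by
    ext x
    · simp [theta]
    · simp [theta, ← Algebra.TensorProduct.one_def]
  rw [AlgHom.convMul_apply, ← h1]
  simp [gL]

lemma theta_gL_antipode (L : A →ₐ[k] S) (b : A) :
    theta L (gL (L.comp (HopfAlgebra.antipodeAlgHom k A)) b) = 1 ⊗ₜ b := by
  rw [theta_gL, gL_eq, toConv_ofConv, ← mul_assoc]
  have : toConv ((Algebra.TensorProduct.includeLeft : S →ₐ[k] S ⊗[k] A).comp
      (L.comp (HopfAlgebra.antipodeAlgHom k A))) *
      toConv ((Algebra.TensorProduct.includeLeft : S →ₐ[k] S ⊗[k] A).comp L) = 1 :=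
    inv_mul_conv ((Algebra.TensorProduct.includeLeft : S →ₐ[k] S ⊗[k] A).comp L)
  rw [this, one_mul]
  simp

lemma theta_surjective (L : A →ₐ[k] S) : Function.Surjective (theta L) := by
  have h : (theta L).comp (theta (L.comp (HopfAlgebra.antipodeAlgHom k A))) =
      AlgHom.id S (S ⊗[k] A) := by
    ext b
    have h1 : theta (L.comp (HopfAlgebra.antipodeAlgHom k A)) ((1 : S) ⊗ₜ[k] b) =
        gL (L.comp (HopfAlgebra.antipodeAlgHom k A)) b := by
      simp [theta, ← Algebra.TensorProduct.one_def]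
    change theta L (theta (L.comp (HopfAlgebra.antipodeAlgHom k A)) ((1 : S) ⊗ₜ[k] b)) = 1 ⊗ₜ b
    rw [h1, theta_gL_antipode]
  intro x
  exact ⟨_, DFunLike.congr_fun h x⟩

lemma theta_bijective [Module.Finite k A] (L : A →ₐ[k] S) : Function.Bijective (theta L) :=
  ⟨OrzechProperty.injective_of_surjective_endomorphism (theta L).toLinearMap (theta_surjective L),
    theta_surjective L⟩

end Theta

end Groth.Agent.Lib.Helper66.Translate
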