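/-
Helper library (helper66): finite group schemes over an algebraically closed field:
rational points, translations, decomposition `dim A = #points * dim A⁰`, powers of the
augmentation ideal as Hopf ideals, order prime to the characteristic implies `I² = I`.
Used for S4113 (and planned S17331).
-/
import Mathlib
import Groth.Agent.Lib.Helper66.Translate
import Groth.Agent.Lib.Helper66.AlphaP
import Groth.Agent.Lib.Helper66.FrobSub

open scoped TensorProduct
open Groth.Agent.Lib.Helper66.Translate Groth.Agent.Lib.Helper66.TruncPoly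
  Groth.Agent.Lib.Helper66.FrobSub Groth.Agent.Lib.Helper66.AlphaP

set_option autoImplicit false

namespace Groth.Agent.Lib.Helper66.PointsDecomp

section Points
variable {K A : Type*} [Field K] [IsAlgClosed K] [CommRing A] [Algebra K A] [Module.Finite K A]

theorem exists_algHom_ker_eq (𝔪 : Ideal A) [h𝔪 : 𝔪.IsMaximal] :
    ∃ γ : A →ₐ[K] K, RingHom.ker γ = 𝔪 := by
  letI : Field (A ⧸ 𝔪) := Ideal.Quotient.field 𝔪
  have hbij : Function.Bijective (algebraMap K (A ⧸ 𝔪)) :=
    IsAlgClosed.algebraMap_bijective_of_isIntegral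
  let ek : K ≃ₐ[K] (A ⧸ 𝔪) := AlgEquiv.ofBijective (Algebra.ofId K _) hbij
  refine ⟨ek.symm.toAlgHom.comp (Ideal.Quotient.mkₐ K 𝔪), ?_⟩
  ext f
  rw [RingHom.mem_ker]
  show ek.symm (Ideal.Quotient.mkₐ K 𝔪 f) = 0 ↔ _
  rw [map_eq_zero_iff _ ek.symm.injective, Ideal.Quotient.mkₐ_eq_mk, Ideal.Quotient.eq_zero_iff_mem]

end Points

section Trans
variable {K A : Type*} [Field K] [CommRing A] [HopfAlgebra K A] [Module.Finite K A]

/-- translation by a rational point `γ`: `a ↦ Σ γ(a₁) a₂`. -/
noncomputable def transHom (γ : A →ₐ[K] K) : A →ₐ[K] A :=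
  (Algebra.TensorProduct.lid K A).toAlgHom.comp (gL γ)

theorem transHom_bijective (γ : A →ₐ[K] K) : Function.Bijective (transHom γ) := by
  have h : ⇑(transHom γ) = (Algebra.TensorProduct.lid K A) ∘ (theta γ) ∘
      (Algebra.TensorProduct.lid K A).symm := by
    funext a
    simp [transHom, theta, ← Algebra.TensorProduct.one_def]
  rw [h]
  exact (Algebra.TensorProduct.lid K A).bijective.comp
    ((theta_bijective γ).comp (Algebra.TensorProduct.lid K A).symm.bijective)

/-- translation as an algebra automorphism -/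
noncomputable def trans (γ : A →ₐ[K] K) : A ≃ₐ[K] A :=
  AlgEquiv.ofBijective (transHom γ) (transHom_bijective γ)

theorem counit_trans (γ : A →ₐ[K] K) (a : A) :
    Coalgebra.counit (R := K) (trans γ a) = γ a := by
  show Coalgebra.counit (R := K) (transHom γ a) = γ a
  have h := Coalgebra.sum_map_tmul_counit_eq (R := K) γ a (repr := Coalgebra.Repr.arbitrary K a)
  have h2 := congrArg (LinearMap.mul' K K) h
  simp only [map_sum, LinearMap.mul'_apply, mul_one] at h2
  rw [← h2]
  simp only [transHom, gL, AlgHom.comp_apply, Bialgebra.comulAlgHom_apply]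
  rw [← (Coalgebra.Repr.arbitrary K a).eq]
  simp [map_sum]

end Trans

section Decomp
variable {K A : Type*} [Field K] [IsAlgClosed K] [CommRing A] [HopfAlgebra K A] [Module.Finite K A]

/-- all the quotients `A ⧸ 𝔪 ^ n` at maximal ideals have the same dimension -/
theorem finrank_quot_pow_eq (𝔪 : Ideal A) [h𝔪 : 𝔪.IsMaximal] (n : ℕ) :
    Module.finrank K (A ⧸ 𝔪 ^ n) =
      Module.finrank K (A ⧸ (RingHom.ker (Bialgebra.counitAlgHom K A)) ^ n) := by
  obtain ⟨γ, hγ⟩ := exists_algHom_ker_eq (K := K) 𝔪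
  set I : Ideal A := RingHom.ker (Bialgebra.counitAlgHom K A) with hI
  have h1 : 𝔪 = I.comap (trans γ : A →+* A) := by
    ext a
    rw [← hγ, RingHom.mem_ker, Ideal.mem_comap, hI, RingHom.mem_ker]
    show γ a = 0 ↔ Coalgebra.counit (R := K) (trans γ a) = 0
    rw [counit_trans]
  have h2 : I ^ n = (𝔪 ^ n).map (trans γ : A →+* A) := by
    rw [Ideal.map_pow, h1]
    congr 1
    exact (Ideal.map_comap_of_surjective _ (trans γ).surjective I).symm
  have e : (A ⧸ 𝔪 ^ n) ≃ₐ[K] (A ⧸ I ^ n) := Ideal.quotientEquivAlg (𝔪 ^ n) (I ^ n) (trans γ) h2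
  exact e.toLinearEquiv.finrank_eq

theorem finrank_eq_card_mul (n : ℕ) (hn : nilradical A ^ n = ⊥) :
    Module.finrank K A = Nat.card (MaximalSpectrum A) *
      Module.finrank K (A ⧸ (RingHom.ker (Bialgebra.counitAlgHom K A)) ^ n) := by
  haveI : IsArtinianRing A := IsArtinianRing.of_finite K A
  haveI : Fintype (MaximalSpectrum A) := Fintype.ofFinite _
  have e1 : A ≃ₗ[K] (A ⧸ nilradical A ^ n) := by
    rw [hn]
    exact ((AlgEquiv.quotientBot K A).symm).toLinearEquiv
  have e2 : (A ⧸ nilradical A ^ n) ≃ₗ[K] (∀ I : MaximalSpectrum A, A ⧸ I.asIdeal ^ n) :=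
    ((IsArtinianRing.quotNilradicalPowEquivPi A n).restrictScalars K).toLinearEquiv
  rw [e1.finrank_eq, e2.finrank_eq, Module.finrank_pi_fintype]
  have h3 : ∀ I : MaximalSpectrum A, Module.finrank K (A ⧸ I.asIdeal ^ n) =
      Module.finrank K (A ⧸ (RingHom.ker (Bialgebra.counitAlgHom K A)) ^ n) := by
    intro I
    haveI := I.isMaximal
    exact finrank_quot_pow_eq I.asIdeal n
  rw [Finset.sum_congr rfl (fun I _ => h3 I), Finset.sum_const, Finset.card_univ, smul_eq_mul,
    Nat.card_eq_fintype_card]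

end Decomp

section PowHopf
variable {k A : Type*} [Field k] [CommRing A] [HopfAlgebra k A]

theorem pow_isHopfIdeal (n : ℕ) (hn0 : n ≠ 0)
    (hn : RingHom.ker (Bialgebra.counitAlgHom k A) ^ n =
      RingHom.ker (Bialgebra.counitAlgHom k A) ^ (n + n)) :
    (RingHom.ker (Bialgebra.counitAlgHom k A) ^ n).IsHopfIdeal k := by
  set I : Ideal A := RingHom.ker (Bialgebra.counitAlgHom k A) with hI
  set q := Ideal.Quotient.mkₐ k (I ^ n) with hq
  have hqsurj : Function.Surjective q := Ideal.Quotient.mkₐ_surjective k _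
  have hεsurj : Function.Surjective (Bialgebra.counitAlgHom k A) := by
    intro c
    exact ⟨algebraMap k A c, by simp⟩
  have hkerq : RingHom.ker q = I ^ n := by
    rw [hq]; exact Ideal.Quotient.mkₐ_ker k (I ^ n)
  have h1 : I ≤ (RingHom.ker (Algebra.TensorProduct.map (Bialgebra.counitAlgHom k A)
      (Bialgebra.counitAlgHom k A))).comap (Bialgebra.comulAlgHom k A) := by
    intro a ha
    rw [Ideal.mem_comap, RingHom.mem_ker]
    have h2 : eps2 (k := k) (Coalgebra.comul (R := k) a) = 0 := by
      rw [eps2_comul]; exact ha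
    have h3 : (Algebra.TensorProduct.lid k k) ((Algebra.TensorProduct.map (Bialgebra.counitAlgHom k A)
      (Bialgebra.counitAlgHom k A)) (Coalgebra.comul (R := k) a)) = 0 := h2
    exact (map_eq_zero_iff _ (Algebra.TensorProduct.lid k k).injective).1 h3
  have h4 : I ^ (n + n) ≤ (RingHom.ker (Algebra.TensorProduct.map q q)).comap
      (Bialgebra.comulAlgHom k A) := by
    calc I ^ (n + n) ≤ ((RingHom.ker (Algebra.TensorProduct.map (Bialgebra.counitAlgHom k A)
          (Bialgebra.counitAlgHom k A))).comap (Bialgebra.comulAlgHom k A)) ^ (n + n) :=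
          Ideal.pow_right_mono h1 _
      _ ≤ ((RingHom.ker (Algebra.TensorProduct.map (Bialgebra.counitAlgHom k A)
          (Bialgebra.counitAlgHom k A))) ^ (n + n)).comap (Bialgebra.comulAlgHom k A) :=
          Ideal.le_comap_pow _ _
      _ ≤ (RingHom.ker (Algebra.TensorProduct.map q q)).comap (Bialgebra.comulAlgHom k A) := by
          apply Ideal.comap_mono
          rw [Algebra.TensorProduct.map_ker _ _ hεsurj hεsurj,
            Algebra.TensorProduct.map_ker _ _ hqsurj hqsurj, hkerq, ← hI]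
          refine le_trans Ideal.sup_pow_add_le_pow_sup_pow ?_
          rw [Ideal.map_pow, Ideal.map_pow]
  refine { counit_eq_zero := fun x hx => ?_, map_mkQ_comul_eq_zero := fun x hx => ?_, antipode_mem := fun x hx => ?_ }
  · have : x ∈ I := Ideal.pow_le_self hn0 hx
    exact this
  · have hx' : x ∈ I ^ (n + n) := by rw [← hn]; exact hx
    have := h4 hx'
    rw [Ideal.mem_comap, RingHom.mem_ker] at this
    exact this
  · have h5 : I ≤ I.comap (HopfAlgebra.antipodeAlgHom k A) := by
      intro a ha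
      rw [Ideal.mem_comap, hI, RingHom.mem_ker]
      show Coalgebra.counit (R := k) (HopfAlgebra.antipode k a) = 0
      rw [HopfAlgebra.counit_antipode]
      exact ha
    have h6 : I ^ n ≤ (I ^ n).comap (HopfAlgebra.antipodeAlgHom k A) :=
      le_trans (Ideal.pow_right_mono h5 n) (Ideal.le_comap_pow _ _)
    exact h6 hx

end PowHopf

theorem exists_pow_stable {A : Type*} [CommRing A] [IsArtinianRing A] (I : Ideal A) :
    ∃ m, ∀ j, m ≤ j → I ^ j = I ^ m := by
  let f : ℕ →o (Submodule A A)ᵒᵈ :=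
    ⟨fun n => OrderDual.toDual (I ^ n), fun a b hab => Ideal.pow_le_pow_right hab⟩
  obtain ⟨m, hm⟩ := IsArtinian.monotone_stabilizes f
  exact ⟨m, fun j hj => (OrderDual.toDual.injective (hm j hj)).symm⟩

section ExpChar
universe u v
variable {k : Type u} [Field k]

/-- order of an infinitesimal group is a power of the characteristic exponent -/
theorem finrank_eq_expChar_pow {A : Type v} [CommRing A] [Bialgebra k A] [Module.Finite k A]
    (N : ℕ) (hN : (RingHom.ker (Bialgebra.counitAlgHom k A)) ^ N = ⊥) :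
    ∃ n : ℕ, Module.finrank k A = ringExpChar k ^ n := by
  set I : Ideal A := RingHom.ker (Bialgebra.counitAlgHom k A) with hIdef
  have hI : ∀ a, a ∈ I ↔ Coalgebra.counit (R := k) a = 0 := fun a => by
    rw [hIdef, RingHom.mem_ker]; rfl
  generalize hq : ringExpChar k = q
  have hexp : ExpChar k q := hq ▸ (inferInstance : ExpChar k (ringExpChar k))
  rcases hexp with _ | ⟨hprime⟩
  · exact ⟨0, by
      rw [pow_zero]
      exact finrank_eq_one_of_cotangent_trivial I hI N hN
        (finrank_cotangent_eq_zero_of_charZero I hI N hN)⟩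
  · haveI : Fact q.Prime := ⟨hprime⟩
    exact exists_finrank_eq_pow q _ A ⟨N, hN⟩ rfl

end ExpChar

section Main
universe u v
variable {K : Type u} {A : Type v} [Field K] [IsAlgClosed K] [CommRing A] [HopfAlgebra K A]
  [Module.Finite K A]

/-- a uniform exponent: the nilradical and the augmentation ideal have stabilised -/
theorem exists_good_exponent :
    ∃ n : ℕ, 2 ≤ n ∧ nilradical A ^ n = ⊥ ∧
      (RingHom.ker (Bialgebra.counitAlgHom K A)) ^ n =
        (RingHom.ker (Bialgebra.counitAlgHom K A)) ^ (n + n) := by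
  haveI : IsArtinianRing A := IsArtinianRing.of_finite K A
  obtain ⟨n0, hn0⟩ := IsArtinianRing.isNilpotent_nilradical (R := A)
  obtain ⟨m, hm⟩ := exists_pow_stable (RingHom.ker (Bialgebra.counitAlgHom K A))
  refine ⟨max (max n0 m) 2, le_max_right _ _, ?_, ?_⟩
  · rw [eq_bot_iff, ← Ideal.zero_eq_bot, ← hn0]
    exact Ideal.pow_le_pow_right (le_trans (le_max_left _ _) (le_max_left _ _))
  · have hnm : m ≤ max (max n0 m) 2 := le_trans (le_max_right _ _) (le_max_left _ _)
    rw [hm _ hnm, hm (max (max n0 m) 2 + max (max n0 m) 2) (by omega)]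

theorem quotient_aug_pow_eq_bot (n : ℕ) [hH : (RingHom.ker (Bialgebra.counitAlgHom K A) ^ n).IsHopfIdeal K] :
    (RingHom.ker (Bialgebra.counitAlgHom K
      (A ⧸ RingHom.ker (Bialgebra.counitAlgHom K A) ^ n))) ^ n = ⊥ := by
  set I := RingHom.ker (Bialgebra.counitAlgHom K A) with hIdef
  rw [eq_bot_iff]
  have h1 : RingHom.ker (Bialgebra.counitAlgHom K (A ⧸ I ^ n)) ≤
      I.map (Ideal.Quotient.mk (I ^ n)) := by
    intro b hb
    obtain ⟨a, rfl⟩ := Ideal.Quotient.mk_surjective b
    apply Ideal.mem_map_of_mem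
    exact hb
  calc _ ≤ (I.map (Ideal.Quotient.mk (I ^ n))) ^ n := Ideal.pow_right_mono h1 n
    _ = (I ^ n).map (Ideal.Quotient.mk (I ^ n)) := (Ideal.map_pow _ _ _).symm
    _ = ⊥ := by rw [Ideal.map_quotient_self]

theorem sq_eq_self_of_finrank_ne_zero (h : (Module.finrank K A : K) ≠ 0) :
    RingHom.ker (Bialgebra.counitAlgHom K A) ^ 2 = RingHom.ker (Bialgebra.counitAlgHom K A) := by
  obtain ⟨n, hn2, hnil, hstab⟩ := exists_good_exponent (K := K) (A := A)
  set I := RingHom.ker (Bialgebra.counitAlgHom K A) with hIdef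
  haveI hHopf : (I ^ n).IsHopfIdeal K := pow_isHopfIdeal n (by omega) hstab
  have hdim := finrank_eq_card_mul (K := K) (A := A) n hnil
  obtain ⟨e, he⟩ := finrank_eq_expChar_pow (k := K) (A := A ⧸ I ^ n) n (quotient_aug_pow_eq_bot n)
  have hB1 : Module.finrank K (A ⧸ I ^ n) = 1 := by
    generalize hq : ringExpChar K = q at he
    have hexp : ExpChar K q := hq ▸ (inferInstance : ExpChar K (ringExpChar K))
    rcases hexp with _ | ⟨hprime⟩
    · rw [he, one_pow]
    · rcases Nat.eq_zero_or_pos e with h0 | hpos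
      · rw [he, h0, pow_zero]
      · exfalso
        apply h
        rw [hdim, he]
        push_cast
        rw [CharP.cast_eq_zero K q, zero_pow hpos.ne', mul_zero]
  have hle : I ≤ I ^ n := by
    intro a ha
    have h1ne : (1 : A ⧸ I ^ n) ≠ 0 := by
      intro h10
      have := congrArg (Coalgebra.counit (R := K)) h10
      rw [Bialgebra.counit_one, map_zero] at this
      exact one_ne_zero this
    obtain ⟨c, hc⟩ := (finrank_eq_one_iff_of_nonzero' (1 : A ⧸ I ^ n) h1ne).1 hB1
      (Ideal.Quotient.mk (I ^ n) a)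
    have h2 := congrArg (Coalgebra.counit (R := K)) hc
    rw [map_smul, Bialgebra.counit_one, smul_eq_mul, mul_one] at h2
    have h3 : Coalgebra.counit (R := K) (Ideal.Quotient.mk (I ^ n) a) = 0 := ha
    rw [h3] at h2
    rw [h2, zero_smul] at hc
    exact Ideal.Quotient.eq_zero_iff_mem.1 hc.symm
  apply le_antisymm (Ideal.pow_le_self two_ne_zero)
  exact le_trans hle (Ideal.pow_le_pow_right hn2)

end Main

end Groth.Agent.Lib.Helper66.PointsDecomp
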