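import Groth.Agent.Lib.Helper66.NQ8
import Groth.Agent.Lib.Helper66.TK2
import Mathlib

/-!
# The correspondence between normal Hopf ideals and Hopf subalgebras (helper66)
-/

set_option autoImplicit false
open TensorProduct WithConv

universe u
namespace Groth.Agent.Lib.Helper66.NQ9
open Groth.Agent.Lib.Helper96 Groth.Agent.Lib.Helper66.NQ1 Groth.Agent.Lib.Helper66.NQ4
  Groth.Agent.Lib.Helper66.TK1 Groth.Agent.Lib.Helper66.TK7 Groth.Agent.Lib.Helper66.TK10
  Groth.Agent.Lib.Helper66.TK2

section Descent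
variable {B A : Type*} [CommRing B] [CommRing A] [Algebra B A] [Module.FaithfullyFlat B A]

/-- faithfully flat descent of elements -/
theorem exists_algebraMap_eq_of_tmul_eq (x : A) (h : x ⊗ₜ[B] (1 : A) = (1 : A) ⊗ₜ[B] x) :
    ∃ b : B, algebraMap B A b = x := by
  let N : Submodule B A := LinearMap.range (Algebra.linearMap B A)
  have h1 : (TensorProduct.mk B A (A ⧸ N) 1) (N.mkQ x) = 0 := by
    have h2 := congrArg (LinearMap.lTensor A N.mkQ) h
    simp only [LinearMap.lTensor_tmul] at h2
    have h3 : N.mkQ (1 : A) = 0 := by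
      rw [Submodule.mkQ_apply, Submodule.Quotient.mk_eq_zero]
      exact ⟨1, by simp⟩
    rw [h3, TensorProduct.tmul_zero] at h2
    exact h2.symm
  have h4 := Module.FaithfullyFlat.tensorProduct_mk_injective (A := B) (B := A) (A ⧸ N)
  have h5 : N.mkQ x = 0 := h4 (by rw [h1, map_zero])
  rw [Submodule.mkQ_apply, Submodule.Quotient.mk_eq_zero] at h5
  obtain ⟨b, hb⟩ := h5
  exact ⟨b, hb⟩

end Descent

variable {k : Type u} [Field k] {A : Type u} [CommRing A] [HopfAlgebra k A]
variable {J : Ideal A} [J.IsHopfIdeal k]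

theorem mem_coinv_iff_sub_mem {x : A} : x ∈ coinv k J ↔
    CoalgebraStruct.comul (R := k) (A := A) x - x ⊗ₜ[k] (1 : A) ∈
      LinearMap.range (LinearMap.lTensor A (J.restrictScalars k).subtype) := by
  have hex : Function.Exact (J.restrictScalars k).subtype (Ideal.Quotient.mkₐ k J).toLinearMap := by
    intro a
    constructor
    · intro ha
      have : a ∈ J := by
        rw [← Ideal.Quotient.eq_zero_iff_mem]; exact ha
      exact ⟨⟨a, this⟩, rfl⟩
    · rintro ⟨b, rfl⟩
      have : (b : A) ∈ J := b.2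
      exact Ideal.Quotient.eq_zero_iff_mem.2 this
  have hsurj : Function.Surjective (Ideal.Quotient.mkₐ k J).toLinearMap :=
    Ideal.Quotient.mk_surjective
  have hE := lTensor_exact A hex hsurj
  rw [LinearMap.mem_range]
  have := hE (CoalgebraStruct.comul (R := k) (A := A) x - x ⊗ₜ[k] (1 : A))
  rw [Set.mem_range] at this
  rw [← this, map_sub, sub_eq_zero, mem_coinv, isSemi_iff, LinearMap.lTensor_tmul]
  rfl

section Corr
variable (B : Subalgebra k A) (hB : SGA3.IsHopfSubalgebra k A B)

theorem mk_eq_of_mem (h : J = SGA3.augIdealSpan k A B) {b : A} (hb : b ∈ B) :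
    Ideal.Quotient.mk J b = algebraMap k (A ⧸ J) (CoalgebraStruct.counit (R := k) b) := by
  have h1 : b - algebraMap k A (CoalgebraStruct.counit (R := k) b) ∈ J := by
    rw [h]
    apply Ideal.subset_span
    refine ⟨B.sub_mem hb (B.algebraMap_mem _), ?_⟩
    rw [map_sub, Bialgebra.counit_algebraMap, sub_self]
  have h2 := Ideal.Quotient.eq_zero_iff_mem.2 h1
  rw [map_sub, sub_eq_zero] at h2
  rw [h2]
  rfl

include hB in
theorem le_coinv_of_eq (h : J = SGA3.augIdealSpan k A B) : B ≤ coinv k J := by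
  intro b hb
  rw [mem_coinv, isSemi_iff]
  obtain ⟨z, hz⟩ := hB.1 b hb
  have key : ∀ z : B ⊗[k] B,
      LinearMap.lTensor A (Ideal.Quotient.mkₐ k J).toLinearMap
        (TensorProduct.map B.val.toLinearMap B.val.toLinearMap z) =
      (slice A (CoalgebraStruct.counit (R := k) (A := A))
        (TensorProduct.map B.val.toLinearMap B.val.toLinearMap z)) ⊗ₜ[k] (1 : A ⧸ J) := by
    intro z
    induction z using TensorProduct.induction_on with
    | zero => simp
    | add x y hx hy => simp only [map_add, hx, hy, add_tmul]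
    | tmul x y =>
      simp only [TensorProduct.map_tmul, LinearMap.lTensor_tmul, AlgHom.toLinearMap_apply,
        Subalgebra.coe_val, slice_tmul, Ideal.Quotient.mkₐ_eq_mk]
      rw [mk_eq_of_mem B h y.2, Algebra.algebraMap_eq_smul_one, TensorProduct.tmul_smul,
        TensorProduct.smul_tmul']
  rw [← hz, key, hz]
  congr 1
  have := Coalgebra.lTensor_counit_comul (R := k) b
  unfold slice
  rw [LinearMap.comp_apply, this]
  simp

include hB in
theorem coinv_le_of_eq (hJ : SGA3.IsNormalHopfIdeal k A J) (h : J = SGA3.augIdealSpan k A B) :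
    coinv k J ≤ B := by
  intro x hx
  have hHS := isHS_of_isHopfSubalgebra hB
  letI := hopfAlgebraOfSub B hHS.1 hHS.2
  let c : B →ₐc[k] A := subBialgHom B hHS.1 hHS.2
  let π : A →ₐ[k] A ⧸ J := Ideal.Quotient.mkₐ k J
  have hπ : Function.Surjective π := Ideal.Quotient.mk_surjective
  have hπc : ∀ z : B, π (c z) = algebraMap k (A ⧸ J) (CoalgebraStruct.counit (R := k) z) :=
    fun z => mk_eq_of_mem B h z.2
  have hker : RingHom.ker π.toRingHom ≤
      Ideal.map (c : B →+* A) (RingHom.ker (Bialgebra.counitAlgHom k B : B →+* k)) := by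
    have : RingHom.ker π.toRingHom = J := Ideal.mk_ker
    rw [this, h]
    unfold SGA3.augIdealSpan
    rw [Ideal.span_le]
    rintro a ⟨ha, hε⟩
    show (c : B →+* A) ⟨a, ha⟩ ∈ _
    apply Ideal.mem_map_of_mem
    exact (RingHom.mem_ker (f := (Bialgebra.counitAlgHom k B : B →+* k))).2 hε
  have hbij := γ_bijective c (AlgHom.id k A) (fun _ => rfl) (fun _ => rfl) π hπ hπc hker
  haveI : Module.FaithfullyFlat B A := faithfullyFlat_sub B hHS
  have hγD : (γD (T := A) (AlgHom.id k A) π).ofConv x = (1 : A ⧸ J) ⊗ₜ[k] x := by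
    have h1 := NQ6.ρL_of_mem_coinv hJ hx
    rw [← h1]
    unfold γD
    rw [AlgHom.convMul_apply]
    simp only [ρL, AlgHom.comp_apply, Bialgebra.comulAlgHom_apply, ofConv_toConv]
    generalize CoalgebraStruct.comul (R := k) x = y
    induction y using TensorProduct.induction_on with
    | zero => simp
    | add x y hx hy => simp only [map_add, hx, hy]
    | tmul x y => simp [π, Algebra.TensorProduct.includeRight_apply]
  have heq : x ⊗ₜ[B] (1 : A) = (1 : A) ⊗ₜ[B] x := by
    apply hbij.1
    rw [γ_tmul, γ_tmul, hγD]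
    simp [Algebra.TensorProduct.one_def]
  obtain ⟨b, hb⟩ := exists_algebraMap_eq_of_tmul_eq x heq
  rw [← hb]
  exact b.2

include hB in
/-- **Correspondence.** For a Hopf subalgebra `B` and a normal Hopf ideal `J`:
`J = A·B⁺` iff `B = A^{co A/J}`. -/
theorem eq_augIdealSpan_iff (hJ : SGA3.IsNormalHopfIdeal k A J) :
    J = SGA3.augIdealSpan k A B ↔ B = coinv k J := by
  constructor
  · intro h
    exact le_antisymm (le_coinv_of_eq B hB h) (coinv_le_of_eq B hB hJ h)
  · intro h
    rw [h]
    exact NQ8.eq_augIdealSpan_coinv hJ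

end Corr

end Groth.Agent.Lib.Helper66.NQ9
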