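import Mathlib
import Groth.Agent.Lib.Helper66.TK10

/-!
# Consequences of Takeuchi's theorem: images of bialgebra maps, epimorphisms (helper66)
-/

set_option autoImplicit false
open scoped TensorProduct
open WithConv

namespace Groth.Agent.Lib.Helper66.TK11
open Groth.Agent.Lib.Helper66.SubBialg Groth.Agent.Lib.Helper66.TK1 Groth.Agent.Lib.Helper66.TK3
  Groth.Agent.Lib.Helper66.TK7 Groth.Agent.Lib.Helper66.TK9 Groth.Agent.Lib.Helper66.TK10

universe u v w

section Range
variable {k : Type u} [Field k] {A : Type v} {B : Type w} [CommRing A] [CommRing B]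
  [HopfAlgebra k A] [HopfAlgebra k B] (f : A →ₐc[k] B)

/-- the image of a bialgebra map of commutative Hopf algebras is a Hopf subalgebra -/
theorem isHS_range : IsHS (f : A →ₐ[k] B).range := by
  constructor
  · rintro _ ⟨a, rfl⟩
    have h5 : Coalgebra.comul (R := k) (f a) =
        Algebra.TensorProduct.map (f : A →ₐ[k] B) (f : A →ₐ[k] B) (Coalgebra.comul (R := k) a) :=
      (CoalgHomClass.map_comp_comul_apply f a).symm
    refine ⟨Algebra.TensorProduct.map (f : A →ₐ[k] B).rangeRestrict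
      (f : A →ₐ[k] B).rangeRestrict (Coalgebra.comul (R := k) a), ?_⟩
    show jmap (f : A →ₐ[k] B).range (Algebra.TensorProduct.map (f : A →ₐ[k] B).rangeRestrict
      (f : A →ₐ[k] B).rangeRestrict (Coalgebra.comul (R := k) a)) = Coalgebra.comul (R := k) (f a)
    rw [← AlgHom.comp_apply, ← Algebra.TensorProduct.map_comp, h5]
    rfl
  · rintro _ ⟨a, rfl⟩
    exact ⟨HopfAlgebra.antipode k a, map_antipode f a⟩

/-- the target of a bialgebra map of finitely generated commutative Hopf algebras is faithfully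
flat over the image -/
theorem ff_range [Algebra.FiniteType k A] [Algebra.FiniteType k B] :
    ((f : A →ₐ[k] B).range.val : (f : A →ₐ[k] B).range →+* B).FaithfullyFlat := by
  have h := isHS_range f
  letI := hopfAlgebraOfSub (f : A →ₐ[k] B).range h.1 h.2
  haveI : Algebra.FiniteType k (f : A →ₐ[k] B).range :=
    Algebra.FiniteType.of_surjective (f : A →ₐ[k] B).rangeRestrict
      (f : A →ₐ[k] B).rangeRestrict_surjective
  exact ff_finiteType (subBialgHom (f : A →ₐ[k] B).range h.1 h.2) Subtype.val_injective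

end Range

section Epi
variable {k : Type u} [Field k] {A' A : Type u} [CommRing A'] [CommRing A]
  [HopfAlgebra k A'] [HopfAlgebra k A] (φ : A' →ₐc[k] A)

/-- a bialgebra map of commutative Hopf algebras over a field which is an epimorphism of rings is
surjective -/
theorem surjective_of_epi
    (hepi : ∀ (R : Type u) [CommRing R] (f g : A →+* R),
      f.comp (φ : A' →+* A) = g.comp (φ : A' →+* A) → f = g) :
    Function.Surjective φ := by
  have hB := isHS_range φ
  haveI : Module.FaithfullyFlat (φ : A' →ₐ[k] A).range A := faithfullyFlat_sub _ hB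
  have hfg := hepi (A ⊗[(φ : A' →ₐ[k] A).range] A)
    (Algebra.TensorProduct.includeLeft : A →ₐ[(φ : A' →ₐ[k] A).range] A ⊗[(φ : A' →ₐ[k] A).range] A).toRingHom
    (Algebra.TensorProduct.includeRight : A →ₐ[(φ : A' →ₐ[k] A).range] A ⊗[(φ : A' →ₐ[k] A).range] A).toRingHom
    (by
      apply RingHom.ext
      intro a'
      show (φ a') ⊗ₜ[(φ : A' →ₐ[k] A).range] (1 : A) = (1 : A) ⊗ₜ[(φ : A' →ₐ[k] A).range] (φ a')
      have h1 : φ a' = (⟨φ a', ⟨a', rfl⟩⟩ : (φ : A' →ₐ[k] A).range) • (1 : A) := by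
        rw [Algebra.smul_def, mul_one]
        rfl
      rw [h1, TensorProduct.smul_tmul])
  have hae : ∀ a : A, a ⊗ₜ[(φ : A' →ₐ[k] A).range] (1 : A) =
      (1 : A) ⊗ₜ[(φ : A' →ₐ[k] A).range] a :=
    fun a => congrArg (fun ψ : A →+* A ⊗[(φ : A' →ₐ[k] A).range] A => ψ a) hfg
  have hsurj : Function.Surjective (algebraMap A (A ⊗[(φ : A' →ₐ[k] A).range] A)) := by
    intro x
    induction x using TensorProduct.induction_on with
    | zero => exact ⟨0, map_zero _⟩
    | tmul a a' =>
      refine ⟨a * a', ?_⟩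
      rw [Algebra.TensorProduct.algebraMap_apply]
      show (a * a') ⊗ₜ[(φ : A' →ₐ[k] A).range] (1 : A) = a ⊗ₜ[(φ : A' →ₐ[k] A).range] a'
      have : a ⊗ₜ[(φ : A' →ₐ[k] A).range] a' =
          (a ⊗ₜ[(φ : A' →ₐ[k] A).range] (1 : A)) * ((1 : A) ⊗ₜ[(φ : A' →ₐ[k] A).range] a') := by
        rw [Algebra.TensorProduct.tmul_mul_tmul, mul_one, one_mul]
      rw [this, ← hae a', Algebra.TensorProduct.tmul_mul_tmul, mul_one]
    | add x y hx hy =>
      obtain ⟨a, rfl⟩ := hx
      obtain ⟨b, rfl⟩ := hy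
      exact ⟨a + b, map_add _ _ _⟩
  have h2 := Module.FaithfullyFlat.surjective_of_tensorProduct
    (R := (φ : A' →ₐ[k] A).range) (S := A) (T := A) hsurj
  intro a
  obtain ⟨⟨_, a', rfl⟩, hb⟩ := h2 a
  exact ⟨a', hb⟩

end Epi

end Groth.Agent.Lib.Helper66.TK11
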