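import Mathlib
import Groth.Prelude.Def_HopfRep
import Groth.Prelude.Def_ComodTens
import Groth.Prelude.Def_ComodSub

/-!
# Local finiteness of comodules over a flat coalgebra over a Noetherian ring (helper66)

Serre's argument: for `F' ≤ V`, the submodule `{x | ρ x ∈ F' ⊗ A}` is a subcomodule contained in `F'`.
-/

set_option autoImplicit false
universe u v w

namespace Groth.Agent.Lib.Helper66.RL2

open TensorProduct

variable {R : Type u} [CommRing R] {A : Type v} [AddCommGroup A] [Module R A] [Coalgebra R A]
  {V : Type w} [AddCommGroup V] [Module R V] (c : HopfRep.Comod R A V)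

/-- `x ↦ (q ⊗ id)(ρ x)` with `q : V → V / F'` -/
noncomputable def θ (F' : Submodule R V) : V →ₗ[R] (V ⧸ F') ⊗[R] A :=
  F'.mkQ.rTensor A ∘ₗ c.coact

/-- the largest subcomodule contained in `F'` -/
noncomputable def core (F' : Submodule R V) : Submodule R V := LinearMap.ker (θ c F')

theorem mem_core_iff (F' : Submodule R V) (x : V) :
    x ∈ core c F' ↔ c.coact x ∈ LinearMap.range (F'.subtype.rTensor A) := by
  have hex : Function.Exact (F'.subtype.rTensor A) (F'.mkQ.rTensor A) :=
    rTensor_exact A (LinearMap.exact_subtype_mkQ F') (Submodule.mkQ_surjective F')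
  unfold core θ
  rw [LinearMap.mem_ker, LinearMap.comp_apply]
  exact hex (c.coact x)

theorem core_le (F' : Submodule R V) : core c F' ≤ F' := by
  intro x hx
  rw [mem_core_iff] at hx
  obtain ⟨y, hy⟩ := hx
  have h := LinearMap.congr_fun c.counit_comp x
  simp only [LinearMap.comp_apply, LinearMap.flip_apply, TensorProduct.mk_apply] at h
  have h2 : x = TensorProduct.rid R V
      ((Coalgebra.counit (R := R) (A := A)).lTensor V (c.coact x)) := by
    rw [h, TensorProduct.rid_tmul, one_smul]
  rw [h2, ← hy]
  have key : ∀ y : F' ⊗[R] A, TensorProduct.rid R V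
      ((Coalgebra.counit (R := R) (A := A)).lTensor V (F'.subtype.rTensor A y)) ∈ F' := by
    intro y
    induction y using TensorProduct.induction_on with
    | zero => simp
    | add x y hx hy =>
      simp only [map_add]
      exact F'.add_mem hx hy
    | tmul u a =>
      rw [LinearMap.rTensor_tmul, LinearMap.lTensor_tmul, TensorProduct.rid_tmul]
      exact F'.smul_mem _ u.2
  exact key y

variable [Module.Flat R A]

/-- `core` is a subcomodule (flatness) -/
theorem isSubcomod_core (F' : Submodule R V) :
    @HopfRep.IsSubcomod R A _ _ _ _ V _ _ c (core c F') := by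
  intro x hx
  have hex : Function.Exact ((core c F').subtype.rTensor A) ((θ c F').rTensor A) :=
    Module.Flat.rTensor_exact A (LinearMap.exact_subtype_ker_map (θ c F'))
  show c.coact x ∈ LinearMap.range ((core c F').subtype.rTensor A)
  apply (hex (c.coact x)).mp
  have hx0 : F'.mkQ.rTensor A (c.coact x) = 0 := hx
  unfold θ
  rw [LinearMap.rTensor_comp, LinearMap.comp_apply]
  apply (TensorProduct.assoc R (V ⧸ F') A A).injective
  rw [ComodTens.assoc_rTensor_rTensor, map_zero]
  have h := LinearMap.congr_fun c.coassoc x
  simp only [LinearMap.comp_apply, LinearEquiv.coe_coe] at h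
  rw [h, ← ComodTens.lTensor_rTensor_comm, hx0, map_zero]

variable [IsNoetherianRing R]

/-- **Local finiteness.** Every finitely generated submodule of a comodule over a flat coalgebra
over a Noetherian ring is contained in a finitely generated subcomodule. -/
theorem exists_fg_isSubcomod (M : Submodule R V) (hM : M.FG) :
    ∃ F : Submodule R V, M ≤ F ∧ F.FG ∧ @HopfRep.IsSubcomod R A _ _ _ _ V _ _ c F := by
  classical
  obtain ⟨s, hs⟩ := hM
  obtain ⟨F', hF', hsub⟩ := TensorProduct.exists_finite_submodule_left_of_setFinite
    (c.coact '' (s : Set V)) (s.finite_toSet.image _)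
  refine ⟨core c F', ?_, ?_, isSubcomod_core c F'⟩
  · rw [← hs, Submodule.span_le]
    intro x hx
    show x ∈ core c F'
    rw [mem_core_iff]
    exact hsub ⟨x, hx, rfl⟩
  · haveI : IsNoetherian R F' := isNoetherian_of_isNoetherianRing_of_finite R F'
    have hF'fg : F'.FG := Module.Finite.iff_fg.mp hF'
    exact Submodule.FG.of_le hF'fg (core_le c F')

end Groth.Agent.Lib.Helper66.RL2
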