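import Mathlib
import Groth.Prelude.Def_CartDual2
import Groth.Agent.S12080

open scoped TensorProduct

namespace Groth.Agent.Lib.Helper66.OT8

universe u

section Inv

/-- finite projective modules of constant rank one are invertible -/
theorem invertible_of_rank_one {R : Type u} [CommRing R] {M : Type u} [AddCommGroup M] [Module R M]
    [Module.Finite R M] [Module.Projective R M]
    (h : ∀ q : PrimeSpectrum R, Module.rankAtStalk M q = 1) : Module.Invertible R M := by
  haveI : Module.FinitePresentation R M := Module.finitePresentation_of_projective R M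
  apply Groth.Agent.S12080.result R M
    {r | Nonempty (LocalizedModule.Away r M ≃ₗ[Localization.Away r] Localization.Away r)}
  · by_contra hne
    obtain ⟨q, hq, hle⟩ := Ideal.exists_le_maximal _ hne
    haveI := hq.isPrime
    haveI : Module.Free (Localization.AtPrime q) (LocalizedModule q.primeCompl M) :=
      Module.free_of_flat_of_isLocalRing
    obtain ⟨r, hr, hfree, hrank⟩ := Module.FinitePresentation.exists_free_localizedModule_powers
      q.primeCompl (LocalizedModule.mkLinearMap q.primeCompl M) (Localization.AtPrime q)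
    haveI := hfree
    haveI : Nontrivial (Localization (.powers r)) :=
      (show Localization (.powers r) →+* Localization.AtPrime q from
        IsLocalization.map (M := .powers r) (T := q.primeCompl) _
        (RingHom.id _) (Submonoid.powers_le.mpr hr)).domain_nontrivial
    have h1 : Module.finrank (Localization.AtPrime q) (LocalizedModule q.primeCompl M) = 1 :=
      h ⟨q, hq.isPrime⟩
    have hmem : r ∈ {r | Nonempty (LocalizedModule.Away r M ≃ₗ[Localization.Away r]
        Localization.Away r)} := by
      refine ⟨LinearEquiv.ofFinrankEq _ _ ?_⟩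
      rw [hrank, h1, Module.finrank_self]
    exact hr (hle (Ideal.subset_span hmem))
  · intro f hf
    exact hf

/-- rank one identity for invertible modules -/
theorem rank_one {R : Type*} [CommRing R] {N : Type*} [AddCommGroup N] [Module R N]
    [Module.Invertible R N] (l : N →ₗ[R] R) (μ ν : N) : l μ • ν = l ν • μ := by
  have h := Module.Invertible.tmul_comm (R := R) (M := N) (m₁ := μ) (m₂ := ν)
  have h2 := congrArg (fun z => TensorProduct.lid R N (l.rTensor N z)) h
  simpa using h2

end Inv


section Ctr
variable {R : Type u} [CommRing R] {A : Type u} [CommRing A] [Bialgebra R A]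

/-- contraction `A ⊗ D(A) → A` against `b` -/
noncomputable def ctr (b : A) : A ⊗[R] CartDual.D R A →ₗ[R] A :=
  (TensorProduct.rid R A).toLinearMap ∘ₗ
    LinearMap.lTensor A ((Module.Dual.eval R A b) ∘ₗ (CartDual.toDual R A).toLinearMap)

@[simp] theorem ctr_tmul (b a : A) (ξ : CartDual.D R A) :
    ctr b (a ⊗ₜ[R] ξ) = ξ b • a := by
  simp [ctr, CartDual.coe_apply]

/-- the map `A ⊗ D(A) → End(A)` -/
noncomputable def Ψ : A ⊗[R] CartDual.D R A →ₗ[R] (A →ₗ[R] A) :=
  TensorProduct.lift (LinearMap.mk₂ R (fun (a : A) (ξ : CartDual.D R A) => (ξ.ofConv).smulRight a)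
    (by intro a a' ξ; ext b; simp)
    (by
      intro r a ξ; ext b
      simp only [LinearMap.smulRight_apply, LinearMap.smul_apply]
      rw [smul_comm])
    (by intro a ξ ξ'; ext b; simp [add_smul])
    (by intro r a ξ; ext b; simp [mul_smul]))

theorem Ψ_tmul (a b : A) (ξ : CartDual.D R A) : Ψ (a ⊗ₜ[R] ξ) b = ξ b • a := by
  simp [Ψ, CartDual.coe_apply]

theorem Ψ_apply (x : A ⊗[R] CartDual.D R A) (b : A) : Ψ x b = ctr b x := by
  induction x using TensorProduct.induction_on with
  | zero => simp
  | tmul a ξ => rw [Ψ_tmul, ctr_tmul]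
  | add x y hx hy => rw [map_add, map_add, LinearMap.add_apply, hx, hy]

variable [Module.Finite R A] [Module.Projective R A]

theorem Ψ_injective : Function.Injective (Ψ (R := R) (A := A)) := by
  classical
  -- a finite dual basis
  obtain ⟨n, s, hs⟩ := Module.Finite.exists_fin (R := R) (M := A)
  let f : (Fin n → R) →ₗ[R] A := Fintype.linearCombination R s
  have hf : Function.Surjective f := by
    rw [← LinearMap.range_eq_top, Fintype.range_linearCombination, hs]
  obtain ⟨g, hg⟩ := Module.projective_lifting_property f LinearMap.id hf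
  have hdb : ∀ b : A, ∑ k, (g b k) • s k = b := by
    intro b
    have := DFunLike.congr_fun hg b
    simpa [f, Fintype.linearCombination_apply] using this
  let lam : Fin n → CartDual.D R A := fun k => WithConv.toConv ((LinearMap.proj k) ∘ₗ g)
  let Φ : (A →ₗ[R] A) →ₗ[R] A ⊗[R] CartDual.D R A :=
    { toFun := fun T => ∑ k, T (s k) ⊗ₜ[R] lam k
      map_add' := by
        intro T T'
        simp [TensorProduct.add_tmul, Finset.sum_add_distrib]
      map_smul' := by
        intro r T
        simp [TensorProduct.smul_tmul', Finset.smul_sum] }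
  have hΦ : ∀ x, Φ (Ψ x) = x := by
    intro x
    induction x using TensorProduct.induction_on with
    | zero => simp
    | tmul a ξ =>
      show ∑ k, Ψ (a ⊗ₜ[R] ξ) (s k) ⊗ₜ[R] lam k = a ⊗ₜ[R] ξ
      simp only [Ψ_tmul]
      have h1 : ∀ k, (ξ (s k) • a) ⊗ₜ[R] lam k = a ⊗ₜ[R] (ξ (s k) • lam k) := by
        intro k
        rw [TensorProduct.smul_tmul]
      simp only [h1]
      rw [← TensorProduct.tmul_sum]
      congr 1
      apply WithConv.ext
      apply LinearMap.ext
      intro b
      rw [WithConv.ofConv_sum, LinearMap.sum_apply]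
      conv_rhs => rw [← hdb b]
      rw [map_sum]
      refine Finset.sum_congr rfl fun k _ => ?_
      rw [WithConv.ofConv_smul, LinearMap.smul_apply, map_smul, smul_eq_mul, smul_eq_mul, mul_comm]
      rfl
    | add x y hx hy => rw [map_add, map_add, hx, hy]
  exact Function.LeftInverse.injective hΦ

end Ctr


section Mult
variable {R : Type u} [CommRing R] {A : Type u} [CommRing A] [Bialgebra R A]
  [Module.Finite R A] [Module.Projective R A]

theorem mul_map_Ψ_tmul (a a' : A) (ξ ξ' : CartDual.D R A) (t : A ⊗[R] A) :
    LinearMap.mul' R A (TensorProduct.map (Ψ (a ⊗ₜ[R] ξ)) (Ψ (a' ⊗ₜ[R] ξ')) t) =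
      (LinearMap.mul' R R (TensorProduct.map ξ.ofConv ξ'.ofConv t)) • (a * a') := by
  induction t using TensorProduct.induction_on with
  | zero => simp
  | tmul b b' =>
    rw [TensorProduct.map_tmul, LinearMap.mul'_apply, Ψ_tmul, Ψ_tmul, TensorProduct.map_tmul,
      LinearMap.mul'_apply, smul_mul_smul_comm]
  | add t t' ht ht' => simp only [map_add, ht, ht', add_smul]

theorem Ψ_mul (x y : A ⊗[R] CartDual.D R A) :
    WithConv.toConv (Ψ (x * y)) = WithConv.toConv (Ψ x) * WithConv.toConv (Ψ y) := by
  let _ : Semiring (A ⊗[R] CartDual.D R A) := inferInstance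
  induction x using TensorProduct.induction_on with
  | zero => rw [zero_mul, map_zero, WithConv.toConv_zero, zero_mul]
  | add x x' hx hx' => rw [add_mul, map_add, WithConv.toConv_add, hx, hx', map_add,
      WithConv.toConv_add, add_mul]
  | tmul a ξ =>
    induction y using TensorProduct.induction_on with
    | zero => rw [mul_zero, map_zero, WithConv.toConv_zero, mul_zero]
    | add y y' hy hy' => rw [mul_add, map_add, WithConv.toConv_add, hy, hy', map_add,
        WithConv.toConv_add, mul_add]
    | tmul a' ξ' =>
      apply WithConv.ofConv_injective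
      apply LinearMap.ext
      intro b
      rw [WithConv.ofConv_toConv, Algebra.TensorProduct.tmul_mul_tmul, Ψ_tmul]
      rw [LinearMap.convMul_apply (WithConv.toConv (Ψ (a ⊗ₜ[R] ξ))) (WithConv.toConv (Ψ (a' ⊗ₜ[R] ξ'))) b,
        WithConv.ofConv_toConv, WithConv.ofConv_toConv, mul_map_Ψ_tmul, CartDual.coe_apply,
        LinearMap.convMul_apply]

theorem Ψ_one : WithConv.toConv (Ψ (1 : A ⊗[R] CartDual.D R A)) = 1 := by
  apply WithConv.ofConv_injective
  apply LinearMap.ext
  intro b
  rw [WithConv.ofConv_toConv, Algebra.TensorProduct.one_def, Ψ_tmul, CartDual.coe_apply,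
    LinearMap.convOne_apply, LinearMap.convOne_apply, Algebra.algebraMap_self, RingHom.id_apply,
    Algebra.algebraMap_eq_smul_one]

theorem Ψ_pow (x : A ⊗[R] CartDual.D R A) (n : ℕ) :
    WithConv.toConv (Ψ (x ^ n)) = (WithConv.toConv (Ψ x)) ^ n := by
  induction n with
  | zero => rw [pow_zero, pow_zero, Ψ_one]
  | succ n ih => rw [pow_succ, pow_succ, Ψ_mul, ih]

end Mult

end Groth.Agent.Lib.Helper66.OT8
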