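import Mathlib

set_option autoImplicit false
universe u

namespace Groth.Agent.Lib.Helper66.ARHomE

section aux
variable {B : Type u} [CommRing B] (J : Ideal B) {N : Type u} [AddCommGroup N] [Module B N]

/-- the `J^c`-torsion submodule -/
def tors (c : ℕ) : Submodule B N where
  carrier := {y | ∀ a ∈ J ^ c, a • y = 0}
  add_mem' := by
    intro x y hx hy a ha
    rw [smul_add, hx a ha, hy a ha, add_zero]
  zero_mem' := by
    intro a _
    exact smul_zero a
  smul_mem' := by
    intro r y hy a ha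
    rw [smul_comm, hy a ha, smul_zero]

theorem mem_tors (c : ℕ) (y : N) : y ∈ tors J (N := N) c ↔ ∀ a ∈ J ^ c, a • y = 0 := Iff.rfl

theorem smul_tors_eq_bot (c : ℕ) : (J ^ c) • (tors J (N := N) c) = ⊥ := by
  rw [eq_bot_iff]
  rw [Submodule.smul_le]
  intro a ha y hy
  rw [Submodule.mem_bot]
  exact hy a ha

/-- a vector with components in `I • ⊤` lies in `I • ⊤` -/
theorem pi_mem_smul_top {ι : Type u} [Fintype ι] [DecidableEq ι] (I : Ideal B) (v : ι → N)
    (hv : ∀ i, v i ∈ I • (⊤ : Submodule B N)) : v ∈ I • (⊤ : Submodule B (ι → N)) := by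
  rw [← Finset.univ_sum_single v]
  refine Submodule.sum_mem _ fun i _ => ?_
  have h1 : Pi.single i (v i) = LinearMap.single B (fun _ : ι => N) i (v i) := rfl
  rw [h1]
  have h2 : LinearMap.single B (fun _ : ι => N) i (v i) ∈
      (I • (⊤ : Submodule B N)).map (LinearMap.single B (fun _ : ι => N) i) :=
    Submodule.mem_map_of_mem (hv i)
  rw [Submodule.map_smul''] at h2
  exact Submodule.smul_mono le_rfl le_top h2

end aux

theorem exists_lift {B : Type u} [CommRing B] [IsNoetherianRing B] (J : Ideal B)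
    {M N : Type u} [AddCommGroup M] [Module B M] [AddCommGroup N] [Module B N] [Module.Finite B N]
    (Q : ℕ → Type u) [∀ n, AddCommGroup (Q n)] [∀ n, Module B (Q n)]
    (p : ∀ n, N →ₗ[B] Q n) (hp : ∀ n, Function.Surjective (p n))
    (hker : ∀ (n : ℕ) (y : N), p n y = 0 → y ∈ J ^ (n + 1) • (⊤ : Submodule B N))
    (hkill : ∀ (n : ℕ), ∀ a ∈ J ^ (n + 1), ∀ q : Q n, a • q = 0)
    (t : ∀ n, Q (n + 1) →ₗ[B] Q n) (htp : ∀ n (y : N), t n (p (n + 1) y) = p n y)
    (b : ∀ n, M →ₗ[B] Q n) (htb : ∀ n (m : M), t n (b (n + 1) m) = b n m)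
    (c : ℕ) (hc : (∀ a ∈ J ^ c, ∀ m : M, a • m = 0) ∨ (∀ a ∈ J ^ c, ∀ y : N, a • y = 0)) :
    ∃ φ : M →ₗ[B] N, ∀ (n : ℕ) (m : M), p n (φ m) = b n m := by
  classical
  -- kernel of `p n` contains `J^(n+1) N`
  have hkerp : ∀ n (y : N), y ∈ J ^ (n + 1) • (⊤ : Submodule B N) → p n y = 0 := by
    intro n y hy
    refine Submodule.smul_induction_on hy ?_ ?_
    · intro a ha z _
      rw [map_smul]
      exact hkill n a ha _
    · intro x y hx hy
      rw [map_add, hx, hy, add_zero]
  -- going down along transitions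
  have down : ∀ (d n : ℕ) (y : N) (m : M), p (n + d) y = b (n + d) m → p n y = b n m := by
    intro d
    induction d with
    | zero => intro n y m h; exact h
    | succ d ih =>
      intro n y m h
      apply ih
      have h1 : p (n + d) y = t (n + d) (p (n + d + 1) y) := (htp (n + d) y).symm
      have h2 : b (n + d) m = t (n + d) (b (n + d + 1) m) := (htb (n + d) m).symm
      rw [h1, h2]
      exact congrArg _ h
  have down' : ∀ (n n' : ℕ) (_ : n ≤ n') (y : N) (m : M), p n' y = b n' m → p n y = b n m := by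
    intro n n' hnn' y m h
    obtain ⟨d, rfl⟩ := Nat.exists_eq_add_of_le hnn'
    exact down d n y m h
  -- main reduction: a submodule `T` on which `p n₀` is injective and which contains solutions
  suffices hmain : ∃ (T : Submodule B N) (n₀ : ℕ),
      (∀ y ∈ T, p n₀ y = 0 → y = 0) ∧ ∀ (n : ℕ) (m : M), ∃ τ ∈ T, p n τ = b n m by
    obtain ⟨T, n₀, hinj, hex⟩ := hmain
    have hinj' : ∀ y ∈ T, ∀ y' ∈ T, p n₀ y = p n₀ y' → y = y' := by
      intro y hy y' hy' h
      have := hinj (y - y') (T.sub_mem hy hy') (by rw [map_sub, h, sub_self])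
      exact sub_eq_zero.1 this
    choose τ hτT hτ using fun m => hex n₀ m
    let φ : M →ₗ[B] N :=
      { toFun := τ
        map_add' := by
          intro m m'
          apply hinj' _ (hτT _) _ (T.add_mem (hτT m) (hτT m'))
          rw [hτ, map_add, map_add, hτ, hτ]
        map_smul' := by
          intro r m
          apply hinj' _ (hτT _) _ (T.smul_mem r (hτT m))
          rw [hτ, map_smul, map_smul, hτ] }
    refine ⟨φ, fun n m => ?_⟩
    show p n (τ m) = b n m
    obtain ⟨τ', hτ'T, hτ'⟩ := hex (max n n₀) m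
    have h1 : p n₀ τ' = b n₀ m := down' n₀ (max n n₀) (le_max_right _ _) τ' m hτ'
    have h2 : τ' = τ m := hinj' _ hτ'T _ (hτT m) (by rw [h1, hτ])
    rw [← h2]
    exact down' n (max n n₀) (le_max_left _ _) τ' m hτ'
  rcases hc with hM | hN
  · -- `M` killed by `J^c`
    let T : Submodule B N := tors J c
    -- (i) Artin-Rees for `T`
    obtain ⟨k, hk⟩ := Ideal.exists_pow_inf_eq_pow_smul J T
    have hT0 : ∀ y ∈ T, y ∈ J ^ (k + c) • (⊤ : Submodule B N) → y = 0 := by
      intro y hyT hy
      have h1 : y ∈ J ^ (k + c) • (⊤ : Submodule B N) ⊓ T := ⟨hy, hyT⟩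
      rw [hk (k + c) (Nat.le_add_right _ _), Nat.add_sub_cancel_left] at h1
      have h2 : J ^ c • (J ^ k • (⊤ : Submodule B N) ⊓ T) ≤ J ^ c • T :=
        Submodule.smul_mono le_rfl inf_le_right
      have h3 := h2 h1
      rw [smul_tors_eq_bot] at h3
      exact (Submodule.mem_bot B).1 h3
    -- (ii) generators of `J^c` and the second Artin-Rees
    obtain ⟨s, hs⟩ : (J ^ c).FG := IsNoetherian.noetherian _
    let ψ : N →ₗ[B] (s → N) := LinearMap.pi fun a => LinearMap.lsmul B N a.1
    have hψ : ∀ y (a : s), ψ y a = a.1 • y := fun y a => rfl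
    obtain ⟨k', hk'⟩ := Ideal.exists_pow_inf_eq_pow_smul J (LinearMap.range ψ)
    have hkerψ : ∀ z : N, ψ z = 0 → z ∈ T := by
      intro z hz a ha
      rw [← hs] at ha
      refine Submodule.span_induction (p := fun a _ => a • z = 0) ?_ ?_ ?_ ?_ ha
      · intro a' ha'
        have := congrFun hz ⟨a', ha'⟩
        exact this
      · exact zero_smul _ _
      · intro x y _ _ hx hy
        rw [add_smul, hx, hy, add_zero]
      · intro r x _ hx
        rw [smul_assoc, hx, smul_zero]
    have hS : ∀ (n : ℕ) (_ : k' ≤ n) (y : N), (∀ a ∈ J ^ c, a • y ∈ J ^ n • (⊤ : Submodule B N)) →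
        ∃ e ∈ J ^ (n - k') • (⊤ : Submodule B N), y - e ∈ T := by
      intro n hn y hy
      have h1 : ψ y ∈ J ^ n • (⊤ : Submodule B (s → N)) := by
        apply pi_mem_smul_top
        intro a
        rw [hψ]
        apply hy
        rw [← hs]
        exact Submodule.subset_span a.2
      have h2 : ψ y ∈ J ^ n • (⊤ : Submodule B (s → N)) ⊓ LinearMap.range ψ :=
        ⟨h1, LinearMap.mem_range_self ψ y⟩
      rw [hk' n hn] at h2
      have h3 : J ^ (n - k') • (J ^ k' • (⊤ : Submodule B (s → N)) ⊓ LinearMap.range ψ) ≤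
          J ^ (n - k') • LinearMap.range ψ := Submodule.smul_mono le_rfl inf_le_right
      have h4 := h3 h2
      rw [LinearMap.range_eq_map, ← Submodule.map_smul''] at h4
      obtain ⟨e, he, hee⟩ := h4
      refine ⟨e, he, hkerψ _ ?_⟩
      rw [map_sub, hee, sub_self]
    refine ⟨T, k + c, ?_, ?_⟩
    · intro y hyT hy0
      apply hT0 y hyT
      have h1 := hker (k + c) y hy0
      exact Submodule.smul_mono_left (Ideal.pow_le_pow_right (Nat.le_succ _)) h1
    · intro n m
      set n' := n + 1 + k' with hn'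
      obtain ⟨y, hy⟩ := hp n' (b n' m)
      have h1 : ∀ a ∈ J ^ c, a • y ∈ J ^ (n' + 1) • (⊤ : Submodule B N) := by
        intro a ha
        apply hker
        rw [map_smul, hy, ← map_smul, hM a ha m, map_zero]
      obtain ⟨e, he, heT⟩ := hS (n' + 1) (by omega) y h1
      refine ⟨y - e, heT, ?_⟩
      have h2 : p n e = 0 := by
        apply hkerp
        refine Submodule.smul_mono_left (Ideal.pow_le_pow_right ?_) he
        omega
      rw [map_sub, h2, sub_zero]
      exact down' n n' (by omega) y m hy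
  · -- `N` killed by `J^c`
    refine ⟨⊤, c, ?_, ?_⟩
    · intro y _ hy0
      have h1 := hker c y hy0
      have h2 : J ^ (c + 1) • (⊤ : Submodule B N) = ⊥ := by
        rw [eq_bot_iff, Submodule.smul_le]
        intro a ha z _
        rw [Submodule.mem_bot]
        exact hN a (Ideal.pow_le_pow_right (Nat.le_succ c) ha) z
      rw [h2] at h1
      exact (Submodule.mem_bot B).1 h1
    · intro n m
      obtain ⟨y, hy⟩ := hp n (b n m)
      exact ⟨y, Submodule.mem_top, hy⟩

end Groth.Agent.Lib.Helper66.ARHomE
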