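import Groth.Prelude.Def_CoactBr
import Groth.Prelude.Def_HopfRep

/-! Class functions on an affine group scheme: `f(x g x⁻¹) = f(g)` for all scheme-valued points
iff the comultiplication of `f` is symmetric (helper66). -/

set_option autoImplicit false
universe u
open CategoryTheory MonoidalCategory CartesianMonoidalCategory MonObj AlgebraicGeometry Opposite
open scoped TensorProduct

namespace Groth.Agent.Lib.Helper66.CF1
open CoactBr

noncomputable section

local instance braidedAlgSpecOf' (R : Type u) [CommRing R] :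
    (algSpec (CommRingCat.of R)).Braided := braidedAlgSpec

variable {R : Type u} [CommRing R] {A : Type u} [CommRing A]

section Alg
variable [Algebra R A]

/-- the first universal point -/
def pL : sp R (A ⊗[R] A) ⟶ sp R A := pt (Algebra.TensorProduct.includeLeft)
/-- the second universal point -/
def pR : sp R (A ⊗[R] A) ⟶ sp R A := pt (Algebra.TensorProduct.includeRight)

/-- every pair of `T`-points factors through the universal pair -/
def univ {T : Over (Spec (CommRingCat.of R))} (y z : T ⟶ sp R A) : T ⟶ sp R (A ⊗[R] A) :=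
  lift y z ≫ Functor.LaxMonoidal.μ (algSpec (CommRingCat.of R)) (op (.of R A)) (op (.of R A))

theorem univ_pL {T : Over (Spec (CommRingCat.of R))} (y z : T ⟶ sp R A) :
    univ y z ≫ pL = y := by
  have h : Functor.LaxMonoidal.μ (algSpec (CommRingCat.of R)) (op (.of R A)) (op (.of R A)) ≫
      pt (Algebra.TensorProduct.includeLeft : A →ₐ[R] A ⊗[R] A) = fst _ _ :=
    Functor.Monoidal.μ_fst (algSpec (CommRingCat.of R)) (op (.of R A)) (op (.of R A))
  calc univ y z ≫ pL = lift y z ≫ (Functor.LaxMonoidal.μ (algSpec (CommRingCat.of R))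
        (op (.of R A)) (op (.of R A)) ≫
        pt (Algebra.TensorProduct.includeLeft : A →ₐ[R] A ⊗[R] A)) := Category.assoc _ _ _
    _ = lift y z ≫ fst _ _ := congrArg (fun m => lift y z ≫ m) h
    _ = y := lift_fst _ _

theorem univ_pR {T : Over (Spec (CommRingCat.of R))} (y z : T ⟶ sp R A) :
    univ y z ≫ pR = z := by
  have h : Functor.LaxMonoidal.μ (algSpec (CommRingCat.of R)) (op (.of R A)) (op (.of R A)) ≫
      pt (Algebra.TensorProduct.includeRight : A →ₐ[R] A ⊗[R] A) = snd _ _ :=
    Functor.Monoidal.μ_snd (algSpec (CommRingCat.of R)) (op (.of R A)) (op (.of R A))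
  calc univ y z ≫ pR = lift y z ≫ (Functor.LaxMonoidal.μ (algSpec (CommRingCat.of R))
        (op (.of R A)) (op (.of R A)) ≫
        pt (Algebra.TensorProduct.includeRight : A →ₐ[R] A ⊗[R] A)) := Category.assoc _ _ _
    _ = lift y z ≫ snd _ _ := congrArg (fun m => lift y z ≫ m) h
    _ = z := lift_snd _ _

theorem comp_SpecMap_appTop {A K : Type u} [CommRing A] [CommRing K] {X : Scheme.{u}}
    (a : X ⟶ Spec (CommRingCat.of K)) (φ : A →+* K) (f : A) :
    (a ≫ Spec.map (CommRingCat.ofHom φ)).appTop ((Scheme.ΓSpecIso (CommRingCat.of A)).inv f) =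
      a.appTop ((Scheme.ΓSpecIso (CommRingCat.of K)).inv (φ f)) := by
  rw [Scheme.Hom.comp_appTop, CommRingCat.comp_apply]
  congr 1
  have h2 := Scheme.ΓSpecIso_inv_naturality (CommRingCat.ofHom φ)
  have h3 := congrArg (fun m => m f) h2
  simp only at h3
  exact h3.symm

theorem SpecMap_appTop {A K : Type u} [CommRing A] [CommRing K] (φ : A →+* K) (f : A) :
    (Spec.map (CommRingCat.ofHom φ)).appTop ((Scheme.ΓSpecIso (CommRingCat.of A)).inv f) =
      (Scheme.ΓSpecIso (CommRingCat.of K)).inv (φ f) := by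
  have h2 := Scheme.ΓSpecIso_inv_naturality (CommRingCat.ofHom φ)
  have h3 := congrArg (fun m => m f) h2
  simp only at h3
  exact h3.symm

theorem pt_appTop {K : Type u} [CommRing K] [Algebra R K] (φ : A →ₐ[R] K) (f : A) :
    (pt φ).left.appTop ((Scheme.ΓSpecIso (CommRingCat.of A)).inv f) =
      (Scheme.ΓSpecIso (CommRingCat.of K)).inv (φ f) :=
  SpecMap_appTop φ.toRingHom f

/-- evaluation of a function at a point factoring through `pt φ` -/
theorem comp_pt_appTop {K : Type u} [CommRing K] [Algebra R K] {T : Over (Spec (CommRingCat.of R))}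
    (u : T ⟶ sp R K) (φ : A →ₐ[R] K) (f : A) :
    (u ≫ pt φ).left.appTop ((Scheme.ΓSpecIso (CommRingCat.of A)).inv f) =
      u.left.appTop ((Scheme.ΓSpecIso (CommRingCat.of K)).inv (φ f)) :=
  comp_SpecMap_appTop (X := T.left) u.left φ.toRingHom f

end Alg

section Hopf
variable [HopfAlgebra R A]

theorem comp_mul {T T' : Over (Spec (CommRingCat.of R))} (u : T' ⟶ T) (f g : T ⟶ sp R A) :
    u ≫ (f * g) = (u ≫ f) * (u ≫ g) := by
  rw [Hom.mul_def, Hom.mul_def, ← Category.assoc, comp_lift]

theorem pL_mul_pR : (pL * pR : sp R (A ⊗[R] A) ⟶ sp R A) = pt (Bialgebra.comulAlgHom R A) := by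
  unfold pL pR
  rw [pt_mul_pt]
  congr 1
  apply AlgHom.ext
  intro a
  rw [AlgHom.comp_apply]
  have : (Algebra.TensorProduct.lift (Algebra.TensorProduct.includeLeft : A →ₐ[R] A ⊗[R] A)
      Algebra.TensorProduct.includeRight fun _ _ => .all _ _) = AlgHom.id R _ := by
    apply Algebra.TensorProduct.ext'
    intro x y
    simp
  rw [this]
  rfl

/-- the comultiplication followed by the flip, as an algebra map -/
def comulFlip : A →ₐ[R] A ⊗[R] A :=
  (Algebra.TensorProduct.comm R A A).toAlgHom.comp (Bialgebra.comulAlgHom R A)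

theorem comulFlip_apply (a : A) :
    comulFlip (R := R) a = TensorProduct.comm R A A (CoalgebraStruct.comul (R := R) a) := rfl

theorem pR_mul_pL : (pR * pL : sp R (A ⊗[R] A) ⟶ sp R A) = pt (comulFlip (R := R) (A := A)) := by
  unfold pL pR
  rw [pt_mul_pt]
  congr 1
  apply AlgHom.ext
  intro a
  rw [AlgHom.comp_apply]
  have : (Algebra.TensorProduct.lift (Algebra.TensorProduct.includeRight : A →ₐ[R] A ⊗[R] A)
      Algebra.TensorProduct.includeLeft fun _ _ => .all _ _) =
      (Algebra.TensorProduct.comm R A A).toAlgHom := by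
    apply Algebra.TensorProduct.ext'
    intro x y
    simp [Algebra.TensorProduct.lift_tmul]
  rw [this]
  rfl

theorem mul_eq_univ {T : Over (Spec (CommRingCat.of R))} (y z : T ⟶ sp R A) :
    y * z = univ y z ≫ pt (Bialgebra.comulAlgHom R A) := by
  rw [← pL_mul_pR, comp_mul, univ_pL, univ_pR]

theorem mul_eq_univ' {T : Over (Spec (CommRingCat.of R))} (y z : T ⟶ sp R A) :
    z * y = univ y z ≫ pt (comulFlip (R := R) (A := A)) := by
  rw [← pR_mul_pL, comp_mul, univ_pL, univ_pR]

/-- `f(x g x⁻¹) = f(g)` for all scheme-valued points iff `Δ f` is symmetric -/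
theorem classFn_iff (f : A) :
    (∀ (T : Over (Spec (CommRingCat.of R))) (x g : T ⟶ sp R A),
      (x * g * x⁻¹).left.appTop ((Scheme.ΓSpecIso (CommRingCat.of A)).inv f) =
        g.left.appTop ((Scheme.ΓSpecIso (CommRingCat.of A)).inv f)) ↔
    TensorProduct.comm R A A (CoalgebraStruct.comul (R := R) f) =
      CoalgebraStruct.comul (R := R) f := by
  constructor
  · intro h
    have h1 := h (sp R (A ⊗[R] A)) pL (pR * pL)
    have e1 : (pL * (pR * pL) * pL⁻¹ : sp R (A ⊗[R] A) ⟶ sp R A) = pL * pR := by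
      rw [← _root_.mul_assoc, mul_inv_cancel_right]
    rw [e1, pL_mul_pR, pR_mul_pL] at h1
    have h4 : (Scheme.ΓSpecIso (CommRingCat.of (A ⊗[R] A))).inv (Bialgebra.comulAlgHom R A f) =
        (Scheme.ΓSpecIso (CommRingCat.of (A ⊗[R] A))).inv (comulFlip (R := R) f) :=
      (pt_appTop (Bialgebra.comulAlgHom R A) f).symm.trans
        (h1.trans (pt_appTop (comulFlip (R := R) (A := A)) f))
    have h5 := congrArg (Scheme.ΓSpecIso (CommRingCat.of (A ⊗[R] A))).hom h4
    simp only [Iso.inv_hom_id_apply] at h5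
    rw [comulFlip_apply] at h5
    exact h5.symm
  · intro h T x g
    have e1 : x * g * x⁻¹ = x * (g * x⁻¹) := _root_.mul_assoc _ _ _
    have e2 : g = (g * x⁻¹) * x := (inv_mul_cancel_right g x).symm
    rw [e1]
    conv_rhs => rw [e2]
    rw [mul_eq_univ x (g * x⁻¹), mul_eq_univ' x (g * x⁻¹), comp_pt_appTop, comp_pt_appTop,
      comulFlip_apply, h]
    rfl

end Hopf

end

end Groth.Agent.Lib.Helper66.CF1
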