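import Groth.Agent.Lib.Helper96.Burnside
import Groth.Agent.Lib.Helper96.MatComod
import Groth.Agent.Lib.Helper96.Coeff

/-! Symmetric elements of the coefficient coalgebra of a simple comodule over an algebraically
closed field are multiples of the character (helper66). -/

set_option autoImplicit false

open TensorProduct
universe u v w
namespace Groth.Agent.Lib.Helper66.CF2
open Groth.Agent.Lib.Helper96 Groth.Agent.Lib.Helper96.MatComod

section Rho

variable {k : Type u} [Field k] {A : Type v} [AddCommGroup A] [Module k A] [Coalgebra k A]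
variable {V : Type w} [AddCommGroup V] [Module k V]

/-- the action of the dual algebra on a comodule -/
noncomputable def rho (c : HopfRep.Comod k A V) : Module.Dual k A →ₗ[k] Module.End k V where
  toFun g := slice V g ∘ₗ c.coact
  map_add' g g' := by
    ext v
    simp [slice_add]
  map_smul' a g := by
    ext v
    simp [slice_smul]

theorem rho_apply (c : HopfRep.Comod k A V) (g : Module.Dual k A) (v : V) :
    rho c g v = slice V g (c.coact v) := rfl

/-- the image of the dual algebra -/
noncomputable def rhoAlg (c : HopfRep.Comod k A V) : Subalgebra k (Module.End k V) where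
  carrier := Set.range (rho c)
  mul_mem' := by
    rintro _ _ ⟨g, rfl⟩ ⟨f, rfl⟩
    refine ⟨convForm g f, ?_⟩
    ext v
    rw [Module.End.mul_apply, rho_apply, rho_apply, rho_apply, slice_coact_slice]
  one_mem' := by
    refine ⟨CoalgebraStruct.counit (R := k) (A := A), ?_⟩
    ext v
    rw [rho_apply, slice_counit_coact]
    rfl
  add_mem' := by
    rintro _ _ ⟨g, rfl⟩ ⟨f, rfl⟩
    exact ⟨g + f, map_add _ _ _⟩
  zero_mem' := ⟨0, map_zero _⟩
  algebraMap_mem' r := by
    refine ⟨r • CoalgebraStruct.counit (R := k) (A := A), ?_⟩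
    ext v
    rw [map_smul, LinearMap.smul_apply, rho_apply, slice_counit_coact]
    rfl

theorem mem_rhoAlg (c : HopfRep.Comod k A V) (E : Module.End k V) :
    E ∈ rhoAlg c ↔ ∃ g, rho c g = E := Iff.rfl

end Rho

section Dual

variable {k : Type u} [Field k] [IsAlgClosed k] {A : Type v} [AddCommGroup A] [Module k A]
  [Coalgebra k A]
variable {V : Type w} [AddCommGroup V] [Module k V] [FiniteDimensional k V]
variable {P : Type} [Fintype P] [DecidableEq P]

theorem rhoAlg_eq_top (c : HopfRep.Comod k A V)
    (hV : @HopfRep.IsSimpleComod k A _ _ _ _ V _ _ c) : rhoAlg c = ⊤ := by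
  have := hV.1
  apply burnside
  intro W hW
  apply hV.2
  rw [← IsSub, isSub_iff_slice]
  intro w hw g
  exact hW _ ⟨g, rfl⟩ w hw

/-- functionals dual to the matrix coefficients of a simple comodule -/
theorem exists_dual (c : HopfRep.Comod k A V)
    (hV : @HopfRep.IsSimpleComod k A _ _ _ _ V _ _ c) (b : Module.Basis P k V) (p q : P) :
    ∃ g : Module.Dual k A, ∀ i j, g (coefMatrix c b i j) = if i = p ∧ j = q then 1 else 0 := by
  let E : Module.End k V := b.constr k (fun j => if j = q then b p else 0)
  have hE : E ∈ rhoAlg c := by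
    rw [rhoAlg_eq_top c hV]
    trivial
  obtain ⟨g, hg⟩ := hE
  refine ⟨g, ?_⟩
  intro i j
  have h1 : rho c g (b j) = E (b j) := by rw [hg]
  rw [rho_apply, coact_basis c b j, map_sum] at h1
  simp only [slice_tmul] at h1
  have h2 := congrArg (b.coord i) h1
  rw [map_sum] at h2
  simp only [map_smul, Module.Basis.coord_apply, Module.Basis.repr_self, smul_eq_mul] at h2
  rw [Finset.sum_eq_single i] at h2
  · rw [Finsupp.single_eq_same, mul_one] at h2
    rw [h2]
    show (b.repr (b.constr k (fun j => if j = q then b p else 0) (b j))) i = _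
    rw [Module.Basis.constr_basis]
    by_cases hj : j = q
    · rw [if_pos hj, Module.Basis.repr_self]
      by_cases hi : i = p
      · rw [if_pos ⟨hi, hj⟩, hi, Finsupp.single_eq_same]
      · rw [if_neg (fun h => hi h.1), Finsupp.single_eq_of_ne hi]
    · rw [if_neg hj, if_neg (fun h => hj h.2), map_zero]
      rfl
  · intro i' _ hi'
    rw [Finsupp.single_eq_of_ne (Ne.symm hi'), mul_zero]
  · intro h
    exact absurd (Finset.mem_univ i) h

end Dual

section Sym

variable {k : Type u} [Field k] {A : Type v} [AddCommGroup A] [Module k A] [Coalgebra k A]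
variable {V : Type w} [AddCommGroup V] [Module k V]
variable {P : Type} [Fintype P] [DecidableEq P]

/-- evaluation of a pair of functionals on a tensor -/
noncomputable def ev (g g' : Module.Dual k A) : A ⊗[k] A →ₗ[k] k :=
  LinearMap.mul' k k ∘ₗ TensorProduct.map g g'

theorem ev_tmul (g g' : Module.Dual k A) (x y : A) : ev g g' (x ⊗ₜ[k] y) = g x * g' y := by
  simp [ev]

theorem ev_comm (g g' : Module.Dual k A) (z : A ⊗[k] A) :
    ev g g' (TensorProduct.comm k A A z) = ev g' g z := by
  induction z using TensorProduct.induction_on with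
  | zero => simp
  | add x y hx hy => simp only [map_add, hx, hy]
  | tmul x y => rw [TensorProduct.comm_tmul, ev_tmul, ev_tmul, mul_comm]

theorem cf_le_span (c : HopfRep.Comod k A V) (b : Module.Basis P k V) :
    cf c ≤ Submodule.span k (Set.range fun ij : P × P => coefMatrix c b ij.1 ij.2) := by
  rw [cf_le]
  intro φ v
  rw [cfMap_apply]
  have hv : v = ∑ j, b.repr v j • b j := (b.sum_repr v).symm
  rw [hv, map_sum, map_sum]
  refine Submodule.sum_mem _ (fun j _ => ?_)
  rw [map_smul, map_smul, coact_basis c b j, map_sum]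
  refine Submodule.smul_mem _ _ (Submodule.sum_mem _ (fun i _ => ?_))
  rw [lslM_tmul]
  exact Submodule.smul_mem _ _ (Submodule.subset_span ⟨(i, j), rfl⟩)

theorem sum_delta (p q r s i j : P) :
    (∑ l : P, (if i = p ∧ l = q then (1 : k) else 0) * (if l = r ∧ j = s then 1 else 0)) =
      if i = p ∧ j = s ∧ q = r then 1 else 0 := by
  rw [Finset.sum_eq_single q]
  · by_cases hi : i = p <;> by_cases hj : j = s <;> by_cases hq : q = r <;> simp [hi, hj, hq]
  · intro l _ hl
    rw [if_neg (fun h => hl h.2), zero_mul]
  · intro h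
    exact absurd (Finset.mem_univ q) h

theorem ev_comul_coef (a : P → P → A) (ha : IsMult (k := k) a) (g : P × P → Module.Dual k A)
    (hg : ∀ (pq : P × P) (i j : P), g pq (a i j) = if i = pq.1 ∧ j = pq.2 then 1 else 0)
    (p q r s i j : P) :
    ev (g (p, q)) (g (r, s)) (CoalgebraStruct.comul (R := k) (a i j)) =
      if i = p ∧ j = s ∧ q = r then 1 else 0 := by
  rw [ha.comul, map_sum]
  simp only [ev_tmul, hg]
  exact sum_delta p q r s i j

theorem ev_sum (a : P → P → A) (ha : IsMult (k := k) a) (g : P × P → Module.Dual k A)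
    (hg : ∀ (pq : P × P) (i j : P), g pq (a i j) = if i = pq.1 ∧ j = pq.2 then 1 else 0)
    (m : P × P → k) (p q r s : P) :
    ev (g (p, q)) (g (r, s)) (CoalgebraStruct.comul (R := k) (∑ ij : P × P, m ij • a ij.1 ij.2)) =
      if q = r then m (p, s) else 0 := by
  rw [map_sum, map_sum]
  simp only [map_smul, ev_comul_coef a ha g hg, smul_eq_mul]
  rw [Finset.sum_eq_single (p, s)]
  · by_cases hq : q = r <;> simp [hq]
  · rintro ⟨i, j⟩ _ hij
    have : ¬ (i = p ∧ j = s ∧ q = r) := by
      rintro ⟨rfl, rfl, -⟩
      exact hij rfl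
    rw [if_neg this, mul_zero]
  · intro h
    exact absurd (Finset.mem_univ _) h

end Sym

section Main

variable {k : Type u} [Field k] [IsAlgClosed k] {A : Type v} [AddCommGroup A] [Module k A]
  [Coalgebra k A]
variable {V : Type w} [AddCommGroup V] [Module k V] [FiniteDimensional k V]
variable {P : Type} [Fintype P] [DecidableEq P]

/-- a symmetric element of the coefficient space of a simple comodule is a multiple of the
character -/
theorem exists_smul_char (c : HopfRep.Comod k A V)
    (hV : @HopfRep.IsSimpleComod k A _ _ _ _ V _ _ c) (b : Module.Basis P k V) (f : A)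
    (hf : f ∈ cf c)
    (hsym : TensorProduct.comm k A A (CoalgebraStruct.comul (R := k) f) =
      CoalgebraStruct.comul (R := k) f) :
    ∃ t : k, f = t • ∑ i, coefMatrix c b i i := by
  have hf' := cf_le_span c b hf
  obtain ⟨m, hm⟩ := (Submodule.mem_span_range_iff_exists_fun k).mp hf'
  choose g hg using fun pq : P × P => exists_dual c hV b pq.1 pq.2
  have hmult := isMult_coefMatrix c b
  have key : ∀ p q r s : P, (if q = r then m (p, s) else 0) = (if s = p then m (r, q) else 0) := by
    intro p q r s
    have h1 := ev_sum (coefMatrix c b) hmult g hg m p q r s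
    have h2 := ev_sum (coefMatrix c b) hmult g hg m r s p q
    rw [hm] at h1 h2
    rw [← h1, ← h2, ← ev_comm, hsym]
  have hoff : ∀ p s : P, p ≠ s → m (p, s) = 0 := by
    intro p s hps
    have := key p p p s
    rwa [if_pos rfl, if_neg (Ne.symm hps)] at this
  have hdiag : ∀ p q : P, m (p, p) = m (q, q) := by
    intro p q
    have := key p q q p
    rwa [if_pos rfl, if_pos rfl] at this
  have hf2 : f = ∑ i, m (i, i) • coefMatrix c b i i := by
    rw [← hm, Fintype.sum_prod_type]
    apply Finset.sum_congr rfl
    intro i _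
    rw [Finset.sum_eq_single i]
    · intro j _ hj
      rw [hoff i j (Ne.symm hj), zero_smul]
    · intro h
      exact absurd (Finset.mem_univ i) h
  rcases isEmpty_or_nonempty P with hP | ⟨⟨p₀⟩⟩
  · refine ⟨0, ?_⟩
    rw [hf2, zero_smul]
    exact Finset.sum_of_isEmpty _
  · refine ⟨m (p₀, p₀), ?_⟩
    rw [hf2, Finset.smul_sum]
    apply Finset.sum_congr rfl
    intro i _
    rw [hdiag i p₀]

end Main

end Groth.Agent.Lib.Helper66.CF2
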