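import Groth.Agent.Lib.Helper96.CoeffSS
import Groth.Agent.Lib.Helper96.LinRed
import Mathlib.Algebra.DirectSum.Decomposition

/-! Components of a symmetric element with respect to a decomposition of a coalgebra into
subcoalgebras are symmetric (helper66). -/

set_option autoImplicit false

open TensorProduct
universe u v
namespace Groth.Agent.Lib.Helper66.CF3
open Groth.Agent.Lib.Helper96

section Proj

variable {k : Type u} [Field k] {C : Type v} [AddCommGroup C] [Module k C] [Coalgebra k C]
variable {ι : Type v} [DecidableEq ι] (D : ι → Submodule k C) [DirectSum.Decomposition D]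

/-- the projection onto a summand -/
noncomputable def proj (i : ι) : C →ₗ[k] C :=
  (D i).subtype ∘ₗ DirectSum.component k ι (fun i => D i) i ∘ₗ
    (DirectSum.decomposeLinearEquiv D).toLinearMap

theorem proj_apply (i : ι) (x : C) : proj D i x = (DirectSum.decompose D x i : C) := rfl

theorem proj_mem (i : ι) (x : C) : proj D i x ∈ D i := (DirectSum.decompose D x i).2

theorem proj_of_mem_same {i : ι} {x : C} (hx : x ∈ D i) : proj D i x = x :=
  DirectSum.decompose_of_mem_same D hx

theorem proj_of_mem_ne {i j : ι} {x : C} (hx : x ∈ D j) (hij : j ≠ i) : proj D i x = 0 :=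
  DirectSum.decompose_of_mem_ne D hx hij

theorem sum_proj (x : C) : ∃ s : Finset ι, ∑ i ∈ s, proj D i x = x := by
  classical
  exact ⟨(DirectSum.decompose D x).support, DirectSum.sum_support_decompose D x⟩

theorem proj_comp_subtype_same (i : ι) : proj D i ∘ₗ (D i).subtype = (D i).subtype := by
  ext x
  exact proj_of_mem_same D x.2

theorem proj_comp_subtype_ne {i j : ι} (hij : j ≠ i) : proj D i ∘ₗ (D j).subtype = 0 := by
  ext x
  exact proj_of_mem_ne D x.2 hij

/-- the projections commute with the comultiplication when the summands are subcoalgebras -/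
theorem map_proj_comul (hD : ∀ i, IsSubcoalg (D i)) (i : ι) (x : C) :
    TensorProduct.map (proj D i) (proj D i) (CoalgebraStruct.comul (R := k) x) =
      CoalgebraStruct.comul (R := k) (proj D i x) := by
  have key : TensorProduct.map (proj D i) (proj D i) ∘ₗ (CoalgebraStruct.comul (R := k) (A := C)) =
      (CoalgebraStruct.comul (R := k) (A := C)) ∘ₗ proj D i := by
    apply DirectSum.decompose_lhom_ext D
    intro j
    ext y
    simp only [LinearMap.comp_apply, Submodule.subtype_apply]
    obtain ⟨z, hz⟩ := hD j y y.2
    rw [← hz, ← LinearMap.comp_apply, ← TensorProduct.map_comp]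
    by_cases hij : j = i
    · subst hij
      rw [proj_comp_subtype_same, proj_of_mem_same D y.2, hz]
    · rw [proj_comp_subtype_ne D hij, proj_of_mem_ne D y.2 hij, map_zero]
      simp
  exact LinearMap.congr_fun key x

theorem comm_map (P : C →ₗ[k] C) (z : C ⊗[k] C) :
    TensorProduct.comm k C C (TensorProduct.map P P z) =
      TensorProduct.map P P (TensorProduct.comm k C C z) := by
  induction z using TensorProduct.induction_on with
  | zero => simp
  | add x y hx hy => simp only [map_add, hx, hy]
  | tmul x y => simp

/-- components of a symmetric element are symmetric -/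
theorem comm_comul_proj (hD : ∀ i, IsSubcoalg (D i)) (i : ι) (f : C)
    (hf : TensorProduct.comm k C C (CoalgebraStruct.comul (R := k) f) =
      CoalgebraStruct.comul (R := k) f) :
    TensorProduct.comm k C C (CoalgebraStruct.comul (R := k) (proj D i f)) =
      CoalgebraStruct.comul (R := k) (proj D i f) := by
  rw [← map_proj_comul D hD, comm_map, hf]

end Proj

end Groth.Agent.Lib.Helper66.CF3
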