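import Groth.Agent.Lib.Helper66.CF1
import Groth.Agent.Lib.Helper66.CF2
import Groth.Agent.Lib.Helper66.CF3

/-! Class functions on a linearly reductive group over an algebraically closed field are the
linear combinations of characters (helper66). -/

set_option autoImplicit false

open TensorProduct
universe u
namespace Groth.Agent.Lib.Helper66.CF4
open Groth.Agent.Lib.Helper96 Groth.Agent.Lib.Helper96.MatComod

section Char

variable {k : Type u} [Field k] {A : Type u} [CommRing A] [Bialgebra k A]

/-- the character of a comodule structure on a coordinate space -/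
noncomputable def char {d : ℕ} (c : HopfRep.Comod k A (Fin d → k)) : A :=
  ∑ i : Fin d, TensorProduct.lid k A
    (LinearMap.rTensor A (LinearMap.proj i) (c.coact (Pi.single i 1)))

theorem coord_basisFun {d : ℕ} (p : Fin d) :
    (Pi.basisFun k (Fin d)).coord p = (LinearMap.proj p : (Fin d → k) →ₗ[k] k) := by
  ext x
  simp

theorem char_eq_sum_coef {d : ℕ} (c : HopfRep.Comod k A (Fin d → k)) :
    char c = ∑ i : Fin d, coefMatrix c (Pi.basisFun k (Fin d)) i i := by
  unfold char coefMatrix
  apply Finset.sum_congr rfl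
  intro i _
  rw [coord_basisFun, Pi.basisFun_apply]
  rfl

theorem char_comod {d : ℕ} (a : Fin d → Fin d → A) (ha : IsMult (k := k) a) :
    char (comod a ha) = ∑ i : Fin d, a i i := by
  unfold char
  apply Finset.sum_congr rfl
  intro i _
  rw [comod_coact, coactFun_single, map_sum, map_sum]
  rw [Finset.sum_eq_single i]
  · simp
  · intro p _ hp
    simp [Pi.single_eq_of_ne (Ne.symm hp)]
  · intro h
    exact absurd (Finset.mem_univ i) h

theorem comm_comul_char {d : ℕ} (c : HopfRep.Comod k A (Fin d → k)) :
    TensorProduct.comm k A A (CoalgebraStruct.comul (R := k) (char c)) =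
      CoalgebraStruct.comul (R := k) (char c) := by
  have hm := isMult_coefMatrix c (Pi.basisFun k (Fin d))
  rw [char_eq_sum_coef, map_sum, map_sum]
  simp only [hm.comul, map_sum, TensorProduct.comm_tmul]
  exact Finset.sum_comm

theorem char_mem_cf {d : ℕ} (c : HopfRep.Comod k A (Fin d → k)) : char c ∈ cf c := by
  rw [char_eq_sum_coef]
  refine Submodule.sum_mem _ (fun i _ => ?_)
  exact cfMap_mem_cf c _ _

theorem counit_char {d : ℕ} (c : HopfRep.Comod k A (Fin d → k)) :
    CoalgebraStruct.counit (R := k) (char c) = (d : k) := by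
  have hm := isMult_coefMatrix c (Pi.basisFun k (Fin d))
  rw [char_eq_sum_coef, map_sum]
  simp only [hm.counit, if_true]
  simp

/-- symmetric elements -/
noncomputable def symSub (k : Type u) [Field k] (A : Type u) [CommRing A] [Bialgebra k A] :
    Submodule k A :=
  LinearMap.ker ((TensorProduct.comm k A A).toLinearMap ∘ₗ
    (CoalgebraStruct.comul (R := k) (A := A)) - CoalgebraStruct.comul (R := k) (A := A))

theorem mem_symSub (f : A) : f ∈ symSub k A ↔
    TensorProduct.comm k A A (CoalgebraStruct.comul (R := k) f) =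
      CoalgebraStruct.comul (R := k) f := by
  unfold symSub
  rw [LinearMap.mem_ker, LinearMap.sub_apply, sub_eq_zero]
  rfl

end Char

section Main

variable {k : Type u} [Field k] [IsAlgClosed k] {A : Type u} [CommRing A] [Bialgebra k A]

theorem mem_span_char_of_symm (hred : HopfRep.IsLinearlyReductive k A) (f : A)
    (hf : TensorProduct.comm k A A (CoalgebraStruct.comul (R := k) f) =
      CoalgebraStruct.comul (R := k) f) :
    f ∈ Submodule.span k (Set.range fun p : (Σ d : ℕ, HopfRep.Comod k A (Fin d → k)) =>
      char p.2) := by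
  classical
  have hSS := isSS_regular_of_isLinearlyReductive hred
  obtain ⟨ι, D, hind, hsup, hsimple⟩ := exists_decomp_of_isSS_regular hSS
  have hint := DirectSum.isInternal_submodule_of_iSupIndep_of_iSup_eq_top hind hsup
  let _ := hint.chooseDecomposition
  obtain ⟨s, hs⟩ := CF3.sum_proj D f
  rw [← hs]
  refine Submodule.sum_mem _ (fun i _ => ?_)
  have hsym_i := CF3.comm_comul_proj D (fun i => (hsimple i).2.1) i f hf
  have hmem_i := CF3.proj_mem D i f
  obtain ⟨E, hE, hED, hcf⟩ := exists_isMinSub_cf_eq (D i) (hsimple i)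
  obtain ⟨W₀, hW₀le, hW₀fin, hW₀min⟩ :=
    exists_isMinSub_le (HopfRep.Comod.regular k A) hE.1 hE.2.1
  have hW₀E : W₀ = E := (hE.2.2 W₀ hW₀min.1 hW₀le).resolve_left hW₀min.2.1
  subst hW₀E
  set cE := ComodSub.Comod.restr (HopfRep.Comod.regular k A) W₀ hE.1 with hcE
  have hsimpleE := isSimple_restr_of_isMinSub _ hE
  let b := Module.finBasis k W₀
  rw [← hcf] at hmem_i
  obtain ⟨t, ht⟩ := CF2.exists_smul_char cE hsimpleE b (CF3.proj D i f) hmem_i hsym_i
  rw [ht]
  apply Submodule.smul_mem
  rw [← char_comod (coefMatrix cE b) (isMult_coefMatrix cE b)]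
  exact Submodule.subset_span ⟨⟨_, comod (coefMatrix cE b) (isMult_coefMatrix cE b)⟩, rfl⟩

theorem symm_iff_mem_span_char (hred : HopfRep.IsLinearlyReductive k A) (f : A) :
    TensorProduct.comm k A A (CoalgebraStruct.comul (R := k) f) =
      CoalgebraStruct.comul (R := k) f ↔
    f ∈ Submodule.span k (Set.range fun p : (Σ d : ℕ, HopfRep.Comod k A (Fin d → k)) =>
      char p.2) := by
  constructor
  · exact mem_span_char_of_symm hred f
  · intro hf
    rw [← mem_symSub]
    refine Submodule.span_le.mpr ?_ hf
    rintro _ ⟨p, rfl⟩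
    exact (mem_symSub _).mpr (comm_comul_char p.2)

end Main

section Indep

variable {k : Type u} [Field k] [CharZero k] {A : Type u} [CommRing A] [Bialgebra k A]

theorem linearIndependent_char (n : ℕ) (d : Fin n → ℕ)
    (c : (i : Fin n) → HopfRep.Comod k A (Fin (d i) → k))
    (hs : ∀ i, @HopfRep.IsSimpleComod k A _ _ _ _ (Fin (d i) → k) _ _ (c i))
    (hne : ∀ i j, i ≠ j → ∀ P : (Fin (d i) → k) ≃ₗ[k] (Fin (d j) → k),
      LinearMap.rTensor A P.toLinearMap ∘ₗ (c i).coact ≠ (c j).coact ∘ₗ P.toLinearMap) :
    LinearIndependent k (fun i : Fin n => char (c i)) := by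
  have hinj : Function.Injective (fun i : Fin n => cf (c i)) := by
    intro i j hij
    by_contra hne'
    have hle : cf (c j) ≤ cf (c i) := by
      have : cf (c i) = cf (c j) := hij
      rw [this]
    obtain ⟨e, he⟩ := exists_iso_of_cf_le (c i) (c j) (hs i) (hs j) hle
    exact hne i j hne' e he.symm
  have hind := iSupIndep_of_isSimpleSubcoalg (fun i : Fin n => cf (c i))
    (fun i => isSimpleSubcoalg_cf (c i) (hs i)) hinj
  apply iSupIndep.linearIndependent _ hind (fun i => char_mem_cf (c i))
  intro i h0
  have h1 := counit_char (c i)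
  rw [h0, map_zero] at h1
  have hd : d i = 0 := by exact_mod_cast h1.symm
  have hnt := (hs i).1
  have hsub : Subsingleton (Fin (d i) → k) := by
    rw [hd]
    infer_instance
  exact not_subsingleton _ hsub

end Indep

end Groth.Agent.Lib.Helper66.CF4
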