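import Mathlib
import Groth.Agent.Lib.Helper66.TruncPolyQ
import Groth.Agent.Lib.Helper76.PowEval
import Groth.Agent.S7949

set_option autoImplicit false
universe u v
open TensorProduct IsLocalRing
open Groth.Agent.Lib.Helper66.TruncPolyQ

namespace Groth.Agent.Lib.Helper66.CFFT1

theorem includeRight_surjective (R : Type u) [CommRing R] [IsLocalRing R]
    (A : Type v) [CommRing A] [Algebra R A] :
    Function.Surjective (Algebra.TensorProduct.includeRight : A →ₐ[R] ResidueField R ⊗[R] A) := by
  intro z
  induction z using TensorProduct.induction_on with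
  | zero => exact ⟨0, map_zero _⟩
  | tmul a b =>
    obtain ⟨r, rfl⟩ := IsLocalRing.residue_surjective a
    refine ⟨r • b, ?_⟩
    simp only [Algebra.TensorProduct.includeRight_apply]
    rw [TensorProduct.tmul_smul, TensorProduct.smul_tmul']
    congr 1
    rw [Algebra.smul_def, mul_one]
    rfl
  | add x y hx hy =>
    obtain ⟨a, rfl⟩ := hx
    obtain ⟨b, rfl⟩ := hy
    exact ⟨a + b, map_add _ _ _⟩

theorem isLocalRing_fibre (R : Type u) [CommRing R] [IsLocalRing R]
    (A : Type v) [CommRing A] [Algebra R A] [Module.Finite R A] [IsLocalRing A] :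
    IsLocalRing (ResidueField R ⊗[R] A) := by
  haveI : Nontrivial (ResidueField R ⊗[R] A) := by
    by_contra h
    rw [not_nontrivial_iff_subsingleton] at h
    have := IsLocalRing.subsingleton_tensorProduct (R := R) (M := A) |>.mp h
    exact not_subsingleton A this
  exact IsLocalRing.of_surjective'
    (Algebra.TensorProduct.includeRight : A →ₐ[R] ResidueField R ⊗[R] A).toRingHom
    (includeRight_surjective R A)

theorem exists_fibre_iso (R : Type u) [CommRing R] [IsLocalRing R] (p : ℕ) [Fact p.Prime]
    [CharP (ResidueField R) p] [PerfectField (ResidueField R)] (A : Type v) [CommRing A]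
    [HopfAlgebra R A] [Module.Finite R A] [IsLocalRing A] :
    ∃ (r : ℕ) (e : Fin r → ℕ), Nonempty ((ResidueField R ⊗[R] A) ≃ₐ[ResidueField R]
      (MvPolynomial (Fin r) (ResidueField R) ⧸ JXq (ResidueField R) (fun i => p ^ e i))) := by
  haveI := isLocalRing_fibre R A
  obtain ⟨r, e, _, he⟩ := Groth.Agent.S7949.result (ResidueField R) (ResidueField R ⊗[R] A) p
  exact ⟨r, e, he⟩

end Groth.Agent.Lib.Helper66.CFFT1
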