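import Mathlib
import Groth.Agent.Lib.Helper66.TruncPolyQ
import Groth.Agent.Lib.Helper76.PowEval

set_option autoImplicit false
universe u v
open TensorProduct IsLocalRing
open Groth.Agent.Lib.Helper66.TruncPolyQ

namespace Groth.Agent.Lib.Helper66.CFFT2

open MvPolynomial Groth.Agent.Lib.Helper66.TruncPoly

section
variable (k : Type*) [Field k] {r : ℕ} (q : Fin r → ℕ)

/-- the monomial basis of the truncated polynomial ring -/
noncomputable def qBasis : Module.Basis (redSet q) k (MvPolynomial (Fin r) k ⧸ JXq k q) :=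
  (basisRestrictSupport k (redSet q)).map (reducedEquivQ k q)

theorem qBasis_apply (d : redSet q) :
    qBasis k q d = Ideal.Quotient.mk (JXq k q) (monomial (d : Fin r →₀ ℕ) (1 : k)) := by
  unfold qBasis
  rw [Module.Basis.map_apply]
  show Ideal.Quotient.mk (JXq k q) ((basisRestrictSupport k (redSet q) d : restrictSupport k (redSet q)) : MvPolynomial (Fin r) k) = _
  rw [basisRestrictSupport_coe]

end

section
variable (R : Type u) [CommRing R] [IsLocalRing R]
  (A : Type v) [CommRing A] [Algebra R A] {r : ℕ} (q : Fin r → ℕ)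
  (φ₀ : (ResidueField R ⊗[R] A) ≃ₐ[ResidueField R]
    (MvPolynomial (Fin r) (ResidueField R) ⧸ JXq (ResidueField R) q))
  (x : Fin r → A)
  (hx : ∀ i, φ₀ ((1 : ResidueField R) ⊗ₜ[R] x i) = Ideal.Quotient.mk _ (MvPolynomial.X i))

include hx in
theorem phi_one_tmul_aeval (P : MvPolynomial (Fin r) R) :
    φ₀ ((1 : ResidueField R) ⊗ₜ[R] aeval x P) =
      Ideal.Quotient.mk _ (MvPolynomial.map (algebraMap R (ResidueField R)) P) := by
  let ψ : A →ₐ[R] (MvPolynomial (Fin r) (ResidueField R) ⧸ JXq (ResidueField R) q) :=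
    ((φ₀.restrictScalars R : (ResidueField R ⊗[R] A) ≃ₐ[R] _) : (ResidueField R ⊗[R] A) →ₐ[R] _).comp
      (Algebra.TensorProduct.includeRight : A →ₐ[R] ResidueField R ⊗[R] A)
  have h2 : (fun i => ψ (x i)) = fun i => Ideal.Quotient.mk (JXq (ResidueField R) q) (MvPolynomial.X i) := by
    funext i
    exact hx i
  have key : ∀ P : MvPolynomial (Fin r) R,
      aeval (fun i => Ideal.Quotient.mk (JXq (ResidueField R) q) (MvPolynomial.X i)) P =
        Ideal.Quotient.mk _ (MvPolynomial.map (algebraMap R (ResidueField R)) P) := by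
    intro P
    induction P using MvPolynomial.induction_on with
    | C a =>
      rw [aeval_C, map_C]
      rfl
    | add p q hp hq => rw [map_add, map_add, map_add, hp, hq]
    | mul_X p i hp => rw [map_mul, map_mul, map_mul, hp, aeval_X, map_X]
  have h1 : φ₀ ((1 : ResidueField R) ⊗ₜ[R] aeval x P) = (ψ.comp (aeval x)) P := rfl
  rw [h1, comp_aeval, h2, key]

include hx in
theorem phi_one_tmul_monomial (d : Fin r →₀ ℕ) :
    φ₀ ((1 : ResidueField R) ⊗ₜ[R] aeval x (monomial d (1 : R))) =
      Ideal.Quotient.mk _ (monomial d (1 : ResidueField R)) := by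
  rw [phi_one_tmul_aeval R A q φ₀ x hx, map_monomial, map_one]

end

theorem exists_basis_lift (R : Type u) [CommRing R] [IsLocalRing R] [IsNoetherianRing R]
    (A : Type v) [CommRing A] [Algebra R A] [Module.Finite R A] [Module.Flat R A] {r : ℕ}
    (q : Fin r → ℕ)
    (φ₀ : (ResidueField R ⊗[R] A) ≃ₐ[ResidueField R]
      (MvPolynomial (Fin r) (ResidueField R) ⧸ JXq (ResidueField R) q))
    (x : Fin r → A)
    (hx : ∀ i, φ₀ ((1 : ResidueField R) ⊗ₜ[R] x i) = Ideal.Quotient.mk _ (MvPolynomial.X i)) :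
    (∃ b : Module.Basis (redSet q) R A, ∀ d : redSet q,
        b d = MvPolynomial.aeval x (MvPolynomial.monomial (d : Fin r →₀ ℕ) (1 : R))) ∧
    (∃ g : Fin r → MvPolynomial (Fin r) R,
      (∀ i, g i ∈ MvPolynomial.restrictSupport R (redSet q)) ∧
      (∀ i d, (g i).coeff d ∈ maximalIdeal R) ∧
      ∀ i, x i ^ q i + MvPolynomial.aeval x (g i) = 0) := by
  classical
  let k := ResidueField R
  let v : redSet q → A := fun d => aeval x (monomial (d : Fin r →₀ ℕ) (1 : R))
  -- the k-basis of the fibre
  let B : Module.Basis (redSet q) k (k ⊗[R] A) := (qBasis k q).map φ₀.symm.toLinearEquiv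
  have hB : (TensorProduct.mk R k A 1 ∘ v) = ⇑B := by
    funext d
    show (1 : k) ⊗ₜ[R] v d = B d
    rw [Module.Basis.map_apply, qBasis_apply]
    show _ = φ₀.symm _
    rw [AlgEquiv.eq_symm_apply]
    exact phi_one_tmul_monomial R A q φ₀ x hx d
  have hbij : Function.Bijective (Finsupp.linearCombination k (TensorProduct.mk R k A 1 ∘ v)) := by
    rw [hB, ← Module.Basis.coe_repr_symm]
    exact B.repr.symm.bijective
  have hbijR : Function.Bijective (Finsupp.linearCombination R v) :=
    Module.IsLocalRing.linearCombination_bijective_of_flat v hbij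
  have hli : LinearIndependent R v := hbijR.1
  have hsp : ⊤ ≤ Submodule.span R (Set.range v) := by
    rw [← Finsupp.range_linearCombination, LinearMap.range_eq_top.2 hbijR.2]
  let b : Module.Basis (redSet q) R A := Module.Basis.mk hli hsp
  have hb : ∀ d : redSet q, b d = v d := fun d => Module.Basis.mk_apply hli hsp d
  refine ⟨⟨b, hb⟩, ?_⟩
  haveI : Fintype (redSet q) := Fintype.ofFinite _
  let c : Fin r → redSet q → R := fun i d => b.repr (x i ^ q i) d
  have hsum : ∀ i, x i ^ q i = ∑ d : redSet q, c i d • v d := by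
    intro i
    have := b.sum_repr (x i ^ q i)
    conv_lhs => rw [← this]
    refine Finset.sum_congr rfl fun d _ => ?_
    rw [hb d]
  have hcm : ∀ i d, c i d ∈ maximalIdeal R := by
    intro i d
    have h1 : φ₀ ((1 : k) ⊗ₜ[R] (x i ^ q i)) = 0 := by
      have : (1 : k) ⊗ₜ[R] (x i ^ q i) = ((1 : k) ⊗ₜ[R] x i) ^ q i := by
        rw [Algebra.TensorProduct.tmul_pow, one_pow]
      rw [this, map_pow, hx i, ← map_pow, Ideal.Quotient.eq_zero_iff_mem]
      exact Ideal.subset_span ⟨i, rfl⟩
    have h2 : φ₀ ((1 : k) ⊗ₜ[R] (x i ^ q i)) =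
        ∑ d : redSet q, (IsLocalRing.residue R (c i d)) • qBasis k q d := by
      rw [hsum i, TensorProduct.tmul_sum, map_sum]
      refine Finset.sum_congr rfl fun d _ => ?_
      rw [TensorProduct.tmul_smul, TensorProduct.smul_tmul', qBasis_apply,
        ← phi_one_tmul_monomial R A q φ₀ x hx d]
      have : (c i d • (1 : k)) = IsLocalRing.residue R (c i d) • (1 : k) := by
        rw [Algebra.smul_def, mul_one, smul_eq_mul, mul_one]; rfl
      rw [this, ← TensorProduct.smul_tmul', map_smul]
    rw [h1] at h2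
    have h3 := Fintype.linearIndependent_iff.1 (qBasis k q).linearIndependent _ h2.symm d
    exact (IsLocalRing.residue_eq_zero_iff _).1 h3
  refine ⟨fun i => -∑ d : redSet q, monomial (d : Fin r →₀ ℕ) (c i d), ?_, ?_, ?_⟩
  · intro i
    refine neg_mem (sum_mem fun d _ => ?_)
    rw [monomial_mem_restrictSupport]
    exact Or.inl d.2
  · intro i d'
    rw [coeff_neg, coeff_sum]
    refine neg_mem (sum_mem fun d _ => ?_)
    rw [coeff_monomial]
    split_ifs
    · exact hcm i d
    · exact zero_mem _
  · intro i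
    rw [map_neg, map_sum, hsum i]
    have : ∀ d : redSet q, aeval x (monomial (d : Fin r →₀ ℕ) (c i d)) = c i d • v d := by
      intro d
      show _ = c i d • aeval x (monomial (d : Fin r →₀ ℕ) (1 : R))
      rw [← map_smul, smul_monomial, smul_eq_mul, mul_one]
    simp only [this]
    exact add_neg_cancel _

end Groth.Agent.Lib.Helper66.CFFT2
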