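import Groth.Agent.Lib.Helper83.MultRigid

/-!
helper66: diagonalizable-level lemmas for rigidity of homs from multiplicative type groups over a
local base (S5245).
-/

set_option autoImplicit false
universe u
open TensorProduct Coalgebra WithConv
open Groth.Agent.Lib.Helper83.MultRigid

namespace Groth.Agent.Lib.Helper66.MR1

section Diag
variable {S : Type u} [CommRing S] {M : Type u} [Monoid M]

theorem coeff_one_mem (K : Ideal S) (w : MonoidAlgebra S M)
    (hε : Coalgebra.counit (R := S) w = 0)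
    (h : ∀ m, m ≠ 1 → w.coeff m ∈ K) : ∀ m, w.coeff m ∈ K := by
  classical
  intro m
  by_cases hm : m = 1
  · subst hm
    rw [counit_eq_sum, Finsupp.sum] at hε
    by_cases h1 : (1 : M) ∈ w.coeff.support
    · rw [← Finset.add_sum_erase _ _ h1] at hε
      have : w.coeff 1 = - ∑ m ∈ w.coeff.support.erase 1, w.coeff m := by
        linear_combination hε
      rw [this]
      refine K.neg_mem (K.sum_mem fun m hm => h m ?_)
      exact (Finset.mem_erase.mp hm).1
    · rw [Finsupp.notMem_support_iff.mp h1]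
      exact K.zero_mem
  · exact h m hm

theorem smul_eq_zero_of_coeff (r : S) (w : MonoidAlgebra S M)
    (hε : Coalgebra.counit (R := S) w = 0)
    (h : ∀ m, m ≠ 1 → r * w.coeff m = 0) : r • w = 0 := by
  have h1 := coeff_one_mem (⊥ : Ideal S) (r • w) (by rw [map_smul, hε, smul_zero])
    (fun m hm => by
      rw [MonoidAlgebra.coeff_smul_apply, smul_eq_mul, h m hm]
      exact Ideal.zero_mem _)
  apply MonoidAlgebra.coeff_injective
  ext m
  simpa using h1 m

theorem mem_smul_top_of_coeff (K : Ideal S) (w : MonoidAlgebra S M)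
    (h : ∀ m, w.coeff m ∈ K) : w ∈ K • (⊤ : Submodule S (MonoidAlgebra S M)) := by
  rw [← MonoidAlgebra.sum_coeff_single w, Finsupp.sum]
  refine Submodule.sum_mem _ fun m _ => ?_
  have : MonoidAlgebra.single m (w.coeff m) = (w.coeff m) • MonoidAlgebra.single m (1 : S) := by
    rw [MonoidAlgebra.smul_single, smul_eq_mul, mul_one]
  rw [this]
  exact Submodule.smul_mem_smul (h m) Submodule.mem_top

end Diag


section Conv
variable {S : Type u} [CommRing S] {M : Type u} [Monoid M]
  {C : Type u} [AddCommGroup C] [Module S C] [Coalgebra S C]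

theorem coeffHom_pow_mem (ψ : C →ₗc[S] MonoidAlgebra S M) (I : Ideal S) (m : M)
    (h : ∀ c, coeffHom ψ m c ∈ I) : ∀ (n : ℕ) (c : C), coeffHom ψ m c ∈ I ^ n := by
  intro n
  induction n with
  | zero => intro c; simp
  | succ k ih =>
    intro c
    have hd : coeffHom ψ m = coeffHom ψ m * coeffHom ψ m := by
      rw [coeffHom_mul, if_pos rfl]
    rw [hd, pow_succ]
    exact convMul_mem _ _ _ _ ih h c

theorem coeffHom_mem_mul (ψ : C →ₗc[S] MonoidAlgebra S M) (I J : Ideal S) (m : M)
    (h : ∀ c, coeffHom ψ m c ∈ I) (h' : ∀ c, coeffHom ψ m c ∈ J) (c : C) :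
    coeffHom ψ m c ∈ I * J := by
  have hd : coeffHom ψ m = coeffHom ψ m * coeffHom ψ m := by
    rw [coeffHom_mul, if_pos rfl]
  rw [hd]
  exact convMul_mem _ _ _ _ h h' c

end Conv

section Mul
variable {S : Type u} [CommRing S] {M : Type u} [Monoid M]

theorem coeff_mul_mem (I K : Ideal S) (a z : MonoidAlgebra S M) (ha : ∀ m, a.coeff m ∈ I)
    (hz : ∀ m, z.coeff m ∈ K) (m : M) : (a * z).coeff m ∈ I * K := by
  classical
  rw [MonoidAlgebra.coeff_mul, Finsupp.sum]
  refine Ideal.sum_mem _ fun m₁ _ => ?_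
  rw [Finsupp.sum]
  refine Ideal.sum_mem _ fun m₂ _ => ?_
  split_ifs
  · exact Ideal.mul_mem_mul (ha m₁) (hz m₂)
  · exact Ideal.zero_mem _

/-- the subalgebra of elements whose coefficients off the unit lie in an ideal -/
def offUnit (K : Ideal S) : Subalgebra S (MonoidAlgebra S M) where
  carrier := {z | ∀ m, m ≠ 1 → z.coeff m ∈ K}
  mul_mem' := by
    classical
    intro x y hx hy m hm
    rw [MonoidAlgebra.coeff_mul, Finsupp.sum]
    refine Ideal.sum_mem _ fun m₁ _ => ?_
    rw [Finsupp.sum]
    refine Ideal.sum_mem _ fun m₂ _ => ?_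
    split_ifs with h12
    · by_cases h1 : m₁ = 1
      · have h2 : m₂ ≠ 1 := by
          rintro rfl
          apply hm
          rw [← h12, h1, mul_one]
        exact Ideal.mul_mem_left _ _ (hy m₂ h2)
      · exact Ideal.mul_mem_right _ _ (hx m₁ h1)
    · exact Ideal.zero_mem _
  add_mem' := by
    intro x y hx hy m hm
    rw [MonoidAlgebra.coeff_add, Finsupp.add_apply]
    exact Ideal.add_mem _ (hx m hm) (hy m hm)
  algebraMap_mem' := by
    intro r m hm
    have : algebraMap S (MonoidAlgebra S M) r = MonoidAlgebra.single 1 r := rfl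
    rw [this, MonoidAlgebra.coeff_single, Finsupp.single_eq_of_ne hm]
    exact Ideal.zero_mem _

theorem mem_offUnit (K : Ideal S) (z : MonoidAlgebra S M) :
    z ∈ offUnit K ↔ ∀ m, m ≠ 1 → z.coeff m ∈ K := Iff.rfl

/-- Nakayama for an element fixed by multiplication with an element with coefficients in `I` -/
theorem exists_of_mul_eq (I : Ideal S) (a z : MonoidAlgebra S M) (ha : ∀ m, a.coeff m ∈ I)
    (haz : a * z = z) : ∃ r : S, r - 1 ∈ I ∧ r • z = 0 := by
  classical
  let K : Ideal S := Ideal.span (z.coeff '' (z.coeff.support : Set M))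
  have hK : ∀ m, z.coeff m ∈ K := by
    intro m
    by_cases hm : m ∈ z.coeff.support
    · exact Ideal.subset_span ⟨m, hm, rfl⟩
    · rw [Finsupp.notMem_support_iff.mp hm]
      exact Ideal.zero_mem _
  have hFG : (K : Submodule S S).FG :=
    Submodule.fg_span (Set.Finite.image _ (Finset.finite_toSet _))
  have hle : (K : Submodule S S) ≤ I • (K : Submodule S S) := by
    intro x hx
    refine Submodule.span_induction (p := fun x _ => x ∈ I • (K : Submodule S S))
      ?_ ?_ ?_ ?_ hx
    · rintro _ ⟨m, _, rfl⟩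
      have := coeff_mul_mem I K a z ha hK m
      rw [haz] at this
      exact this
    · exact Submodule.zero_mem _
    · intro x y _ _ hx hy
      exact Submodule.add_mem _ hx hy
    · intro r x _ hx
      exact Submodule.smul_mem _ _ hx
  obtain ⟨r, hr, hr'⟩ :=
    Submodule.exists_sub_one_mem_and_smul_eq_zero_of_fg_of_le_smul I K hFG hle
  refine ⟨r, hr, ?_⟩
  apply MonoidAlgebra.coeff_injective
  ext m
  rw [MonoidAlgebra.coeff_smul_apply]
  exact hr' _ (hK m)

end Mul

section FT
variable {S : Type u} [CommRing S] {M : Type u} [Monoid M]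
  {C : Type u} [CommRing C] [Bialgebra S C]

/-- finite type case: the ideal of off-unit coefficients is finitely generated and idempotent -/
theorem exists_of_finiteType [Algebra.FiniteType S C] (ψ : C →ₐc[S] MonoidAlgebra S M)
    (I : Ideal S) (h : ∀ c m, m ≠ 1 → (ψ c).coeff m ∈ I) :
    ∃ r : S, r - 1 ∈ I ∧ ∀ c m, m ≠ 1 → r * (ψ c).coeff m = 0 := by
  classical
  let J : Ideal S := Ideal.span {x | ∃ c m, m ≠ 1 ∧ x = (ψ c).coeff m}
  have hgen : ∀ c m, m ≠ 1 → (ψ c).coeff m ∈ J := fun c m hm =>
    Ideal.subset_span ⟨c, m, hm, rfl⟩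
  let ψ' : C →ₗc[S] MonoidAlgebra S M := (ψ : C →ₗc[S] MonoidAlgebra S M)
  have hψ' : ∀ c m, coeffHom ψ' m c = (ψ c).coeff m := fun c m => rfl
  have hle : (J : Submodule S S) ≤ I • (J : Submodule S S) := by
    intro x hx
    refine Submodule.span_induction (p := fun x _ => x ∈ I • (J : Submodule S S))
      ?_ ?_ ?_ ?_ hx
    · rintro _ ⟨c, m, hm, rfl⟩
      rw [← hψ']
      exact coeffHom_mem_mul ψ' I J m (fun c => h c m hm) (fun c => hgen c m hm) c
    · exact Submodule.zero_mem _
    · intro x y _ _ hx hy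
      exact Submodule.add_mem _ hx hy
    · intro r x _ hx
      exact Submodule.smul_mem _ _ hx
  -- finite generation
  obtain ⟨s, hs⟩ := (Algebra.FiniteType.out : (⊤ : Subalgebra S C).FG)
  let G : Finset S := s.biUnion fun y => ((ψ y).coeff.support.erase 1).image fun m => (ψ y).coeff m
  let J' : Ideal S := Ideal.span (G : Set S)
  have hJ'J : J' ≤ J := by
    refine Ideal.span_le.mpr ?_
    intro x hx
    obtain ⟨y, _, hx⟩ := Finset.mem_biUnion.mp (Finset.mem_coe.mp hx)
    obtain ⟨m, hm, rfl⟩ := Finset.mem_image.mp hx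
    exact hgen y m (Finset.mem_erase.mp hm).1
  have hT : ∀ c, ψ c ∈ offUnit (M := M) J' := by
    have hle' : Algebra.adjoin S (s : Set C) ≤ (offUnit (M := M) J').comap (ψ : C →ₐ[S] MonoidAlgebra S M) := by
      refine Algebra.adjoin_le ?_
      intro y hy m hm
      change (ψ y).coeff m ∈ J'
      by_cases hms : m ∈ (ψ y).coeff.support
      · refine Ideal.subset_span (Finset.mem_coe.mpr (Finset.mem_biUnion.mpr ⟨y, hy, ?_⟩))
        exact Finset.mem_image.mpr ⟨m, Finset.mem_erase.mpr ⟨hm, hms⟩, rfl⟩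
      · rw [Finsupp.notMem_support_iff.mp hms]
        exact Ideal.zero_mem _
    intro c
    have : c ∈ Algebra.adjoin S (s : Set C) := by rw [hs]; exact Algebra.mem_top
    exact hle' this
  have hJJ' : J ≤ J' := by
    refine Ideal.span_le.mpr ?_
    rintro _ ⟨c, m, hm, rfl⟩
    exact hT c m hm
  have hFG : (J : Submodule S S).FG := by
    have : J = J' := le_antisymm hJJ' hJ'J
    rw [this]
    exact ⟨G, rfl⟩
  obtain ⟨r, hr, hr'⟩ :=
    Submodule.exists_sub_one_mem_and_smul_eq_zero_of_fg_of_le_smul I J hFG hle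
  exact ⟨r, hr, fun c m hm => hr' _ (hgen c m hm)⟩

end FT

end Groth.Agent.Lib.Helper66.MR1
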