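import Mathlib
import Groth.Agent.Lib.Helper75.DiagConn1
import Groth.Agent.Lib.Helper83.MultRigid
import Groth.Agent.Lib.Helper66.MR1

/-! Group-likes of group algebras modulo a nil ideal: uniqueness and existence of lifts
(helper66, for S2970). -/

set_option autoImplicit false
universe u
open TensorProduct

namespace Groth.Agent.Lib.Helper66.DN1
open Groth.Agent.Lib.Helper75.DiagConn Groth.Agent.Lib.Helper83.MultRigid

/-- group-like modulo an ideal of the base -/
def GLmod (S : Type u) [CommRing S] {B : Type u} [CommRing B] [Bialgebra S B] (K : Ideal S)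
    (a : B) : Prop :=
  Coalgebra.comul (R := S) a - a ⊗ₜ[S] a ∈ K • (⊤ : Submodule S (B ⊗[S] B)) ∧
    Coalgebra.counit (R := S) a - 1 ∈ K

theorem smul_top_self {T : Type u} [CommRing T] (K : Ideal T) :
    (K • (⊤ : Submodule T T)) = K := by
  simp

section Nil
variable {T : Type u} [CommRing T] {K : Ideal T} (hK : ∀ x ∈ K, IsNilpotent x)
include hK

theorem idem_eq_zero {e : T} (he : IsIdempotentElem e) (h : e ∈ K) : e = 0 := by
  obtain ⟨n, hn⟩ := hK e h
  rw [← he.pow_succ_eq n, pow_succ, hn, zero_mul]

theorem idem_eq {e e' : T} (he : IsIdempotentElem e) (he' : IsIdempotentElem e')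
    (h : e - e' ∈ K) : e = e' :=
  eq_of_isNilpotent_sub_of_isIdempotentElem he he' (hK _ h)

variable {N : Type u} [CommGroup N]

/-- two group-likes of a group algebra congruent modulo a nil ideal are equal -/
theorem groupLike_eq {γ γ' : MonoidAlgebra T N} (h : IsGroupLikeElem T γ)
    (h' : IsGroupLikeElem T γ')
    (hc : γ - γ' ∈ K • (⊤ : Submodule T (MonoidAlgebra T N))) : γ = γ' := by
  apply MonoidAlgebra.coeff_injective
  ext n
  refine idem_eq hK (coeff_mul_self h n) (coeff_mul_self h' n) ?_
  have := coeff_mem_of_mem_smul_top K _ hc n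
  rwa [MonoidAlgebra.coeff_sub, Finsupp.sub_apply] at this

/-- a group-like modulo a nil ideal in a group algebra lifts to a group-like -/
theorem exists_groupLike (a : MonoidAlgebra T N) (ha : GLmod T K a) :
    ∃ γ : MonoidAlgebra T N, IsGroupLikeElem T γ ∧
      γ - a ∈ K • (⊤ : Submodule T (MonoidAlgebra T N)) := by
  classical
  have hcc : ∀ m n : N, a.coeff m * a.coeff n - (if m = n then a.coeff m else 0) ∈ K := by
    intro m n
    have h1 := map_mem_smul_top (cf2 m n) K _ ha.1
    rw [map_sub, cf2_comul, cf2_tmul, smul_top_self] at h1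
    have := K.neg_mem h1
    rwa [neg_sub] at this
  have hsum : (a.coeff.sum fun _ r => r) - 1 ∈ K := by
    have := ha.2
    rwa [counit_eq_sum] at this
  -- lift each coefficient to an idempotent
  have hex : ∀ n : N, ∃ e : T, IsIdempotentElem e ∧ e - a.coeff n ∈ K := by
    intro n
    have hid : IsIdempotentElem (Ideal.Quotient.mk K (a.coeff n)) := by
      have := hcc n n
      rw [if_pos rfl] at this
      show Ideal.Quotient.mk K (a.coeff n) * Ideal.Quotient.mk K (a.coeff n) = _
      rw [← map_mul, ← sub_eq_zero, ← map_sub]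
      exact Ideal.Quotient.eq_zero_iff_mem.mpr this
    obtain ⟨e, he, hee⟩ := exists_isIdempotentElem_eq_of_ker_isNilpotent (Ideal.Quotient.mk K)
      (fun x hx => hK x (by rwa [RingHom.mem_ker, Ideal.Quotient.eq_zero_iff_mem] at hx))
      _ ⟨a.coeff n, rfl⟩ hid
    refine ⟨e, he, ?_⟩
    rw [← Ideal.Quotient.eq_zero_iff_mem, map_sub, hee, sub_self]
  choose e he hea using hex
  have he0 : ∀ n, n ∉ a.coeff.support → e n = 0 := by
    intro n hn
    refine idem_eq_zero hK (he n) ?_
    have := hea n
    rwa [Finsupp.notMem_support_iff.mp hn, sub_zero] at this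
  have horth : ∀ m n, m ≠ n → e m * e n = 0 := by
    intro m n hmn
    refine idem_eq_zero hK ((he m).mul (he n)) ?_
    have h1 := hcc m n
    rw [if_neg hmn, sub_zero] at h1
    have h2 : e m * e n = (e m - a.coeff m) * e n + a.coeff m * (e n - a.coeff n) +
      a.coeff m * a.coeff n := by ring
    rw [h2]
    exact K.add_mem (K.add_mem (K.mul_mem_right _ (hea m)) (K.mul_mem_left _ (hea n))) h1
  have hsum1 : ∑ n ∈ a.coeff.support, e n = 1 := by
    have hid : IsIdempotentElem (∑ n ∈ a.coeff.support, e n) := by
      show (∑ n ∈ a.coeff.support, e n) * (∑ n ∈ a.coeff.support, e n) = _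
      rw [Finset.sum_mul]
      refine Finset.sum_congr rfl fun m hm => ?_
      rw [Finset.mul_sum, Finset.sum_eq_single m]
      · exact (he m).eq
      · intro n _ hn
        exact horth m n hn.symm
      · intro h; exact absurd hm h
    refine idem_eq hK hid IsIdempotentElem.one ?_
    have h3 : (∑ n ∈ a.coeff.support, e n) - 1 =
        (∑ n ∈ a.coeff.support, (e n - a.coeff n)) + ((a.coeff.sum fun _ r => r) - 1) := by
      rw [Finset.sum_sub_distrib, Finsupp.sum]
      ring
    rw [h3]
    exact K.add_mem (K.sum_mem fun n _ => hea n) hsum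
  set γ : MonoidAlgebra T N := ∑ n ∈ a.coeff.support, MonoidAlgebra.single n (e n) with hγ
  have hγc : ∀ n, γ.coeff n = e n := by
    intro n
    rw [hγ, MonoidAlgebra.coeff_sum, Finsupp.finsetSum_apply]
    simp only [MonoidAlgebra.coeff_single]
    by_cases hn : n ∈ a.coeff.support
    · rw [Finset.sum_eq_single n]
      · exact Finsupp.single_eq_same
      · intro m _ hm
        exact Finsupp.single_eq_of_ne' hm
      · intro h; exact absurd hn h
    · rw [he0 n hn]
      refine Finset.sum_eq_zero fun m hm => ?_
      have : m ≠ n := fun h => hn (h ▸ hm)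
      exact Finsupp.single_eq_of_ne' this
  refine ⟨γ, ⟨?_, ?_⟩, ?_⟩
  · -- counit
    rw [hγ, map_sum]
    simp only [MonoidAlgebra.counit_single, CommSemiring.counit_apply]
    exact hsum1
  · -- comul
    rw [hγ, map_sum, TensorProduct.sum_tmul]
    refine Finset.sum_congr rfl fun m hm => ?_
    rw [TensorProduct.tmul_sum, Finset.sum_eq_single m]
    · rw [MonoidAlgebra.comul_single, CommSemiring.comul_apply, TensorProduct.map_tmul]
      simp only [MonoidAlgebra.lsingle_apply]
      have h4 : (MonoidAlgebra.single m (e m) : MonoidAlgebra T N) =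
          e m • MonoidAlgebra.single m (1 : T) := by
        rw [MonoidAlgebra.smul_single, smul_eq_mul, mul_one]
      rw [h4, TensorProduct.smul_tmul_smul, (he m).eq, TensorProduct.smul_tmul']
      exact (TensorProduct.smul_tmul _ _ _).symm
    · intro n _ hn
      have h4 : ∀ k : N, (MonoidAlgebra.single k (e k) : MonoidAlgebra T N) =
          e k • MonoidAlgebra.single k (1 : T) := by
        intro k
        rw [MonoidAlgebra.smul_single, smul_eq_mul, mul_one]
      rw [h4 m, h4 n, TensorProduct.smul_tmul_smul, horth m n hn.symm, zero_smul]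
    · intro h; exact absurd hm h
  · refine Groth.Agent.Lib.Helper66.MR1.mem_smul_top_of_coeff K _ fun n => ?_
    rw [MonoidAlgebra.coeff_sub, Finsupp.sub_apply, hγc]
    exact hea n

end Nil

end Groth.Agent.Lib.Helper66.DN1
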