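import Mathlib
import Groth.Agent.Lib.Helper96.BaseChangeBialg
import Groth.Agent.Lib.Helper66.DN1

/-! Base change plumbing for split Hopf algebras (helper66, for S2970). -/

set_option autoImplicit false
universe u
open TensorProduct

namespace Groth.Agent.Lib.Helper66.DN2
open Groth.Agent.Lib.Helper66.DN1 Groth.Agent.Lib.Helper83.MultRigid

section Scalar

variable (T T' : Type u) [CommRing T] [CommRing T'] [Algebra T T'] (N : Type u) [CommGroup N]

/-- scalar extension of a group algebra, as a bialgebra homomorphism -/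
noncomputable def scalarHom : T' ⊗[T] MonoidAlgebra T N →ₐc[T'] MonoidAlgebra T' N :=
  BialgHom.ofAlgHom ((MonoidAlgebra.scalarTensorEquiv T T' (M := N)) : _ →ₐ[T'] _)
    (by
      ext x
      simp)
    (by
      ext x
      simp)

theorem scalarHom_injective : Function.Injective (scalarHom T T' N) :=
  (MonoidAlgebra.scalarTensorEquiv T T' (M := N)).injective

end Scalar

section E

variable {R : Type u} [CommRing R] {A : Type u} [CommRing A] [Bialgebra R A]
variable {T : Type u} [CommRing T] [Algebra R T] {N : Type u} [CommGroup N]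
variable (e : T ⊗[R] A ≃ₐc[T] MonoidAlgebra T N)
variable (T' : Type u) [CommRing T'] [Algebra R T'] [Algebra T T'] [IsScalarTower R T T']

/-- base change of a bialgebra equivalence (as a homomorphism) -/
noncomputable def bcHom : T' ⊗[T] (T ⊗[R] A) →ₐc[T'] T' ⊗[T] MonoidAlgebra T N :=
  Bialgebra.TensorProduct.map (BialgHom.id T' T') (e : T ⊗[R] A →ₐc[T] MonoidAlgebra T N)

theorem bcHom_injective : Function.Injective (bcHom e T') := by
  let g : T' ⊗[T] MonoidAlgebra T N →ₐc[T'] T' ⊗[T] (T ⊗[R] A) :=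
    Bialgebra.TensorProduct.map (BialgHom.id T' T')
      (e.symm : MonoidAlgebra T N →ₐc[T] T ⊗[R] A)
  have hg : ∀ x, g (bcHom e T' x) = x := by
    intro x
    induction x using TensorProduct.induction_on with
    | zero => simp
    | tmul t y =>
      show g (Bialgebra.TensorProduct.map (BialgHom.id T' T')
        (e : T ⊗[R] A →ₐc[T] MonoidAlgebra T N) (t ⊗ₜ y)) = _
      rw [Bialgebra.TensorProduct.map_tmul]
      show Bialgebra.TensorProduct.map (BialgHom.id T' T')
        (e.symm : MonoidAlgebra T N →ₐc[T] T ⊗[R] A) _ = _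
      rw [Bialgebra.TensorProduct.map_tmul]
      simp
    | add x y hx hy => rw [map_add, map_add, hx, hy]
  exact Function.LeftInverse.injective hg

/-- the trivialization over a `T`-algebra `T'` -/
noncomputable def EHom : T' ⊗[R] A →ₐc[T'] MonoidAlgebra T' N :=
  (DN2.scalarHom T T' N).comp ((bcHom e T').comp
    ((Groth.Agent.Lib.Helper96.BaseChangeBialg.cbc R T T' A).symm :
      T' ⊗[R] A →ₐc[T'] T' ⊗[T] (T ⊗[R] A)))

theorem EHom_injective : Function.Injective (EHom e T') := by
  intro x y h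
  have h1 := scalarHom_injective T T' N h
  have h2 := bcHom_injective e T' h1
  exact (Groth.Agent.Lib.Helper96.BaseChangeBialg.cbc R T T' A).symm.injective h2

end E

section Transport

variable {R : Type u} [CommRing R] {A : Type u} [CommRing A] [Bialgebra R A]
variable {T T' : Type u} [CommRing T] [CommRing T'] [Algebra R T] [Algebra R T']

/-- change of the base along an algebra map preserves group-likes -/
theorem isGroupLikeElem_map (τ : T →ₐ[R] T') {x : T ⊗[R] A} (hx : IsGroupLikeElem T x) :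
    IsGroupLikeElem T' (Algebra.TensorProduct.map τ (AlgHom.id R A) x) := by
  let _ : Algebra T T' := τ.toRingHom.toAlgebra
  haveI : IsScalarTower R T T' := IsScalarTower.of_algebraMap_eq (fun r => (τ.commutes r).symm)
  have h1 := Groth.Agent.Lib.Helper96.BaseChangeBialg.isGroupLikeElem_one_tmul T T' (T ⊗[R] A) hx
  have h2 := h1.map (Groth.Agent.Lib.Helper96.BaseChangeBialg.cbc R T T' A)
  have h3 : ∀ x : T ⊗[R] A, Groth.Agent.Lib.Helper96.BaseChangeBialg.cbc R T T' A
      ((1 : T') ⊗ₜ[T] x) = Algebra.TensorProduct.map τ (AlgHom.id R A) x := by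
    intro x
    induction x using TensorProduct.induction_on with
    | zero => simp
    | tmul t a =>
      show (Algebra.TensorProduct.cancelBaseChange R T T' T' A) (1 ⊗ₜ[T] (t ⊗ₜ[R] a)) = _
      rw [Algebra.TensorProduct.cancelBaseChange_tmul, Algebra.TensorProduct.map_tmul,
        Algebra.smul_def, mul_one]
      rfl
    | add x y hx hy => rw [TensorProduct.tmul_add, map_add, map_add, hx, hy]
  rwa [h3] at h2

theorem map_mem_smul_top_semilinear (τ : T →ₐ[R] T') (K : Ideal T) (w : T ⊗[R] A)
    (hw : w ∈ K • (⊤ : Submodule T (T ⊗[R] A))) :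
    Algebra.TensorProduct.map τ (AlgHom.id R A) w ∈
      (K.map (τ : T →+* T')) • (⊤ : Submodule T' (T' ⊗[R] A)) := by
  refine Submodule.smul_induction_on
    (p := fun w => Algebra.TensorProduct.map τ (AlgHom.id R A) w ∈
      (K.map (τ : T →+* T')) • (⊤ : Submodule T' (T' ⊗[R] A))) hw ?_ ?_
  · intro k hk y _
    have h1 : k • y = (k ⊗ₜ[R] (1 : A)) * y := by
      rw [Algebra.smul_def]; rfl
    rw [h1, map_mul, Algebra.TensorProduct.map_tmul, map_one]
    have h2 : ((τ k) ⊗ₜ[R] (1 : A)) * Algebra.TensorProduct.map τ (AlgHom.id R A) y =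
        (τ k) • Algebra.TensorProduct.map τ (AlgHom.id R A) y := by
      rw [Algebra.smul_def]; rfl
    rw [h2]
    exact Submodule.smul_mem_smul (Ideal.mem_map_of_mem _ hk) Submodule.mem_top
  · intro x y hx hy
    rw [map_add]
    exact Submodule.add_mem _ hx hy

theorem map_isNilpotent (τ : T →+* T') {K : Ideal T} (hK : ∀ x ∈ K, IsNilpotent x) :
    ∀ x ∈ K.map τ, IsNilpotent x := by
  intro x hx
  have : K.map τ ≤ nilradical T' := by
    rw [Ideal.map_le_iff_le_comap]
    intro k hk
    exact mem_nilradical.mpr ((hK k hk).map τ)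
  exact mem_nilradical.mp (this hx)

end Transport

section GLm

variable {R : Type u} [CommRing R] {A : Type u} [CommRing A] [Bialgebra R A]
variable (T : Type u) [CommRing T] [Algebra R T]

/-- the canonical map `A ⊗ A → (T ⊗ A) ⊗_T (T ⊗ A)` -/
noncomputable def cmap : A ⊗[R] A →ₗ[R] (T ⊗[R] A) ⊗[T] (T ⊗[R] A) :=
  ((TensorProduct.AlgebraTensorModule.tensorTensorTensorComm R T R T T T A A).toLinearMap.restrictScalars
      R) ∘ₗ (TensorProduct.mk R (T ⊗[T] T) (A ⊗[R] A) ((1 : T) ⊗ₜ[T] (1 : T)))

theorem cmap_tmul (a b : A) : cmap T (a ⊗ₜ[R] b) = ((1 : T) ⊗ₜ[R] a) ⊗ₜ[T] ((1 : T) ⊗ₜ[R] b) := by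
  simp [cmap]

theorem cmap_comul (a : A) :
    cmap T (Coalgebra.comul (R := R) a) = Coalgebra.comul (R := T) ((1 : T) ⊗ₜ[R] a) := by
  rw [TensorProduct.comul_tmul]
  simp [cmap]

theorem cmap_mem (I : Ideal R) (z : A ⊗[R] A) (hz : z ∈ I • (⊤ : Submodule R (A ⊗[R] A))) :
    cmap T z ∈ (I.map (algebraMap R T)) • (⊤ : Submodule T ((T ⊗[R] A) ⊗[T] (T ⊗[R] A))) := by
  refine Submodule.smul_induction_on
    (p := fun z => cmap T z ∈ (I.map (algebraMap R T)) •
      (⊤ : Submodule T ((T ⊗[R] A) ⊗[T] (T ⊗[R] A)))) hz ?_ ?_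
  · intro i hi y _
    rw [map_smul, ← algebraMap_smul T i (cmap T y)]
    exact Submodule.smul_mem_smul (Ideal.mem_map_of_mem _ hi) Submodule.mem_top
  · intro x y hx hy
    rw [map_add]
    exact Submodule.add_mem _ hx hy

theorem GLmod_one_tmul (I : Ideal R) {a : A} (ha : GLmod R I a) :
    GLmod T (I.map (algebraMap R T)) ((1 : T) ⊗ₜ[R] a) := by
  constructor
  · have h1 := cmap_mem T I _ ha.1
    rwa [map_sub, cmap_comul, cmap_tmul] at h1
  · rw [TensorProduct.counit_tmul]
    have h2 : Coalgebra.counit (R := R) a • Coalgebra.counit (R := T) (1 : T) - 1 =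
        algebraMap R T (Coalgebra.counit (R := R) a - 1) := by
      rw [Bialgebra.counit_one, Algebra.smul_def, mul_one, map_sub, map_one]
    rw [h2]
    exact Ideal.mem_map_of_mem _ ha.2

end GLm

end Groth.Agent.Lib.Helper66.DN2
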