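import Mathlib
import Groth.Agent.Lib.Helper40.Amitsur
import Groth.Agent.Lib.Helper66.DN2

/-! Split families for Hopf algebras of multiplicative type: uniqueness and existence of lifts of
group-likes modulo a nil ideal (helper66, for S2970). -/

set_option autoImplicit false
universe u
open TensorProduct

namespace Groth.Agent.Lib.Helper66.DN3
open Groth.Agent.Lib.Helper66.DN1 Groth.Agent.Lib.Helper66.DN2 Groth.Agent.Lib.Helper83.MultRigid

/-- a flat algebra over which the bialgebra becomes a group algebra -/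
structure Splitting (R A : Type u) [CommRing R] [CommRing A] [Bialgebra R A] where
  T : Type u
  [cr : CommRing T]
  [alg : Algebra R T]
  N : Type u
  [grp : CommGroup N]
  e : T ⊗[R] A ≃ₐc[T] MonoidAlgebra T N

attribute [instance] Splitting.cr Splitting.alg Splitting.grp

theorem bialgHom_mem_smul_top {S X Y : Type u} [CommRing S] [CommRing X] [CommRing Y]
    [Bialgebra S X] [Bialgebra S Y] (f : X →ₐc[S] Y) (K : Ideal S) (x : X)
    (hx : x ∈ K • (⊤ : Submodule S X)) : f x ∈ K • (⊤ : Submodule S Y) := by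
  refine Submodule.smul_induction_on (p := fun x => f x ∈ K • (⊤ : Submodule S Y)) hx ?_ ?_
  · intro k hk y _
    rw [map_smul]
    exact Submodule.smul_mem_smul hk Submodule.mem_top
  · intro x y hx hy
    rw [map_add]
    exact Submodule.add_mem _ hx hy

theorem GLmod_map {S X Y : Type u} [CommRing S] [CommRing X] [CommRing Y]
    [Bialgebra S X] [Bialgebra S Y] (f : X →ₐc[S] Y) {K : Ideal S} {x : X}
    (h : GLmod S K x) : GLmod S K (f x) := by
  constructor
  · have h1 := map_mem_smul_top (TensorProduct.map (f : X →ₗ[S] Y) (f : X →ₗ[S] Y)) K _ h.1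
    rw [map_sub, TensorProduct.map_tmul] at h1
    have h2 : TensorProduct.map (f : X →ₗ[S] Y) (f : X →ₗ[S] Y)
        (Coalgebra.comul (R := S) x) = Coalgebra.comul (R := S) (f x) :=
      CoalgHomClass.map_comp_comul_apply f x
    rw [h2] at h1
    exact h1
  · rw [CoalgHomClass.counit_comp_apply]
    exact h.2

/-- reduction of `1 ⊗ x` modulo `K` vanishes if `1 ⊗ x` lies in `K (T ⊗ N)` -/
theorem tmul_mkQ_eq_zero {R : Type u} [CommRing R] (T : Type u) [CommRing T] [Algebra R T]
    (N : Type u) [AddCommGroup N] [Module R N] (K : Ideal R) (x : N)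
    (h : (1 : T) ⊗ₜ[R] x ∈ (K.map (algebraMap R T)) • (⊤ : Submodule T (T ⊗[R] N))) :
    (1 : T) ⊗ₜ[R] (K • (⊤ : Submodule R N)).mkQ x = 0 := by
  let P : Submodule R N := K • (⊤ : Submodule R N)
  let g : T ⊗[R] N →ₗ[T] T ⊗[R] (N ⧸ P) := LinearMap.baseChange T P.mkQ
  have hann : K.map (algebraMap R T) ≤ Module.annihilator T (T ⊗[R] (N ⧸ P)) := by
    rw [Ideal.map_le_iff_le_comap]
    intro k hk
    rw [Ideal.mem_comap, Module.mem_annihilator]
    intro z
    induction z using TensorProduct.induction_on with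
    | zero => simp
    | tmul s q =>
      obtain ⟨n, rfl⟩ := P.mkQ_surjective q
      rw [TensorProduct.smul_tmul', Algebra.algebraMap_eq_smul_one, smul_assoc, one_smul,
        TensorProduct.smul_tmul, ← map_smul]
      have : P.mkQ (k • n) = 0 := by
        rw [Submodule.mkQ_apply, Submodule.Quotient.mk_eq_zero]
        exact Submodule.smul_mem_smul hk Submodule.mem_top
      rw [this, TensorProduct.tmul_zero]
    | add a b ha hb => rw [smul_add, ha, hb, add_zero]
  have hg : ∀ y ∈ (K.map (algebraMap R T)) • (⊤ : Submodule T (T ⊗[R] N)), g y = 0 := by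
    intro y hy
    refine Submodule.smul_induction_on (p := fun y => g y = 0) hy ?_ ?_
    · intro k' hk' y _
      rw [map_smul]
      exact Module.mem_annihilator.mp (hann hk') _
    · intro a b ha hb
      rw [map_add, ha, hb, add_zero]
  have h1 := hg _ h
  have h2 : g ((1 : T) ⊗ₜ[R] x) = (1 : T) ⊗ₜ[R] P.mkQ x := LinearMap.baseChange_tmul _ _ _
  rw [h2] at h1
  exact h1

section Family

variable {R : Type u} [CommRing R] {A : Type u} [CommRing A] [Bialgebra R A]
variable {J : Type u} [Fintype J] (σ : J → Splitting R A)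
variable [Module.FaithfullyFlat R (∀ j, (σ j).T)]

theorem eq_zero_of_forall_tmul {M : Type u} [AddCommGroup M] [Module R M] (x : M)
    (h : ∀ j, (1 : (σ j).T) ⊗ₜ[R] x = 0) : x = 0 := by
  classical
  rw [← Module.FaithfullyFlat.one_tmul_eq_zero_iff R M (A := ∀ j, (σ j).T)]
  have h1 : (1 : ∀ j, (σ j).T) = ∑ j, Pi.single j 1 := (Finset.univ_sum_single _).symm
  rw [h1, TensorProduct.sum_tmul]
  refine Finset.sum_eq_zero fun j _ => ?_
  have h2 : (Pi.single j (1 : (σ j).T) : ∀ j, (σ j).T) ⊗ₜ[R] x =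
      (LinearMap.rTensor M (LinearMap.single R (fun j => (σ j).T) j)) ((1 : (σ j).T) ⊗ₜ x) := rfl
  rw [h2, h j, map_zero]

theorem assoc_map_includeRight {T R' : Type u} [CommRing T] [Algebra R T] [CommRing R']
    [Algebra R R'] (y : R' ⊗[R] A) :
    TensorProduct.assoc R T R' A
      (Algebra.TensorProduct.map (Algebra.TensorProduct.includeRight : R' →ₐ[R] T ⊗[R] R')
        (AlgHom.id R A) y) = (1 : T) ⊗ₜ[R] y := by
  induction y using TensorProduct.induction_on with
  | zero => simp
  | tmul r a => simp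
  | add x y hx hy => rw [map_add, map_add, hx, hy, TensorProduct.tmul_add]

include σ in
/-- uniqueness of group-likes modulo a nil ideal, over any base change -/
theorem groupLike_eq (R' : Type u) [CommRing R'] [Algebra R R'] {K' : Ideal R'}
    (hK' : ∀ x ∈ K', IsNilpotent x) {y₁ y₂ : R' ⊗[R] A} (h₁ : IsGroupLikeElem R' y₁)
    (h₂ : IsGroupLikeElem R' y₂)
    (hc : y₁ - y₂ ∈ K' • (⊤ : Submodule R' (R' ⊗[R] A))) : y₁ = y₂ := by
  rw [← sub_eq_zero]
  apply eq_zero_of_forall_tmul σ
  intro j
  let τ : R' →ₐ[R] (σ j).T ⊗[R] R' := Algebra.TensorProduct.includeRight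
  have hz₁ := isGroupLikeElem_map (A := A) τ h₁
  have hz₂ := isGroupLikeElem_map (A := A) τ h₂
  let E := EHom (σ j).e ((σ j).T ⊗[R] R')
  have hE : E (Algebra.TensorProduct.map τ (AlgHom.id R A) y₁) =
      E (Algebra.TensorProduct.map τ (AlgHom.id R A) y₂) := by
    refine DN1.groupLike_eq (map_isNilpotent (τ : R' →+* (σ j).T ⊗[R] R') hK')
      (hz₁.map E) (hz₂.map E) ?_
    rw [← map_sub, ← map_sub]
    exact bialgHom_mem_smul_top E _ _ (map_mem_smul_top_semilinear τ K' _ hc)
  have hz := EHom_injective (σ j).e ((σ j).T ⊗[R] R') hE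
  rw [← assoc_map_includeRight (T := (σ j).T), map_sub, hz, sub_self, map_zero]

include σ in
theorem mem_smul_top_of_forall (I : Ideal R) (x : A)
    (h : ∀ j, (1 : (σ j).T) ⊗ₜ[R] x ∈
      (I.map (algebraMap R (σ j).T)) • (⊤ : Submodule (σ j).T ((σ j).T ⊗[R] A))) :
    x ∈ I • (⊤ : Submodule R A) := by
  have h1 : (I • (⊤ : Submodule R A)).mkQ x = 0 :=
    eq_zero_of_forall_tmul σ _ (fun j => tmul_mkQ_eq_zero (σ j).T A I x (h j))
  rwa [Submodule.mkQ_apply, Submodule.Quotient.mk_eq_zero] at h1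

theorem one_tmul_eq_zero_of_cmap {T : Type u} [CommRing T] [Algebra R T] (z : A ⊗[R] A)
    (h : cmap T z = 0) : (1 : T) ⊗ₜ[R] z = 0 := by
  have h1 : ((1 : T) ⊗ₜ[T] (1 : T)) ⊗ₜ[R] z = 0 := by
    apply (TensorProduct.AlgebraTensorModule.tensorTensorTensorComm R T R T T T A A).injective
    rw [map_zero]
    exact h
  have h2 := congrArg (LinearMap.rTensor (A ⊗[R] A)
    ((TensorProduct.lid T T).toLinearMap.restrictScalars R)) h1
  rw [map_zero] at h2
  simpa using h2

include σ in
theorem isGroupLikeElem_of_forall (g : A)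
    (h : ∀ j, IsGroupLikeElem (σ j).T ((1 : (σ j).T) ⊗ₜ[R] g)) : IsGroupLikeElem R g := by
  constructor
  · rw [← sub_eq_zero]
    apply eq_zero_of_forall_tmul σ
    intro j
    have h1 := (h j).counit_eq_one
    rw [TensorProduct.counit_tmul, Bialgebra.counit_one] at h1
    apply (TensorProduct.rid R (σ j).T).injective
    rw [TensorProduct.rid_tmul, map_zero, sub_smul, one_smul, h1, sub_self]
  · rw [← sub_eq_zero]
    apply eq_zero_of_forall_tmul σ
    intro j
    apply one_tmul_eq_zero_of_cmap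
    rw [map_sub, cmap_comul, cmap_tmul, (h j).comul_eq_tmul_self, sub_self]

theorem map_one_tmul {T T' : Type u} [CommRing T] [CommRing T'] [Algebra R T] [Algebra R T']
    (τ : T →ₐ[R] T') (a : A) :
    Algebra.TensorProduct.map τ (AlgHom.id R A) ((1 : T) ⊗ₜ[R] a) = (1 : T') ⊗ₜ[R] a := by
  rw [Algebra.TensorProduct.map_tmul, map_one]
  rfl

theorem map_sub_mem {T T' : Type u} [CommRing T] [CommRing T'] [Algebra R T] [Algebra R T']
    (τ : T →ₐ[R] T') (I : Ideal R) (x : T ⊗[R] A) (a : A)
    (h : x - (1 : T) ⊗ₜ[R] a ∈ (I.map (algebraMap R T)) • (⊤ : Submodule T (T ⊗[R] A))) :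
    Algebra.TensorProduct.map τ (AlgHom.id R A) x - (1 : T') ⊗ₜ[R] a ∈
      (I.map (algebraMap R T')) • (⊤ : Submodule T' (T' ⊗[R] A)) := by
  have h1 := map_mem_smul_top_semilinear τ _ _ h
  rw [map_sub, map_one_tmul, Ideal.map_map] at h1
  have h2 : (τ : T →+* T').comp (algebraMap R T) = algebraMap R T' := by
    ext r
    exact τ.commutes r
  rwa [h2] at h1

include σ in
/-- existence of lifts of group-likes modulo a nil ideal -/
theorem exists_lift {I : Ideal R} (hI : ∀ x ∈ I, IsNilpotent x) {a : A} (ha : GLmod R I a) :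
    ∃ g : A, IsGroupLikeElem R g ∧ g - a ∈ I • (⊤ : Submodule R A) := by
  classical
  have hx : ∀ j, ∃ x : (σ j).T ⊗[R] A, IsGroupLikeElem (σ j).T x ∧
      x - (1 : (σ j).T) ⊗ₜ[R] a ∈
        (I.map (algebraMap R (σ j).T)) • (⊤ : Submodule (σ j).T ((σ j).T ⊗[R] A)) := by
    intro j
    have h1 := GLmod_one_tmul (σ j).T I ha
    have h2 := GLmod_map (σ j).e.toBialgHom h1
    obtain ⟨γ, hγ, hγa⟩ := DN1.exists_groupLike
      (map_isNilpotent (algebraMap R (σ j).T) hI) _ h2
    refine ⟨(σ j).e.symm γ, hγ.map (σ j).e.symm, ?_⟩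
    have h3 := bialgHom_mem_smul_top (σ j).e.symm.toBialgHom _ _ hγa
    rw [map_sub] at h3
    have h4 : (σ j).e.symm.toBialgHom ((σ j).e.toBialgHom
        ((1 : (σ j).T) ⊗ₜ[R] a)) = (1 : (σ j).T) ⊗ₜ[R] a := (σ j).e.symm_apply_apply _
    rw [h4] at h3
    exact h3
  choose x hxg hxa using hx
  -- the cocycle condition
  have hcoc : ∀ j h,
      Algebra.TensorProduct.map (Algebra.TensorProduct.includeLeft :
        (σ j).T →ₐ[R] (σ j).T ⊗[R] (σ h).T) (AlgHom.id R A) (x j) =
      Algebra.TensorProduct.map (Algebra.TensorProduct.includeRight :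
        (σ h).T →ₐ[R] (σ j).T ⊗[R] (σ h).T) (AlgHom.id R A) (x h) := by
    intro j h
    refine groupLike_eq σ ((σ j).T ⊗[R] (σ h).T)
      (map_isNilpotent (algebraMap R ((σ j).T ⊗[R] (σ h).T)) hI)
      (isGroupLikeElem_map _ (hxg j)) (isGroupLikeElem_map _ (hxg h)) ?_
    have h1 := map_sub_mem (Algebra.TensorProduct.includeLeft :
        (σ j).T →ₐ[R] (σ j).T ⊗[R] (σ h).T) I _ a (hxa j)
    have h2 := map_sub_mem (Algebra.TensorProduct.includeRight :
        (σ h).T →ₐ[R] (σ j).T ⊗[R] (σ h).T) I _ a (hxa h)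
    have h3 := Submodule.sub_mem _ h1 h2
    rwa [sub_sub_sub_cancel_right] at h3
  -- descent along the product
  let P := ∀ j, (σ j).T
  let xP : P ⊗[R] A := ∑ j, LinearMap.rTensor A (LinearMap.single R (fun j => (σ j).T) j) (x j)
  let Λ : ∀ j h, ((σ j).T ⊗[R] (σ h).T) ⊗[R] A →ₗ[R] (P ⊗[R] P) ⊗[R] A := fun j h =>
    LinearMap.rTensor A (TensorProduct.map (LinearMap.single R (fun j => (σ j).T) j)
      (LinearMap.single R (fun j => (σ j).T) h))
  have hone : (1 : P) = ∑ j, LinearMap.single R (fun j => (σ j).T) j 1 :=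
    (Finset.univ_sum_single (1 : P)).symm
  have hL : ∀ j (w : (σ j).T ⊗[R] A),
      LinearMap.rTensor A (Algebra.TensorProduct.includeLeft : P →ₐ[R] P ⊗[R] P).toLinearMap
        (LinearMap.rTensor A (LinearMap.single R (fun j => (σ j).T) j) w) =
      ∑ h, Λ j h (Algebra.TensorProduct.map (Algebra.TensorProduct.includeLeft :
        (σ j).T →ₐ[R] (σ j).T ⊗[R] (σ h).T) (AlgHom.id R A) w) := by
    intro j w
    induction w using TensorProduct.induction_on with
    | zero => simp
    | tmul t b =>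
      simp only [LinearMap.rTensor_tmul, AlgHom.toLinearMap_apply,
        Algebra.TensorProduct.includeLeft_apply, Algebra.TensorProduct.map_tmul, AlgHom.coe_id,
        id_eq, Λ, TensorProduct.map_tmul, LinearMap.coe_single]
      rw [← TensorProduct.sum_tmul, ← TensorProduct.tmul_sum]
      rw [← hone]
      rfl
    | add w₁ w₂ h₁ h₂ =>
      simp only [map_add, h₁, h₂, Finset.sum_add_distrib]
  have hR : ∀ h (w : (σ h).T ⊗[R] A),
      LinearMap.rTensor A (Algebra.TensorProduct.includeRight : P →ₐ[R] P ⊗[R] P).toLinearMap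
        (LinearMap.rTensor A (LinearMap.single R (fun j => (σ j).T) h) w) =
      ∑ j, Λ j h (Algebra.TensorProduct.map (Algebra.TensorProduct.includeRight :
        (σ h).T →ₐ[R] (σ j).T ⊗[R] (σ h).T) (AlgHom.id R A) w) := by
    intro h w
    induction w using TensorProduct.induction_on with
    | zero => simp
    | tmul t b =>
      simp only [LinearMap.rTensor_tmul, AlgHom.toLinearMap_apply,
        Algebra.TensorProduct.includeRight_apply, Algebra.TensorProduct.map_tmul, AlgHom.coe_id,
        id_eq, Λ, TensorProduct.map_tmul, LinearMap.coe_single]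
      rw [← TensorProduct.sum_tmul, ← TensorProduct.sum_tmul]
      rw [← hone]
      rfl
    | add w₁ w₂ h₁ h₂ =>
      simp only [map_add, h₁, h₂, Finset.sum_add_distrib]
  have hd : Groth.Agent.Lib.Helper40.Amitsur.dmap R P A xP = 0 := by
    have e1 : LinearMap.rTensor A
        (Algebra.TensorProduct.includeLeft : P →ₐ[R] P ⊗[R] P).toLinearMap xP =
        ∑ j, ∑ h, Λ j h (Algebra.TensorProduct.map (Algebra.TensorProduct.includeLeft :
          (σ j).T →ₐ[R] (σ j).T ⊗[R] (σ h).T) (AlgHom.id R A) (x j)) := by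
      simp only [xP, map_sum]
      exact Finset.sum_congr rfl (fun j _ => hL j (x j))
    have e2 : LinearMap.rTensor A
        (Algebra.TensorProduct.includeRight : P →ₐ[R] P ⊗[R] P).toLinearMap xP =
        ∑ j, ∑ h, Λ j h (Algebra.TensorProduct.map (Algebra.TensorProduct.includeRight :
          (σ h).T →ₐ[R] (σ j).T ⊗[R] (σ h).T) (AlgHom.id R A) (x h)) := by
      simp only [xP, map_sum]
      rw [Finset.sum_comm]
      exact Finset.sum_congr rfl (fun h _ => hR h (x h))
    rw [Groth.Agent.Lib.Helper40.Amitsur.dmap, LinearMap.sub_apply, e1, e2, sub_eq_zero]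
    refine Finset.sum_congr rfl fun j _ => Finset.sum_congr rfl fun h _ => ?_
    rw [hcoc j h]
  obtain ⟨g, hg⟩ := (Groth.Agent.Lib.Helper40.Amitsur.exact_mk_dmap R P A xP).mp hd
  have hgj : ∀ j, (1 : (σ j).T) ⊗ₜ[R] g = x j := by
    intro j
    have h1 := congrArg (LinearMap.rTensor A (LinearMap.proj (R := R) (φ := fun j => (σ j).T) j)) hg
    rw [TensorProduct.mk_apply, LinearMap.rTensor_tmul] at h1
    simp only [xP, map_sum] at h1
    rw [Finset.sum_eq_single j] at h1
    · rw [← LinearMap.comp_apply, ← LinearMap.rTensor_comp, LinearMap.proj_comp_single_same,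
        LinearMap.rTensor_id, LinearMap.id_apply] at h1
      exact h1
    · intro h _ hne
      rw [← LinearMap.comp_apply, ← LinearMap.rTensor_comp,
        LinearMap.proj_comp_single_ne _ _ _ _ hne.symm, LinearMap.rTensor_zero,
        LinearMap.zero_apply]
    · intro h; exact absurd (Finset.mem_univ j) h
  refine ⟨g, isGroupLikeElem_of_forall σ g (fun j => by rw [hgj j]; exact hxg j), ?_⟩
  apply mem_smul_top_of_forall σ I
  intro j
  rw [TensorProduct.tmul_sub, hgj j]
  exact hxa j

end Family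

end Groth.Agent.Lib.Helper66.DN3
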