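import Mathlib
import Groth.Agent.Lib.Helper66.DN3
import Groth.Agent.Lib.Helper75.DiagConn2

/-! Families of group-likes in a group algebra that are independent and spanning modulo a nil
ideal are a basis (helper66, for S2970). -/

set_option autoImplicit false
universe u
open TensorProduct

namespace Groth.Agent.Lib.Helper66.DN4
open Groth.Agent.Lib.Helper66.DN1 Groth.Agent.Lib.Helper66.DN2 Groth.Agent.Lib.Helper66.DN3
open Groth.Agent.Lib.Helper83.MultRigid Groth.Agent.Lib.Helper75.DiagConn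

section PartA

variable {T : Type u} [CommRing T] {N : Type u} [CommGroup N] {M : Type u}
  (γ : M → MonoidAlgebra T N) (hγ : ∀ m, IsGroupLikeElem T (γ m))
  {K : Ideal T} (hK : ∀ x ∈ K, IsNilpotent x)
  (H1 : ∀ m m', m ≠ m' → ∀ t : T, t • (γ m - γ m') = 0 → t ∈ K)
include hγ hK H1

theorem orth (m m' : M) (h : m ≠ m') (n : N) : (γ m).coeff n * (γ m').coeff n = 0 := by
  have hid : IsIdempotentElem ((γ m).coeff n * (γ m').coeff n) := by
    have h1 := coeff_mul_self (hγ m) n
    have h2 := coeff_mul_self (hγ m') n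
    show _ * _ = _
    linear_combination (γ m').coeff n * (γ m').coeff n * h1 + (γ m).coeff n * h2
  refine DN1.idem_eq_zero hK hid (H1 m m' h _ ?_)
  apply MonoidAlgebra.coeff_injective
  ext n'
  simp only [MonoidAlgebra.coeff_smul_apply, MonoidAlgebra.coeff_sub, Finsupp.sub_apply,
    smul_eq_mul, MonoidAlgebra.coeff_zero, Finsupp.zero_apply]
  by_cases hmn : n = n'
  · subst hmn
    have h1 := coeff_mul_self (hγ m) n
    have h2 := coeff_mul_self (hγ m') n
    linear_combination (γ m').coeff n * h1 - (γ m).coeff n * h2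
  · have h1 := coeff_mul_of_ne (hγ m) hmn
    have h2 := coeff_mul_of_ne (hγ m') hmn
    linear_combination (γ m').coeff n * h1 - (γ m).coeff n * h2

theorem indep (s : Finset M) (c : M → T) (hc : ∑ i ∈ s, c i • γ i = 0) (j : M) (hj : j ∈ s) :
    c j = 0 := by
  classical
  have hm : ∀ n : N, c j * (γ j).coeff n = 0 := by
    intro n
    have h1 := congrArg (fun z : MonoidAlgebra T N => z.coeff n) hc
    simp only [MonoidAlgebra.coeff_sum, Finsupp.coe_finsetSum, Finset.sum_apply,
      MonoidAlgebra.coeff_smul_apply, smul_eq_mul, MonoidAlgebra.coeff_zero,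
      Finsupp.zero_apply] at h1
    have h2 : (∑ i ∈ s, c i * (γ i).coeff n) * (γ j).coeff n = c j * (γ j).coeff n := by
      rw [Finset.sum_mul, Finset.sum_eq_single j]
      · rw [mul_assoc, coeff_mul_self (hγ j)]
      · intro i _ hij
        rw [mul_assoc, orth γ hγ hK H1 i j hij, mul_zero]
      · intro h; exact absurd hj h
    rw [← h2, h1, zero_mul]
  have hsum := sum_coeff (hγ j)
  have : c j = c j * (γ j).coeff.sum (fun _ r => r) := by rw [hsum, mul_one]
  rw [this, Finsupp.sum, Finset.mul_sum]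
  exact Finset.sum_eq_zero fun n _ => hm n

theorem coeff_smul_eq (m : M) (n : N) :
    (γ m).coeff n • γ m = (γ m).coeff n • MonoidAlgebra.single n (1 : T) := by
  classical
  apply MonoidAlgebra.coeff_injective
  ext n'
  simp only [MonoidAlgebra.coeff_smul_apply, smul_eq_mul, MonoidAlgebra.coeff_single]
  by_cases hmn : n = n'
  · subst hmn
    rw [Finsupp.single_eq_same, mul_one, coeff_mul_self (hγ m)]
  · rw [Finsupp.single_eq_of_ne' hmn, mul_zero, coeff_mul_of_ne (hγ m) hmn]

theorem single_mem_span (n : N)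
    (H2 : MonoidAlgebra.single n (1 : T) ∈
      Submodule.span T (Set.range γ) ⊔ K • (⊤ : Submodule T (MonoidAlgebra T N))) :
    MonoidAlgebra.single n (1 : T) ∈ Submodule.span T (Set.range γ) := by
  classical
  obtain ⟨w, hw, z, hz, hwz⟩ := Submodule.mem_sup.mp H2
  obtain ⟨d, hd⟩ := (Finsupp.mem_span_range_iff_exists_finsupp).mp hw
  -- coefficient at n
  have h1 := congrArg (fun y : MonoidAlgebra T N => y.coeff n) hwz
  simp only [MonoidAlgebra.coeff_add, Finsupp.add_apply, MonoidAlgebra.coeff_single,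
    Finsupp.single_eq_same] at h1
  have hzn : z.coeff n ∈ K := coeff_mem_of_mem_smul_top K z hz n
  have hwn : w.coeff n = ∑ m ∈ d.support, d m * (γ m).coeff n := by
    rw [← hd, Finsupp.sum]
    simp only [MonoidAlgebra.coeff_sum, Finsupp.coe_finsetSum, Finset.sum_apply,
      MonoidAlgebra.coeff_smul_apply, smul_eq_mul]
  set u := ∑ m ∈ d.support, d m * (γ m).coeff n with hu
  have huu : IsUnit u := by
    have : u = 1 - z.coeff n := by rw [← h1, hwn]; ring
    rw [this]
    exact (hK _ hzn).isUnit_one_sub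
  set E := ∑ m ∈ d.support, (γ m).coeff n with hE
  have hEu : E * u = u := by
    rw [hu, Finset.mul_sum]
    refine Finset.sum_congr rfl fun m hm => ?_
    rw [hE, Finset.sum_mul, Finset.sum_eq_single m]
    · have := coeff_mul_self (hγ m) n
      linear_combination d m * this
    · intro m' _ hne
      have := orth γ hγ hK H1 m' m hne n
      linear_combination d m * this
    · intro h; exact absurd hm h
  have hE1 : E = 1 := by
    have h2 : (E - 1) * u = 0 := by rw [sub_mul, hEu, one_mul, sub_self]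
    have h3 := (huu.mul_left_eq_zero).mp h2
    exact sub_eq_zero.mp h3
  have h4 : MonoidAlgebra.single n (1 : T) = ∑ m ∈ d.support, (γ m).coeff n • γ m := by
    rw [Finset.sum_congr rfl (fun m _ => coeff_smul_eq γ hγ hK H1 m n), ← Finset.sum_smul, ← hE,
      hE1, one_smul]
  rw [h4]
  exact Submodule.sum_mem _ fun m _ =>
    Submodule.smul_mem _ _ (Submodule.subset_span (Set.mem_range_self m))

end PartA

section PartB

variable {R : Type u} [CommRing R] {A : Type u} [CommRing A] [Bialgebra R A]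

theorem one_tmul_smul (T : Type u) [CommRing T] [Algebra R T] (r : R) (a : A) :
    (1 : T) ⊗ₜ[R] (r • a) = (algebraMap R T r) • ((1 : T) ⊗ₜ[R] a) := by
  rw [TensorProduct.tmul_smul, TensorProduct.smul_tmul', TensorProduct.smul_tmul', smul_eq_mul,
    mul_one, Algebra.smul_def, mul_one]

theorem one_tmul_mem_smul_top (T : Type u) [CommRing T] [Algebra R T] (I : Ideal R) (z : A)
    (hz : z ∈ I • (⊤ : Submodule R A)) :
    (1 : T) ⊗ₜ[R] z ∈ (I.map (algebraMap R T)) • (⊤ : Submodule T (T ⊗[R] A)) := by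
  refine Submodule.smul_induction_on
    (p := fun z => (1 : T) ⊗ₜ[R] z ∈ (I.map (algebraMap R T)) • (⊤ : Submodule T (T ⊗[R] A)))
    hz ?_ ?_
  · intro i hi y _
    rw [one_tmul_smul]
    exact Submodule.smul_mem_smul (Ideal.mem_map_of_mem _ hi) Submodule.mem_top
  · intro x y hx hy
    rw [TensorProduct.tmul_add]
    exact Submodule.add_mem _ hx hy

variable (I : Ideal R) {M : Type u} [CommGroup M]
  (e₀ : (R ⧸ I) ⊗[R] A ≃ₐc[R ⧸ I] MonoidAlgebra (R ⧸ I) M)
  (g : M → A)
  (hg0 : ∀ m, e₀ ((1 : R ⧸ I) ⊗ₜ[R] g m) = MonoidAlgebra.single m 1)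
include hg0

/-- the annihilator of a difference of two lifts lies in `I` -/
theorem ann_le (m m' : M) (h : m ≠ m') (r : R) (hr : r • (g m - g m') = 0) : r ∈ I := by
  classical
  have h1 := congrArg (fun a => e₀ ((1 : R ⧸ I) ⊗ₜ[R] a)) hr
  simp only [one_tmul_smul, map_smul, TensorProduct.tmul_sub, map_sub, hg0,
    TensorProduct.tmul_zero, map_zero] at h1
  have h2 := congrArg (fun z : MonoidAlgebra (R ⧸ I) M => z.coeff m) h1
  simp only [MonoidAlgebra.coeff_smul_apply, MonoidAlgebra.coeff_sub, Finsupp.sub_apply,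
    MonoidAlgebra.coeff_single, Finsupp.single_eq_same, Finsupp.single_eq_of_ne' h.symm,
    smul_eq_mul, sub_zero, mul_one, MonoidAlgebra.coeff_zero, Finsupp.zero_apply] at h2
  exact Ideal.Quotient.eq_zero_iff_mem.mp h2

/-- the lifts span modulo `I` -/
theorem exists_sub_mem (a : A) :
    ∃ c : M →₀ R, a - c.sum (fun m r => r • g m) ∈ I • (⊤ : Submodule R A) := by
  classical
  set y := e₀ ((1 : R ⧸ I) ⊗ₜ[R] a) with hy
  obtain ⟨c, hc⟩ := Finsupp.mapRange_surjective (Ideal.Quotient.mk I) (map_zero _)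
    Ideal.Quotient.mk_surjective y.coeff
  refine ⟨c, ?_⟩
  apply sub_mem_smul_top_of_tmul_eq
  refine EquivLike.injective e₀ ?_
  rw [← hy]
  apply MonoidAlgebra.coeff_injective
  ext m₀
  rw [← hc, Finsupp.mapRange_apply, Finsupp.sum, TensorProduct.tmul_sum, map_sum]
  simp only [one_tmul_smul, map_smul, hg0, MonoidAlgebra.coeff_sum, Finsupp.coe_finsetSum,
    Finset.sum_apply, MonoidAlgebra.coeff_smul_apply, MonoidAlgebra.coeff_single, smul_eq_mul]
  rw [Finset.sum_eq_single m₀]
  · rw [Finsupp.single_eq_same, mul_one]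
    rfl
  · intro m _ hne
    rw [Finsupp.single_eq_of_ne' hne, mul_zero]
  · intro h
    rw [Finsupp.notMem_support_iff.mp h, map_zero, zero_mul]

section OverT

variable (T : Type u) [CommRing T] [Algebra R T] [Module.Flat R T] {N : Type u} [CommGroup N]
  (e : T ⊗[R] A ≃ₐc[T] MonoidAlgebra T N)

theorem H1_of (m m' : M) (h : m ≠ m') (t : T)
    (ht : t • (e ((1 : T) ⊗ₜ[R] g m) - e ((1 : T) ⊗ₜ[R] g m')) = 0) :
    t ∈ I.map (algebraMap R T) := by
  have h1 : e (t • ((1 : T) ⊗ₜ[R] (g m - g m'))) = 0 := by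
    rw [map_smul, TensorProduct.tmul_sub, map_sub]
    exact ht
  have h2 : t • ((1 : T) ⊗ₜ[R] (g m - g m')) = 0 := by
    refine EquivLike.injective e ?_
    rw [h1, map_zero]
  have h3 := (smul_one_tmul_eq_zero_iff T (g m - g m') t).mp h2
  refine Ideal.map_mono ?_ h3
  intro r hr
  exact ann_le I e₀ g hg0 m m' h r ((mem_ann _ r).mp hr)

theorem H2_of (y : T ⊗[R] A) :
    e y ∈ Submodule.span T (Set.range fun m => e ((1 : T) ⊗ₜ[R] g m)) ⊔
      (I.map (algebraMap R T)) • (⊤ : Submodule T (MonoidAlgebra T N)) := by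
  induction y using TensorProduct.induction_on with
  | zero => rw [map_zero]; exact Submodule.zero_mem _
  | add x y hx hy => rw [map_add]; exact Submodule.add_mem _ hx hy
  | tmul t a =>
    have h0 : t ⊗ₜ[R] a = t • ((1 : T) ⊗ₜ[R] a) := by
      rw [TensorProduct.smul_tmul', smul_eq_mul, mul_one]
    rw [h0, map_smul]
    refine Submodule.smul_mem _ _ ?_
    obtain ⟨c, hc⟩ := exists_sub_mem I e₀ g hg0 a
    have h1 : a = c.sum (fun m r => r • g m) + (a - c.sum (fun m r => r • g m)) := by ring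
    rw [h1, TensorProduct.tmul_add, map_add]
    refine Submodule.add_mem_sup ?_ ?_
    · rw [Finsupp.sum, TensorProduct.tmul_sum, map_sum]
      refine Submodule.sum_mem _ fun m _ => ?_
      rw [one_tmul_smul, map_smul]
      exact Submodule.smul_mem _ _ (Submodule.subset_span (Set.mem_range_self m))
    · exact bialgHom_mem_smul_top e.toBialgHom _ _ (one_tmul_mem_smul_top T I _ hc)

end OverT

end PartB

section PartC

variable {R : Type u} [CommRing R] {A : Type u} [CommRing A] [Bialgebra R A]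
variable {J : Type u} [Fintype J] (σ : J → Splitting R A)
variable [Module.FaithfullyFlat R (∀ j, (σ j).T)] [∀ j, Module.Flat R (σ j).T]

include σ in
theorem groupLike_eq' {I : Ideal R} (hI : ∀ x ∈ I, IsNilpotent x) {x y : A}
    (hx : IsGroupLikeElem R x) (hy : IsGroupLikeElem R y)
    (h : x - y ∈ I • (⊤ : Submodule R A)) : x = y := by
  have h1 := DN3.groupLike_eq σ R hI (y₁ := (1 : R) ⊗ₜ[R] x) (y₂ := (1 : R) ⊗ₜ[R] y)
    (Groth.Agent.Lib.Helper96.BaseChangeBialg.isGroupLikeElem_one_tmul R R A hx)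
    (Groth.Agent.Lib.Helper96.BaseChangeBialg.isGroupLikeElem_one_tmul R R A hy) ?_
  · have h2 := congrArg (TensorProduct.lid R A) h1
    simpa using h2
  · rw [← TensorProduct.tmul_sub]
    have h3 := one_tmul_mem_smul_top R I _ h
    rwa [Algebra.algebraMap_self, Ideal.map_id] at h3

include σ in
theorem algebraMap_eq_zero (r : R) (h : ∀ j, algebraMap R (σ j).T r = 0) : r = 0 := by
  apply eq_zero_of_forall_tmul σ
  intro j
  have h1 : (1 : (σ j).T) ⊗ₜ[R] r = (algebraMap R (σ j).T r) ⊗ₜ[R] (1 : R) := by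
    rw [Algebra.algebraMap_eq_smul_one, TensorProduct.smul_tmul, smul_eq_mul, mul_one]
  rw [h1, h j, TensorProduct.zero_tmul]

include σ in
/-- main assembly: a Hopf algebra split by a faithfully flat finite family, which is
diagonalisable modulo a nil ideal, is diagonalisable -/
theorem exists_bialgEquiv {I : Ideal R} (hI : ∀ x ∈ I, IsNilpotent x) {M : Type u} [CommGroup M]
    (e₀ : (R ⧸ I) ⊗[R] A ≃ₐc[R ⧸ I] MonoidAlgebra (R ⧸ I) M) :
    Nonempty (A ≃ₐc[R] MonoidAlgebra R M) := by
  classical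
  -- lifts of the group-likes
  have hex : ∀ m : M, ∃ g : A, IsGroupLikeElem R g ∧
      e₀ ((1 : R ⧸ I) ⊗ₜ[R] g) = MonoidAlgebra.single m 1 := by
    intro m
    obtain ⟨a, ha⟩ := TensorProduct.mk_surjective R A (R ⧸ I) Ideal.Quotient.mk_surjective
      (e₀.symm (MonoidAlgebra.single m 1))
    rw [TensorProduct.mk_apply] at ha
    have hae : e₀ ((1 : R ⧸ I) ⊗ₜ[R] a) = MonoidAlgebra.single m 1 := by
      rw [ha]; exact e₀.apply_symm_apply _
    have hgl : IsGroupLikeElem (R ⧸ I) ((1 : R ⧸ I) ⊗ₜ[R] a) := by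
      rw [ha]
      exact (MonoidAlgebra.isGroupLikeElem_single_one (R := R ⧸ I) (A := R ⧸ I) m).map e₀.symm
    have hGL : GLmod R I a := by
      constructor
      · have h1 : cmap (R ⧸ I) (Coalgebra.comul (R := R) a - a ⊗ₜ[R] a) = 0 := by
          rw [map_sub, cmap_comul, cmap_tmul, hgl.comul_eq_tmul_self, sub_self]
        have h2 := one_tmul_eq_zero_of_cmap _ h1
        have h3 := sub_mem_smul_top_of_tmul_eq I _ 0 (by rw [h2, TensorProduct.tmul_zero])
        rwa [sub_zero] at h3
      · have h1 := hgl.counit_eq_one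
        rw [TensorProduct.counit_tmul, Bialgebra.counit_one] at h1
        have h2 : Ideal.Quotient.mk I (Coalgebra.counit (R := R) a - 1) = 0 := by
          rw [map_sub, map_one, sub_eq_zero, ← h1, Algebra.smul_def, mul_one]
          rfl
        exact Ideal.Quotient.eq_zero_iff_mem.mp h2
    obtain ⟨g, hg, hga⟩ := DN3.exists_lift σ hI hGL
    refine ⟨g, hg, ?_⟩
    rw [← hae]
    congr 1
    have h5 : (1 : R ⧸ I) ⊗ₜ[R] (g - a) = 0 := by
      apply (TensorProduct.quotTensorEquivQuotSMul A I).injective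
      rw [map_zero, TensorProduct.quotTensorEquivQuotSMul_mk_one_tmul]
      exact (Submodule.Quotient.mk_eq_zero _).mpr hga
    rw [TensorProduct.tmul_sub, sub_eq_zero] at h5
    exact h5
  choose g hg hg0 using hex
  -- multiplicativity
  have hg1 : g 1 = 1 := by
    refine groupLike_eq' σ hI (hg 1) (IsGroupLikeElem.one) ?_
    apply sub_mem_smul_top_of_tmul_eq
    refine EquivLike.injective e₀ ?_
    rw [hg0]
    have : ((1 : R ⧸ I) ⊗ₜ[R] (1 : A)) = (1 : (R ⧸ I) ⊗[R] A) := rfl
    rw [this, map_one, MonoidAlgebra.one_def]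
  have hgmul : ∀ m m', g (m * m') = g m * g m' := by
    intro m m'
    refine groupLike_eq' σ hI (hg _) ((hg m).mul (hg m')) ?_
    apply sub_mem_smul_top_of_tmul_eq
    refine EquivLike.injective e₀ ?_
    have : ((1 : R ⧸ I) ⊗ₜ[R] (g m * g m')) =
        ((1 : R ⧸ I) ⊗ₜ[R] g m) * ((1 : R ⧸ I) ⊗ₜ[R] g m') := by
      rw [Algebra.TensorProduct.tmul_mul_tmul, mul_one]
    rw [this, map_mul, hg0, hg0, hg0, MonoidAlgebra.single_mul_single, mul_one]
  -- the comparison morphism
  let φ : M →* GroupLike R A :=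
    { toFun := fun m => ⟨g m, hg m⟩
      map_one' := GroupLike.ext hg1
      map_mul' := fun m m' => GroupLike.ext (hgmul m m') }
  let θ : MonoidAlgebra R M →ₐc[R] A :=
    (MonoidAlgebra.liftGroupLikeBialgHom (R := R) (A := A)).comp
      (MonoidAlgebra.mapDomainBialgHom R φ)
  have hθ : ∀ m (r : R), θ (MonoidAlgebra.single m r) = r • g m := by
    intro m r
    simp [θ, φ]
  have hθx : ∀ x : MonoidAlgebra R M, θ x = x.coeff.sum (fun m r => r • g m) := by
    intro x
    conv_lhs => rw [← MonoidAlgebra.sum_coeff_single x]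
    rw [Finsupp.sum, map_sum]
    exact Finset.sum_congr rfl fun m _ => hθ m _
  -- the data over each member of the family
  have hγ : ∀ j m, IsGroupLikeElem (σ j).T ((σ j).e ((1 : (σ j).T) ⊗ₜ[R] g m)) := fun j m =>
    (Groth.Agent.Lib.Helper96.BaseChangeBialg.isGroupLikeElem_one_tmul R (σ j).T A (hg m)).map
      (σ j).e
  have hKj : ∀ j, ∀ x ∈ I.map (algebraMap R (σ j).T), IsNilpotent x := fun j =>
    map_isNilpotent (algebraMap R (σ j).T) hI
  have hH1 := fun j => H1_of I e₀ g hg0 (σ j).T (σ j).e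
  have hspan : ∀ j (n : (σ j).N), MonoidAlgebra.single n (1 : (σ j).T) ∈
      Submodule.span (σ j).T (Set.range fun m => (σ j).e ((1 : (σ j).T) ⊗ₜ[R] g m)) := by
    intro j n
    refine single_mem_span _ (hγ j) (hKj j) (hH1 j) n ?_
    have := H2_of I e₀ g hg0 (σ j).T (σ j).e ((σ j).e.symm (MonoidAlgebra.single n 1))
    rwa [(σ j).e.apply_symm_apply] at this
  refine ⟨(BialgEquiv.ofBijective θ ⟨?_, ?_⟩).symm⟩
  · -- injectivity
    rw [injective_iff_map_eq_zero]
    intro x hx
    apply MonoidAlgebra.coeff_injective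
    ext m₀
    rw [MonoidAlgebra.coeff_zero, Finsupp.zero_apply]
    by_cases hm₀ : m₀ ∈ x.coeff.support
    · apply algebraMap_eq_zero σ
      intro j
      have h1 : ∑ m ∈ x.coeff.support, (algebraMap R (σ j).T (x.coeff m)) •
          (σ j).e ((1 : (σ j).T) ⊗ₜ[R] g m) = 0 := by
        have h2 := congrArg (fun a => (σ j).e ((1 : (σ j).T) ⊗ₜ[R] a)) hx
        simp only [hθx, Finsupp.sum, TensorProduct.tmul_sum, map_sum, one_tmul_smul, map_smul,
          TensorProduct.tmul_zero, map_zero] at h2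
        exact h2
      exact indep _ (hγ j) (hKj j) (hH1 j) x.coeff.support
        (fun m => algebraMap R (σ j).T (x.coeff m)) h1 m₀ hm₀
    · exact Finsupp.notMem_support_iff.mp hm₀
  · -- surjectivity
    intro a
    let Rg : Submodule R A := LinearMap.range (θ : MonoidAlgebra R M →ₗ[R] A)
    have hmem : ∀ m, g m ∈ Rg := fun m => ⟨MonoidAlgebra.single m 1, by
      show θ (MonoidAlgebra.single m 1) = g m
      rw [hθ, one_smul]⟩
    have hq : Rg.mkQ a = 0 := by
      apply eq_zero_of_forall_tmul σ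
      intro j
      let B : (σ j).T ⊗[R] A →ₗ[(σ j).T] (σ j).T ⊗[R] (A ⧸ Rg) :=
        LinearMap.baseChange (σ j).T Rg.mkQ
      let W : Submodule (σ j).T (MonoidAlgebra (σ j).T (σ j).N) :=
        LinearMap.ker (B ∘ₗ ((σ j).e.symm : MonoidAlgebra (σ j).T (σ j).N →ₗ[(σ j).T] _))
      have hW1 : Submodule.span (σ j).T
          (Set.range fun m => (σ j).e ((1 : (σ j).T) ⊗ₜ[R] g m)) ≤ W := by
        rw [Submodule.span_le]
        rintro _ ⟨m, rfl⟩
        show B ((σ j).e.symm ((σ j).e ((1 : (σ j).T) ⊗ₜ[R] g m))) = 0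
        rw [(σ j).e.symm_apply_apply]
        show (1 : (σ j).T) ⊗ₜ[R] Rg.mkQ (g m) = 0
        rw [Submodule.mkQ_apply, (Submodule.Quotient.mk_eq_zero _).mpr (hmem m),
          TensorProduct.tmul_zero]
      have hW2 : ∀ y : MonoidAlgebra (σ j).T (σ j).N, y ∈ W := by
        intro y
        rw [← MonoidAlgebra.sum_coeff_single y, Finsupp.sum]
        refine Submodule.sum_mem _ fun n _ => ?_
        have h1 : MonoidAlgebra.single n (y.coeff n) =
            y.coeff n • MonoidAlgebra.single n (1 : (σ j).T) := by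
          rw [MonoidAlgebra.smul_single, smul_eq_mul, mul_one]
        rw [h1]
        exact Submodule.smul_mem _ _ (hW1 (hspan j n))
      have h2 := hW2 ((σ j).e ((1 : (σ j).T) ⊗ₜ[R] a))
      have h3 : B ((σ j).e.symm ((σ j).e ((1 : (σ j).T) ⊗ₜ[R] a))) = 0 := h2
      rw [(σ j).e.symm_apply_apply] at h3
      exact h3
    rw [Submodule.mkQ_apply, Submodule.Quotient.mk_eq_zero] at hq
    obtain ⟨x, hx⟩ := hq
    exact ⟨x, hx⟩

end PartC

end Groth.Agent.Lib.Helper66.DN4
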