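import Mathlib
import Groth.Agent.Lib.Helper66.DN4

/-! A Hopf algebra of multiplicative type over `R` which is diagonalisable modulo a nil ideal is
diagonalisable (helper66, for S2970). -/

set_option autoImplicit false
universe u
open TensorProduct

namespace Groth.Agent.Lib.Helper66.DN5
open Groth.Agent.Lib.Helper66.DN3 Groth.Agent.Lib.Helper66.DN4

section cover
/- light copy of helper3's `faithfullyFlat_pi` (Groth/Agent/Lib/Helper3/AzSplit.lean), to avoid
its import tree -/

variable {R : Type u} [CommRing R] {ι : Type u} [Finite ι] (f : ι → R)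
  (hf : Ideal.span (Set.range f) = ⊤)
  (S : ι → Type u) [∀ i, CommRing (S i)] [∀ i, Algebra R (S i)]
  [∀ i, Algebra (Localization.Away (f i)) (S i)]
  [∀ i, IsScalarTower R (Localization.Away (f i)) (S i)]
  [∀ i, Module.FaithfullyFlat (Localization.Away (f i)) (S i)]

include hf in
theorem faithfullyFlat_pi : Module.FaithfullyFlat R (∀ i, S i) := by
  classical
  haveI := Fintype.ofFinite ι
  haveI : ∀ i, Module.Flat R (S i) := fun i => Module.Flat.trans R (Localization.Away (f i)) (S i)
  haveI : Module.Flat R (∀ i, S i) :=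
    Module.Flat.of_linearEquiv (DirectSum.linearEquivFunOnFintype R ι S).symm
  apply Module.FaithfullyFlat.of_comap_surjective
  intro q
  obtain ⟨i, hi⟩ : ∃ i, f i ∉ q.asIdeal := by
    by_contra h
    push Not at h
    have : Ideal.span (Set.range f) ≤ q.asIdeal := by
      rw [Ideal.span_le]
      rintro _ ⟨i, rfl⟩
      exact h i
    rw [hf, top_le_iff] at this
    exact q.isPrime.ne_top this
  have hdisj : Disjoint (Submonoid.powers (f i) : Set R) (q.asIdeal : Set R) := by
    rw [Set.disjoint_left]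
    rintro _ ⟨m, rfl⟩ hm
    exact hi (q.isPrime.mem_of_pow_mem _ hm)
  let q' : PrimeSpectrum (Localization.Away (f i)) :=
    ⟨q.asIdeal.map (algebraMap R (Localization.Away (f i))),
      IsLocalization.isPrime_of_isPrime_disjoint (Submonoid.powers (f i)) _ _ q.isPrime hdisj⟩
  have hq' : q'.asIdeal.comap (algebraMap R (Localization.Away (f i))) = q.asIdeal :=
    IsLocalization.comap_map_of_isPrime_disjoint (Submonoid.powers (f i)) _ q.isPrime hdisj
  obtain ⟨Q, hQ⟩ := PrimeSpectrum.comap_surjective_of_faithfullyFlat (B := S i) q'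
  refine ⟨⟨Q.asIdeal.comap (Pi.evalRingHom S i), inferInstance⟩, ?_⟩
  ext1
  change (Q.asIdeal.comap (Pi.evalRingHom S i)).comap (algebraMap R (∀ i, S i)) = q.asIdeal
  rw [Ideal.comap_comap]
  have h1 : (Pi.evalRingHom S i).comp (algebraMap R (∀ i, S i)) =
      (algebraMap (Localization.Away (f i)) (S i)).comp (algebraMap R (Localization.Away (f i))) := by
    ext x
    simp only [RingHom.comp_apply, Pi.evalRingHom_apply, Pi.algebraMap_apply]
    exact IsScalarTower.algebraMap_apply R (Localization.Away (f i)) (S i) x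
  rw [h1, ← Ideal.comap_comap, ← hq']
  congr 1
  exact congrArg PrimeSpectrum.asIdeal hQ

end cover

open SGA3b

variable {R : Type u} [CommRing R] {A : Type u} [CommRing A] [HopfAlgebra R A]

theorem exists_splitting (S : Type u) [CommRing S] [Algebra R S]
    (h : IsMultTypeConst S (S ⊗[R] A)) :
    ∃ (σ : Splitting R A) (_ : Algebra S σ.T), IsScalarTower R S σ.T ∧
      Module.FaithfullyFlat S σ.T := by
  obtain ⟨R', cr, alg, hff, M, grp, ⟨e⟩⟩ := h
  let _ : Algebra R R' := ((algebraMap S R').comp (algebraMap R S)).toAlgebra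
  have htow : IsScalarTower R S R' := IsScalarTower.of_algebraMap_eq (fun _ => rfl)
  exact ⟨{ T := R', N := M,
           e := (Groth.Agent.Lib.Helper96.BaseChangeBialg.cbc R S R' A).symm.trans e },
    alg, htow, hff⟩

theorem isDiag_of_isDiag_mod_nil (I : Ideal R) (hI : ∀ x ∈ I, IsNilpotent x)
    (h : IsMultType R A) (h0 : IsDiag (R ⧸ I) ((R ⧸ I) ⊗[R] A)) : IsDiag R A := by
  classical
  obtain ⟨s, hs, hloc⟩ := h
  obtain ⟨s₀, hs₀, hspan⟩ := (Ideal.span_eq_top_iff_finite s).mp hs
  obtain ⟨M, grp, ⟨e₀⟩⟩ := h0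
  have hch : ∀ j : ↥s₀, ∃ (σ : Splitting R A) (_ : Algebra (Localization.Away (j : R)) σ.T),
      IsScalarTower R (Localization.Away (j : R)) σ.T ∧
        Module.FaithfullyFlat (Localization.Away (j : R)) σ.T :=
    fun j => exists_splitting _ (hloc j.1 (hs₀ j.2))
  choose σ alg htow hff using hch
  haveI : Module.FaithfullyFlat R (∀ j, (σ j).T) :=
    faithfullyFlat_pi (fun j : ↥s₀ => (j : R)) (by
        have hr : (Set.range fun j : ↥s₀ => (j : R)) = (s₀ : Set R) := Subtype.range_coe
        rw [hr]; exact hspan)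
      (fun j => (σ j).T)
  haveI : ∀ j, Module.Flat R (σ j).T :=
    fun j => Module.Flat.trans R (Localization.Away (j : R)) (σ j).T
  exact ⟨M, grp, exists_bialgEquiv σ hI e₀⟩

end Groth.Agent.Lib.Helper66.DN5
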