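import Mathlib

/-! Lifting étale algebras along a surjection with nil kernel (helper66, for S2971). -/

set_option autoImplicit false
universe u
open TensorProduct

namespace Groth.Agent.Lib.Helper66.EL1

/-- units lift along a surjection with nil kernel -/
theorem isUnit_of_map {X Y : Type*} [CommRing X] [CommRing Y] (θ : X →+* Y)
    (hθ : Function.Surjective θ) (hker : ∀ x ∈ RingHom.ker θ, IsNilpotent x) (x : X)
    (hx : IsUnit (θ x)) : IsUnit x := by
  obtain ⟨u, hu⟩ := hx.exists_right_inv
  obtain ⟨y, rfl⟩ := hθ u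
  have h1 : x * y - 1 ∈ RingHom.ker θ := by
    rw [RingHom.mem_ker, map_sub, map_mul, hu, map_one, sub_self]
  have h2 : IsUnit (x * y) := by
    have := (hker _ h1).isUnit_add_one
    simpa using this
  exact isUnit_of_mul_isUnit_left h2

section Lift

variable {R Rb : Type u} [CommRing R] [CommRing Rb] [Algebra R Rb]

theorem isNilpotent_of_map_eq_zero (hnil : ∀ x ∈ RingHom.ker (algebraMap R Rb), IsNilpotent x)
    {ι : Type*} (p : MvPolynomial ι R) (hp : MvPolynomial.map (algebraMap R Rb) p = 0) :
    IsNilpotent p := by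
  rw [MvPolynomial.isNilpotent_iff]
  intro n
  apply hnil
  rw [RingHom.mem_ker]
  have := congrArg (MvPolynomial.coeff n) hp
  rwa [MvPolynomial.coeff_map, MvPolynomial.coeff_zero] at this

/-- an étale algebra over a quotient of `R` by a nil ideal lifts to an étale `R`-algebra -/
theorem exists_etale_lift (hsurj : Function.Surjective (algebraMap R Rb))
    (hnil : ∀ x ∈ RingHom.ker (algebraMap R Rb), IsNilpotent x)
    (E : Type u) [CommRing E] [Algebra Rb E] [Algebra R E] [IsScalarTower R Rb E]
    [Algebra.Etale Rb E] :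
    ∃ (E' : Type u) (_ : CommRing E') (_ : Algebra R E') (_ : Algebra E' E)
      (_ : IsScalarTower R E' E), Algebra.Etale R E' ∧ Algebra.FiniteType R E' ∧
        Function.Surjective (algebraMap E' E) ∧
        (∀ x ∈ RingHom.ker (algebraMap E' E), IsNilpotent x) := by
  classical
  obtain ⟨ι, σ, hσ, hι, P, hP⟩ :=
    (Algebra.Etale.iff_isStandardSmoothOfRelativeDimension_zero.mp
      (inferInstance : Algebra.Etale Rb E)).out
  letI : Fintype σ := Fintype.ofFinite σ
  have hms : Function.Surjective
      (MvPolynomial.map (algebraMap R Rb) : MvPolynomial ι R → MvPolynomial ι Rb) :=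
    MvPolynomial.map_surjective _ hsurj
  choose v hv using fun j => hms (P.relation j)
  let I' : Ideal (MvPolynomial ι R) := Ideal.span (Set.range v)
  let φ : MvPolynomial ι R →ₐ[R] E := MvPolynomial.aeval P.val
  have hφ : ∀ p, φ p = MvPolynomial.aeval (R := Rb) P.val
      (MvPolynomial.map (algebraMap R Rb) p) := fun p =>
    (MvPolynomial.aeval_map_algebraMap Rb P.val p).symm
  have hφv : ∀ a ∈ I', φ a = 0 := by
    intro a ha
    refine Submodule.span_induction (p := fun a _ => φ a = 0) ?_ ?_ ?_ ?_ ha
    · rintro _ ⟨j, rfl⟩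
      rw [hφ, hv]
      exact P.aeval_val_relation j
    · exact map_zero _
    · intro x y _ _ hx hy
      rw [map_add, hx, hy, add_zero]
    · intro c x _ hx
      rw [smul_eq_mul, map_mul, hx, mul_zero]
  let θ : (MvPolynomial ι R ⧸ I') →ₐ[R] E := Ideal.Quotient.liftₐ I' φ hφv
  have hθmk : ∀ p, θ (Ideal.Quotient.mk I' p) = φ p := fun p => rfl
  have hθsurj : Function.Surjective θ := by
    intro y
    obtain ⟨q, rfl⟩ := P.aeval_val_surjective y
    obtain ⟨p, rfl⟩ := hms q
    exact ⟨Ideal.Quotient.mk I' p, by rw [hθmk, hφ]⟩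
  have hθker : ∀ x ∈ RingHom.ker (θ : (MvPolynomial ι R ⧸ I') →+* E), IsNilpotent x := by
    intro x hx
    obtain ⟨p, rfl⟩ := Ideal.Quotient.mk_surjective x
    rw [RingHom.mem_ker] at hx
    have hx' : φ p = 0 := hx
    rw [hφ, ← RingHom.mem_ker] at hx'
    have h1 : MvPolynomial.map (algebraMap R Rb) p ∈ P.ker := by
      rw [P.ker_eq_ker_aeval_val]
      exact hx'
    rw [← P.span_range_relation_eq_ker] at h1
    have h2 : Ideal.span (Set.range P.relation) =
        Ideal.map (MvPolynomial.map (algebraMap R Rb)) I' := by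
      rw [Ideal.map_span, ← Set.range_comp]
      congr 2
      funext j
      exact (hv j).symm
    rw [h2] at h1
    obtain ⟨q, hq, hqp⟩ := (Ideal.mem_map_iff_of_surjective _ hms).mp h1
    have h3 : IsNilpotent (p - q) :=
      isNilpotent_of_map_eq_zero hnil (p - q) (by rw [map_sub, hqp, sub_self])
    have h4 : Ideal.Quotient.mk I' p = Ideal.Quotient.mk I' (p - q) := by
      rw [map_sub, Ideal.Quotient.eq_zero_iff_mem.mpr hq, sub_zero]
    rw [h4]
    exact h3.map _
  -- the presentation of the lift
  let P' : Algebra.PreSubmersivePresentation R (MvPolynomial ι R ⧸ I') ι σ :=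
    Algebra.PreSubmersivePresentation.naive (v := v) P.map P.map_inj
  have hjac : θ P'.jacobian = P.jacobian := by
    rw [Algebra.PreSubmersivePresentation.jacobian_eq_jacobiMatrix_det,
      Algebra.PreSubmersivePresentation.jacobian_eq_jacobiMatrix_det]
    have h1 : ∀ p : MvPolynomial ι R, θ (algebraMap P'.Ring (MvPolynomial ι R ⧸ I') p) = φ p := by
      intro p
      rfl
    rw [h1, hφ, ← Algebra.Generators.algebraMap_apply]
    congr 1
    rw [RingHom.map_det]
    congr 1
    ext i j
    rw [RingHom.mapMatrix_apply, Matrix.map_apply,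
      Algebra.PreSubmersivePresentation.jacobiMatrix_naive,
      Algebra.PreSubmersivePresentation.jacobiMatrix_apply, ← hv j, MvPolynomial.pderiv_map]
  have hunit : IsUnit P'.jacobian := by
    refine isUnit_of_map (θ : (MvPolynomial ι R ⧸ I') →+* E) hθsurj hθker _ ?_
    show IsUnit (θ P'.jacobian)
    rw [hjac]
    exact P.jacobian_isUnit
  let P'' : Algebra.SubmersivePresentation R (MvPolynomial ι R ⧸ I') ι σ := ⟨P', hunit⟩
  have hdim : P''.dimension = 0 := hP
  have hst : Algebra.IsStandardSmoothOfRelativeDimension 0 R (MvPolynomial ι R ⧸ I') :=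
    P''.isStandardSmoothOfRelativeDimension hdim
  have het : Algebra.Etale R (MvPolynomial ι R ⧸ I') :=
    Algebra.Etale.iff_isStandardSmoothOfRelativeDimension_zero.mpr hst
  let _ : Algebra (MvPolynomial ι R ⧸ I') E := (θ : (MvPolynomial ι R ⧸ I') →+* E).toAlgebra
  have htow : IsScalarTower R (MvPolynomial ι R ⧸ I') E :=
    IsScalarTower.of_algebraMap_eq (fun r => (θ.commutes r).symm)
  exact ⟨MvPolynomial ι R ⧸ I', inferInstance, inferInstance, inferInstance, htow, het,
    inferInstance, hθsurj, hθker⟩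

end Lift

section Props

variable {R Rb E' E : Type u} [CommRing R] [CommRing Rb] [CommRing E'] [CommRing E]
  [Algebra R Rb] [Algebra Rb E] [Algebra R E] [IsScalarTower R Rb E] [Algebra R E'] [Algebra E' E]
  [IsScalarTower R E' E]

include Rb in
theorem finite_of_lift (hsurj : Function.Surjective (algebraMap R Rb))
    [Algebra.FiniteType R E']
    (hker : ∀ x ∈ RingHom.ker (algebraMap E' E), IsNilpotent x)
    [Module.Finite Rb E] : Module.Finite R E' := by
  have h0 : Module.Finite R Rb := Module.Finite.of_surjective (Algebra.linearMap R Rb) hsurj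
  have h1 : Module.Finite R E := Module.Finite.trans Rb E
  have hint : Algebra.IsIntegral R E' := by
    refine ⟨fun x => ?_⟩
    obtain ⟨p, hpm, hp⟩ := Algebra.IsIntegral.isIntegral (R := R) (algebraMap E' E x)
    have h2 : algebraMap E' E (Polynomial.eval₂ (algebraMap R E') x p) = 0 := by
      rw [Polynomial.hom_eval₂, ← IsScalarTower.algebraMap_eq]
      exact hp
    obtain ⟨N, hN⟩ := hker _ (RingHom.mem_ker.mpr h2)
    refine ⟨p ^ N, hpm.pow N, ?_⟩
    rw [Polynomial.eval₂_pow, hN]
  exact Algebra.IsIntegral.finite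

theorem faithfullyFlat_of_lift (hsurj : Function.Surjective (algebraMap R Rb))
    (hnil : ∀ x ∈ RingHom.ker (algebraMap R Rb), IsNilpotent x)
    [Module.Flat R E'] [Module.FaithfullyFlat Rb E] : Module.FaithfullyFlat R E' := by
  apply Module.FaithfullyFlat.of_comap_surjective
  intro q
  have hle : RingHom.ker (algebraMap R Rb) ≤ q.asIdeal := by
    intro x hx
    obtain ⟨n, hn⟩ := hnil x hx
    exact q.isPrime.mem_of_pow_mem n (by rw [hn]; exact Ideal.zero_mem _)
  have hprime : (q.asIdeal.map (algebraMap R Rb)).IsPrime :=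
    Ideal.map_isPrime_of_surjective hsurj hle
  let qb : PrimeSpectrum Rb := ⟨q.asIdeal.map (algebraMap R Rb), hprime⟩
  have hqb : qb.asIdeal.comap (algebraMap R Rb) = q.asIdeal := by
    show (q.asIdeal.map (algebraMap R Rb)).comap (algebraMap R Rb) = q.asIdeal
    rw [Ideal.comap_map_of_surjective' _ hsurj, sup_eq_left]
    exact hle
  obtain ⟨Q, hQ⟩ := PrimeSpectrum.comap_surjective_of_faithfullyFlat (B := E) qb
  refine ⟨⟨Q.asIdeal.comap (algebraMap E' E), inferInstance⟩, ?_⟩
  ext1
  change (Q.asIdeal.comap (algebraMap E' E)).comap (algebraMap R E') = q.asIdeal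
  rw [Ideal.comap_comap, ← IsScalarTower.algebraMap_eq, IsScalarTower.algebraMap_eq R Rb E,
    ← Ideal.comap_comap, ← hqb]
  congr 1
  exact congrArg PrimeSpectrum.asIdeal hQ

end Props

end Groth.Agent.Lib.Helper66.EL1
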