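import Mathlib
import Groth.Agent.Lib.Helper66.DN5

/-! Base change of splittings of Hopf algebras and the general form of `isDiag_of_isDiag_mod_nil`
(helper66, for S2971). -/

set_option autoImplicit false
universe u
open TensorProduct

namespace Groth.Agent.Lib.Helper66.EL2
open Groth.Agent.Lib.Helper66.DN2 Groth.Agent.Lib.Helper66.DN3 Groth.Agent.Lib.Helper66.DN4
open Groth.Agent.Lib.Helper96.BaseChangeBialg

section E

variable {R : Type u} [CommRing R] {A : Type u} [CommRing A] [Bialgebra R A]
variable {T : Type u} [CommRing T] [Algebra R T] {N : Type u} [CommGroup N]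
variable (e : T ⊗[R] A ≃ₐc[T] MonoidAlgebra T N)
variable (T' : Type u) [CommRing T'] [Algebra R T'] [Algebra T T'] [IsScalarTower R T T']

theorem scalarHom_surjective (T T' : Type u) [CommRing T] [CommRing T'] [Algebra T T']
    (N : Type u) [CommGroup N] : Function.Surjective (scalarHom T T' N) :=
  (MonoidAlgebra.scalarTensorEquiv T T' (M := N)).surjective

theorem bcHom_surjective : Function.Surjective (bcHom e T') := by
  let g : T' ⊗[T] MonoidAlgebra T N →ₐc[T'] T' ⊗[T] (T ⊗[R] A) :=
    Bialgebra.TensorProduct.map (BialgHom.id T' T')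
      (e.symm : MonoidAlgebra T N →ₐc[T] T ⊗[R] A)
  have hg : ∀ x, bcHom e T' (g x) = x := by
    intro x
    induction x using TensorProduct.induction_on with
    | zero => simp
    | tmul t y =>
      show bcHom e T' (Bialgebra.TensorProduct.map (BialgHom.id T' T')
        (e.symm : MonoidAlgebra T N →ₐc[T] T ⊗[R] A) (t ⊗ₜ y)) = _
      rw [Bialgebra.TensorProduct.map_tmul]
      show Bialgebra.TensorProduct.map (BialgHom.id T' T')
        (e : T ⊗[R] A →ₐc[T] MonoidAlgebra T N) _ = _
      rw [Bialgebra.TensorProduct.map_tmul]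
      simp
    | add x y hx hy => rw [map_add, map_add, hx, hy]
  exact Function.RightInverse.surjective hg

theorem EHom_bijective : Function.Bijective (EHom e T') := by
  refine ⟨EHom_injective e T', ?_⟩
  intro y
  obtain ⟨y₁, rfl⟩ := scalarHom_surjective T T' N y
  obtain ⟨y₂, rfl⟩ := bcHom_surjective e T' y₁
  obtain ⟨y₃, rfl⟩ := (cbc R T T' A).symm.surjective y₂
  exact ⟨y₃, rfl⟩

/-- the trivialisation over a `T`-algebra `T'`, as an equivalence -/
noncomputable def EEquiv : T' ⊗[R] A ≃ₐc[T'] MonoidAlgebra T' N :=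
  BialgEquiv.ofBijective (EHom e T') (EHom_bijective e T')

end E

section BC

attribute [local instance] Algebra.TensorProduct.rightAlgebra

variable {R : Type u} [CommRing R] {A : Type u} [CommRing A] [Bialgebra R A]

/-- base change of a splitting -/
noncomputable def bc (σ : Splitting R A) (S : Type u) [CommRing S] [Algebra R S] :
    Splitting S (S ⊗[R] A) where
  T := S ⊗[R] σ.T
  N := σ.N
  e := (cbc R S (S ⊗[R] σ.T) A).trans (EEquiv σ.e (S ⊗[R] σ.T))

variable {J : Type u} [Fintype J] (σ : J → Splitting R A)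
variable (S : Type u) [CommRing S] [Algebra R S]

theorem flat_bc [∀ j, Module.Flat R (σ j).T] (j : J) : Module.Flat S (bc (σ j) S).T :=
  show Module.Flat S (S ⊗[R] (σ j).T) from inferInstance

theorem ff_bc [Module.FaithfullyFlat R (∀ j, (σ j).T)] :
    Module.FaithfullyFlat S (∀ j, (bc (σ j) S).T) := by
  classical
  have h1 : Module.FaithfullyFlat S (S ⊗[R] (∀ j, (σ j).T)) := inferInstance
  exact Module.FaithfullyFlat.of_linearEquiv (R := S) (M := S ⊗[R] (∀ j, (σ j).T))
    (TensorProduct.piRight R S S (fun j => (σ j).T)).symm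

end BC

section General

variable {S : Type u} [CommRing S] {B : Type u} [CommRing B] [Bialgebra S B]
variable {J : Type u} [Fintype J] (σ : J → Splitting S B)
variable [Module.FaithfullyFlat S (∀ j, (σ j).T)] [∀ j, Module.Flat S (σ j).T]

include σ in
/-- general form: diagonalisable over a quotient by a nil ideal implies diagonalisable -/
theorem exists_bialgEquiv_of_surjective (Q : Type u) [CommRing Q] [Algebra S Q]
    (hsurj : Function.Surjective (algebraMap S Q))
    (hnil : ∀ x ∈ RingHom.ker (algebraMap S Q), IsNilpotent x)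
    {M : Type u} [CommGroup M] (e₀ : Q ⊗[S] B ≃ₐc[Q] MonoidAlgebra Q M) :
    Nonempty (B ≃ₐc[S] MonoidAlgebra S M) := by
  let I : Ideal S := RingHom.ker (algebraMap S Q)
  let ψ : (S ⧸ I) ≃ₐ[S] Q :=
    Ideal.quotientKerAlgEquivOfSurjective (f := Algebra.ofId S Q) hsurj
  let _ : Algebra Q (S ⧸ I) := (ψ.symm : Q →+* S ⧸ I).toAlgebra
  have : IsScalarTower S Q (S ⧸ I) :=
    IsScalarTower.of_algebraMap_eq (fun s => (ψ.symm.commutes s).symm)
  exact DN4.exists_bialgEquiv σ hnil (EEquiv e₀ (S ⧸ I))

end General

end Groth.Agent.Lib.Helper66.EL2
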