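import Mathlib
import Groth.Agent.Lib.Helper66.EL1
import Groth.Agent.Lib.Helper66.EL2

/-! Isotriviality and quasi-isotriviality of a group of multiplicative type can be tested modulo
a nil ideal (helper66, for S2971). -/

set_option autoImplicit false
universe u
open TensorProduct

namespace Groth.Agent.Lib.Helper66.EL3
open Groth.Agent.Lib.Helper66.DN3 Groth.Agent.Lib.Helper66.DN4 Groth.Agent.Lib.Helper66.DN5
open Groth.Agent.Lib.Helper66.EL1 Groth.Agent.Lib.Helper66.EL2
open Groth.Agent.Lib.Helper96.BaseChangeBialg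
open SGA3b

section Step

variable {S : Type u} [CommRing S] {B : Type u} [CommRing B] [HopfAlgebra S B]
variable {J : Type u} [Fintype J] (σ : J → Splitting S B)
variable [Module.FaithfullyFlat S (∀ j, (σ j).T)] [∀ j, Module.Flat S (σ j).T]

include σ in
theorem main_step (Sb : Type u) [CommRing Sb] [Algebra S Sb]
    (hsurj : Function.Surjective (algebraMap S Sb))
    (hnil : ∀ x ∈ RingHom.ker (algebraMap S Sb), IsNilpotent x)
    (E : Type u) [CommRing E] [Algebra Sb E] [Algebra S E] [IsScalarTower S Sb E]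
    [Algebra.Etale Sb E] [Module.FaithfullyFlat Sb E] (hD : IsDiag E (E ⊗[S] B)) :
    ∃ (E' : Type u) (_ : CommRing E') (_ : Algebra S E'), Algebra.Etale S E' ∧
      Module.FaithfullyFlat S E' ∧ (Module.Finite Sb E → Module.Finite S E') ∧
      IsDiag E' (E' ⊗[S] B) := by
  obtain ⟨E', cr, algSE', algE'E, tow, het, hft, hsurj', hnil'⟩ :=
    exists_etale_lift hsurj hnil E
  have hff : Module.FaithfullyFlat S E' :=
    faithfullyFlat_of_lift (R := S) (Rb := Sb) (E' := E') (E := E) hsurj hnil
  refine ⟨E', cr, algSE', het, hff, ?_, ?_⟩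
  · intro hfin
    exact finite_of_lift (R := S) (Rb := Sb) (E' := E') (E := E) hsurj hnil'
  · obtain ⟨M, grp, ⟨eD⟩⟩ := hD
    have : Module.FaithfullyFlat E' (∀ j, (bc (σ j) E').T) := ff_bc σ E'
    have : ∀ j, Module.Flat E' (bc (σ j) E').T := flat_bc σ E'
    exact ⟨M, grp, exists_bialgEquiv_of_surjective (fun j => bc (σ j) E') E hsurj' hnil'
      ((cbc S E' E B).trans eD)⟩

end Step

section Family

variable {R : Type u} [CommRing R] {A : Type u} [CommRing A] [HopfAlgebra R A]

theorem exists_family (h : IsMultType R A) :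
    ∃ (J : Type u) (_ : Fintype J) (σ : J → Splitting R A),
      Module.FaithfullyFlat R (∀ j, (σ j).T) ∧ ∀ j, Module.Flat R (σ j).T := by
  classical
  obtain ⟨s, hs, hloc⟩ := h
  obtain ⟨s₀, hs₀, hspan⟩ := (Ideal.span_eq_top_iff_finite s).mp hs
  have hch : ∀ j : ↥s₀, ∃ (σ : Splitting R A) (_ : Algebra (Localization.Away (j : R)) σ.T),
      IsScalarTower R (Localization.Away (j : R)) σ.T ∧
        Module.FaithfullyFlat (Localization.Away (j : R)) σ.T :=
    fun j => exists_splitting _ (hloc j.1 (hs₀ j.2))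
  choose σ alg htow hff using hch
  refine ⟨↥s₀, inferInstance, σ, ?_, ?_⟩
  · exact faithfullyFlat_pi (fun j : ↥s₀ => (j : R)) (by
        have hr : (Set.range fun j : ↥s₀ => (j : R)) = (s₀ : Set R) := Subtype.range_coe
        rw [hr]; exact hspan)
      (fun j => (σ j).T)
  · exact fun j => Module.Flat.trans R (Localization.Away (j : R)) (σ j).T

end Family

section Away

variable {R : Type u} [CommRing R] (I : Ideal R)

theorem awayMap_surjective (f : R) :
    Function.Surjective (Localization.awayMap (Ideal.Quotient.mk I) f) := by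
  rw [Localization.awayMap_surjective_iff]
  intro a
  obtain ⟨b, rfl⟩ := Ideal.Quotient.mk_surjective a
  exact ⟨b, 0, by rw [pow_zero, one_mul]⟩

theorem awayMap_ker_nil (hI : ∀ x ∈ I, IsNilpotent x) (f : R) :
    ∀ x ∈ RingHom.ker (Localization.awayMap (Ideal.Quotient.mk I) f), IsNilpotent x := by
  intro x hx
  obtain ⟨a, s, rfl⟩ := IsLocalization.exists_mk'_eq (Submonoid.powers f) x
  rw [RingHom.mem_ker] at hx
  simp only [Localization.awayMap, IsLocalization.Away.map, IsLocalization.map_mk',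
    IsLocalization.mk'_eq_zero_iff] at hx
  obtain ⟨⟨m, n, rfl⟩, hm⟩ := hx
  have h2 : f ^ n * a ∈ I := by
    rw [← Ideal.Quotient.eq_zero_iff_mem, map_mul, map_pow]
    exact hm
  obtain ⟨N, hN⟩ := hI _ h2
  have h3 : (IsLocalization.mk' (Localization.Away f) a s) ^ N = 0 := by
    rw [← IsLocalization.mk'_pow, IsLocalization.mk'_eq_zero_iff]
    refine ⟨⟨f ^ (n * N), n * N, rfl⟩, ?_⟩
    show f ^ (n * N) * a ^ N = 0
    rw [pow_mul, ← mul_pow, hN]
  exact ⟨N, h3⟩

end Away

section Main

variable {R : Type u} [CommRing R] {A : Type u} [CommRing A] [HopfAlgebra R A]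
variable (I : Ideal R) (hI : ∀ x ∈ I, IsNilpotent x) (h : IsMultType R A)

include hI in
theorem quot_ker_nil : ∀ x ∈ RingHom.ker (algebraMap R (R ⧸ I)), IsNilpotent x := by
  intro x hx
  apply hI
  rwa [Ideal.Quotient.algebraMap_eq, Ideal.mk_ker] at hx

include hI h in
theorem isotrivial (h0 : IsIsotrivial (R ⧸ I) ((R ⧸ I) ⊗[R] A)) : IsIsotrivial R A := by
  obtain ⟨J, hJ, σ, hff, hfl⟩ := exists_family h
  obtain ⟨E, cr, alg, het, hfin, hffE, M, grp, ⟨eD⟩⟩ := h0
  let _ : Algebra R E := ((algebraMap (R ⧸ I) E).comp (algebraMap R (R ⧸ I))).toAlgebra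
  have tow : IsScalarTower R (R ⧸ I) E := IsScalarTower.of_algebraMap_eq (fun _ => rfl)
  have hD : IsDiag E (E ⊗[R] A) := ⟨M, grp, ⟨(cbc R (R ⧸ I) E A).symm.trans eD⟩⟩
  obtain ⟨E', cr', alg', het', hff', hfin', hD'⟩ :=
    main_step σ (R ⧸ I) Ideal.Quotient.mk_surjective (quot_ker_nil I hI) E hD
  exact ⟨E', cr', alg', het', hfin' hfin, hff', hD'⟩

include hI h in
theorem quasiIsotrivial (h0 : IsQuasiIsotrivial (R ⧸ I) ((R ⧸ I) ⊗[R] A)) :
    IsQuasiIsotrivial R A := by
  obtain ⟨J, hJ, σ, hff, hfl⟩ := exists_family h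
  obtain ⟨sb, hsb, hloc⟩ := h0
  refine ⟨(Ideal.Quotient.mk I) ⁻¹' sb, ?_, ?_⟩
  · have h1 : Ideal.map (Ideal.Quotient.mk I) (Ideal.span ((Ideal.Quotient.mk I) ⁻¹' sb)) = ⊤ := by
      rw [Ideal.map_span, Set.image_preimage_eq _ Ideal.Quotient.mk_surjective, hsb]
    have h2 := congrArg (Ideal.comap (Ideal.Quotient.mk I)) h1
    rw [Ideal.comap_map_of_surjective' _ Ideal.Quotient.mk_surjective, Ideal.mk_ker,
      Ideal.comap_top] at h2
    have h3 : (1 : R) ∈ Ideal.span ((Ideal.Quotient.mk I) ⁻¹' sb) ⊔ I := by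
      rw [h2]; exact Submodule.mem_top
    obtain ⟨x, hx, i, hi, hxi⟩ := Submodule.mem_sup.mp h3
    have hu : IsUnit x := by
      have : x = 1 - i := by rw [← hxi]; ring
      rw [this]
      exact (hI i hi).isUnit_one_sub
    exact Ideal.eq_top_of_isUnit_mem _ hx hu
  · intro f hf
    obtain ⟨E, cr, alg, het, hffE, M, grp, ⟨eD⟩⟩ := hloc (Ideal.Quotient.mk I f) hf
    let _ : Algebra (Localization.Away f) (Localization.Away (Ideal.Quotient.mk I f)) :=
      (Localization.awayMap (Ideal.Quotient.mk I) f).toAlgebra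
    let _ : Algebra (Localization.Away f) E :=
      ((algebraMap (Localization.Away (Ideal.Quotient.mk I f)) E).comp
        (algebraMap (Localization.Away f) (Localization.Away (Ideal.Quotient.mk I f)))).toAlgebra
    have tow1 : IsScalarTower (Localization.Away f) (Localization.Away (Ideal.Quotient.mk I f)) E :=
      IsScalarTower.of_algebraMap_eq (fun _ => rfl)
    let _ : Algebra (R ⧸ I) E :=
      ((algebraMap (Localization.Away (Ideal.Quotient.mk I f)) E).comp
        (algebraMap (R ⧸ I) (Localization.Away (Ideal.Quotient.mk I f)))).toAlgebra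
    have tow2 : IsScalarTower (R ⧸ I) (Localization.Away (Ideal.Quotient.mk I f)) E :=
      IsScalarTower.of_algebraMap_eq (fun _ => rfl)
    let _ : Algebra R E := ((algebraMap (R ⧸ I) E).comp (algebraMap R (R ⧸ I))).toAlgebra
    have tow3 : IsScalarTower R (R ⧸ I) E := IsScalarTower.of_algebraMap_eq (fun _ => rfl)
    have tow4 : IsScalarTower R (Localization.Away f) E := by
      refine IsScalarTower.of_algebraMap_eq (fun r => ?_)
      show algebraMap (Localization.Away (Ideal.Quotient.mk I f)) E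
          (algebraMap (R ⧸ I) (Localization.Away (Ideal.Quotient.mk I f)) (Ideal.Quotient.mk I r)) =
        algebraMap (Localization.Away (Ideal.Quotient.mk I f)) E
          (Localization.awayMap (Ideal.Quotient.mk I) f (algebraMap R (Localization.Away f) r))
      congr 1
      exact (IsLocalization.map_eq _ r).symm
    have hD : IsDiag E (E ⊗[Localization.Away f] (Localization.Away f ⊗[R] A)) :=
      ⟨M, grp, ⟨(cbc R (Localization.Away f) E A).trans ((cbc R (R ⧸ I) E A).symm.trans
        ((cbc (R ⧸ I) (Localization.Away (Ideal.Quotient.mk I f)) E ((R ⧸ I) ⊗[R] A)).symm.trans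
          eD))⟩⟩
    have : Module.FaithfullyFlat (Localization.Away f)
        (∀ j, (bc (σ j) (Localization.Away f)).T) := ff_bc σ _
    have : ∀ j, Module.Flat (Localization.Away f) (bc (σ j) (Localization.Away f)).T :=
      flat_bc σ _
    obtain ⟨E', cr', alg', het', hff', -, hD'⟩ :=
      main_step (fun j => bc (σ j) (Localization.Away f))
        (Localization.Away (Ideal.Quotient.mk I f)) (awayMap_surjective I f)
        (awayMap_ker_nil I hI f) E hD
    exact ⟨E', cr', alg', het', hff', hD'⟩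

include hI h in
theorem main : (IsIsotrivial (R ⧸ I) ((R ⧸ I) ⊗[R] A) → IsIsotrivial R A) ∧
    (IsQuasiIsotrivial (R ⧸ I) ((R ⧸ I) ⊗[R] A) → IsQuasiIsotrivial R A) :=
  ⟨isotrivial I hI h, quasiIsotrivial I hI h⟩

end Main

end Groth.Agent.Lib.Helper66.EL3
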