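import Mathlib
import Groth.Agent.Lib.Helper66.LR3
import Groth.Agent.Lib.Helper66.TK11
import Groth.Agent.S11926

/-!
# An étale quotient with radiciel kernel lifts uniquely, over a perfect field (helper66)
-/

set_option autoImplicit false
universe u

namespace Groth.Agent.Lib.Helper66.ER1

open TensorProduct

section Idem

variable {k : Type u} [Field k] {C : Type u} [CommRing C] [Algebra k C] [Algebra.Etale k C]

/-- the kernel of a `k`-point of an étale algebra over a field is cut out by an idempotent -/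
theorem exists_idem (ε : C →ₐ[k] k) :
    ∃ e₁ : C, IsIdempotentElem e₁ ∧ ε e₁ = 1 ∧ ∀ c : C, ε c = 0 → c * e₁ = 0 := by
  haveI : IsReduced C := Algebra.FormallyUnramified.isReduced_of_field k C
  haveI : Module.Finite k C := Algebra.FormallyUnramified.finite_of_free k C
  haveI : IsArtinianRing C := IsArtinianRing.of_finite k C
  haveI : IsSemisimpleRing C := IsArtinianRing.isSemisimpleRing_of_isReduced C
  obtain ⟨I', hI'⟩ := exists_isCompl (RingHom.ker (ε : C →+* k))
  have h1 : (1 : C) ∈ RingHom.ker (ε : C →+* k) ⊔ I' := by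
    rw [hI'.sup_eq_top]
    trivial
  obtain ⟨f, hf, e', he', hfe⟩ := Submodule.mem_sup.mp h1
  have hzero : ∀ x ∈ RingHom.ker (ε : C →+* k), ∀ y ∈ I', x * y = 0 := by
    intro x hx y hy
    have h2 : x * y ∈ RingHom.ker (ε : C →+* k) ⊓ I' :=
      ⟨Ideal.mul_mem_right _ _ hx, Ideal.mul_mem_left _ _ hy⟩
    rw [hI'.inf_eq_bot] at h2
    exact h2
  have hfe' : f * e' = 0 := hzero f hf e' he'
  have hεf : ε f = 0 := hf
  refine ⟨e', ?_, ?_, ?_⟩
  · unfold IsIdempotentElem
    calc e' * e' = (f + e') * e' - f * e' := by ring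
      _ = e' := by rw [hfe, hfe', one_mul, sub_zero]
  · have := congrArg ε hfe
    rw [map_add, hεf, zero_add, map_one] at this
    exact this
  · intro c hc
    exact hzero c hc e' he'

end Idem

section LocalNil

variable {k : Type u} [Field k] {B : Type u} [CommRing B] [Algebra k B] [Algebra.FiniteType k B]
  [IsLocalRing B]

/-- in a local ring of finite type over a field, the kernel of a `k`-point is nil -/
theorem isNilpotent_of_local (ε : B →ₐ[k] k) (x : B) (hx : ε x = 0) : IsNilpotent x := by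
  haveI : IsJacobsonRing B := isJacobsonRing_of_finiteType (A := k)
  have hmax : (RingHom.ker (ε : B →+* k)).IsMaximal :=
    RingHom.ker_isMaximal_of_surjective (ε : B →+* k) (fun c => ⟨algebraMap k B c, by simp⟩)
  have h1 : RingHom.ker (ε : B →+* k) = IsLocalRing.maximalIdeal B :=
    IsLocalRing.eq_maximalIdeal hmax
  have h2 : (nilradical B).jacobson = nilradical B :=
    IsJacobsonRing.out' _ (Ideal.radical_isRadical _)
  have hne : nilradical B ≠ ⊤ := by
    intro h
    have : (1 : B) ∈ nilradical B := h ▸ Submodule.mem_top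
    obtain ⟨n, hn⟩ := mem_nilradical.mp this
    rw [one_pow] at hn
    exact one_ne_zero hn
  have h3 : (nilradical B).jacobson = IsLocalRing.maximalIdeal B :=
    IsLocalRing.jacobson_eq_maximalIdeal _ hne
  have hx' : x ∈ nilradical B := by
    rw [← h2, h3, ← h1]
    exact hx
  exact mem_nilradical.mp hx'

end LocalNil

section Main

open Groth.Agent.Lib.Helper66.SubBialg Groth.Agent.Lib.Helper66.TK1 Groth.Agent.Lib.Helper66.TK3
  Groth.Agent.Lib.Helper66.TK7 Groth.Agent.Lib.Helper66.TK9 Groth.Agent.Lib.Helper66.TK10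

variable (k : Type u) [Field k] (A C : Type u) [CommRing A] [HopfAlgebra k A]
  [Algebra.FiniteType k A] [CommRing C] [HopfAlgebra k C] [Algebra.Etale k C]
  (ψ : C →ₐc[k] A)
  (J : Ideal A) [J.IsHopfIdeal k]
  (hJ : J = Ideal.map (ψ : C →+* A) (RingHom.ker (Bialgebra.counitAlgHom k C)))
  [IsLocalRing (A ⧸ J)]

include hJ in
/-- the augmentation ideal is `nilradical + J` -/
theorem aug_le (a : A) (ha : Coalgebra.counit (R := k) a = 0) : a ∈ nilradical A ⊔ J := by
  obtain ⟨e₁, he₁, hε₁, hkill⟩ := exists_idem (Bialgebra.counitAlgHom k C)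
  have he : IsIdempotentElem (ψ e₁) := he₁.map ψ
  have hJe : ∀ j ∈ J, j * ψ e₁ = 0 := by
    intro j hj
    rw [hJ, Ideal.map] at hj
    induction hj using Submodule.span_induction with
    | mem x hx =>
      obtain ⟨c, hc, rfl⟩ := hx
      have hc' : Bialgebra.counitAlgHom k C c = 0 := hc
      show ψ c * ψ e₁ = 0
      rw [← map_mul, hkill c hc', map_zero]
    | zero => rw [zero_mul]
    | add x y _ _ hx hy => rw [add_mul, hx, hy, add_zero]
    | smul r x _ hx => rw [smul_eq_mul, mul_assoc, hx, mul_zero]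
  have h1e : 1 - ψ e₁ ∈ J := by
    rw [hJ]
    have h1 : (1 - e₁) ∈ RingHom.ker (Bialgebra.counitAlgHom k C) := by
      rw [RingHom.mem_ker, map_sub, map_one, hε₁, sub_self]
    have h2 := Ideal.mem_map_of_mem (ψ : C →+* A) h1
    have h3 : (ψ : C →+* A) (1 - e₁) = 1 - ψ e₁ := by
      rw [map_sub, map_one]
      rfl
    rwa [h3] at h2
  haveI : Algebra.FiniteType k (A ⧸ J) :=
    Algebra.FiniteType.of_surjective (Ideal.Quotient.mkₐ k J) Ideal.Quotient.mk_surjective
  have hnil : IsNilpotent (Ideal.Quotient.mk J a) := by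
    apply isNilpotent_of_local (Bialgebra.counitAlgHom k (A ⧸ J))
    show Coalgebra.counit (R := k) (Ideal.Quotient.mk J a) = 0
    rw [← ha]
    rfl
  obtain ⟨n, hn⟩ := hnil
  have hn' : a ^ n ∈ J := by
    rw [← map_pow] at hn
    exact Ideal.Quotient.eq_zero_iff_mem.mp hn
  have hae : IsNilpotent (a * ψ e₁) := by
    refine ⟨n + 1, ?_⟩
    rw [mul_pow, he.pow_succ_eq, pow_succ, mul_comm (a ^ n) a, mul_assoc, hJe _ hn', mul_zero]
  have hsplit : a = a * ψ e₁ + a * (1 - ψ e₁) := by ring
  rw [hsplit]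
  exact Submodule.add_mem_sup (mem_nilradical.mpr hae) (J.mul_mem_left _ h1e)

variable [PerfectField k]

include hJ in
/-- `C → A_red` is bijective -/
theorem bijective_red (hψ : Function.Injective ψ) :
    haveI : (nilradical A).IsHopfIdeal k := Groth.Agent.S11926.result k A
    Function.Bijective ((Bialgebra.Quotient.mkBialgHom (R := k) (nilradical A)).comp ψ) := by
  haveI : (nilradical A).IsHopfIdeal k := Groth.Agent.S11926.result k A
  haveI : IsReduced C := Algebra.FormallyUnramified.isReduced_of_field k C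
  set q : A →ₐc[k] A ⧸ nilradical A := Bialgebra.Quotient.mkBialgHom (R := k) (nilradical A)
  set c' : C →ₐc[k] A ⧸ nilradical A := q.comp ψ with hc'
  have hc'app : ∀ x, c' x = Ideal.Quotient.mk (nilradical A) (ψ x) := fun x => rfl
  constructor
  · -- injective
    rw [injective_iff_map_eq_zero]
    intro x hx
    rw [hc'app, Ideal.Quotient.eq_zero_iff_mem] at hx
    obtain ⟨n, hn⟩ := mem_nilradical.mp hx
    rw [← map_pow] at hn
    have h0 : x ^ n = 0 := hψ (by rw [hn, map_zero])
    exact IsReduced.eq_zero _ ⟨n, h0⟩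
  · -- surjective
    have hP := TK11.isHS_range c'
    letI := hopfAlgebraOfSub (c' : C →ₐ[k] A ⧸ nilradical A).range hP.1 hP.2
    let cP : (c' : C →ₐ[k] A ⧸ nilradical A).range →ₐc[k] A ⧸ nilradical A :=
      subBialgHom _ hP.1 hP.2
    haveI : Module.FaithfullyFlat (c' : C →ₐ[k] A ⧸ nilradical A).range (A ⧸ nilradical A) :=
      faithfullyFlat_sub _ hP
    let ψ' : (A ⧸ nilradical A) →ₐc[k] k := Bialgebra.counitBialgHom k (A ⧸ nilradical A)
    have hψ' : Function.Surjective ψ' := by
      intro t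
      refine ⟨algebraMap k _ t, ?_⟩
      show Coalgebra.counit (R := k) (algebraMap k (A ⧸ nilradical A) t) = t
      rw [Bialgebra.counit_algebraMap]
    have hψc : ∀ z : (c' : C →ₐ[k] A ⧸ nilradical A).range,
        (ψ' : (A ⧸ nilradical A) →ₐ[k] k) (cP z) =
          algebraMap k k (Coalgebra.counit (R := k) z) := fun z => rfl
    have hker : RingHom.ker (ψ' : (A ⧸ nilradical A) →ₐ[k] k).toRingHom ≤
        Ideal.map (cP : (c' : C →ₐ[k] A ⧸ nilradical A).range →+* A ⧸ nilradical A)
          (RingHom.ker (Bialgebra.counitAlgHom k (c' : C →ₐ[k] A ⧸ nilradical A).range :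
            (c' : C →ₐ[k] A ⧸ nilradical A).range →+* k)) := by
      have hJmap : ∀ j ∈ J, Ideal.Quotient.mk (nilradical A) j ∈
          Ideal.map (cP : (c' : C →ₐ[k] A ⧸ nilradical A).range →+* A ⧸ nilradical A)
            (RingHom.ker (Bialgebra.counitAlgHom k (c' : C →ₐ[k] A ⧸ nilradical A).range :
              (c' : C →ₐ[k] A ⧸ nilradical A).range →+* k)) := by
        intro j hj
        rw [hJ, Ideal.map] at hj
        induction hj using Submodule.span_induction with
        | mem x hx =>
          obtain ⟨b, hb, rfl⟩ := hx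
          have hb' : Coalgebra.counit (R := k) b = 0 := hb
          have hmem : c' b ∈ (c' : C →ₐ[k] A ⧸ nilradical A).range := ⟨b, rfl⟩
          have h1 : (⟨c' b, hmem⟩ : (c' : C →ₐ[k] A ⧸ nilradical A).range) ∈
              RingHom.ker (Bialgebra.counitAlgHom k (c' : C →ₐ[k] A ⧸ nilradical A).range :
                (c' : C →ₐ[k] A ⧸ nilradical A).range →+* k) := by
            rw [RingHom.mem_ker]
            show Coalgebra.counit (R := k) (c' b) = 0
            rw [CoalgHomClass.counit_comp_apply, hb']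
          exact Ideal.mem_map_of_mem _ h1
        | zero => rw [map_zero]; exact Ideal.zero_mem _
        | add x y _ _ hx hy => rw [map_add]; exact Ideal.add_mem _ hx hy
        | smul r x _ hx => rw [smul_eq_mul, map_mul]; exact Ideal.mul_mem_left _ _ hx
      intro y hy
      obtain ⟨a, rfl⟩ := Ideal.Quotient.mk_surjective y
      have ha : Coalgebra.counit (R := k) a = 0 := hy
      obtain ⟨n, hn, j, hj, rfl⟩ := Submodule.mem_sup.mp (aug_le k A C ψ J hJ a ha)
      have hqn : Ideal.Quotient.mk (nilradical A) n = 0 := Ideal.Quotient.eq_zero_iff_mem.mpr hn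
      rw [map_add, hqn, zero_add]
      exact hJmap j hj
    intro y
    have hy : TensorProduct.map (ψ' : (A ⧸ nilradical A) →ₐ[k] k).toLinearMap LinearMap.id
        (Coalgebra.comul (R := k) y) = (1 : k) ⊗ₜ[k] y :=
      Coalgebra.rTensor_counit_comul (R := k) y
    obtain ⟨z, hz⟩ := LR3.exists_of_left_coinv cP (fun _ => rfl) ψ' hψc hψ' hker hy
    obtain ⟨x, hx⟩ := z.2
    refine ⟨x, ?_⟩
    rw [← hz]
    exact hx

include hJ in
/-- **Unique lifting of an étale quotient with radiciel kernel** (perfect base field). -/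
theorem main (hψ : Function.Injective ψ) :
    (∃! r : A →ₐc[k] C, r.comp ψ = BialgHom.id k C) ∧
    ∀ r : A →ₐc[k] C, r.comp ψ = BialgHom.id k C →
      RingHom.ker (r : A →+* C) = nilradical A := by
  haveI : (nilradical A).IsHopfIdeal k := Groth.Agent.S11926.result k A
  haveI : IsReduced C := Algebra.FormallyUnramified.isReduced_of_field k C
  have hbij := bijective_red k A C ψ J hJ hψ
  set q : A →ₐc[k] A ⧸ nilradical A := Bialgebra.Quotient.mkBialgHom (R := k) (nilradical A)
  set c' : C →ₐc[k] A ⧸ nilradical A := q.comp ψ with hc'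
  have key : ∀ r : A →ₐc[k] C, r.comp ψ = BialgHom.id k C → ∀ a x, q a = c' x → r a = x := by
    intro r hr a x hax
    have h1 : a - ψ x ∈ nilradical A := by
      rw [← Ideal.Quotient.eq_zero_iff_mem, map_sub, sub_eq_zero]
      exact hax
    have h2 : IsNilpotent (r (a - ψ x)) := (mem_nilradical.mp h1).map r
    have h3 : r (a - ψ x) = 0 := IsReduced.eq_zero _ h2
    have h4 : r (ψ x) = x := DFunLike.congr_fun hr x
    rw [map_sub, sub_eq_zero, h4] at h3
    exact h3
  let e := BialgEquiv.ofBijective c' hbij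
  let r₀ : A →ₐc[k] C := (e.symm : (A ⧸ nilradical A) →ₐc[k] C).comp q
  have hr₀ : r₀.comp ψ = BialgHom.id k C := by
    ext x
    show e.symm (c' x) = x
    exact e.symm_apply_apply x
  refine ⟨⟨r₀, hr₀, ?_⟩, ?_⟩
  · intro r' hr'
    ext a
    obtain ⟨x, hx⟩ := hbij.2 (q a)
    rw [key r' hr' a x hx.symm, key r₀ hr₀ a x hx.symm]
  · intro r hr
    ext a
    obtain ⟨x, hx⟩ := hbij.2 (q a)
    rw [RingHom.mem_ker]
    show r a = 0 ↔ a ∈ nilradical A
    rw [key r hr a x hx.symm, ← Ideal.Quotient.eq_zero_iff_mem]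
    show x = 0 ↔ q a = 0
    rw [← hx]
    exact (map_eq_zero_iff c' hbij.1).symm

end Main

end Groth.Agent.Lib.Helper66.ER1
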