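/-
Helper library (helper66): finite etale group schemes over an algebraically closed field:
rational points vs maximal ideals, `#points = dim A` for reduced `A`, injectivity of the
pairing `F ⊗ F → F(G × G)` for constant groups, the bialgebra hom `A → K^G` attached to a
group hom `G → A(K)`, and `A ≃ K^{ℤ/ℓ}` for reduced `A` of prime dimension.
Used for S17331 (and S15065, S16674).
-/
import Mathlib
import Groth.Prelude.Def_ConstGrp
import Groth.Agent.Lib.Helper66.PointsDecomp

open scoped TensorProduct
open WithConv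
open Groth.Agent.Lib.Helper66.PointsDecomp

set_option autoImplicit false

namespace Groth.Agent.Lib.Helper66.EtaleCase

section Points
variable {K A : Type*} [Field K] [CommRing A] [Algebra K A]

theorem algHom_ext_of_ker_eq (γ δ : A →ₐ[K] K) (h : RingHom.ker γ = RingHom.ker δ) : γ = δ := by
  ext a
  have h1 : a - algebraMap K A (γ a) ∈ RingHom.ker γ := by
    rw [RingHom.mem_ker, map_sub, AlgHom.commutes]; simp
  rw [h, RingHom.mem_ker, map_sub, AlgHom.commutes, sub_eq_zero] at h1
  exact h1.symm

theorem ker_isMaximal (γ : A →ₐ[K] K) : (RingHom.ker γ).IsMaximal :=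
  RingHom.ker_isMaximal_of_surjective _ (fun c => ⟨algebraMap K A c, by simp⟩)

variable [IsAlgClosed K] [Module.Finite K A]

/-- rational points correspond to maximal ideals -/
noncomputable def pointsEquiv : (A →ₐ[K] K) ≃ MaximalSpectrum A :=
  Equiv.ofBijective (fun γ => ⟨RingHom.ker γ, ker_isMaximal γ⟩)
    ⟨fun γ δ h => algHom_ext_of_ker_eq γ δ (congrArg MaximalSpectrum.asIdeal h),
     fun 𝔪 => by
      haveI := 𝔪.isMaximal
      obtain ⟨γ, hγ⟩ := exists_algHom_ker_eq (K := K) 𝔪.asIdeal
      exact ⟨γ, MaximalSpectrum.ext hγ⟩⟩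

theorem eq_zero_of_forall_points [IsReduced A] (a : A) (h : ∀ γ : A →ₐ[K] K, γ a = 0) : a = 0 := by
  haveI : IsArtinianRing A := IsArtinianRing.of_finite K A
  have h1 : a ∈ nilradical A := by
    rw [IsArtinianRing.nilradical_eq_iInf, Ideal.mem_iInf]
    intro 𝔪
    haveI := 𝔪.isMaximal
    obtain ⟨γ, hγ⟩ := exists_algHom_ker_eq (K := K) 𝔪.asIdeal
    rw [← hγ, RingHom.mem_ker]
    exact h γ
  rw [nilradical_eq_zero] at h1
  exact h1

end Points

section Card
variable {K A : Type*} [Field K] [IsAlgClosed K] [CommRing A] [HopfAlgebra K A] [Module.Finite K A]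

theorem card_points_eq_finrank [IsReduced A] : Nat.card (A →ₐ[K] K) = Module.finrank K A := by
  have hnil : nilradical A ^ 1 = ⊥ := by rw [pow_one, nilradical_eq_zero]; rfl
  have h1 := finrank_eq_card_mul (K := K) (A := A) 1 hnil
  have h2 : Module.finrank K (A ⧸ (RingHom.ker (Bialgebra.counitAlgHom K A)) ^ 1) = 1 := by
    rw [pow_one]
    have e : (A ⧸ RingHom.ker (Bialgebra.counitAlgHom K A)) ≃ₐ[K] K :=
      Ideal.quotientKerAlgEquivOfSurjective (f := Bialgebra.counitAlgHom K A)
        (fun c => ⟨algebraMap K A c, by simp⟩)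
    rw [e.toLinearEquiv.finrank_eq, Module.finrank_self]
  rw [h1, h2, mul_one, Nat.card_congr (pointsEquiv (K := K) (A := A))]

end Card

section Pair
universe u v
variable (R : Type u) (G : Type v) [CommRing R] [Group G] [Fintype G] [DecidableEq G]

theorem eq_sum_pair (z : ConstGrp.F R G ⊗[R] ConstGrp.F R G) :
    z = ∑ a : G, ∑ b : G, (ConstGrp.pair R G z (a, b)) • (ConstGrp.e R a ⊗ₜ[R] ConstGrp.e R b) := by
  induction z using TensorProduct.induction_on with
  | zero => simp
  | tmul u v =>
    conv_lhs => rw [ConstGrp.eq_sum_smul_e u, ConstGrp.eq_sum_smul_e v]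
    rw [TensorProduct.sum_tmul]
    refine Finset.sum_congr rfl fun a _ => ?_
    rw [TensorProduct.tmul_sum]
    refine Finset.sum_congr rfl fun b _ => ?_
    rw [ConstGrp.pair_tmul, TensorProduct.smul_tmul_smul]
  | add x y hx hy =>
    conv_lhs => rw [hx, hy]
    rw [← Finset.sum_add_distrib]
    refine Finset.sum_congr rfl fun a _ => ?_
    rw [← Finset.sum_add_distrib]
    refine Finset.sum_congr rfl fun b _ => ?_
    rw [map_add, ← add_smul]
    rfl

theorem pair_injective : Function.Injective (ConstGrp.pair R G) := by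
  rw [injective_iff_map_eq_zero]
  intro z hz
  rw [eq_sum_pair R G z, hz]
  simp

end Pair

section Iso
universe u v
variable {K : Type u} {A : Type v} [Field K] [IsAlgClosed K] [CommRing A] [HopfAlgebra K A]
  [Module.Finite K A]

/-- the algebra hom `A → K^G` attached to a family of points -/
noncomputable def pointsHom {G : Type*} (ψ : G → WithConv (A →ₐ[K] K)) : A →ₐ[K] ConstGrp.F K G :=
  (ConstGrp.equivFun K G).symm.toAlgHom.comp (AlgHom.pi (fun j => (ψ j).ofConv))

theorem pointsHom_apply {G : Type*} (ψ : G → WithConv (A →ₐ[K] K)) (a : A) (j : G) :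
    pointsHom ψ a j = (ψ j).ofConv a := rfl

theorem pair_map_pointsHom {G : Type*} [Group G] [Fintype G] [DecidableEq G]
    (ψ : G → WithConv (A →ₐ[K] K)) (z : A ⊗[K] A) (i j : G) :
    ConstGrp.pair K G (Algebra.TensorProduct.map (pointsHom ψ) (pointsHom ψ) z) (i, j) =
      Algebra.TensorProduct.lift (ψ i).ofConv (ψ j).ofConv (fun _ _ => Commute.all _ _) z := by
  induction z using TensorProduct.induction_on with
  | zero => simp
  | tmul a b =>
    rw [Algebra.TensorProduct.map_tmul, ConstGrp.pair_tmul, Algebra.TensorProduct.lift_tmul,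
      pointsHom_apply, pointsHom_apply]
  | add x y hx hy =>
    rw [map_add, map_add, map_add, ← hx, ← hy]
    rfl

/-- the bialgebra hom attached to a group hom into the group of points -/
noncomputable def pointsBialgHom {G : Type*} [Group G] [Fintype G] [DecidableEq G]
    (ψ : G →* WithConv (A →ₐ[K] K)) : A →ₐc[K] ConstGrp.F K G :=
  BialgHom.ofAlgHom (pointsHom ψ)
    (by
      ext a
      show Coalgebra.counit (R := K) (pointsHom ψ a) = Coalgebra.counit (R := K) a
      rw [ConstGrp.counit_apply, pointsHom_apply, map_one]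
      rfl)
    (by
      ext a
      apply pair_injective K G
      apply ConstGrp.ext
      rintro ⟨i, j⟩
      show ConstGrp.pair K G (Algebra.TensorProduct.map (pointsHom ψ) (pointsHom ψ)
        (Coalgebra.comul (R := K) a)) (i, j) =
        ConstGrp.pair K G (Coalgebra.comul (R := K) (pointsHom ψ a)) (i, j)
      rw [pair_map_pointsHom, ConstGrp.pair_comul, pointsHom_apply, map_mul,
        ← AlgHom.convMul_apply])

theorem pointsBialgHom_apply {G : Type*} [Group G] [Fintype G] [DecidableEq G]
    (ψ : G →* WithConv (A →ₐ[K] K)) (a : A) (j : G) :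
    pointsBialgHom ψ a j = (ψ j).ofConv a := rfl

theorem nonempty_bialgEquiv_constGrp [IsReduced A] (ℓ : ℕ) [Fact ℓ.Prime]
    (hℓ : Module.finrank K A = ℓ) :
    Nonempty (A ≃ₐc[K] ConstGrp.F K (Multiplicative (ZMod ℓ))) := by
  have hcard : Nat.card (WithConv (A →ₐ[K] K)) = ℓ := by
    rw [Nat.card_congr (WithConv.equiv (A →ₐ[K] K)), card_points_eq_finrank, hℓ]
  have hcyc : IsCyclic (WithConv (A →ₐ[K] K)) := isCyclic_of_prime_card hcard
  subst hcard
  have ψ : Multiplicative (ZMod (Nat.card (WithConv (A →ₐ[K] K)))) ≃* WithConv (A →ₐ[K] K) :=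
    zmodCyclicMulEquiv hcyc
  have hinj : Function.Injective (pointsBialgHom ψ.toMonoidHom) := by
    rw [injective_iff_map_eq_zero]
    intro a ha
    apply eq_zero_of_forall_points (K := K)
    intro γ
    obtain ⟨j, hj⟩ := ψ.surjective (toConv γ)
    have := congrFun ha j
    rw [pointsBialgHom_apply] at this
    rw [show (ψ.toMonoidHom j) = toConv γ from hj] at this
    exact this
  have hfr : Module.finrank K A = Module.finrank K
      (ConstGrp.F K (Multiplicative (ZMod (Nat.card (WithConv (A →ₐ[K] K)))))) := by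
    rw [hℓ]
    show _ = Module.finrank K (Multiplicative (ZMod (Nat.card (WithConv (A →ₐ[K] K)))) → K)
    rw [Module.finrank_fintype_fun_eq_card, Fintype.card_multiplicative, ZMod.card]
  have hsurj : Function.Surjective (pointsBialgHom ψ.toMonoidHom) := by
    have := (LinearMap.injective_iff_surjective_of_finrank_eq_finrank hfr
      (f := (pointsBialgHom ψ.toMonoidHom : A →ₗ[K] _))).1 hinj
    exact this
  exact ⟨BialgEquiv.ofBijective _ ⟨hinj, hsurj⟩⟩

end Iso

end Groth.Agent.Lib.Helper66.EtaleCase
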