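import Mathlib
import Groth.Agent.Lib.Helper3.IS10
import Groth.Agent.Lib.Helper66.CFFT1

/-!
# Lifting maps out of étale algebras over a henselian local ring (helper66)
-/

set_option autoImplicit false
universe u
open TensorProduct IsLocalRing

namespace Groth.Agent.Lib.Helper66.FL1

section theta
variable (R : Type u) [CommRing R] (S : Type u) [CommRing S] [Algebra R S]
  (C D : Type u) [CommRing C] [Algebra R C] [CommRing D] [Algebra R D]

/-- base change commutes with tensor products, as algebras -/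
noncomputable def θ : S ⊗[R] (C ⊗[R] D) ≃ₐ[S] (S ⊗[R] C) ⊗[S] (S ⊗[R] D) :=
  (Algebra.TensorProduct.congr (Algebra.TensorProduct.lid S S).symm
    (AlgEquiv.refl : (C ⊗[R] D) ≃ₐ[R] (C ⊗[R] D))).trans
    (Algebra.TensorProduct.tensorTensorTensorComm R S R S S S C D)

theorem θ_one_tmul (c : C) (d : D) :
    θ R S C D ((1 : S) ⊗ₜ[R] (c ⊗ₜ[R] d)) = ((1 : S) ⊗ₜ[R] c) ⊗ₜ[S] ((1 : S) ⊗ₜ[R] d) := by
  simp [θ]

end theta

section lift
variable {R : Type u} [CommRing R] [HenselianLocalRing R]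
  {E : Type u} [CommRing E] [Algebra R E] [Algebra.Etale R E]
  {F : Type u} [CommRing F] [Algebra R F] [Module.Finite R F]

theorem mem_jacobson_of_one_tmul_eq_zero (y : F) (h : (1 : ResidueField R) ⊗ₜ[R] y = 0) :
    y ∈ Ideal.jacobson (⊥ : Ideal F) := by
  have h1 := Groth.Agent.Lib.Helper3.IS10.mem_of_one_tmul_eq_zero (A := R) y h
  rw [Ideal.smul_top_eq_map] at h1
  exact Groth.Agent.Lib.Helper3.IS9.map_maximalIdeal_le_jacobson R F h1

theorem algHom_ext (g₁ g₂ : E →ₐ[R] F)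
    (h : ∀ x, (1 : ResidueField R) ⊗ₜ[R] g₁ x = (1 : ResidueField R) ⊗ₜ[R] g₂ x) : g₁ = g₂ := by
  apply Groth.Agent.Lib.Helper9.algHom_ext_of_sub_mem_jacobson
  intro x
  apply mem_jacobson_of_one_tmul_eq_zero (R := R)
  rw [TensorProduct.tmul_sub, h x, sub_self]

theorem exists_lift (h : (ResidueField R ⊗[R] E) →ₐ[ResidueField R] (ResidueField R ⊗[R] F)) :
    ∃ g : E →ₐ[R] F, ∀ x, (1 : ResidueField R) ⊗ₜ[R] g x = h ((1 : ResidueField R) ⊗ₜ[R] x) := by
  let ιF : F →ₐ[R] ResidueField R ⊗[R] F := Algebra.TensorProduct.includeRight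
  have hsurj : Function.Surjective ιF := Groth.Agent.Lib.Helper66.CFFT1.includeRight_surjective R F
  let I : Ideal F := RingHom.ker (ιF : F →+* ResidueField R ⊗[R] F)
  have hI : I ≤ Ideal.jacobson (⊥ : Ideal F) := by
    intro y hy
    exact mem_jacobson_of_one_tmul_eq_zero y hy
  let φ : (F ⧸ I) ≃ₐ[R] ResidueField R ⊗[R] F := Ideal.quotientKerAlgEquivOfSurjective hsurj
  let h' : E →ₐ[R] F ⧸ I :=
    (φ.symm : (ResidueField R ⊗[R] F) →ₐ[R] F ⧸ I).comp
      ((h.restrictScalars R).comp (Algebra.TensorProduct.includeRight : E →ₐ[R] ResidueField R ⊗[R] E))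
  obtain ⟨g, hg⟩ := Groth.Agent.Lib.Helper3.IS9.exists_lift I hI h'
  refine ⟨g, fun x => ?_⟩
  have h1 : (Ideal.Quotient.mkₐ R I) (g x) = h' x := by
    rw [← hg]; rfl
  have h2 : φ ((Ideal.Quotient.mkₐ R I) (g x)) = ιF (g x) := rfl
  have h3 : φ (h' x) = h ((1 : ResidueField R) ⊗ₜ[R] x) := by
    show φ (φ.symm _) = _
    rw [AlgEquiv.apply_symm_apply]
    rfl
  calc (1 : ResidueField R) ⊗ₜ[R] g x = ιF (g x) := rfl
    _ = φ ((Ideal.Quotient.mkₐ R I) (g x)) := h2.symm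
    _ = φ (h' x) := by rw [h1]
    _ = _ := h3

end lift

end Groth.Agent.Lib.Helper66.FL1
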