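import Mathlib
import Groth.Agent.Lib.Helper66.FL1

/-!
# Lifting a Hopf algebra structure to a finite étale lift over a henselian local ring: reduction maps
-/

set_option autoImplicit false
universe u
open TensorProduct IsLocalRing

namespace Groth.Agent.Lib.Helper66.FL2
open Groth.Agent.Lib.Helper66.FL1

variable {R : Type u} [CommRing R] [HenselianLocalRing R]
  {E : Type u} [CommRing E] [Algebra R E]
  {D₀ : Type u} [CommRing D₀] [Algebra (ResidueField R) D₀]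
  (e : (ResidueField R ⊗[R] E) ≃ₐ[ResidueField R] D₀)

/-- reduction `E → D₀` -/
noncomputable def ρ₁ (x : E) : D₀ := e ((1 : ResidueField R) ⊗ₜ[R] x)

/-- reduction `E ⊗ E → D₀ ⊗ D₀` -/
noncomputable def ρ₂ (t : E ⊗[R] E) : D₀ ⊗[ResidueField R] D₀ :=
  Algebra.TensorProduct.congr e e (θ R (ResidueField R) E E ((1 : ResidueField R) ⊗ₜ[R] t))

/-- reduction `E ⊗ (E ⊗ E) → D₀ ⊗ (D₀ ⊗ D₀)` -/
noncomputable def ρ₃ (t : E ⊗[R] (E ⊗[R] E)) : D₀ ⊗[ResidueField R] (D₀ ⊗[ResidueField R] D₀) :=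
  Algebra.TensorProduct.congr e (Algebra.TensorProduct.congr e e)
    (Algebra.TensorProduct.congr
      (AlgEquiv.refl : (ResidueField R ⊗[R] E) ≃ₐ[ResidueField R] (ResidueField R ⊗[R] E))
      (θ R (ResidueField R) E E)
      (θ R (ResidueField R) E (E ⊗[R] E) ((1 : ResidueField R) ⊗ₜ[R] t)))

theorem ρ₁_one : ρ₁ e (1 : E) = 1 := by
  unfold ρ₁
  rw [← Algebra.TensorProduct.one_def, map_one]

theorem ρ₁_mul (x y : E) : ρ₁ e (x * y) = ρ₁ e x * ρ₁ e y := by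
  unfold ρ₁
  rw [← map_mul, Algebra.TensorProduct.tmul_mul_tmul, one_mul]

theorem ρ₁_add (x y : E) : ρ₁ e (x + y) = ρ₁ e x + ρ₁ e y := by
  unfold ρ₁
  rw [TensorProduct.tmul_add, map_add]

theorem ρ₁_smul (r : R) (x : E) : ρ₁ e (r • x) = algebraMap R (ResidueField R) r • ρ₁ e x := by
  unfold ρ₁
  rw [TensorProduct.tmul_smul, ← algebraMap_smul (ResidueField R) r ((1 : ResidueField R) ⊗ₜ[R] x),
    map_smul]

theorem ρ₁_algebraMap (r : R) :
    ρ₁ e (algebraMap R E r) = algebraMap (ResidueField R) D₀ (algebraMap R (ResidueField R) r) := by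
  rw [Algebra.algebraMap_eq_smul_one, ρ₁_smul, ρ₁_one, ← Algebra.algebraMap_eq_smul_one]

theorem ρ₁_inj {x y : E} (h : ρ₁ e x = ρ₁ e y) :
    (1 : ResidueField R) ⊗ₜ[R] x = (1 : ResidueField R) ⊗ₜ[R] y :=
  e.injective h

theorem ρ₂_tmul (x y : E) : ρ₂ e (x ⊗ₜ[R] y) = ρ₁ e x ⊗ₜ[ResidueField R] ρ₁ e y := by
  unfold ρ₂ ρ₁
  rw [θ_one_tmul, Algebra.TensorProduct.congr_apply, Algebra.TensorProduct.map_tmul]
  rfl

theorem ρ₂_add (s t : E ⊗[R] E) : ρ₂ e (s + t) = ρ₂ e s + ρ₂ e t := by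
  unfold ρ₂
  rw [TensorProduct.tmul_add, map_add, map_add]

theorem ρ₂_zero : ρ₂ e (0 : E ⊗[R] E) = 0 := by
  unfold ρ₂
  rw [TensorProduct.tmul_zero, map_zero, map_zero]

theorem ρ₂_inj {s t : E ⊗[R] E} (h : ρ₂ e s = ρ₂ e t) :
    (1 : ResidueField R) ⊗ₜ[R] s = (1 : ResidueField R) ⊗ₜ[R] t := by
  unfold ρ₂ at h
  exact (θ R (ResidueField R) E E).injective ((Algebra.TensorProduct.congr e e).injective h)

theorem ρ₃_tmul_tmul (x y z : E) :
    ρ₃ e (x ⊗ₜ[R] (y ⊗ₜ[R] z)) =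
      ρ₁ e x ⊗ₜ[ResidueField R] (ρ₁ e y ⊗ₜ[ResidueField R] ρ₁ e z) := by
  unfold ρ₃ ρ₁
  rw [θ_one_tmul]
  have h1 : (Algebra.TensorProduct.congr
      (AlgEquiv.refl : (ResidueField R ⊗[R] E) ≃ₐ[ResidueField R] (ResidueField R ⊗[R] E))
      (θ R (ResidueField R) E E))
      (((1 : ResidueField R) ⊗ₜ[R] x) ⊗ₜ[ResidueField R] ((1 : ResidueField R) ⊗ₜ[R] (y ⊗ₜ[R] z))) =
      ((1 : ResidueField R) ⊗ₜ[R] x) ⊗ₜ[ResidueField R]
        (((1 : ResidueField R) ⊗ₜ[R] y) ⊗ₜ[ResidueField R] ((1 : ResidueField R) ⊗ₜ[R] z)) := by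
    rw [Algebra.TensorProduct.congr_apply, Algebra.TensorProduct.map_tmul]
    simp only [AlgEquiv.coe_toAlgHom, AlgEquiv.coe_refl, id_eq]
    rw [θ_one_tmul]
  rw [h1, Algebra.TensorProduct.congr_apply, Algebra.TensorProduct.map_tmul]
  simp only [AlgEquiv.coe_toAlgHom]
  rw [Algebra.TensorProduct.congr_apply, Algebra.TensorProduct.map_tmul]
  rfl

theorem ρ₃_add (s t : E ⊗[R] (E ⊗[R] E)) : ρ₃ e (s + t) = ρ₃ e s + ρ₃ e t := by
  unfold ρ₃
  rw [TensorProduct.tmul_add, map_add, map_add, map_add]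

theorem ρ₃_zero : ρ₃ e (0 : E ⊗[R] (E ⊗[R] E)) = 0 := by
  unfold ρ₃
  rw [TensorProduct.tmul_zero, map_zero, map_zero, map_zero]

theorem ρ₃_inj {s t : E ⊗[R] (E ⊗[R] E)} (h : ρ₃ e s = ρ₃ e t) :
    (1 : ResidueField R) ⊗ₜ[R] s = (1 : ResidueField R) ⊗ₜ[R] t := by
  unfold ρ₃ at h
  exact (θ R (ResidueField R) E (E ⊗[R] E)).injective
    ((Algebra.TensorProduct.congr AlgEquiv.refl (θ R (ResidueField R) E E)).injective
      ((Algebra.TensorProduct.congr e (Algebra.TensorProduct.congr e e)).injective h))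

theorem ρ₃_tmul (x : E) (t : E ⊗[R] E) :
    ρ₃ e (x ⊗ₜ[R] t) = ρ₁ e x ⊗ₜ[ResidueField R] ρ₂ e t := by
  induction t using TensorProduct.induction_on with
  | zero => rw [TensorProduct.tmul_zero, ρ₃_zero, ρ₂_zero, TensorProduct.tmul_zero]
  | tmul y z => rw [ρ₃_tmul_tmul, ρ₂_tmul]
  | add s t hs ht => rw [TensorProduct.tmul_add, ρ₃_add, hs, ht, ρ₂_add, TensorProduct.tmul_add]

theorem ρ₃_assoc_tmul (s : E ⊗[R] E) (y : E) :
    ρ₃ e (TensorProduct.assoc R E E E (s ⊗ₜ[R] y)) =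
      TensorProduct.assoc (ResidueField R) D₀ D₀ D₀ (ρ₂ e s ⊗ₜ[ResidueField R] ρ₁ e y) := by
  induction s using TensorProduct.induction_on with
  | zero =>
    rw [TensorProduct.zero_tmul, map_zero, ρ₃_zero, ρ₂_zero, TensorProduct.zero_tmul, map_zero]
  | tmul a b =>
    rw [TensorProduct.assoc_tmul, ρ₃_tmul_tmul, ρ₂_tmul, TensorProduct.assoc_tmul]
  | add s t hs ht =>
    rw [TensorProduct.add_tmul, map_add, ρ₃_add, hs, ht, ρ₂_add, TensorProduct.add_tmul, map_add]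

end Groth.Agent.Lib.Helper66.FL2
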