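import Mathlib
import Groth.Agent.Lib.Helper66.FL2

/-!
# Lifting a Hopf algebra structure to a finite étale lift over a henselian local ring:
structure maps and axioms (helper66)
-/

set_option autoImplicit false
universe u
open TensorProduct IsLocalRing

namespace Groth.Agent.Lib.Helper66.FL3
open Groth.Agent.Lib.Helper66.FL1 Groth.Agent.Lib.Helper66.FL2

variable {R : Type u} [CommRing R] [HenselianLocalRing R]
  {E : Type u} [CommRing E] [Algebra R E] [Module.Finite R E] [Algebra.Etale R E]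
  {D₀ : Type u} [CommRing D₀] [HopfAlgebra (ResidueField R) D₀]
  (e : (ResidueField R ⊗[R] E) ≃ₐ[ResidueField R] D₀)

theorem exists_comul : ∃ Δ : E →ₐ[R] E ⊗[R] E,
    ∀ x, ρ₂ e (Δ x) = Coalgebra.comul (R := ResidueField R) (ρ₁ e x) := by
  let h : (ResidueField R ⊗[R] E) →ₐ[ResidueField R] (ResidueField R ⊗[R] (E ⊗[R] E)) :=
    (θ R (ResidueField R) E E).symm.toAlgHom.comp
      ((Algebra.TensorProduct.congr e e).symm.toAlgHom.comp
        ((Bialgebra.comulAlgHom (ResidueField R) D₀).comp e.toAlgHom))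
  obtain ⟨Δ, hΔ⟩ := exists_lift (R := R) (E := E) (F := E ⊗[R] E) h
  refine ⟨Δ, fun x => ?_⟩
  unfold ρ₂ ρ₁
  rw [hΔ x]
  simp only [h, AlgHom.comp_apply, AlgEquiv.coe_toAlgHom, AlgEquiv.apply_symm_apply,
    AlgHom.coe_coe]
  rfl

theorem exists_counit : ∃ ε : E →ₐ[R] R,
    ∀ x, algebraMap R (ResidueField R) (ε x) = Coalgebra.counit (R := ResidueField R) (ρ₁ e x) := by
  let h : (ResidueField R ⊗[R] E) →ₐ[ResidueField R] (ResidueField R ⊗[R] R) :=
    ((Algebra.TensorProduct.rid R (ResidueField R) (ResidueField R)).symm :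
        _ →ₐ[ResidueField R] _).comp
      ((Bialgebra.counitAlgHom (ResidueField R) D₀).comp (e : _ →ₐ[ResidueField R] D₀))
  obtain ⟨ε, hε⟩ := exists_lift (R := R) (E := E) (F := R) h
  refine ⟨ε, fun x => ?_⟩
  have h1 := congrArg (Algebra.TensorProduct.rid R (ResidueField R) (ResidueField R)) (hε x)
  simp only [h, AlgHom.comp_apply, AlgEquiv.coe_toAlgHom, AlgEquiv.apply_symm_apply,
    AlgHom.coe_coe, Algebra.TensorProduct.rid_tmul] at h1
  rw [Algebra.algebraMap_eq_smul_one, h1]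
  rfl

theorem exists_antipode : ∃ S : E →ₐ[R] E,
    ∀ x, ρ₁ e (S x) = HopfAlgebra.antipode (ResidueField R) (ρ₁ e x) := by
  let h : (ResidueField R ⊗[R] E) →ₐ[ResidueField R] (ResidueField R ⊗[R] E) :=
    (e.symm : _ →ₐ[ResidueField R] _).comp
      ((HopfAlgebra.antipodeAlgHom (ResidueField R) D₀).comp (e : _ →ₐ[ResidueField R] D₀))
  obtain ⟨S, hS⟩ := exists_lift (R := R) (E := E) (F := E) h
  refine ⟨S, fun x => ?_⟩
  unfold ρ₁
  rw [hS x]
  simp only [h, AlgHom.comp_apply, AlgEquiv.coe_toAlgHom, AlgEquiv.apply_symm_apply,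
    AlgHom.coe_coe]
  rfl

section axioms
variable (Δ : E →ₐ[R] E ⊗[R] E)
  (hΔ : ∀ x, ρ₂ e (Δ x) = Coalgebra.comul (R := ResidueField R) (ρ₁ e x))
  (ε : E →ₐ[R] R)
  (hε : ∀ x, algebraMap R (ResidueField R) (ε x) =
    Coalgebra.counit (R := ResidueField R) (ρ₁ e x))
  (S : E →ₐ[R] E)
  (hS : ∀ x, ρ₁ e (S x) = HopfAlgebra.antipode (ResidueField R) (ρ₁ e x))

include hΔ in
theorem ρ₃_map_id (t : E ⊗[R] E) :
    ρ₃ e (Algebra.TensorProduct.map (AlgHom.id R E) Δ t) =
      (Coalgebra.comul (R := ResidueField R) (A := D₀)).lTensor D₀ (ρ₂ e t) := by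
  induction t using TensorProduct.induction_on with
  | zero => rw [map_zero, ρ₃_zero, ρ₂_zero, map_zero]
  | tmul x y =>
    rw [Algebra.TensorProduct.map_tmul, AlgHom.id_apply, ρ₃_tmul, hΔ, ρ₂_tmul,
      LinearMap.lTensor_tmul]
  | add s t hs ht => rw [map_add, ρ₃_add, hs, ht, ρ₂_add, map_add]

include hΔ in
theorem ρ₃_assoc_map (t : E ⊗[R] E) :
    ρ₃ e (TensorProduct.assoc R E E E (Algebra.TensorProduct.map Δ (AlgHom.id R E) t)) =
      TensorProduct.assoc (ResidueField R) D₀ D₀ D₀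
        ((Coalgebra.comul (R := ResidueField R) (A := D₀)).rTensor D₀ (ρ₂ e t)) := by
  induction t using TensorProduct.induction_on with
  | zero => rw [map_zero, map_zero, ρ₃_zero, ρ₂_zero, map_zero, map_zero]
  | tmul x y =>
    rw [Algebra.TensorProduct.map_tmul, AlgHom.id_apply, ρ₃_assoc_tmul, hΔ, ρ₂_tmul,
      LinearMap.rTensor_tmul]
  | add s t hs ht => rw [map_add, map_add, ρ₃_add, hs, ht, ρ₂_add, map_add, map_add]

include hΔ in
theorem coassoc :
    (Algebra.TensorProduct.assoc R R R E E E).toAlgHom.comp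
      ((Algebra.TensorProduct.map Δ (.id R E)).comp Δ) =
    (Algebra.TensorProduct.map (.id R E) Δ).comp Δ := by
  apply algHom_ext (R := R)
  intro x
  apply ρ₃_inj e
  have h1 : ((Algebra.TensorProduct.assoc R R R E E E).toAlgHom.comp
      ((Algebra.TensorProduct.map Δ (.id R E)).comp Δ)) x =
      TensorProduct.assoc R E E E (Algebra.TensorProduct.map Δ (AlgHom.id R E) (Δ x)) := rfl
  have h2 : ((Algebra.TensorProduct.map (.id R E) Δ).comp Δ) x =
      Algebra.TensorProduct.map (AlgHom.id R E) Δ (Δ x) := rfl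
  rw [h1, h2, ρ₃_assoc_map e Δ hΔ, ρ₃_map_id e Δ hΔ, hΔ, Coalgebra.coassoc_apply]

include hΔ hε in
theorem ρ₁_lid_map (t : E ⊗[R] E) :
    ρ₁ e (TensorProduct.lid R E (Algebra.TensorProduct.map ε (AlgHom.id R E) t)) =
      TensorProduct.lid (ResidueField R) D₀
        ((Coalgebra.counit (R := ResidueField R) (A := D₀)).rTensor D₀ (ρ₂ e t)) := by
  induction t using TensorProduct.induction_on with
  | zero => simp only [map_zero, ρ₂_zero]; unfold ρ₁; rw [TensorProduct.tmul_zero, map_zero]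
  | tmul x y =>
    rw [Algebra.TensorProduct.map_tmul, AlgHom.id_apply, TensorProduct.lid_tmul, ρ₁_smul, hε,
      ρ₂_tmul, LinearMap.rTensor_tmul, TensorProduct.lid_tmul]
  | add s t hs ht =>
    rw [map_add, map_add, ρ₁_add, hs, ht, ρ₂_add, map_add, map_add]

include hΔ hε in
theorem rTensor_counit :
    (Algebra.TensorProduct.map ε (.id R E)).comp Δ =
      ((Algebra.TensorProduct.lid R E).symm : E →ₐ[R] R ⊗[R] E) := by
  apply algHom_ext (R := R)
  intro x
  have key : ρ₁ e (TensorProduct.lid R E (Algebra.TensorProduct.map ε (AlgHom.id R E) (Δ x))) =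
      ρ₁ e x := by
    rw [ρ₁_lid_map e Δ hΔ ε hε, hΔ, Coalgebra.rTensor_counit_comul, TensorProduct.lid_tmul, one_smul]
  have h1 := ρ₁_inj e key
  have h2 := congrArg (LinearMap.lTensor (ResidueField R) (TensorProduct.lid R E).symm.toLinearMap) h1
  rw [LinearMap.lTensor_tmul, LinearMap.lTensor_tmul] at h2
  simp only [LinearEquiv.coe_coe, LinearEquiv.symm_apply_apply] at h2
  exact h2

include hΔ hε in
theorem ρ₁_rid_map (t : E ⊗[R] E) :
    ρ₁ e (TensorProduct.rid R E (Algebra.TensorProduct.map (AlgHom.id R E) ε t)) =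
      TensorProduct.rid (ResidueField R) D₀
        ((Coalgebra.counit (R := ResidueField R) (A := D₀)).lTensor D₀ (ρ₂ e t)) := by
  induction t using TensorProduct.induction_on with
  | zero => simp only [map_zero, ρ₂_zero]; unfold ρ₁; rw [TensorProduct.tmul_zero, map_zero]
  | tmul x y =>
    rw [Algebra.TensorProduct.map_tmul, AlgHom.id_apply, TensorProduct.rid_tmul, ρ₁_smul, hε,
      ρ₂_tmul, LinearMap.lTensor_tmul, TensorProduct.rid_tmul]
  | add s t hs ht =>
    rw [map_add, map_add, ρ₁_add, hs, ht, ρ₂_add, map_add, map_add]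

include hΔ hε in
theorem lTensor_counit :
    (Algebra.TensorProduct.map (.id R E) ε).comp Δ =
      ((Algebra.TensorProduct.rid R R E).symm : E →ₐ[R] E ⊗[R] R) := by
  apply algHom_ext (R := R)
  intro x
  have key : ρ₁ e (TensorProduct.rid R E (Algebra.TensorProduct.map (AlgHom.id R E) ε (Δ x))) =
      ρ₁ e x := by
    rw [ρ₁_rid_map e Δ hΔ ε hε, hΔ, Coalgebra.lTensor_counit_comul, TensorProduct.rid_tmul, one_smul]
  have h1 := ρ₁_inj e key
  have h2 := congrArg (LinearMap.lTensor (ResidueField R) (TensorProduct.rid R E).symm.toLinearMap) h1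
  rw [LinearMap.lTensor_tmul, LinearMap.lTensor_tmul] at h2
  simp only [LinearEquiv.coe_coe, LinearEquiv.symm_apply_apply] at h2
  exact h2

include hS in
theorem ρ₁_mul_map_r (t : E ⊗[R] E) :
    ρ₁ e (Algebra.TensorProduct.lmul' R (Algebra.TensorProduct.map S (AlgHom.id R E) t)) =
      LinearMap.mul' (ResidueField R) D₀
        ((HopfAlgebra.antipode (ResidueField R) (A := D₀)).rTensor D₀ (ρ₂ e t)) := by
  induction t using TensorProduct.induction_on with
  | zero => simp only [map_zero, ρ₂_zero]; unfold ρ₁; rw [TensorProduct.tmul_zero, map_zero]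
  | tmul x y =>
    rw [Algebra.TensorProduct.map_tmul, AlgHom.id_apply, Algebra.TensorProduct.lmul'_apply_tmul,
      ρ₁_mul, hS, ρ₂_tmul, LinearMap.rTensor_tmul, LinearMap.mul'_apply]
  | add s t hs ht =>
    rw [map_add, map_add, ρ₁_add, hs, ht, ρ₂_add, map_add, map_add]

include hS in
theorem ρ₁_mul_map_l (t : E ⊗[R] E) :
    ρ₁ e (Algebra.TensorProduct.lmul' R (Algebra.TensorProduct.map (AlgHom.id R E) S t)) =
      LinearMap.mul' (ResidueField R) D₀
        ((HopfAlgebra.antipode (ResidueField R) (A := D₀)).lTensor D₀ (ρ₂ e t)) := by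
  induction t using TensorProduct.induction_on with
  | zero => simp only [map_zero, ρ₂_zero]; unfold ρ₁; rw [TensorProduct.tmul_zero, map_zero]
  | tmul x y =>
    rw [Algebra.TensorProduct.map_tmul, AlgHom.id_apply, Algebra.TensorProduct.lmul'_apply_tmul,
      ρ₁_mul, hS, ρ₂_tmul, LinearMap.lTensor_tmul, LinearMap.mul'_apply]
  | add s t hs ht =>
    rw [map_add, map_add, ρ₁_add, hs, ht, ρ₂_add, map_add, map_add]

include hΔ hε hS in
theorem antipode_r :
    (Algebra.TensorProduct.lmul' R).comp ((Algebra.TensorProduct.map S (.id R E)).comp Δ) =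
      (Algebra.ofId R E).comp ε := by
  apply algHom_ext (R := R)
  intro x
  apply ρ₁_inj e
  have h1 : ((Algebra.TensorProduct.lmul' R).comp
      ((Algebra.TensorProduct.map S (.id R E)).comp Δ)) x =
      Algebra.TensorProduct.lmul' R (Algebra.TensorProduct.map S (AlgHom.id R E) (Δ x)) := rfl
  have h2 : ((Algebra.ofId R E).comp ε) x = algebraMap R E (ε x) := rfl
  rw [h1, h2, ρ₁_mul_map_r e S hS, hΔ, HopfAlgebra.mul_antipode_rTensor_comul_apply,
    ρ₁_algebraMap, hε]

include hΔ hε hS in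
theorem antipode_l :
    (Algebra.TensorProduct.lmul' R).comp ((Algebra.TensorProduct.map (.id R E) S).comp Δ) =
      (Algebra.ofId R E).comp ε := by
  apply algHom_ext (R := R)
  intro x
  apply ρ₁_inj e
  have h1 : ((Algebra.TensorProduct.lmul' R).comp
      ((Algebra.TensorProduct.map (.id R E) S).comp Δ)) x =
      Algebra.TensorProduct.lmul' R (Algebra.TensorProduct.map (AlgHom.id R E) S (Δ x)) := rfl
  have h2 : ((Algebra.ofId R E).comp ε) x = algebraMap R E (ε x) := rfl
  rw [h1, h2, ρ₁_mul_map_l e S hS, hΔ, HopfAlgebra.mul_antipode_lTensor_comul_apply,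
    ρ₁_algebraMap, hε]

theorem ρ₂_comm (t : E ⊗[R] E) :
    ρ₂ e (TensorProduct.comm R E E t) = TensorProduct.comm (ResidueField R) D₀ D₀ (ρ₂ e t) := by
  induction t using TensorProduct.induction_on with
  | zero => rw [map_zero, ρ₂_zero, map_zero]
  | tmul x y => rw [TensorProduct.comm_tmul, ρ₂_tmul, ρ₂_tmul, TensorProduct.comm_tmul]
  | add s t hs ht => rw [map_add, ρ₂_add, hs, ht, ρ₂_add, map_add]

include hΔ in
theorem cocomm [Coalgebra.IsCocomm (ResidueField R) D₀] (x : E) :
    TensorProduct.comm R E E (Δ x) = Δ x := by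
  have h : (Algebra.TensorProduct.comm R E E).toAlgHom.comp Δ = Δ := by
    apply algHom_ext (R := R)
    intro y
    apply ρ₂_inj e
    have h1 : ((Algebra.TensorProduct.comm R E E).toAlgHom.comp Δ) y =
        TensorProduct.comm R E E (Δ y) := rfl
    rw [h1, ρ₂_comm, hΔ, Coalgebra.comm_comul]
  exact DFunLike.congr_fun h x

end axioms

end Groth.Agent.Lib.Helper66.FL3
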