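import Mathlib
import Groth.Agent.Lib.Helper66.FL3
import Groth.Agent.Lib.Helper3.IS11
import Groth.Agent.S0518

/-!
# Finite groups of multiplicative type lift over henselian local rings (helper66)
-/

set_option autoImplicit false
universe u
open TensorProduct IsLocalRing

namespace Groth.Agent.Lib.Helper66.FL4
open Groth.Agent.Lib.Helper66.FL1 Groth.Agent.Lib.Helper66.FL2 Groth.Agent.Lib.Helper66.FL3
open Groth.Agent.Lib.Helper3

theorem connectedSpace_of_isLocalRing (R : Type u) [CommRing R] [IsLocalRing R] :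
    ConnectedSpace (PrimeSpectrum R) := by
  haveI : PreconnectedSpace (PrimeSpectrum R) := by
    refine ⟨isPreconnected_of_forall (IsLocalRing.closedPoint R) fun y _ => ?_⟩
    refine ⟨closure {y}, Set.subset_univ _, ?_, subset_closure rfl, isPreconnected_singleton.closure⟩
    exact specializes_iff_mem_closure.1 (IsLocalRing.specializes_closedPoint y)
  exact ⟨⟨IsLocalRing.closedPoint R⟩⟩

/-- the final assembly from a Hopf algebra `E` lifting the Cartier dual of `C₀`. -/
theorem final (R : Type u) [CommRing R] [HenselianLocalRing R]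
    (C₀ : Type u) [CommRing C₀] [HopfAlgebra (ResidueField R) C₀] [Module.Finite (ResidueField R) C₀]
    (E : Type u) [CommRing E] [HopfAlgebra R E] [Coalgebra.IsCocomm R E] [Module.Finite R E]
    [Algebra.Etale R E]
    (e₀ : (ResidueField R ⊗[R] E) ≃ₐc[ResidueField R] CartDual.D (ResidueField R) C₀) :
    ∃ (C : Type u) (_ : CommRing C) (_ : HopfAlgebra R C), Module.Finite R C ∧
      SGA3b.IsIsotrivial R C ∧ Nonempty ((ResidueField R ⊗[R] C) ≃ₐc[ResidueField R] C₀) := by
  haveI : Module.Flat R E := inferInstance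
  haveI : Module.FinitePresentation R E := Module.FinitePresentation.of_finite_of_finitePresentation R E
  haveI : Module.Projective R E := Module.Flat.projective_of_finitePresentation
  haveI := connectedSpace_of_isLocalRing R
  refine ⟨CartDual.D R E, inferInstance, inferInstance, inferInstance, ?_, ?_⟩
  · apply IS5.forward' R (CartDual.D R E)
    exact Algebra.Etale.of_equiv ((IS11.evalEquiv R E : E ≃ₐc[R] _) : E ≃ₐ[R] CartDual.D R (CartDual.D R E))
  · exact ⟨((IS11.PhiEc (k := R) (A := E) (R := ResidueField R)).trans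
      (IS11.transposeEquivC e₀.symm)).trans (IS11.evalEquiv (ResidueField R) C₀).symm⟩


/-- the Hopf algebra structure on a finite étale lift and the resulting bialgebra isomorphism. -/
theorem exists_hopf (R : Type u) [CommRing R] [HenselianLocalRing R]
    (E : Type u) [CommRing E] [Algebra R E] [Module.Finite R E] [Algebra.Etale R E]
    (D₀ : Type u) [CommRing D₀] [HopfAlgebra (ResidueField R) D₀]
    [Coalgebra.IsCocomm (ResidueField R) D₀]
    (e : (ResidueField R ⊗[R] E) ≃ₐ[ResidueField R] D₀) :
    ∃ (Δ : E →ₐ[R] E ⊗[R] E) (ε : E →ₐ[R] R) (S : E →ₐ[R] E)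
      (_ : (Algebra.TensorProduct.assoc R R R E E E).toAlgHom.comp
        ((Algebra.TensorProduct.map Δ (.id R E)).comp Δ) =
        (Algebra.TensorProduct.map (.id R E) Δ).comp Δ)
      (_ : (Algebra.TensorProduct.map ε (.id R E)).comp Δ =
        ((Algebra.TensorProduct.lid R E).symm : E →ₐ[R] R ⊗[R] E))
      (_ : (Algebra.TensorProduct.map (.id R E) ε).comp Δ =
        ((Algebra.TensorProduct.rid R R E).symm : E →ₐ[R] E ⊗[R] R)),
      ((Algebra.TensorProduct.lmul' R).comp ((Algebra.TensorProduct.map S (.id R E)).comp Δ) =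
        (Algebra.ofId R E).comp ε) ∧
      ((Algebra.TensorProduct.lmul' R).comp ((Algebra.TensorProduct.map (.id R E) S).comp Δ) =
        (Algebra.ofId R E).comp ε) ∧
      (∀ x, TensorProduct.comm R E E (Δ x) = Δ x) ∧
      (∀ x, ρ₂ e (Δ x) = Coalgebra.comul (R := ResidueField R) (ρ₁ e x)) ∧
      (∀ x, algebraMap R (ResidueField R) (ε x) =
        Coalgebra.counit (R := ResidueField R) (ρ₁ e x)) := by
  obtain ⟨Δ, hΔ⟩ := exists_comul e
  obtain ⟨ε, hε⟩ := exists_counit e
  obtain ⟨S, hS⟩ := exists_antipode e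
  exact ⟨Δ, ε, S, coassoc e Δ hΔ, rTensor_counit e Δ hΔ ε hε, lTensor_counit e Δ hΔ ε hε,
    antipode_r e Δ hΔ ε hε S hS, antipode_l e Δ hΔ ε hε S hS, cocomm e Δ hΔ, hΔ, hε⟩

theorem main (R : Type u) [CommRing R] [HenselianLocalRing R]
    (C₀ : Type u) [CommRing C₀] [HopfAlgebra (ResidueField R) C₀] [Module.Finite (ResidueField R) C₀]
    (h₀ : SGA3b.IsMultType (ResidueField R) C₀) :
    ∃ (C : Type u) (_ : CommRing C) (_ : HopfAlgebra R C), Module.Finite R C ∧
      SGA3b.IsIsotrivial R C ∧ Nonempty ((ResidueField R ⊗[R] C) ≃ₐc[ResidueField R] C₀) := by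
  classical
  haveI : Coalgebra.IsCocomm (ResidueField R) C₀ := IS8.cocomm_of_multType _ C₀ h₀
  haveI het0 : Algebra.Etale (ResidueField R) (CartDual.D (ResidueField R) C₀) :=
    IS8.etale_dual_of_multType _ C₀ h₀
  obtain ⟨E, _, _, hfin, het, ⟨e⟩⟩ :=
    Groth.Agent.S0518.result R (CartDual.D (ResidueField R) C₀)
  haveI := hfin
  haveI := het
  obtain ⟨Δ, ε, S, h1, h2, h3, h4, h5, h6, hΔ, hε⟩ :=
    exists_hopf R E (CartDual.D (ResidueField R) C₀) e
  let bialg : Bialgebra R E := Bialgebra.ofAlgHom Δ ε h1 h2 h3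
  let hopf : HopfAlgebra R E :=
    { antipode := S.toLinearMap
      mul_antipode_rTensor_comul := by
        apply LinearMap.ext
        intro x
        exact DFunLike.congr_fun h4 x
      mul_antipode_lTensor_comul := by
        apply LinearMap.ext
        intro x
        exact DFunLike.congr_fun h5 x }
  haveI : Coalgebra.IsCocomm R E := ⟨by
    apply LinearMap.ext
    intro x
    exact h6 x⟩
  -- `e` is a bialgebra isomorphism
  have hcounit : ∀ z : ResidueField R ⊗[R] E,
      Coalgebra.counit (R := ResidueField R) (e z) = Coalgebra.counit (R := ResidueField R) z := by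
    intro z
    induction z using TensorProduct.induction_on with
    | zero => simp
    | tmul r x =>
      have hr : r ⊗ₜ[R] x = r • ((1 : ResidueField R) ⊗ₜ[R] x) := by
        rw [TensorProduct.smul_tmul', smul_eq_mul, mul_one]
      rw [hr, map_smul, map_smul, map_smul]
      congr 1
      rw [Groth.Agent.Lib.Helper66.CoBase.counit_one_tmul]
      exact (hε x).symm
    | add a b ha hb => rw [map_add, map_add, map_add, ha, hb]
  have hcomul : ∀ z : ResidueField R ⊗[R] E,
      Algebra.TensorProduct.map (e : _ →ₐ[ResidueField R] _) (e : _ →ₐ[ResidueField R] _)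
        (Coalgebra.comul (R := ResidueField R) z) =
      Coalgebra.comul (R := ResidueField R) (e z) := by
    intro z
    induction z using TensorProduct.induction_on with
    | zero => simp
    | tmul r x =>
      have hr : r ⊗ₜ[R] x = r • ((1 : ResidueField R) ⊗ₜ[R] x) := by
        rw [TensorProduct.smul_tmul', smul_eq_mul, mul_one]
      rw [hr, map_smul, map_smul, map_smul, map_smul]
      congr 1
      rw [Groth.Agent.Lib.Helper66.CoBase.comul_one_tmul]
      have := hΔ x
      unfold ρ₂ ρ₁ at this
      rw [← this]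
      have hΘ : ∀ t : E ⊗[R] E, Groth.Agent.Lib.Helper66.CoBase.Θ R (ResidueField R) E t =
          θ R (ResidueField R) E E ((1 : ResidueField R) ⊗ₜ[R] t) := by
        intro t
        induction t using TensorProduct.induction_on with
        | zero => rw [map_zero, TensorProduct.tmul_zero, map_zero]
        | tmul a b => rw [Groth.Agent.Lib.Helper66.CoBase.Θ_tmul, θ_one_tmul]
        | add s t hs ht => rw [map_add, hs, ht, TensorProduct.tmul_add, map_add]
      have hcx : (Coalgebra.comul (R := R) x : E ⊗[R] E) = Δ x := rfl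
      rw [hΘ, hcx]
      rfl
    | add a b ha hb => rw [map_add, map_add, map_add, map_add, ha, hb]
  let e₀ : (ResidueField R ⊗[R] E) ≃ₐc[ResidueField R] CartDual.D (ResidueField R) C₀ :=
    BialgEquiv.ofAlgEquiv e (AlgHom.ext fun z => hcounit z) (AlgHom.ext fun z => hcomul z)
  exact final R C₀ E e₀

end Groth.Agent.Lib.Helper66.FL4
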