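import Mathlib

/-!
# Geometric connectedness of a connected algebra with a rational point (helper66)

`C` a commutative `k`-algebra without nontrivial idempotents and with a `k`-point `ε : C → k`.
Then `C ⊗[k] L` has no nontrivial idempotents for every algebraic field extension `L / k`.
-/

set_option autoImplicit false
universe u v w

namespace Groth.Agent.Lib.Helper66.GC1

open TensorProduct

section Finite

variable {k : Type u} [Field k] {C : Type v} [CommRing C] [Algebra k C] (ε : C →ₐ[k] k)
  {L : Type w} [CommRing L] [Algebra k L]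

/-- `ε ⊗ id : C ⊗ L → L` -/
noncomputable def evL : C ⊗[k] L →ₐ[k] L :=
  (Algebra.TensorProduct.lid k L).toAlgHom.comp (Algebra.TensorProduct.map ε (AlgHom.id k L))

theorem evL_tmul (c : C) (l : L) : evL ε (c ⊗ₜ[k] l) = ε c • l := by
  simp [evL]

variable [Module.Finite k L]

theorem map_leftMulMatrix {ι : Type*} [Fintype ι] [DecidableEq ι] (b : Module.Basis ι k L)
    (x : C ⊗[k] L) (i j : ι) :
    ε (Algebra.leftMulMatrix (Algebra.TensorProduct.basis C b) x i j) =
      Algebra.leftMulMatrix b (evL ε x) i j := by
  induction x using TensorProduct.induction_on with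
  | zero => simp
  | add x y hx hy => simp only [map_add, Matrix.add_apply, hx, hy]
  | tmul c l =>
    rw [Algebra.leftMulMatrix_eq_repr_mul, Algebra.leftMulMatrix_eq_repr_mul,
      Algebra.TensorProduct.basis_apply, Algebra.TensorProduct.tmul_mul_tmul, mul_one,
      Algebra.TensorProduct.basis_repr_tmul, evL_tmul]
    simp

/-- the finite case -/
theorem eq_one_of_finite (hconn : ∀ e : C, IsIdempotentElem e → e = 0 ∨ e = 1)
    (e : C ⊗[k] L) (he : IsIdempotentElem e) (h1 : evL ε e = 1) : e = 1 := by
  classical
  let ι := Module.Free.ChooseBasisIndex k L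
  let b : Module.Basis ι k L := Module.Free.chooseBasis k L
  let bC := Algebra.TensorProduct.basis C b
  let M := Algebra.leftMulMatrix bC
  have hMe : M e * M e = M e := by
    rw [← map_mul, he.eq]
  have hd : IsIdempotentElem (M e).det := by
    unfold IsIdempotentElem
    rw [← Matrix.det_mul, hMe]
  have hεd : ε (M e).det = 1 := by
    have h2 : (ε : C →+* k).mapMatrix (M e) = Algebra.leftMulMatrix b (evL ε e) := by
      ext i j
      exact map_leftMulMatrix ε b e i j
    have h3 : ε (M e).det = ((ε : C →+* k).mapMatrix (M e)).det := by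
      rw [← RingHom.map_det]
      rfl
    rw [h3, h2, h1, map_one, Matrix.det_one]
  have hdet : (M e).det = 1 := by
    rcases hconn _ hd with h | h
    · rw [h, map_zero] at hεd
      exact absurd hεd zero_ne_one
    · exact h
  have hunit : IsUnit (M e) := by
    rw [Matrix.isUnit_iff_isUnit_det, hdet]
    exact isUnit_one
  have hM1 : M e = 1 := by
    obtain ⟨u, hu⟩ := hunit
    have := congrArg (fun z => (↑u⁻¹ : Matrix ι ι C) * z) hMe
    simp only [← mul_assoc, ← hu, Units.inv_mul, one_mul] at this
    rw [← hu]
    exact this
  apply Algebra.leftMulMatrix_injective bC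
  rw [hM1, map_one]

end Finite

section Algebraic

variable {k : Type u} [Field k] {C : Type v} [CommRing C] [Algebra k C] (ε : C →ₐ[k] k)
  {L : Type w} [Field L] [Algebra k L] [Algebra.IsAlgebraic k L]

theorem evL_map (L' : Subalgebra k L) (x : C ⊗[k] L') :
    evL ε (Algebra.TensorProduct.map (AlgHom.id k C) L'.val x) =
      ((evL (L := L') ε x : L') : L) := by
  induction x using TensorProduct.induction_on with
  | zero => simp
  | add x y hx hy => simp only [map_add, hx, hy, Subalgebra.coe_add]
  | tmul c l =>
    rw [Algebra.TensorProduct.map_tmul, evL_tmul, evL_tmul]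
    rfl

theorem eq_one_of_algebraic (hconn : ∀ e : C, IsIdempotentElem e → e = 0 ∨ e = 1)
    (e : C ⊗[k] L) (he : IsIdempotentElem e) (h1 : evL ε e = 1) : e = 1 := by
  classical
  obtain ⟨N', hfin, hN⟩ := TensorProduct.exists_finite_submodule_right_of_setFinite
    ({e} : Set (C ⊗[k] L)) (Set.finite_singleton e)
  obtain ⟨s, hs⟩ := Module.Finite.iff_fg.mp hfin
  let L' : Subalgebra k L := Algebra.adjoin k (s : Set L)
  haveI : Module.Finite k L' := Algebra.finite_adjoin_of_finite_of_isIntegral s.finite_toSet
    (fun x _ => Algebra.IsIntegral.isIntegral x)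
  have hle : N' ≤ Subalgebra.toSubmodule L' := by
    rw [← hs]
    exact Submodule.span_le.mpr Algebra.subset_adjoin
  let j : C ⊗[k] L' →ₐ[k] C ⊗[k] L := Algebra.TensorProduct.map (AlgHom.id k C) L'.val
  have hj : Function.Injective j := by
    have : Function.Injective (L'.val.toLinearMap.lTensor C) :=
      Module.Flat.lTensor_preserves_injective_linearMap _ Subtype.val_injective
    exact this
  obtain ⟨e', he'⟩ : ∃ e', j e' = e := by
    obtain ⟨y, hy⟩ := hN (Set.mem_singleton e)
    refine ⟨(Submodule.inclusion hle).lTensor C y, ?_⟩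
    rw [← hy]
    generalize y = z
    induction z using TensorProduct.induction_on with
    | zero => simp
    | add x y hx hy => simp only [map_add, hx, hy]
    | tmul c l => rfl
  have hidem : IsIdempotentElem e' := by
    apply hj
    rw [map_mul, he', he.eq]
  have h1' : evL ε e' = 1 := by
    apply Subtype.val_injective
    rw [← evL_map, he', h1]
    rfl
  have := eq_one_of_finite ε hconn e' hidem h1'
  rw [← he', this, map_one]

include ε in
/-- **Geometric connectedness** for algebraic extensions. -/
theorem idem_of_algebraic (hconn : ∀ e : C, IsIdempotentElem e → e = 0 ∨ e = 1)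
    (e : C ⊗[k] L) (he : IsIdempotentElem e) : e = 0 ∨ e = 1 := by
  have h : IsIdempotentElem (evL ε e) := he.map (evL ε)
  rcases IsIdempotentElem.iff_eq_zero_or_one.mp h with h0 | h1
  · left
    have h2 : evL ε (1 - e) = 1 := by rw [map_sub, map_one, h0, sub_zero]
    have := eq_one_of_algebraic ε hconn (1 - e) he.one_sub h2
    have h3 : e = 1 - (1 - e) := by ring
    rw [h3, this, sub_self]
  · right
    exact eq_one_of_algebraic ε hconn e he h1

end Algebraic

end Groth.Agent.Lib.Helper66.GC1
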