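import Mathlib
import Groth.Agent.Lib.Helper66.GC1
import Groth.Agent.Lib.Helper32.Rosenlicht.HopfDomain
import Groth.Agent.Lib.Helper32.Rosenlicht.Affine
import Groth.Prelude.Def_HopfRep

/-!
# Smooth connected Hopf algebras are geometrically integral; units of unipotent ones (helper66)

The two lemmas on reducedness are copied from helper78's `GeomRed` (to avoid its import closure).
-/

set_option autoImplicit false
universe u v

namespace Groth.Agent.Lib.Helper66.GC2

open TensorProduct

section Reduced

/-- an étale algebra over a domain is reduced (helper78) -/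
theorem isReduced_of_etale_of_isDomain {P T : Type u} [CommRing P] [IsDomain P] [CommRing T]
    [Algebra P T] [Algebra.Etale P T] : IsReduced T := by
  have hinj : Function.Injective
      (Algebra.TensorProduct.includeRight : T →ₐ[P] (FractionRing P) ⊗[P] T) :=
    Algebra.TensorProduct.includeRight_injective (IsFractionRing.injective P (FractionRing P))
  haveI : IsReduced ((FractionRing P) ⊗[P] T) :=
    Algebra.FormallyUnramified.isReduced_of_field (FractionRing P) ((FractionRing P) ⊗[P] T)
  exact isReduced_of_injective _ hinj

/-- a smooth algebra over a field is reduced (helper78) -/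
theorem isReduced_of_smooth_field {K S : Type u} [Field K] [CommRing S] [Algebra K S]
    [Algebra.Smooth K S] : IsReduced S := by
  constructor
  intro x hx
  by_contra hx0
  have hI : (Ideal.span {x}).annihilator ≠ ⊤ := by
    intro h
    have : (1 : S) ∈ (Ideal.span {x}).annihilator := h ▸ Submodule.mem_top
    rw [Submodule.mem_annihilator_span_singleton, one_smul] at this
    exact hx0 this
  obtain ⟨m, hm, hle⟩ := Ideal.exists_le_maximal _ hI
  haveI : m.IsPrime := hm.isPrime
  obtain ⟨f, hf, n, _, _, _⟩ :=
    Algebra.IsSmoothAt.exists_isStandardEtale_mvPolynomial (R := K) (p := m)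
  haveI : IsReduced (Localization.Away f) :=
    isReduced_of_etale_of_isDomain (P := MvPolynomial (Fin n) K)
  have h0 : algebraMap S (Localization.Away f) x = 0 :=
    IsReduced.eq_zero _ (hx.map _)
  rw [IsLocalization.map_eq_zero_iff (Submonoid.powers f)] at h0
  obtain ⟨⟨_, k, rfl⟩, hk⟩ := h0
  apply hf
  apply hm.isPrime.mem_of_pow_mem k
  apply hle
  rw [Submodule.mem_annihilator_span_singleton]
  exact hk

end Reduced

section GroupLike

variable {K : Type u} [Field K] {A : Type u} [CommRing A] [HopfAlgebra K A]

/-- the one-dimensional comodule attached to a group-like element -/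
@[reducible] noncomputable def glComod (g : A) (hg : IsGroupLikeElem K g) : HopfRep.Comod K A K where
  coact := (TensorProduct.mk K K A).flip g
  coassoc := by
    ext
    simp [hg.comul_eq_tmul_self]
  counit_comp := by
    ext
    simp [hg.counit_eq_one]

/-- a group-like element of a unipotent Hopf algebra is `1` -/
theorem eq_one_of_isGroupLikeElem (hU : HopfRep.IsUnipotent K A) {g : A}
    (hg : IsGroupLikeElem K g) : g = 1 := by
  have h := @hU K _ _ (glComod g hg) inferInstance inferInstance
  obtain ⟨c, hc, hc0⟩ := Submodule.exists_mem_ne_zero_of_ne_bot h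
  have h1 : c ⊗ₜ[K] g = c ⊗ₜ[K] (1 : A) := hc
  have h2 := congrArg (TensorProduct.lid K A) h1
  rw [TensorProduct.lid_tmul, TensorProduct.lid_tmul] at h2
  have h3 := congrArg (fun z => c⁻¹ • z) h2
  simp only [smul_smul, inv_mul_cancel₀ hc0, one_smul] at h3
  exact h3

end GroupLike

section Units

variable {K : Type u} [Field K] [IsAlgClosed K] {A : Type u} [CommRing A] [HopfAlgebra K A]
  [Algebra.FiniteType K A] [IsDomain A]

/-- units of a unipotent integral Hopf algebra over an algebraically closed field are scalars -/
theorem unit_eq_scalar (hU : HopfRep.IsUnipotent K A) (u : A) (hu : IsUnit u) :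
    u = algebraMap K A (Coalgebra.counit (R := K) u) := by
  have hunit2 : IsUnit (Coalgebra.comul (R := K) u) := hu.map (Bialgebra.comulAlgHom K A)
  obtain ⟨G, H, -, -, hGH⟩ :=
    Groth.Agent.Lib.Helper32.Rosenlicht.exists_eq_tmul_of_isUnit (k := K) (R := A) (A := A) _ hunit2
  have h1 : Coalgebra.counit (R := K) G • H = u := by
    have := Coalgebra.rTensor_counit_comul (R := K) u
    rw [hGH, LinearMap.rTensor_tmul] at this
    have := congrArg (TensorProduct.lid K A) this
    simpa using this
  have h2 : Coalgebra.counit (R := K) H • G = u := by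
    have := Coalgebra.lTensor_counit_comul (R := K) u
    rw [hGH, LinearMap.lTensor_tmul] at this
    have := congrArg (TensorProduct.rid K A) this
    simpa using this
  set c := Coalgebra.counit (R := K) u with hc
  have hc0 : c ≠ 0 := by
    have : IsUnit c := hu.map (Bialgebra.counitAlgHom K A)
    exact this.ne_zero
  have h3 : Coalgebra.counit (R := K) H * Coalgebra.counit (R := K) G = c := by
    rw [hc, ← h1, map_smul, smul_eq_mul, mul_comm]
  have hgl : IsGroupLikeElem K (c⁻¹ • u) := by
    refine ⟨?_, ?_⟩
    · rw [map_smul, smul_eq_mul, ← hc, inv_mul_cancel₀ hc0]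
    · rw [map_smul, hGH]
      have h4 : (c⁻¹ • u) ⊗ₜ[K] (c⁻¹ • u) =
          (c⁻¹ • (Coalgebra.counit (R := K) H • G)) ⊗ₜ[K]
            (c⁻¹ • (Coalgebra.counit (R := K) G • H)) := by
        rw [h1, h2]
      rw [h4, smul_smul, smul_smul, TensorProduct.smul_tmul_smul]
      congr 1
      rw [← h3]
      field_simp
  have h5 := eq_one_of_isGroupLikeElem hU hgl
  have h6 : u = c • (1 : A) := by
    rw [← h5, smul_smul, mul_inv_cancel₀ hc0, one_smul]
  rw [Algebra.algebraMap_eq_smul_one]
  exact h6

end Units

section GeomInt

variable (k : Type u) [Field k] (C : Type u) [CommRing C] [HopfAlgebra k C] [Algebra.FiniteType k C]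
  [Algebra.FormallySmooth k C] (hconn : ∀ e : C, IsIdempotentElem e → e = 0 ∨ e = 1)

include hconn in
theorem isDomain_algClosure : IsDomain (AlgebraicClosure k ⊗[k] C) := by
  haveI : Algebra.FinitePresentation (AlgebraicClosure k) (AlgebraicClosure k ⊗[k] C) :=
    Algebra.FinitePresentation.of_finiteType.mp inferInstance
  haveI : Algebra.Smooth (AlgebraicClosure k) (AlgebraicClosure k ⊗[k] C) := {}
  haveI : IsReduced (AlgebraicClosure k ⊗[k] C) :=
    isReduced_of_smooth_field (K := AlgebraicClosure k)
  have hconn' : ∀ e : AlgebraicClosure k ⊗[k] C, IsIdempotentElem e → e = 0 ∨ e = 1 := by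
    intro e he
    let τ := Algebra.TensorProduct.comm k (AlgebraicClosure k) C
    have := GC1.idem_of_algebraic (Bialgebra.counitAlgHom k C) hconn (τ e) (he.map τ)
    rcases this with h | h
    · left
      exact τ.injective (by rw [h, map_zero])
    · right
      exact τ.injective (by rw [h, map_one])
  exact Groth.Agent.Lib.Helper32.Rosenlicht.isDomain_of_hopf (AlgebraicClosure k) hconn'

include hconn in
/-- a smooth connected affine algebraic group is geometrically integral -/
theorem isDomain_baseChange (K : Type u) [Field K] [Algebra k K] [IsAlgClosed K] :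
    IsDomain (K ⊗[k] C) := by
  haveI := isDomain_algClosure k C hconn
  let φ : AlgebraicClosure k →ₐ[k] K := IsAlgClosed.lift
  letI : Algebra (AlgebraicClosure k) K := φ.toRingHom.toAlgebra
  haveI : IsScalarTower k (AlgebraicClosure k) K :=
    IsScalarTower.of_algebraMap_eq (fun x => (φ.commutes x).symm)
  haveI : IsDomain (K ⊗[AlgebraicClosure k] (AlgebraicClosure k ⊗[k] C)) :=
    Groth.Agent.Lib.Helper32.Rosenlicht.isDomain_tensor (AlgebraicClosure k) K
      (AlgebraicClosure k ⊗[k] C)
  let e := Algebra.TensorProduct.cancelBaseChange k (AlgebraicClosure k) K K C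
  exact e.symm.injective.isDomain e.symm.toRingEquiv.toRingHom

end GeomInt

end Groth.Agent.Lib.Helper66.GC2
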