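import Mathlib
import Groth.Agent.Lib.Helper66.GC2
import Groth.Agent.Lib.Helper96.BaseChangeBialg
import Groth.Agent.Lib.Helper96.BCFlag
import Groth.Prelude.Def_SGA3b

/-!
# Scheme morphisms from a smooth connected unipotent group to a group of multiplicative type
are constant (helper66)
-/

set_option autoImplicit false
universe u

namespace Groth.Agent.Lib.Helper66.GC3

open TensorProduct Groth.Agent.Lib.Helper96 Groth.Agent.Lib.Helper96.BaseChangeBialg

section Split

variable {k : Type u} [Field k] (B : Type u) [CommRing B] [HopfAlgebra k B]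

/-- a Hopf algebra of multiplicative type (constant type) is spanned by group-likes over some
algebraically closed extension field -/
theorem exists_algClosed_span (hB : SGA3b.IsMultTypeConst k B) :
    ∃ (K : Type u) (_ : Field K) (_ : Algebra k K), IsAlgClosed K ∧
      Submodule.span K {y : K ⊗[k] B | IsGroupLikeElem K y} = ⊤ := by
  obtain ⟨R', _, _, hff, M, _, ⟨e⟩⟩ := hB
  haveI : Nontrivial R' := by
    by_contra hnt
    rw [not_nontrivial_iff_subsingleton] at hnt
    exact hff.submodule_ne_top (Ideal.bot_isMaximal (K := k)) (Subsingleton.elim _ _)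
  obtain ⟨m, hm⟩ := Ideal.exists_maximal R'
  letI : Field (R' ⧸ m) := Ideal.Quotient.field m
  refine ⟨AlgebraicClosure (R' ⧸ m), inferInstance, inferInstance, inferInstance, ?_⟩
  have h1 : Submodule.span R' {y : R' ⊗[k] B | IsGroupLikeElem R' y} = ⊤ :=
    span_groupLike_of_surjective (B := MonoidAlgebra R' M) (B' := R' ⊗[k] B)
      (e.symm : MonoidAlgebra R' M →ₐc[R'] R' ⊗[k] B) e.symm.surjective
      MonoidAlgebra.span_isGroupLikeElem
  have h2 := span_groupLike_baseChange R' (AlgebraicClosure (R' ⧸ m)) (R' ⊗[k] B) h1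
  have e2 := cbc k R' (AlgebraicClosure (R' ⧸ m)) B
  exact span_groupLike_of_surjective
    (B := (AlgebraicClosure (R' ⧸ m)) ⊗[R'] (R' ⊗[k] B)) (B' := (AlgebraicClosure (R' ⧸ m)) ⊗[k] B)
    (e2 : (AlgebraicClosure (R' ⧸ m)) ⊗[R'] (R' ⊗[k] B) →ₐc[AlgebraicClosure (R' ⧸ m)]
      (AlgebraicClosure (R' ⧸ m)) ⊗[k] B) e2.surjective h2

end Split

section Main

variable (k : Type u) [Field k] (C B : Type u) [CommRing C] [HopfAlgebra k C]
  [Algebra.FiniteType k C] [Algebra.FormallySmooth k C]
  (hconn : ∀ e : C, IsIdempotentElem e → e = 0 ∨ e = 1)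
  (hU : HopfRep.IsUnipotent k C) [CommRing B] [HopfAlgebra k B]
  (hB : SGA3b.IsMultTypeConst k B) (f : B →ₐ[k] C)

include hconn hU hB in
theorem main (b : B) : f b = algebraMap k C (Bialgebra.counitAlgHom k C (f b)) := by
  obtain ⟨K, _, _, hK, hspan⟩ := exists_algClosed_span B hB
  haveI : IsDomain (K ⊗[k] C) := GC2.isDomain_baseChange k C hconn K
  have hUK : HopfRep.IsUnipotent K (K ⊗[k] C) := BCFlag.isUnipotent_baseChange K hU
  let fK : K ⊗[k] B →ₐ[K] K ⊗[k] C := Algebra.TensorProduct.map (AlgHom.id K K) f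
  -- every element of `K ⊗ B` is mapped to a scalar
  have hle : (⊤ : Submodule K (K ⊗[k] B)) ≤
      (LinearMap.range (Algebra.linearMap K (K ⊗[k] C))).comap fK.toLinearMap := by
    rw [← hspan, Submodule.span_le]
    intro y hy
    have hy' : IsGroupLikeElem K y := hy
    have hunit : IsUnit (fK y) := hy'.isUnit.map fK
    have := GC2.unit_eq_scalar hUK (fK y) hunit
    exact ⟨Coalgebra.counit (R := K) (fK y), this.symm⟩
  obtain ⟨c, hc⟩ := hle (Submodule.mem_top (x := (1 : K) ⊗ₜ[k] b))
  have hc' : algebraMap K (K ⊗[k] C) c = (1 : K) ⊗ₜ[k] f b := by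
    have h1 : fK ((1 : K) ⊗ₜ[k] b) = (1 : K) ⊗ₜ[k] f b := by
      simp [fK]
    rw [← h1]
    exact hc
  -- apply `id ⊗ ε`
  let εK : K ⊗[k] C →ₐ[K] K := Bialgebra.counitAlgHom K (K ⊗[k] C)
  have h2 : c = algebraMap k K (Coalgebra.counit (R := k) (f b)) := by
    have h3 := congrArg εK hc'
    rw [AlgHom.commutes] at h3
    have h4 : εK ((1 : K) ⊗ₜ[k] f b) = algebraMap k K (Coalgebra.counit (R := k) (f b)) := by
      show Coalgebra.counit (R := K) ((1 : K) ⊗ₜ[k] f b) = _
      rw [TensorProduct.counit_tmul]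
      simp [Algebra.algebraMap_eq_smul_one]
    rw [h4] at h3
    exact h3
  have hinj : Function.Injective
      (Algebra.TensorProduct.includeRight : C →ₐ[k] K ⊗[k] C) :=
    Algebra.TensorProduct.includeRight_injective (algebraMap k K).injective
  apply hinj
  show (1 : K) ⊗ₜ[k] f b = (1 : K) ⊗ₜ[k] (algebraMap k C (Bialgebra.counitAlgHom k C (f b)))
  have e1 : algebraMap k K (Coalgebra.counit (R := k) (f b)) =
      Coalgebra.counit (R := k) (f b) • (1 : K) := Algebra.algebraMap_eq_smul_one _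
  have e2 : algebraMap k C (Coalgebra.counit (R := k) (f b)) =
      Coalgebra.counit (R := k) (f b) • (1 : C) := Algebra.algebraMap_eq_smul_one _
  calc (1 : K) ⊗ₜ[k] f b = algebraMap K (K ⊗[k] C) c := hc'.symm
    _ = c ⊗ₜ[k] (1 : C) := by
      rw [Algebra.TensorProduct.algebraMap_apply]
      rfl
    _ = (Coalgebra.counit (R := k) (f b) • (1 : K)) ⊗ₜ[k] (1 : C) := by rw [h2, e1]
    _ = (1 : K) ⊗ₜ[k] (Coalgebra.counit (R := k) (f b) • (1 : C)) := TensorProduct.smul_tmul _ _ _
    _ = (1 : K) ⊗ₜ[k] (algebraMap k C (Bialgebra.counitAlgHom k C (f b))) := by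
      rw [Bialgebra.counitAlgHom_apply, e2]

end Main

end Groth.Agent.Lib.Helper66.GC3
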