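import Mathlib
import Groth.Prelude.Def_PLie

/-!
# Jacobson's formula `(x + y)^p = x^p + y^p - J_p(x, y)` in associative algebras of characteristic `p` (helper66)
-/

set_option autoImplicit false
universe u v w

namespace Groth.Agent.Lib.Helper66.Jacobson

open Polynomial

section BinomPred

variable {B : Type*} [Ring B] {p : ℕ} [hp : Fact p.Prime]

/-- `C(p-1, k) = (-1)^k` in a ring where `p = 0`. -/
theorem choose_pred_cast (hB : (p : B) = 0) (k : ℕ) (hk : k ≤ p - 1) :
    ((p - 1).choose k : B) = (-1) ^ k := by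
  induction k with
  | zero => simp
  | succ k ih =>
    have h1 : (p - 1).choose k + (p - 1).choose (k + 1) = p.choose (k + 1) := by
      have hp1 : p = (p - 1) + 1 := by have := hp.out.pos; omega
      conv_rhs => rw [hp1]
      rw [Nat.choose_succ_succ]
    have h2 : (p.choose (k + 1) : B) = 0 := by
      have hdvd : p ∣ p.choose (k + 1) :=
        hp.out.dvd_choose_self (Nat.succ_ne_zero k) (by have := hp.out.pos; omega)
      obtain ⟨c, hc⟩ := hdvd
      rw [hc, Nat.cast_mul, hB, zero_mul]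
    have h3 : ((p - 1).choose k : B) + ((p - 1).choose (k + 1) : B) = 0 := by
      rw [← Nat.cast_add, h1, h2]
    rw [eq_neg_of_add_eq_zero_right h3, ih (by omega), pow_succ]
    simp

/-- `(-1)^(p-1) = 1` in a ring where `p = 0`. -/
theorem neg_one_pow_pred (hB : (p : B) = 0) : ((-1 : B)) ^ (p - 1) = 1 := by
  rcases hp.out.eq_two_or_odd with h2 | hodd
  · subst h2
    have : (2 : B) = 0 := by exact_mod_cast hB
    simp only [Nat.add_one_sub_one, pow_one]
    have h : (1 : B) + 1 = 0 := by rw [one_add_one_eq_two, this]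
    exact (eq_neg_of_add_eq_zero_left h).symm
  · have : Even (p - 1) := by
      have := hp.out.pos
      rcases Nat.even_or_odd (p - 1) with h | h
      · exact h
      · exfalso
        have : p % 2 = 0 := by
          obtain ⟨m, hm⟩ := h; omega
        omega
    exact this.neg_one_pow

/-- In a ring with `p = 0`: `(ad a)^(p-1) v = Σ_{k<p} a^k v a^(p-1-k)`. -/
theorem ad_pow_pred (hB : (p : B) = 0) (a v : B) :
    (fun q : B => a * q - q * a)^[p - 1] v = ∑ k ∈ Finset.range p, a ^ k * v * a ^ (p - 1 - k) := by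
  -- operators
  let Lm : Module.End ℤ B := LinearMap.mulLeft ℤ a
  let Rm : Module.End ℤ B := LinearMap.mulRight ℤ a
  have hcomm : Commute Lm (-Rm) := (LinearMap.commute_mulLeft_right a a).neg_right
  have hiter : ∀ n : ℕ, ∀ x : B, (fun q : B => a * q - q * a)^[n] x = ((Lm + -Rm) ^ n) x := by
    intro n
    induction n with
    | zero => intro x; simp
    | succ n ih =>
      intro x
      rw [Function.iterate_succ_apply', ih, pow_succ', Module.End.mul_apply, LinearMap.add_apply,
        LinearMap.neg_apply]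
      exact sub_eq_add_neg _ _
  have hL : ∀ n : ℕ, ∀ x : B, (Lm ^ n) x = a ^ n * x := by
    intro n
    induction n with
    | zero => intro x; simp
    | succ n ih => intro x; rw [pow_succ', pow_succ', mul_assoc, ← ih]; rfl
  have hR : ∀ n : ℕ, ∀ x : B, ((-Rm) ^ n) x = (-1) ^ n * (x * a ^ n) := by
    intro n
    induction n with
    | zero => intro x; simp
    | succ n ih =>
      intro x
      rw [pow_succ', Module.End.mul_apply, ih, LinearMap.neg_apply]
      change -(((-1) ^ n * (x * a ^ n)) * a) = _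
      rw [pow_succ (-1 : B), pow_succ a]
      simp only [mul_neg, mul_one, neg_mul, mul_assoc]
  rw [hiter, hcomm.add_pow]
  have hpp : p - 1 + 1 = p := by have := hp.out.pos; omega
  rw [hpp, LinearMap.sum_apply]
  refine Finset.sum_congr rfl fun k hk => ?_
  have hk' : k ≤ p - 1 := by have := Finset.mem_range.mp hk; omega
  rw [Module.End.mul_apply, Module.End.mul_apply, hL, hR]
  have : ((((p - 1).choose k : ℕ) : Module.End ℤ B)) v = ((p - 1).choose k : B) * v := by
    rw [Module.End.natCast_apply, nsmul_eq_mul]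
  rw [this, choose_pred_cast hB k hk']
  have e1 : (-1 : B) ^ (p - 1 - k) * ((-1) ^ k * v * a ^ (p - 1 - k))
      = ((-1) ^ (p - 1 - k) * (-1) ^ k) * (v * a ^ (p - 1 - k)) := by
    simp only [mul_assoc]
  rw [e1, ← pow_add, Nat.sub_add_cancel hk', neg_one_pow_pred hB, one_mul, mul_assoc]

end BinomPred

section Poly

attribute [local instance] LieRing.ofAssociativeRing

variable {A : Type*} [Ring A] (u₀ u₁ : A)

/-- `w = u₁ + u₀ T` -/
noncomputable def wPoly : A[X] := C u₁ + C u₀ * X

/-- `ad w` on `A[X]` -/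
noncomputable def adW (q : A[X]) : A[X] := wPoly u₀ u₁ * q - q * wPoly u₀ u₁

theorem derivative_wPoly : derivative (wPoly u₀ u₁) = C u₀ := by
  unfold wPoly
  rw [derivative_add, derivative_C, derivative_mul, derivative_C, derivative_X, zero_mul, zero_add, zero_add,
    mul_one]

theorem derivative_wPoly_pow (n : ℕ) :
    derivative (wPoly u₀ u₁ ^ n) =
      ∑ k ∈ Finset.range n, wPoly u₀ u₁ ^ k * C u₀ * wPoly u₀ u₁ ^ (n - 1 - k) := by
  induction n with
  | zero => simp
  | succ n ih =>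
    rw [pow_succ, derivative_mul, ih, derivative_wPoly, Finset.sum_range_succ, Finset.sum_mul]
    congr 1
    · refine Finset.sum_congr rfl fun k hk => ?_
      have hk' := Finset.mem_range.mp hk
      rw [mul_assoc, ← pow_succ]
      congr 2
      omega
    · simp

/-- number of `false` values -/
def cnt {n : ℕ} (t : Fin n → Bool) : ℕ := (Finset.univ.filter fun i => t i = false).card

theorem cnt_eq_card {n : ℕ} (t : Fin n → Bool) : Fintype.card {i // t i = false} = cnt t := by
  unfold cnt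
  rw [Fintype.card_subtype]

theorem cnt_cons {n : ℕ} (c : Bool) (t : Fin n → Bool) :
    cnt (Fin.cons c t : Fin (n + 1) → Bool) = (if c = false then 1 else 0) + cnt t := by
  unfold cnt
  rw [Finset.card_filter, Finset.card_filter, Fin.sum_univ_succ]
  simp

theorem cnt_le {n : ℕ} (t : Fin n → Bool) : cnt t ≤ n := by
  unfold cnt
  calc _ ≤ (Finset.univ : Finset (Fin n)).card := Finset.card_filter_le _ _
    _ = n := by simp

/-- The generating polynomial of bracket words. -/
noncomputable def Q (n : ℕ) (v : A) : A[X] :=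
  ∑ t : Fin n → Bool, C (PLie.bracketWord (PLie.pair u₀ u₁) v (List.ofFn t)) * X ^ cnt t

theorem Q_zero (v : A) : Q u₀ u₁ 0 v = C v := by
  unfold Q
  simp [cnt]

theorem adW_C_mul_X_pow (a : A) (r : ℕ) :
    adW u₀ u₁ (C a * X ^ r) = C ⁅u₁, a⁆ * X ^ r + C ⁅u₀, a⁆ * X ^ (r + 1) := by
  unfold adW wPoly
  rw [LieRing.of_associative_ring_bracket, LieRing.of_associative_ring_bracket, C_sub, C_sub, C_mul, C_mul,
    C_mul, C_mul]
  have hX : ∀ q : A[X], X * q = q * X := fun q => (commute_X q).eq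
  have hXr : ∀ q : A[X], X ^ r * q = q * X ^ r := fun q => (commute_X_pow q r).eq
  rw [pow_succ]
  simp only [add_mul, mul_add, sub_mul, mul_sub]
  have e1 : C u₀ * X * (C a * X ^ r) = C u₀ * C a * (X ^ r * X) := by
    rw [mul_assoc (C u₀) X, hX (C a * X ^ r)]; simp only [mul_assoc]
  have e2 : C a * X ^ r * (C u₁) = C a * C u₁ * X ^ r := by
    rw [mul_assoc (C a), hXr (C u₁)]; simp only [mul_assoc]
  have e3 : C a * X ^ r * (C u₀ * X) = C a * C u₀ * (X ^ r * X) := by
    rw [mul_assoc (C a), ← mul_assoc (X ^ r), hXr (C u₀)]; simp only [mul_assoc]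
  rw [e1, e2, e3]
  simp only [mul_assoc]
  abel

theorem adW_sum {ι' : Type*} (s : Finset ι') (f : ι' → A[X]) :
    adW u₀ u₁ (∑ i ∈ s, f i) = ∑ i ∈ s, adW u₀ u₁ (f i) := by
  unfold adW
  rw [Finset.mul_sum, Finset.sum_mul, ← Finset.sum_sub_distrib]

theorem Q_succ (n : ℕ) (v : A) : Q u₀ u₁ (n + 1) v = adW u₀ u₁ (Q u₀ u₁ n v) := by
  unfold Q
  rw [adW_sum]
  rw [← (Fin.consEquiv (fun _ : Fin (n + 1) => Bool)).sum_comp, Fintype.sum_prod_type, Fintype.sum_bool]
  rw [← Finset.sum_add_distrib]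
  refine Finset.sum_congr rfl fun t _ => ?_
  rw [adW_C_mul_X_pow]
  have hc : ∀ c : Bool, (Fin.consEquiv fun _ : Fin (n + 1) => Bool) (c, t) = Fin.cons c t := fun c => rfl
  rw [hc, hc, List.ofFn_cons, List.ofFn_cons, PLie.bracketWord_cons, PLie.bracketWord_cons, cnt_cons, cnt_cons]
  simp [PLie.pair, add_comm]

theorem adW_iterate_C (n : ℕ) (v : A) : (adW u₀ u₁)^[n] (C v) = Q u₀ u₁ n v := by
  induction n with
  | zero => rw [Function.iterate_zero, id, Q_zero]
  | succ n ih => rw [Function.iterate_succ_apply', ih, Q_succ]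

theorem adW_zero : adW u₀ u₁ 0 = 0 := by unfold adW; simp

theorem adW_add (q q' : A[X]) : adW u₀ u₁ (q + q') = adW u₀ u₁ q + adW u₀ u₁ q' := by
  unfold adW; rw [mul_add, add_mul]; abel

theorem adW_X_mul (q : A[X]) : adW u₀ u₁ (X * q) = X * adW u₀ u₁ q := by
  unfold adW
  rw [mul_sub, ← mul_assoc, ← mul_assoc, ← mul_assoc, (commute_X (wPoly u₀ u₁)).eq]

theorem adW_iterate_zero (n : ℕ) : (adW u₀ u₁)^[n] 0 = 0 := by
  induction n with
  | zero => rfl
  | succ n ih => rw [Function.iterate_succ_apply', ih, adW_zero]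

theorem adW_iterate_add (n : ℕ) (q q' : A[X]) :
    (adW u₀ u₁)^[n] (q + q') = (adW u₀ u₁)^[n] q + (adW u₀ u₁)^[n] q' := by
  induction n with
  | zero => rfl
  | succ n ih => rw [Function.iterate_succ_apply', Function.iterate_succ_apply', Function.iterate_succ_apply',
      ih, adW_add]

theorem adW_iterate_X_mul (n : ℕ) (q : A[X]) :
    (adW u₀ u₁)^[n] (X * q) = X * (adW u₀ u₁)^[n] q := by
  induction n with
  | zero => rfl
  | succ n ih => rw [Function.iterate_succ_apply', Function.iterate_succ_apply', ih, adW_X_mul]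

theorem adW_iterate_wPoly (n : ℕ) (hn : 0 < n) : (adW u₀ u₁)^[n] (wPoly u₀ u₁) = 0 := by
  obtain ⟨m, rfl⟩ : ∃ m, n = m + 1 := ⟨n - 1, by omega⟩
  rw [Function.iterate_succ_apply]
  have : adW u₀ u₁ (wPoly u₀ u₁) = 0 := by unfold adW; rw [sub_self]
  rw [this, adW_iterate_zero]

/-- The key identity `T · d/dT (w^p) = - (ad w)^(p-1) (u₁)`. -/
theorem X_mul_derivative_pow {p : ℕ} [hp : Fact p.Prime] (hA : (p : A) = 0) :
    X * derivative (wPoly u₀ u₁ ^ p) = - Q u₀ u₁ (p - 1) u₁ := by
  have hB : ((p : ℕ) : A[X]) = 0 := by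
    rw [← map_natCast (C : A →+* A[X]), hA, map_zero]
  have h1 : derivative (wPoly u₀ u₁ ^ p) = (adW u₀ u₁)^[p - 1] (C u₀) := by
    rw [derivative_wPoly_pow]
    exact (ad_pow_pred hB (wPoly u₀ u₁) (C u₀)).symm
  have h2 := adW_iterate_wPoly u₀ u₁ (p - 1) (by have := hp.out.two_le; omega)
  have hw : wPoly u₀ u₁ = C u₁ + X * C u₀ := by
    unfold wPoly; rw [(commute_X (C u₀)).eq]
  rw [hw, adW_iterate_add, adW_iterate_X_mul, adW_iterate_C, ← h1] at h2
  rw [eq_neg_iff_add_eq_zero, add_comm]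
  exact h2

theorem coeff_Q (n r : ℕ) (v : A) :
    (Q u₀ u₁ n v).coeff r =
      ∑ t : Fin n → Bool, if cnt t = r then PLie.bracketWord (PLie.pair u₀ u₁) v (List.ofFn t) else 0 := by
  unfold Q
  rw [finset_sum_coeff]
  refine Finset.sum_congr rfl fun t _ => ?_
  rw [coeff_C_mul_X_pow]
  by_cases h : cnt t = r
  · rw [if_pos h, if_pos h.symm]
  · rw [if_neg h, if_neg (Ne.symm h)]

theorem natDegree_wPoly_le : (wPoly u₀ u₁).natDegree ≤ 1 := by
  unfold wPoly
  compute_degree

theorem coeff_wPoly_pow_zero (n : ℕ) : (wPoly u₀ u₁ ^ n).coeff 0 = u₁ ^ n := by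
  induction n with
  | zero => simp
  | succ n ih =>
    rw [pow_succ, mul_coeff_zero, ih, pow_succ]
    congr 1
    unfold wPoly
    simp

theorem coeff_wPoly_pow_top (n : ℕ) : (wPoly u₀ u₁ ^ n).coeff n = u₀ ^ n := by
  have := coeff_pow_of_natDegree_le (m := n) (natDegree_wPoly_le u₀ u₁)
  rw [mul_one] at this
  rw [this]
  congr 1
  unfold wPoly
  simp

theorem sum_coeff_wPoly_pow (n : ℕ) :
    ∑ r ∈ Finset.range (n + 1), (wPoly u₀ u₁ ^ n).coeff r = (u₀ + u₁) ^ n := by
  have hdeg : (wPoly u₀ u₁ ^ n).natDegree < n + 1 := by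
    have := natDegree_pow_le (p := wPoly u₀ u₁) (n := n)
    have h1 := natDegree_wPoly_le u₀ u₁
    calc _ ≤ n * (wPoly u₀ u₁).natDegree := this
      _ ≤ n * 1 := Nat.mul_le_mul_left _ h1
      _ < n + 1 := by omega
  have h1 := eval_eq_sum_range' hdeg (1 : A)
  simp only [one_pow, mul_one] at h1
  rw [← h1]
  let ev1 : A[X] →+* A := eval₂RingHom' (RingHom.id A) 1 (fun a => Commute.one_right a)
  have h2 : ∀ q : A[X], eval 1 q = ev1 q := fun q => rfl
  rw [h2, map_pow]
  congr 1
  rw [← h2]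
  unfold wPoly
  simp [add_comm]

/-- coefficient comparison -/
theorem coeff_succ_mul_eq {p : ℕ} [hp : Fact p.Prime] (hA : (p : A) = 0) (r : ℕ) :
    (wPoly u₀ u₁ ^ p).coeff (r + 1) * ((r : A) + 1) =
      - ∑ t : Fin (p - 1) → Bool,
          if cnt t = r + 1 then PLie.bracketWord (PLie.pair u₀ u₁) u₁ (List.ofFn t) else 0 := by
  have h := congrArg (fun q => q.coeff (r + 1)) (X_mul_derivative_pow u₀ u₁ hA)
  simp only [coeff_X_mul, coeff_derivative, coeff_neg, coeff_Q] at h
  exact h

end Poly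

section Main

attribute [local instance] LieRing.ofAssociativeRing

variable (R : Type u) [CommRing R] (p : ℕ) [hp : Fact p.Prime] [CharP R p]
  {A : Type v} [Ring A] [Algebra R A]

/-- the coefficient `1/k` -/
noncomputable def invCoeff (k : ℕ) : R := (ZMod.castHom (dvd_refl p) R) ((k : ZMod p)⁻¹)

theorem invCoeff_zero : invCoeff R p 0 = 0 := by
  unfold invCoeff
  simp

theorem invCoeff_mul (k : ℕ) (h0 : 0 < k) (hk : k < p) : invCoeff R p k * (k : R) = 1 := by
  unfold invCoeff
  have h1 : (k : R) = (ZMod.castHom (dvd_refl p) R) (k : ZMod p) := by simp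
  rw [h1, ← map_mul]
  have hne : (k : ZMod p) ≠ 0 := by
    intro h
    rw [ZMod.natCast_eq_zero_iff] at h
    exact absurd (Nat.le_of_dvd h0 h) (by omega)
  rw [inv_mul_cancel₀ hne, map_one]

omit hp in
theorem natCast_eq_zero_of_charP (A : Type v) [Ring A] [Algebra R A] : ((p : ℕ) : A) = 0 := by
  have h : ((p : ℕ) : R) = 0 := CharP.cast_eq_zero R p
  rw [← map_natCast (algebraMap R A), h, map_zero]

theorem sum_range_pred {M : Type*} [AddCommMonoid M] (n : ℕ) (hn : 0 < n) (f : ℕ → M) :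
    ∑ k ∈ Finset.range n, f k = ∑ r ∈ Finset.range (n - 1), f (r + 1) + f 0 := by
  obtain ⟨m, rfl⟩ := Nat.exists_eq_succ_of_ne_zero hn.ne'
  rw [Finset.sum_range_succ']
  rfl

/-- Jacobson's sum regrouped by the number of `false`s. -/
theorem jacobson_eq_sum (u₀ u₁ : A) :
    PLie.jacobson R p u₀ u₁ =
      ∑ r ∈ Finset.range (p - 1), invCoeff R p (r + 1) •
        ∑ t : Fin (p - 1) → Bool,
          if cnt t = r + 1 then PLie.bracketWord (PLie.pair u₀ u₁) u₁ (List.ofFn t) else 0 := by
  unfold PLie.jacobson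
  have h1 : ∀ t : Fin (p - 1) → Bool,
      ((ZMod.castHom (dvd_refl p) R) ((Fintype.card {i // t i = false} : ZMod p)⁻¹)) •
        PLie.bracketWord (PLie.pair u₀ u₁) u₁ (List.ofFn t) =
      ∑ k ∈ Finset.range p, invCoeff R p k •
        (if cnt t = k then PLie.bracketWord (PLie.pair u₀ u₁) u₁ (List.ofFn t) else 0) := by
    intro t
    rw [cnt_eq_card]
    have hlt : cnt t < p := lt_of_le_of_lt (cnt_le t) (by have := hp.out.pos; omega)
    rw [Finset.sum_eq_single (cnt t)]
    · rw [if_pos rfl]; rfl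
    · intro k _ hk
      rw [if_neg (Ne.symm hk), smul_zero]
    · intro h
      exact absurd (Finset.mem_range.mpr hlt) h
  rw [Finset.sum_congr rfl fun t _ => h1 t, Finset.sum_comm]
  rw [sum_range_pred p hp.out.pos]
  simp only [invCoeff_zero, zero_smul, Finset.sum_const_zero, add_zero]
  refine Finset.sum_congr rfl fun r _ => ?_
  rw [Finset.smul_sum]

/-- **Jacobson's formula** in an associative algebra of characteristic `p`. -/
theorem add_pow_char_eq (u₀ u₁ : A) :
    (u₀ + u₁) ^ p = u₀ ^ p + u₁ ^ p - PLie.jacobson R p u₀ u₁ := by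
  have hA : ((p : ℕ) : A) = 0 := natCast_eq_zero_of_charP R p A
  have hsum := sum_coeff_wPoly_pow u₀ u₁ p
  rw [Finset.sum_range_succ, coeff_wPoly_pow_top] at hsum
  have hsum2 : ∑ r ∈ Finset.range p, (wPoly u₀ u₁ ^ p).coeff r =
      ∑ r ∈ Finset.range (p - 1), (wPoly u₀ u₁ ^ p).coeff (r + 1) + u₁ ^ p := by
    rw [sum_range_pred p hp.out.pos, coeff_wPoly_pow_zero]
  rw [hsum2] at hsum
  have hJ : PLie.jacobson R p u₀ u₁ = - ∑ r ∈ Finset.range (p - 1), (wPoly u₀ u₁ ^ p).coeff (r + 1) := by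
    rw [jacobson_eq_sum, ← Finset.sum_neg_distrib]
    refine Finset.sum_congr rfl fun r hr => ?_
    have hr' := Finset.mem_range.mp hr
    have hc := coeff_succ_mul_eq u₀ u₁ hA r
    rw [← neg_eq_iff_eq_neg] at hc
    rw [← hc, smul_neg, neg_inj]
    have hcast : ((r : A) + 1) = algebraMap R A ((r + 1 : ℕ) : R) := by
      rw [map_natCast]; push_cast; rfl
    rw [hcast, ← Algebra.commutes, ← Algebra.smul_def, smul_smul, invCoeff_mul R p (r + 1) (by omega) (by omega),
      one_smul]
  rw [hJ, ← hsum]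
  abel

end Main

end Groth.Agent.Lib.Helper66.Jacobson
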