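import Mathlib

/-!
# The Poincaré–Birkhoff–Witt representation (helper66)

For a Lie algebra `L` over a commutative ring `R`, free as an `R`-module with a basis `b` indexed by a
linearly ordered type `ι`, we construct a Lie algebra representation `ρ` of `L` on the free module
`M = (ι →₀ ℕ) →₀ R` on monomials such that `ρ (b i) (X^α) = X^(α + e_i)` whenever `i ≤ k` for all `k ∈ supp α`.
(Humphreys, *Introduction to Lie algebras and representation theory*, §17.4.)
-/

set_option autoImplicit false
universe u v w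

namespace Groth.Agent.Lib.Helper66.PBW

open Finsupp

variable {R : Type u} [CommRing R] {L : Type v} [LieRing L] [LieAlgebra R L]
  {ι : Type w} [LinearOrder ι] (b : Module.Basis ι R L)

/-- The module of "polynomials": free on monomials `ι →₀ ℕ`. -/
abbrev Mod (R : Type u) [CommRing R] (ι : Type w) := (ι →₀ ℕ) →₀ R

/-- The monomial `X^α`. -/
noncomputable def mono (R : Type u) [CommRing R] {ι : Type w} (α : ι →₀ ℕ) : Mod R ι := single α 1

/-- `i ≤ α`: `i` is at most every variable occurring in `α`. -/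
def Le (i : ι) (α : ι →₀ ℕ) : Prop := ∀ k ∈ α.support, i ≤ k

instance (i : ι) (α : ι →₀ ℕ) : Decidable (Le i α) := by unfold Le; infer_instance

/-- smallest variable of `α` (default `i` if `α = 0`). -/
def minOf (i : ι) (α : ι →₀ ℕ) : ι := if h : α.support.Nonempty then α.support.min' h else i

/-- The values of the next level of the action on basis vectors. -/
noncomputable def body (f : L →ₗ[R] Mod R ι →ₗ[R] Mod R ι) (n : ℕ) (i : ι) (α : ι →₀ ℕ) : Mod R ι :=
  if α.degree < n then f (b i) (mono R α)
  else if α.degree = n then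
    (if Le i α then mono R (α + single i 1)
     else mono R (α + single i 1)
       + f (b (minOf i α)) (f (b i) (mono R (α - single (minOf i α) 1))
            - mono R (α - single (minOf i α) 1 + single i 1))
       + f ⁅b i, b (minOf i α)⁆ (mono R (α - single (minOf i α) 1)))
  else 0

/-- The next level of the action. -/
noncomputable def next (f : L →ₗ[R] Mod R ι →ₗ[R] Mod R ι) (n : ℕ) : L →ₗ[R] Mod R ι →ₗ[R] Mod R ι :=
  b.constr R fun i => Finsupp.linearCombination R fun α => body b f n i α

theorem next_apply (f : L →ₗ[R] Mod R ι →ₗ[R] Mod R ι) (n : ℕ) (i : ι) (α : ι →₀ ℕ) :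
    next b f n (b i) (mono R α) = body b f n i α := by
  unfold next mono
  rw [Module.Basis.constr_basis, Finsupp.linearCombination_single, one_smul]

/-- The levels of the action: `lev n` is correct on monomials of degree `≤ n`. -/
noncomputable def lev : ℕ → (L →ₗ[R] Mod R ι →ₗ[R] Mod R ι)
  | 0 => next b 0 0
  | n + 1 => next b (lev n) (n + 1)

/-- The PBW action. -/
noncomputable def rho : L →ₗ[R] Mod R ι →ₗ[R] Mod R ι :=
  b.constr R fun i => Finsupp.linearCombination R fun α => lev b α.degree (b i) (mono R α)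

theorem rho_apply (i : ι) (α : ι →₀ ℕ) :
    rho b (b i) (mono R α) = lev b α.degree (b i) (mono R α) := by
  unfold rho
  rw [Module.Basis.constr_basis]
  change Finsupp.linearCombination R _ (single α 1) = _
  rw [Finsupp.linearCombination_single, one_smul]

/-! ### The degree filtration -/

/-- `F k`: span of monomials of degree `≤ k`. -/
noncomputable def F (R : Type u) [CommRing R] (ι : Type w) (k : ℕ) : Submodule R (Mod R ι) :=
  Submodule.span R {m | ∃ α : ι →₀ ℕ, α.degree ≤ k ∧ m = mono R α}

theorem mono_mem_F {α : ι →₀ ℕ} {k : ℕ} (h : α.degree ≤ k) : mono R α ∈ F R ι k :=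
  Submodule.subset_span ⟨α, h, rfl⟩

theorem F_mono {k k' : ℕ} (h : k ≤ k') : F R ι k ≤ F R ι k' :=
  Submodule.span_mono fun _ ⟨α, hα, hm⟩ => ⟨α, hα.trans h, hm⟩

/-- Two bilinear actions agreeing on basis vectors and monomials of degree `≤ k` agree on `F k`. -/
theorem eq_on_F {f g : L →ₗ[R] Mod R ι →ₗ[R] Mod R ι} {k : ℕ}
    (h : ∀ i α, α.degree ≤ k → f (b i) (mono R α) = g (b i) (mono R α)) :
    ∀ x, ∀ m ∈ F R ι k, f x m = g x m := by
  intro x m hm
  induction hm using Submodule.span_induction with
  | mem m hm =>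
    obtain ⟨α, hα, rfl⟩ := hm
    have : f.flip (mono R α) = g.flip (mono R α) := b.ext fun i => by
      simp only [LinearMap.flip_apply]; exact h i α hα
    exact LinearMap.congr_fun this x
  | zero => simp
  | add m m' _ _ h1 h2 => rw [map_add, map_add, h1, h2]
  | smul c m _ h1 => rw [map_smul, map_smul, h1]

theorem lev_stable (n : ℕ) (i : ι) (α : ι →₀ ℕ) (h : α.degree ≤ n) :
    lev b n (b i) (mono R α) = lev b α.degree (b i) (mono R α) := by
  induction n with
  | zero =>
    have : α.degree = 0 := Nat.le_zero.mp h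
    rw [this]
  | succ n ih =>
    rcases Nat.lt_or_ge α.degree (n + 1) with h1 | h1
    · rw [← ih (by omega)]
      change next b (lev b n) (n + 1) (b i) (mono R α) = _
      rw [next_apply, body, if_pos h1]
    · have : α.degree = n + 1 := le_antisymm h h1
      rw [this]

theorem lev_eq_rho (n : ℕ) : ∀ x, ∀ m ∈ F R ι n, lev b n x m = rho b x m :=
  eq_on_F b fun i α hα => by rw [rho_apply, lev_stable b n i α hα]

/-! ### Facts about `minOf` -/

theorem Le_zero (i : ι) : Le i (0 : ι →₀ ℕ) := by
  intro k hk; simp at hk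

theorem support_nonempty_of_not_Le {i : ι} {α : ι →₀ ℕ} (h : ¬ Le i α) : α.support.Nonempty := by
  by_contra h'
  rw [Finset.not_nonempty_iff_eq_empty] at h'
  apply h
  intro k hk
  rw [h'] at hk
  exact absurd hk (Finset.notMem_empty k)

theorem minOf_mem {i : ι} {α : ι →₀ ℕ} (h : ¬ Le i α) : minOf i α ∈ α.support := by
  unfold minOf
  rw [dif_pos (support_nonempty_of_not_Le h)]
  exact Finset.min'_mem _ _

theorem minOf_le {i : ι} {α : ι →₀ ℕ} (h : ¬ Le i α) : Le (minOf i α) α := by
  intro k hk
  unfold minOf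
  rw [dif_pos (support_nonempty_of_not_Le h)]
  exact Finset.min'_le _ _ hk

theorem minOf_lt {i : ι} {α : ι →₀ ℕ} (h : ¬ Le i α) : minOf i α < i := by
  have h' := h
  unfold Le at h'
  push Not at h'
  obtain ⟨k, hk, hik⟩ := h'
  exact lt_of_le_of_lt (minOf_le h k hk) hik

theorem sub_add_minOf {i : ι} {α : ι →₀ ℕ} (h : ¬ Le i α) :
    α - single (minOf i α) 1 + single (minOf i α) 1 = α := by
  apply tsub_add_cancel_of_le
  rw [Finsupp.single_le_iff]
  have := minOf_mem h
  rw [Finsupp.mem_support_iff] at this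
  omega

theorem degree_sub_minOf {i : ι} {α : ι →₀ ℕ} (h : ¬ Le i α) :
    (α - single (minOf i α) 1).degree + 1 = α.degree := by
  conv_rhs => rw [← sub_add_minOf h, map_add, Finsupp.degree_single]

theorem Le_sub {j : ι} {α γ : ι →₀ ℕ} (h : Le j α) : Le j (α - γ) := by
  intro k hk
  apply h k
  rw [Finsupp.mem_support_iff] at hk ⊢
  rw [Finsupp.tsub_apply] at hk
  omega

theorem Le_add_single {j i : ι} {α : ι →₀ ℕ} (h : Le j α) (hji : j ≤ i) : Le j (α + single i 1) := by
  intro k hk
  rw [Finsupp.mem_support_iff, Finsupp.add_apply] at hk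
  by_cases hki : k = i
  · subst hki; exact hji
  · rw [Finsupp.single_eq_of_ne hki, add_zero] at hk
    exact h k (Finsupp.mem_support_iff.mpr hk)

/-! ### Unfolding equations for `rho` -/

theorem rho_of_Le {i : ι} {α : ι →₀ ℕ} (h : Le i α) :
    rho b (b i) (mono R α) = mono R (α + single i 1) := by
  rw [rho_apply]
  cases hn : α.degree with
  | zero =>
    change next b 0 0 (b i) (mono R α) = _
    rw [next_apply, body, if_neg (by omega), if_pos hn, if_pos h]
  | succ n =>
    change next b (lev b n) (n + 1) (b i) (mono R α) = _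
    rw [next_apply, body, if_neg (by omega), if_pos hn, if_pos h]

/-- the "error term" statement -/
def E3 (β : ι →₀ ℕ) : Prop :=
  ∀ k : ι, rho b (b k) (mono R β) - mono R (β + single k 1) ∈ F R ι β.degree

theorem rho_mem_F_aux (k : ℕ) (hE3 : ∀ β : ι →₀ ℕ, β.degree ≤ k → E3 b β) :
    ∀ x, ∀ m ∈ F R ι k, rho b x m ∈ F R ι (k + 1) := by
  intro x m hm
  induction hm using Submodule.span_induction with
  | mem m hm =>
    obtain ⟨β, hβ, rfl⟩ := hm
    have hx : x ∈ Submodule.span R (Set.range b) := by rw [b.span_eq]; trivial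
    induction hx using Submodule.span_induction with
    | mem x hx =>
      obtain ⟨i, rfl⟩ := hx
      have h1 := hE3 β hβ i
      have h2 : mono R (β + single i 1) ∈ F R ι (k + 1) :=
        mono_mem_F (by rw [map_add, Finsupp.degree_single]; omega)
      have h3 := Submodule.add_mem _ (F_mono (show β.degree ≤ k + 1 by omega) h1) h2
      rwa [sub_add_cancel] at h3
    | zero => simp
    | add x y _ _ h1 h2 => rw [map_add, LinearMap.add_apply]; exact Submodule.add_mem _ h1 h2
    | smul c x _ h1 => rw [map_smul, LinearMap.smul_apply]; exact Submodule.smul_mem _ _ h1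
  | zero => simp
  | add m m' _ _ h1 h2 => rw [map_add]; exact Submodule.add_mem _ h1 h2
  | smul c m _ h1 => rw [map_smul]; exact Submodule.smul_mem _ _ h1

theorem rho_of_not_Le_aux {i : ι} {α : ι →₀ ℕ} (h : ¬ Le i α)
    (hE3 : ∀ β : ι →₀ ℕ, β.degree < α.degree → E3 b β) :
    rho b (b i) (mono R α) = mono R (α + single i 1)
      + rho b (b (minOf i α)) (rho b (b i) (mono R (α - single (minOf i α) 1))
            - mono R (α - single (minOf i α) 1 + single i 1))
      + rho b ⁅b i, b (minOf i α)⁆ (mono R (α - single (minOf i α) 1)) := by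
  have hdeg := degree_sub_minOf h
  set j := minOf i α with hj
  set β := α - single j 1 with hβ
  rw [rho_apply]
  have hn : α.degree = β.degree + 1 := hdeg.symm
  rw [hn]
  change next b (lev b β.degree) (β.degree + 1) (b i) (mono R α) = _
  rw [next_apply, body, if_neg (by omega), if_pos hn, if_neg h]
  have hw : rho b (b i) (mono R β) - mono R (β + single i 1) ∈ F R ι β.degree :=
    hE3 β (by omega) i
  have hm : mono R β ∈ F R ι β.degree := mono_mem_F le_rfl
  rw [← hj, ← hβ, lev_eq_rho b _ _ _ hm, lev_eq_rho b _ _ _ hm, lev_eq_rho b _ _ _ hw]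

theorem E3_all (α : ι →₀ ℕ) : E3 b α := by
  induction hn : α.degree using Nat.strong_induction_on generalizing α with
  | _ n ih =>
    intro i
    by_cases h : Le i α
    · rw [rho_of_Le b h, sub_self]; exact Submodule.zero_mem _
    · have hE3 : ∀ β : ι →₀ ℕ, β.degree < α.degree → E3 b β := fun β hβ => ih β.degree (hn ▸ hβ) β rfl
      rw [rho_of_not_Le_aux b h hE3, add_assoc, add_sub_cancel_left]
      have hdeg := degree_sub_minOf h
      set j := minOf i α with hj
      set β := α - single j 1 with hβ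
      have hmaps := rho_mem_F_aux b β.degree (fun γ hγ => hE3 γ (by omega))
      rw [← hdeg]
      refine Submodule.add_mem _ (hmaps _ _ (hE3 β (by omega) i)) (hmaps _ _ (mono_mem_F le_rfl))

theorem rho_mem_F (k : ℕ) : ∀ x, ∀ m ∈ F R ι k, rho b x m ∈ F R ι (k + 1) :=
  rho_mem_F_aux b k fun β _ => E3_all b β

theorem rho_of_not_Le {i : ι} {α : ι →₀ ℕ} (h : ¬ Le i α) :
    rho b (b i) (mono R α) = mono R (α + single i 1)
      + rho b (b (minOf i α)) (rho b (b i) (mono R (α - single (minOf i α) 1))
            - mono R (α - single (minOf i α) 1 + single i 1))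
      + rho b ⁅b i, b (minOf i α)⁆ (mono R (α - single (minOf i α) 1)) :=
  rho_of_not_Le_aux b h fun β _ => E3_all b β

/-- Cleaner form of the recursion: for `j = min α < i`, `b_i · X^α = b_j · (b_i · X^β) + [b_i, b_j] · X^β`. -/
theorem rho_of_not_Le' {i : ι} {α : ι →₀ ℕ} (h : ¬ Le i α) :
    rho b (b i) (mono R α) =
      rho b (b (minOf i α)) (rho b (b i) (mono R (α - single (minOf i α) 1)))
      + rho b ⁅b i, b (minOf i α)⁆ (mono R (α - single (minOf i α) 1)) := by
  rw [rho_of_not_Le b h, map_sub]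
  have hj : Le (minOf i α) (α - single (minOf i α) 1 + single i 1) :=
    Le_add_single (Le_sub (minOf_le h)) (minOf_lt h).le
  rw [rho_of_Le b hj]
  have : α - single (minOf i α) 1 + single i 1 + single (minOf i α) 1 = α + single i 1 := by
    rw [add_right_comm, sub_add_minOf h]
  rw [this]
  abel

/-! ### The Lie module property -/

/-- the defect of the Lie-module property at `m`, as a bilinear map. -/
noncomputable def defect (m : Mod R ι) : L →ₗ[R] L →ₗ[R] Mod R ι :=
  LinearMap.mk₂ R (fun x y => rho b x (rho b y m) - rho b y (rho b x m) - rho b ⁅x, y⁆ m)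
    (by intro x x' y; simp only [map_add, LinearMap.add_apply, add_lie]; abel)
    (by intro c x y; simp only [map_smul, LinearMap.smul_apply, smul_lie, smul_sub])
    (by intro x y y'; simp only [map_add, LinearMap.add_apply, lie_add]; abel)
    (by intro c x y; simp only [map_smul, LinearMap.smul_apply, lie_smul, smul_sub])

theorem defect_apply (m : Mod R ι) (x y : L) :
    defect b m x y = rho b x (rho b y m) - rho b y (rho b x m) - rho b ⁅x, y⁆ m := rfl

/-- The Lie property holds on `F k`. -/
def C (k : ℕ) : Prop :=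
  ∀ x y : L, ∀ m ∈ F R ι k, rho b x (rho b y m) = rho b y (rho b x m) + rho b ⁅x, y⁆ m

theorem C_of_basis (k : ℕ)
    (h : ∀ (i j : ι) (β : ι →₀ ℕ), β.degree ≤ k →
      rho b (b i) (rho b (b j) (mono R β)) =
        rho b (b j) (rho b (b i) (mono R β)) + rho b ⁅b i, b j⁆ (mono R β)) : C b k := by
  intro x y m hm
  induction hm using Submodule.span_induction with
  | mem m hm =>
    obtain ⟨β, hβ, rfl⟩ := hm
    have h0 : defect b (mono R β) = 0 := by
      refine LinearMap.ext_basis b b fun i j => ?_
      rw [defect_apply, h i j β hβ]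
      simp
    have := LinearMap.congr_fun (LinearMap.congr_fun h0 x) y
    rw [defect_apply] at this
    simp only [LinearMap.zero_apply] at this
    rw [sub_sub, sub_eq_zero] at this
    exact this
  | zero => simp
  | add m m' _ _ h1 h2 => simp only [map_add]; rw [h1, h2]; abel
  | smul c m _ h1 => simp only [map_smul]; rw [h1, smul_add]

theorem minOf_add_single {i j : ι} {β : ι →₀ ℕ} (h : Le j β) : minOf i (β + single j 1) = j := by
  have hj : j ∈ (β + single j 1).support := by
    rw [Finsupp.mem_support_iff, Finsupp.add_apply, Finsupp.single_eq_same]; omega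
  unfold minOf
  rw [dif_pos ⟨j, hj⟩]
  apply le_antisymm
  · exact Finset.min'_le _ _ hj
  · apply Finset.le_min'
    intro k hk
    exact Le_add_single h le_rfl k hk

/-- Case A: the defining case of the recursion. -/
theorem comm_of_lt_of_Le {i j : ι} {β : ι →₀ ℕ} (hji : j < i) (hj : Le j β) :
    rho b (b i) (rho b (b j) (mono R β)) =
      rho b (b j) (rho b (b i) (mono R β)) + rho b ⁅b i, b j⁆ (mono R β) := by
  rw [rho_of_Le b hj]
  have hnot : ¬ Le i (β + single j 1) := by
    intro h
    have hj' : j ∈ (β + single j 1).support := by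
      rw [Finsupp.mem_support_iff, Finsupp.add_apply, Finsupp.single_eq_same]; omega
    exact absurd (h j hj') (not_le.mpr hji)
  rw [rho_of_not_Le' b hnot, minOf_add_single hj, add_tsub_cancel_right]

/-- The key computation in case D. -/
theorem key {i j ν : ι} {Ψ : ι →₀ ℕ} (hνi : ν < i) (hνj : ν < j) (hν : Le ν Ψ) (hC : C b Ψ.degree) :
    rho b (b i) (rho b (b j) (mono R (Ψ + single ν 1))) =
      rho b (b ν) (rho b (b i) (rho b (b j) (mono R Ψ)))
        + rho b ⁅b i, b ν⁆ (rho b (b j) (mono R Ψ))
        + rho b ⁅b j, b ν⁆ (rho b (b i) (mono R Ψ))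
        + rho b ⁅b i, ⁅b j, b ν⁆⁆ (mono R Ψ) := by
  have h1 : mono R (Ψ + single ν 1) = rho b (b ν) (mono R Ψ) := (rho_of_Le b hν).symm
  have hmΨ : mono R Ψ ∈ F R ι Ψ.degree := mono_mem_F le_rfl
  rw [h1, hC (b j) (b ν) (mono R Ψ) hmΨ, map_add, hC (b i) ⁅b j, b ν⁆ (mono R Ψ) hmΨ]
  have h45 : rho b (b i) (rho b (b ν) (rho b (b j) (mono R Ψ))) =
      rho b (b ν) (rho b (b i) (rho b (b j) (mono R Ψ)))
        + rho b ⁅b i, b ν⁆ (rho b (b j) (mono R Ψ)) := by
    have hwF : rho b (b j) (mono R Ψ) - mono R (Ψ + single j 1) ∈ F R ι Ψ.degree := E3_all b Ψ j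
    have hdecomp : rho b (b j) (mono R Ψ) =
        mono R (Ψ + single j 1) + (rho b (b j) (mono R Ψ) - mono R (Ψ + single j 1)) := by abel
    rw [hdecomp]
    simp only [map_add]
    rw [comm_of_lt_of_Le b hνi (Le_add_single hν hνj.le), hC (b i) (b ν) _ hwF]
    abel
  rw [h45]
  abel

theorem comm_basis (n : ℕ) : ∀ β : ι →₀ ℕ, β.degree = n → ∀ i j : ι,
    rho b (b i) (rho b (b j) (mono R β)) =
      rho b (b j) (rho b (b i) (mono R β)) + rho b ⁅b i, b j⁆ (mono R β) := by
  induction n using Nat.strong_induction_on with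
  | _ n ih =>
    intro β hβ i j
    have hC : ∀ k, k < n → C b k := fun k hk =>
      C_of_basis b k fun i j γ hγ => ih γ.degree (by omega) γ rfl i j
    by_cases hA : j < i ∧ Le j β
    · exact comm_of_lt_of_Le b hA.1 hA.2
    by_cases hB : i < j ∧ Le i β
    · have := comm_of_lt_of_Le b hB.1 hB.2
      rw [this, ← lie_skew (b i) (b j), map_neg, LinearMap.neg_apply]
      abel
    by_cases hij : i = j
    · subst hij
      rw [lie_self, map_zero, LinearMap.zero_apply, add_zero]
    -- case D
    have hi : ¬ Le i β := by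
      intro h
      rcases lt_or_gt_of_ne hij with h1 | h1
      · exact hB ⟨h1, h⟩
      · exact hA ⟨h1, fun k hk => h1.le.trans (h k hk)⟩
    have hj : ¬ Le j β := by
      intro h
      rcases lt_or_gt_of_ne hij with h1 | h1
      · exact hB ⟨h1, fun k hk => h1.le.trans (h k hk)⟩
      · exact hA ⟨h1, h⟩
    have hνi := minOf_lt hi
    have hνj : minOf i β < j := by
      obtain ⟨k, hk, hjk⟩ : ∃ k ∈ β.support, ¬ j ≤ k := by
        have h' := hj; unfold Le at h'; push Not at h'
        obtain ⟨k, hk, hjk⟩ := h'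
        exact ⟨k, hk, not_le.mpr hjk⟩
      exact lt_of_le_of_lt (minOf_le hi k hk) (not_le.mp hjk)
    have hdeg := degree_sub_minOf hi
    have hsplit := sub_add_minOf hi
    set ν := minOf i β with hν
    set Ψ := β - single ν 1 with hΨ
    have hνΨ : Le ν Ψ := Le_sub (minOf_le hi)
    have hCΨ : C b Ψ.degree := hC _ (by omega)
    have hmΨ : mono R Ψ ∈ F R ι Ψ.degree := mono_mem_F le_rfl
    have k1 := key b hνi hνj hνΨ hCΨ
    have k2 := key b hνj hνi hνΨ hCΨ
    rw [hsplit] at k1 k2
    rw [k1, k2]
    -- now use the IH on `mono Ψ`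
    have e1 := hCΨ (b i) (b j) (mono R Ψ) hmΨ
    have e2 := hCΨ (b ν) ⁅b i, b j⁆ (mono R Ψ) hmΨ
    have e3 : rho b ⁅b i, b j⁆ (mono R β) = rho b ⁅b i, b j⁆ (rho b (b ν) (mono R Ψ)) := by
      rw [rho_of_Le b hνΨ, hsplit]
    have jac : ⁅b i, ⁅b j, b ν⁆⁆ = ⁅b j, ⁅b i, b ν⁆⁆ - ⁅b ν, ⁅b i, b j⁆⁆ := by
      rw [leibniz_lie (b i) (b j) (b ν), ← lie_skew (b ν) ⁅b i, b j⁆]
      abel
    rw [e3, e1, map_add, e2, jac, map_sub, LinearMap.sub_apply]
    abel

theorem C_all (k : ℕ) : C b k :=
  C_of_basis b k fun i j β _ => comm_basis b β.degree β rfl i j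

theorem F_top (m : Mod R ι) : ∃ k, m ∈ F R ι k := by
  induction m using Finsupp.induction_linear with
  | zero => exact ⟨0, Submodule.zero_mem _⟩
  | add m m' h1 h2 =>
    obtain ⟨k, hk⟩ := h1
    obtain ⟨k', hk'⟩ := h2
    exact ⟨max k k', Submodule.add_mem _ (F_mono (le_max_left _ _) hk) (F_mono (le_max_right _ _) hk')⟩
  | single α c =>
    refine ⟨α.degree, ?_⟩
    have : (single α c : Mod R ι) = c • mono R α := by
      unfold mono; rw [Finsupp.smul_single, smul_eq_mul, mul_one]
    rw [this]
    exact Submodule.smul_mem _ _ (mono_mem_F le_rfl)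

/-- The PBW action is a Lie action. -/
theorem rho_lie (x y : L) (m : Mod R ι) :
    rho b ⁅x, y⁆ m = rho b x (rho b y m) - rho b y (rho b x m) := by
  obtain ⟨k, hk⟩ := F_top m
  rw [C_all b k x y m hk]
  abel

end Groth.Agent.Lib.Helper66.PBW
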