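import Mathlib
import Groth.Agent.Lib.Helper66.PBWRep

/-!
# The Poincaré–Birkhoff–Witt theorem (helper66)

Ordered monomials in a basis form a basis of the universal enveloping algebra (for a Lie algebra free over a
commutative ring with a linearly ordered basis).
-/

set_option autoImplicit false
universe u v w

namespace Groth.Agent.Lib.Helper66.PBW

open Finsupp

attribute [local instance] LieRing.ofAssociativeRing

variable {R : Type u} [CommRing R] {L : Type v} [LieRing L] [LieAlgebra R L]
  {ι : Type w} [LinearOrder ι] (b : Module.Basis ι R L)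

/-- The PBW representation as a Lie algebra homomorphism into endomorphisms. -/
noncomputable def rhoLie : L →ₗ⁅R⁆ Module.End R (Mod R ι) :=
  { rho b with
    map_lie' := by
      intro x y
      refine LinearMap.ext fun m => ?_
      change rho b ⁅x, y⁆ m = _
      rw [rho_lie, LieRing.of_associative_ring_bracket]
      rfl }

theorem rhoLie_apply (x : L) (m : Mod R ι) : rhoLie b x m = rho b x m := rfl

/-- The algebra homomorphism from the enveloping algebra. -/
noncomputable def rhoAlg : UniversalEnvelopingAlgebra R L →ₐ[R] Module.End R (Mod R ι) :=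
  UniversalEnvelopingAlgebra.lift R (rhoLie b)

theorem rhoAlg_ι (x : L) : rhoAlg b (UniversalEnvelopingAlgebra.ι R x) = rhoLie b x :=
  UniversalEnvelopingAlgebra.lift_ι_apply R (rhoLie b) x

/-- evaluation at the vacuum vector `1 = X^0` -/
noncomputable def ev : UniversalEnvelopingAlgebra R L →ₗ[R] Mod R ι :=
  (LinearMap.applyₗ (mono R (0 : ι →₀ ℕ))).comp (rhoAlg b).toLinearMap

theorem ev_apply (u : UniversalEnvelopingAlgebra R L) : ev b u = rhoAlg b u (mono R 0) := rfl

/-- monomial in the enveloping algebra attached to a list of indices -/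
noncomputable def prodList (l : List ι) : UniversalEnvelopingAlgebra R L :=
  (l.map fun i => UniversalEnvelopingAlgebra.ι R (b i)).prod

/-- exponent vector of a list -/
noncomputable def toMono (l : List ι) : ι →₀ ℕ := (l.map fun i => single i 1).sum

@[simp] theorem toMono_nil : toMono ([] : List ι) = 0 := rfl
@[simp] theorem toMono_cons (i : ι) (l : List ι) : toMono (i :: l) = single i 1 + toMono l := by
  simp [toMono]

theorem toMono_apply (l : List ι) (k : ι) : toMono l k = l.count k := by
  induction l with
  | nil => simp
  | cons i l ih =>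
    rw [toMono_cons, Finsupp.add_apply, ih, List.count_cons]
    by_cases h : i = k
    · subst h; simp; omega
    · rw [Finsupp.single_eq_of_ne (Ne.symm h)]; simp [h]

theorem Le_toMono {i : ι} {l : List ι} (h : ∀ k ∈ l, i ≤ k) : Le i (toMono l) := by
  intro k hk
  rw [Finsupp.mem_support_iff, toMono_apply] at hk
  exact h k (List.count_pos_iff.mp (Nat.pos_of_ne_zero hk))

theorem rhoAlg_prodList_of_sorted {l : List ι} (hl : l.Pairwise (· ≤ ·)) :
    rhoAlg b (prodList b l) (mono R 0) = mono R (toMono l) := by
  induction l with
  | nil => simp [prodList]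
  | cons i l ih =>
    have h1 := List.pairwise_cons.mp hl
    unfold prodList at ih ⊢
    rw [List.map_cons, List.prod_cons, map_mul, Module.End.mul_apply, ih h1.2, rhoAlg_ι, rhoLie_apply,
      rho_of_Le b (Le_toMono h1.1), toMono_cons, add_comm]

theorem toMono_injOn {l l' : List ι} (hl : l.Pairwise (· ≤ ·)) (hl' : l'.Pairwise (· ≤ ·))
    (h : toMono l = toMono l') : l = l' := by
  have hperm : l.Perm l' := by
    rw [List.perm_iff_count]
    intro k
    rw [← toMono_apply, ← toMono_apply, h]
  exact hperm.eq_of_pairwise' hl hl'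

/-- Ordered monomials are linearly independent in the enveloping algebra. -/
theorem linearIndependent_prodList :
    LinearIndependent R (fun l : {l : List ι // l.Pairwise (· ≤ ·)} => prodList (R := R) b l.1) := by
  apply LinearIndependent.of_comp (ev b)
  have hinj : Function.Injective (fun l : {l : List ι // l.Pairwise (· ≤ ·)} => toMono l.1) :=
    fun l l' h => Subtype.ext (toMono_injOn l.2 l'.2 h)
  have := (Finsupp.basisSingleOne (R := R) (ι := ι →₀ ℕ)).linearIndependent.comp _ hinj
  convert this using 1
  funext l
  simp only [Function.comp_apply, ev_apply, Finsupp.coe_basisSingleOne]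
  rw [rhoAlg_prodList_of_sorted b l.2]
  rfl

/-! ### Spanning -/

theorem prodList_nil : prodList (R := R) b [] = 1 := by simp [prodList]

theorem prodList_cons (i : ι) (l : List ι) :
    prodList b (i :: l) = UniversalEnvelopingAlgebra.ι R (b i) * prodList b l := by
  simp [prodList]

theorem prodList_append (l l' : List ι) : prodList b (l ++ l') = prodList b l * prodList b l' := by
  simp [prodList]

/-- span of monomials of length `≤ n` -/
noncomputable def U (n : ℕ) : Submodule R (UniversalEnvelopingAlgebra R L) :=
  Submodule.span R {u | ∃ l : List ι, l.length ≤ n ∧ u = prodList b l}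

/-- span of ordered monomials of length `≤ n` -/
noncomputable def S (n : ℕ) : Submodule R (UniversalEnvelopingAlgebra R L) :=
  Submodule.span R {u | ∃ l : List ι, l.Pairwise (· ≤ ·) ∧ l.length ≤ n ∧ u = prodList b l}

theorem U_mono {n n' : ℕ} (h : n ≤ n') : U b n ≤ U b n' :=
  Submodule.span_mono fun _ ⟨l, hl, hu⟩ => ⟨l, hl.trans h, hu⟩

theorem S_mono {n n' : ℕ} (h : n ≤ n') : S b n ≤ S b n' :=
  Submodule.span_mono fun _ ⟨l, hs, hl, hu⟩ => ⟨l, hs, hl.trans h, hu⟩

theorem prodList_mem_U {l : List ι} {n : ℕ} (h : l.length ≤ n) : prodList b l ∈ U b n :=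
  Submodule.subset_span ⟨l, h, rfl⟩

theorem ι_mul_mem_U (x : L) {n : ℕ} {u : UniversalEnvelopingAlgebra R L} (hu : u ∈ U b n) :
    UniversalEnvelopingAlgebra.ι R x * u ∈ U b (n + 1) := by
  induction hu using Submodule.span_induction with
  | mem u hu =>
    obtain ⟨l, hl, rfl⟩ := hu
    have hx : x ∈ Submodule.span R (Set.range b) := by rw [b.span_eq]; trivial
    induction hx using Submodule.span_induction with
    | mem x hx =>
      obtain ⟨i, rfl⟩ := hx
      rw [← prodList_cons]
      exact prodList_mem_U b (by simp; omega)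
    | zero => simp
    | add x y _ _ h1 h2 => rw [map_add, add_mul]; exact Submodule.add_mem _ h1 h2
    | smul c x _ h1 => rw [map_smul, smul_mul_assoc]; exact Submodule.smul_mem _ _ h1
  | zero => simp
  | add u u' _ _ h1 h2 => rw [mul_add]; exact Submodule.add_mem _ h1 h2
  | smul c u _ h1 => rw [mul_smul_comm]; exact Submodule.smul_mem _ _ h1

theorem perm_sub_mem_U {l l' : List ι} (h : l.Perm l') :
    ∀ n, l.length ≤ n + 1 → prodList (R := R) b l - prodList b l' ∈ U b n := by
  induction h with
  | nil => intro n _; simp
  | cons a h ih =>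
    intro n hn
    rw [prodList_cons, prodList_cons, ← mul_sub]
    rename_i l₁ l₂
    rcases Nat.eq_zero_or_pos n with h0 | h0
    · have : l₁ = [] := by
        apply List.eq_nil_of_length_eq_zero
        simp only [List.length_cons] at hn; omega
      subst this
      have : l₂ = [] := h.nil_eq.symm
      subst this
      simp
    · obtain ⟨m, rfl⟩ : ∃ m, n = m + 1 := ⟨n - 1, by omega⟩
      exact ι_mul_mem_U b _ (ih m (by simp only [List.length_cons] at hn; omega))
  | swap a c l =>
    intro n hn
    rw [prodList_cons, prodList_cons, prodList_cons, prodList_cons, ← mul_assoc, ← mul_assoc, ← sub_mul]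
    have : UniversalEnvelopingAlgebra.ι R (b c) * UniversalEnvelopingAlgebra.ι R (b a)
        - UniversalEnvelopingAlgebra.ι R (b a) * UniversalEnvelopingAlgebra.ι R (b c)
        = UniversalEnvelopingAlgebra.ι R ⁅b c, b a⁆ := by
      rw [LieHom.map_lie, LieRing.of_associative_ring_bracket]
    rw [this]
    obtain ⟨m, rfl⟩ : ∃ m, n = m + 1 := ⟨n - 1, by simp only [List.length_cons] at hn; omega⟩
    exact ι_mul_mem_U b _ (prodList_mem_U b (by simp only [List.length_cons] at hn; omega))
  | trans h1 h2 ih1 ih2 =>
    intro n hn
    have := Submodule.add_mem _ (ih1 n hn) (ih2 n (by rw [← h1.length_eq]; exact hn))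
    rwa [sub_add_sub_cancel] at this

theorem U_le_S (n : ℕ) : U b n ≤ S b n := by
  induction n with
  | zero =>
    apply Submodule.span_le.mpr
    rintro u ⟨l, hl, rfl⟩
    have : l = [] := List.eq_nil_of_length_eq_zero (by omega)
    subst this
    exact Submodule.subset_span ⟨[], List.Pairwise.nil, le_rfl, rfl⟩
  | succ n ih =>
    apply Submodule.span_le.mpr
    rintro u ⟨l, hl, rfl⟩
    have hperm : l.Perm (l.mergeSort (· ≤ ·)) := (List.mergeSort_perm l _).symm
    have hsorted : (l.mergeSort (· ≤ ·)).Pairwise (· ≤ ·) := by
      have := List.pairwise_mergeSort (le := fun a b : ι => decide (a ≤ b))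
        (fun a b c hab hbc => by simp only [decide_eq_true_eq] at *; exact le_trans hab hbc)
        (fun a b => by simp only [Bool.or_eq_true, decide_eq_true_eq]; exact le_total a b) l
      simpa using this
    have h1 := ih (perm_sub_mem_U b hperm n hl)
    have h2 : prodList (R := R) b (l.mergeSort (· ≤ ·)) ∈ S b (n + 1) :=
      Submodule.subset_span ⟨_, hsorted, by rw [List.length_mergeSort]; exact hl, rfl⟩
    have := Submodule.add_mem _ (S_mono b (Nat.le_succ n) h1) h2
    rwa [sub_add_cancel] at this

/-- A subalgebra of the enveloping algebra containing the image of `L` is everything. -/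
theorem subalgebra_eq_top_of_ι_mem (S' : Subalgebra R (UniversalEnvelopingAlgebra R L))
    (h : ∀ x : L, UniversalEnvelopingAlgebra.ι R x ∈ S') : S' = ⊤ := by
  let f : L →ₗ⁅R⁆ S' :=
    { toFun := fun x => ⟨UniversalEnvelopingAlgebra.ι R x, h x⟩
      map_add' := fun x y => Subtype.ext (by simp)
      map_smul' := fun c x => Subtype.ext (by simp)
      map_lie' := by
        intro x y
        apply Subtype.ext
        simp only [LieHom.map_lie, LieRing.of_associative_ring_bracket]
        rfl }
  have hid : S'.val.comp (UniversalEnvelopingAlgebra.lift R f) = AlgHom.id R _ := by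
    apply UniversalEnvelopingAlgebra.hom_ext
    ext x
    simp only [LieHom.coe_comp, Function.comp_apply, AlgHom.coe_toLieHom, AlgHom.coe_comp,
      UniversalEnvelopingAlgebra.lift_ι_apply, AlgHom.coe_id, id_eq]
    rfl
  rw [eq_top_iff]
  intro u _
  have := AlgHom.congr_fun hid u
  simp only [AlgHom.coe_comp, Function.comp_apply, AlgHom.coe_id, id_eq] at this
  rw [← this]
  exact (UniversalEnvelopingAlgebra.lift R f u).2

theorem exists_mem_U (u : UniversalEnvelopingAlgebra R L) : ∃ n, u ∈ U b n := by
  -- the union of the `U n` is a subalgebra containing `ι L`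
  let P : Submodule R (UniversalEnvelopingAlgebra R L) :=
    { carrier := {u | ∃ n, u ∈ U b n}
      zero_mem' := ⟨0, Submodule.zero_mem _⟩
      add_mem' := by
        rintro u u' ⟨n, hn⟩ ⟨n', hn'⟩
        exact ⟨max n n', Submodule.add_mem _ (U_mono b (le_max_left _ _) hn)
          (U_mono b (le_max_right _ _) hn')⟩
      smul_mem' := by
        rintro c u ⟨n, hn⟩
        exact ⟨n, Submodule.smul_mem _ _ hn⟩ }
  have hmul : ∀ u u' : UniversalEnvelopingAlgebra R L, u ∈ P → u' ∈ P → u * u' ∈ P := by
    rintro u u' ⟨n, hn⟩ ⟨n', hn'⟩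
    refine ⟨n + n', ?_⟩
    induction hn using Submodule.span_induction with
    | mem u hu =>
      obtain ⟨l, hl, rfl⟩ := hu
      induction hn' using Submodule.span_induction with
      | mem u' hu' =>
        obtain ⟨l', hl', rfl⟩ := hu'
        rw [← prodList_append]
        exact prodList_mem_U b (by rw [List.length_append]; omega)
      | zero => simp
      | add u u' _ _ h1 h2 => rw [mul_add]; exact Submodule.add_mem _ h1 h2
      | smul c u _ h1 => rw [mul_smul_comm]; exact Submodule.smul_mem _ _ h1
    | zero => simp
    | add u u'' _ _ h1 h2 => rw [add_mul]; exact Submodule.add_mem _ h1 h2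
    | smul c u _ h1 => rw [smul_mul_assoc]; exact Submodule.smul_mem _ _ h1
  have hone : (1 : UniversalEnvelopingAlgebra R L) ∈ P :=
    ⟨0, by rw [← prodList_nil b]; exact prodList_mem_U b (by simp)⟩
  have htop : P.toSubalgebra hone hmul = ⊤ := by
    apply subalgebra_eq_top_of_ι_mem
    intro x
    refine ⟨1, ?_⟩
    have := ι_mul_mem_U b x (n := 0) (u := 1) (by rw [← prodList_nil b]; exact prodList_mem_U b (by simp))
    simpa using this
  have : u ∈ P.toSubalgebra hone hmul := by rw [htop]; trivial
  exact this

theorem span_prodList_eq_top :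
    ⊤ ≤ Submodule.span R (Set.range fun l : {l : List ι // l.Pairwise (· ≤ ·)} => prodList (R := R) b l.1) := by
  intro u _
  obtain ⟨n, hn⟩ := exists_mem_U b u
  have h := U_le_S b n hn
  refine (Submodule.span_mono ?_) h
  rintro _ ⟨l, hs, _, rfl⟩
  exact ⟨⟨l, hs⟩, rfl⟩

/-- **Poincaré–Birkhoff–Witt**: the ordered monomials form a basis of the enveloping algebra. -/
noncomputable def pbwBasis :
    Module.Basis {l : List ι // l.Pairwise (· ≤ ·)} R (UniversalEnvelopingAlgebra R L) :=
  Module.Basis.mk (linearIndependent_prodList b) (span_prodList_eq_top b)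

theorem pbwBasis_apply (l : {l : List ι // l.Pairwise (· ≤ ·)}) : pbwBasis b l = prodList b l.1 := by
  unfold pbwBasis
  rw [Module.Basis.mk_apply]

include b in
/-- `L → U(L)` is injective. -/
theorem ι_injective : Function.Injective (UniversalEnvelopingAlgebra.ι R : L → UniversalEnvelopingAlgebra R L) := by
  intro x y hxy
  have h1 : ev b (UniversalEnvelopingAlgebra.ι R x) = ev b (UniversalEnvelopingAlgebra.ι R y) := by rw [hxy]
  rw [ev_apply, ev_apply, rhoAlg_ι, rhoAlg_ι, rhoLie_apply, rhoLie_apply] at h1
  -- `rho x 1 = Σ x_i X_i`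
  have key : ∀ z : L, rho b z (mono R 0) = Finsupp.mapDomain (fun i => single i 1) (b.repr z) := by
    intro z
    have : (rho b).flip (mono R 0) = (Finsupp.lmapDomain R R (fun i : ι => (single i 1 : ι →₀ ℕ))).comp b.repr.toLinearMap := by
      refine b.ext fun i => ?_
      simp only [LinearMap.flip_apply, LinearMap.coe_comp, LinearEquiv.coe_coe, Function.comp_apply,
        Module.Basis.repr_self, Finsupp.lmapDomain_apply, Finsupp.mapDomain_single]
      rw [rho_of_Le b (Le_zero i), zero_add]
      rfl
    exact LinearMap.congr_fun this z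
  rw [key, key] at h1
  have hinj : Function.Injective (fun i : ι => (single i 1 : ι →₀ ℕ)) := fun i j h => by
    have := Finsupp.single_left_injective (one_ne_zero (α := ℕ)) h
    exact this
  exact b.repr.injective (Finsupp.mapDomain_injective hinj h1)

end Groth.Agent.Lib.Helper66.PBW
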