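import Groth.Prelude.Def_PLie

/-!
# Basic lemmas on `PLie` (helper66)
Functoriality of `bracketWord` / `jacobson` under Lie algebra homomorphisms, `ad`-power transport, extensionality of `PMap`.
-/

set_option autoImplicit false
universe u v w

namespace Groth.Agent.Lib.Helper66.PLieBasic

open PLie

section

variable {R : Type u} [CommRing R] {L : Type v} [LieRing L] [LieAlgebra R L]
  {L' : Type w} [LieRing L'] [LieAlgebra R L']

theorem ad_pow_map (f : L →ₗ⁅R⁆ L') (x y : L) (n : ℕ) :
    (LieAlgebra.ad R L' (f x) ^ n) (f y) = f ((LieAlgebra.ad R L x ^ n) y) := by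
  induction n with
  | zero => simp
  | succ n ih =>
    rw [pow_succ', pow_succ', Module.End.mul_apply, Module.End.mul_apply, ih, LieAlgebra.ad_apply,
      LieAlgebra.ad_apply, LieHom.map_lie]

theorem bracketWord_map {ι : Type*} (f : L →ₗ⁅R⁆ L') (x : ι → L) (x₁ : L) (w : List ι) :
    f (bracketWord x x₁ w) = bracketWord (fun i => f (x i)) (f x₁) w := by
  induction w with
  | nil => rfl
  | cons i w ih => rw [bracketWord_cons, bracketWord_cons, LieHom.map_lie, ih]

theorem pair_map (f : L →ₗ⁅R⁆ L') (x₀ x₁ : L) :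
    (fun b => f (pair x₀ x₁ b)) = pair (f x₀) (f x₁) := by
  funext b
  cases b <;> rfl

theorem jacobson_map (p : ℕ) [CharP R p] (f : L →ₗ⁅R⁆ L') (x₀ x₁ : L) :
    f (jacobson R p x₀ x₁) = jacobson R p (f x₀) (f x₁) := by
  unfold jacobson
  rw [map_sum]
  refine Finset.sum_congr rfl fun t _ => ?_
  rw [map_smul, bracketWord_map, pair_map]

theorem bracketWord_zero {ι : Type*} (x : ι → L) (w : List ι) : bracketWord x (0 : L) w = 0 := by
  induction w with
  | nil => rfl
  | cons i w ih => rw [bracketWord_cons, ih, lie_zero]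

theorem jacobson_zero_right (p : ℕ) [CharP R p] (x₀ : L) : jacobson R p x₀ (0 : L) = 0 := by
  unfold jacobson
  refine Finset.sum_eq_zero fun t _ => ?_
  rw [bracketWord_zero, smul_zero]

theorem PMap.ext' {p : ℕ} [CharP R p] {φ ψ : PMap R p L} (h : ∀ x, φ x = ψ x) : φ = ψ := by
  cases φ; cases ψ
  congr
  funext x
  exact h x

/-- Push a `p`-map forward along a surjective Lie homomorphism whose kernel is `φ`-stable. -/
theorem existsUnique_pmap_of_surjective {p : ℕ} [CharP R p] (φ : PMap R p L) (g : L →ₗ⁅R⁆ L')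
    (hg : Function.Surjective g) (hker : ∀ x : L, g x = 0 → g (φ x) = 0) :
    ∃! ψ : PMap R p L', IsPHom φ ψ g := by
  -- well-definedness
  have hwd : ∀ x x' : L, g x = g x' → g (φ x) = g (φ x') := by
    intro x x' h
    have hk : g (x' - x) = 0 := by rw [map_sub, h, sub_self]
    have h1 := φ.map_add x (x' - x)
    rw [add_sub_cancel] at h1
    have h2 := congrArg g h1
    rw [map_sub, map_add, jacobson_map, hk, jacobson_zero_right, sub_zero, hker _ hk, add_zero] at h2
    exact h2.symm
  choose s hs using hg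
  have key : ∀ x : L, g (φ (s (g x))) = g (φ x) := fun x => hwd _ _ (hs (g x))
  refine ⟨⟨fun y => g (φ (s y)), fun c y => ?_, fun y => ?_, fun y₀ y₁ => ?_⟩, fun x => ?_, fun ψ' hψ' => ?_⟩
  · have h1 : g (s (c • y)) = g (c • s y) := by rw [hs, map_smul, hs]
    rw [hwd _ _ h1]
    have := φ.map_smul c (s y)
    change g (φ.toFun (c • s y)) = _
    rw [this, map_smul]
  · ext y'
    obtain ⟨x', rfl⟩ : ∃ x', g x' = y' := ⟨s y', hs y'⟩
    have h2 := LinearMap.congr_fun (φ.ad_map (s y)) x'
    rw [LieAlgebra.ad_apply] at h2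
    rw [LieAlgebra.ad_apply, ← LieHom.map_lie]
    change g ⁅φ.toFun (s y), x'⁆ = _
    rw [h2, ← ad_pow_map, hs]
  · have h1 : g (s (y₀ + y₁)) = g (s y₀ + s y₁) := by rw [hs, map_add, hs, hs]
    rw [hwd _ _ h1]
    have := φ.map_add (s y₀) (s y₁)
    change g (φ.toFun (s y₀ + s y₁)) = _
    rw [this, map_sub, map_add, jacobson_map, hs, hs]
  · exact (key x).symm
  · refine PMap.ext' fun y => ?_
    have := hψ' (s y)
    rw [hs] at this
    exact this.symm

end

end Groth.Agent.Lib.Helper66.PLieBasic
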