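import Mathlib
import Groth.Prelude.Def_PLie
import Groth.Agent.Lib.Helper66.PLieBasic
import Groth.Agent.Lib.Helper66.JacobsonFormula
import Groth.Agent.Lib.Helper66.PBWBasis

/-!
# Jacobson's theorem on the existence of `p`-maps (helper66)

* `exists_pmap_of_assoc`: if `e : L → A` is a Lie homomorphism into an associative algebra, `C ⊆ A` a submodule
  centralising `e L` with `e L ∩ C = 0` (and `e` injective), and `(e (b i))^p ∈ e (y i) + C` on a spanning family `b`,
  then there is a `p`-map `φ` with `φ (b i) = y i` and `(e x)^p ∈ e (φ x) + C`.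
* `exists_pmap_of_basis`: Jacobson's theorem: if `(ad (b i))^p = ad (y i)` on a basis then a `p`-map with `φ (b i) = y i` exists.
-/

set_option autoImplicit false
universe u v w

namespace Groth.Agent.Lib.Helper66.JacobsonThm

open PLie Groth.Agent.Lib.Helper66.PLieBasic Groth.Agent.Lib.Helper66.Jacobson

attribute [local instance] LieRing.ofAssociativeRing

section AdPow

variable {B : Type*} [Ring B] {p : ℕ} [hp : Fact p.Prime]

/-- In a ring with `p = 0`: `(ad a)^p v = a^p v - v a^p`. -/
theorem ad_iterate_char (hB : (p : B) = 0) (a v : B) :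
    (fun q : B => a * q - q * a)^[p] v = a ^ p * v - v * a ^ p := by
  have hpp : p = (p - 1) + 1 := by have := hp.out.pos; omega
  conv_lhs => rw [hpp]
  rw [Function.iterate_succ_apply', ad_pow_pred hB, Finset.mul_sum, Finset.sum_mul, ← Finset.sum_sub_distrib]
  have := Finset.sum_range_sub (fun k => a ^ k * v * a ^ (p - k)) p
  simp only [Nat.sub_self, pow_zero, mul_one, Nat.sub_zero, one_mul] at this
  rw [← this]
  refine Finset.sum_congr rfl fun k hk => ?_
  have hk' := Finset.mem_range.mp hk
  have e1 : p - (k + 1) = p - 1 - k := by omega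
  have e2 : p - k = (p - 1 - k) + 1 := by omega
  rw [e1, e2, pow_succ' a k, pow_succ a (p - 1 - k)]
  simp only [mul_assoc]

end AdPow

section Assoc

variable {R : Type u} [CommRing R] {p : ℕ} [hp : Fact p.Prime] [CharP R p]
  {A : Type v} [Ring A] [Algebra R A]

theorem ad_pow_char (a v : A) : ((LieAlgebra.ad R A a) ^ p) v = a ^ p * v - v * a ^ p := by
  have hA : ((p : ℕ) : A) = 0 := natCast_eq_zero_of_charP R p A
  rw [← ad_iterate_char hA a v, Module.End.pow_apply]
  rfl

end Assoc

section Existence

variable {R : Type u} [CommRing R] {p : ℕ} [hp : Fact p.Prime] [CharP R p]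
  {A : Type v} [Ring A] [Algebra R A] {L : Type w} [LieRing L] [LieAlgebra R L]

/-- **Existence of `p`-maps from an associative model.** -/
theorem exists_pmap_of_assoc (e : L →ₗ⁅R⁆ A) (C : Submodule R A)
    (hC : ∀ ζ ∈ C, ∀ x : L, ζ * e x = e x * ζ) (hdisj : ∀ x : L, e x ∈ C → x = 0)
    {ι : Type*} (b : ι → L) (hb : Submodule.span R (Set.range b) = ⊤) (y : ι → L)
    (hy : ∀ i, e (b i) ^ p - e (y i) ∈ C) :
    ∃ φ : PMap R p L, (∀ i, φ (b i) = y i) ∧ ∀ x, e x ^ p - e (φ x) ∈ C := by
  have hp0 : p ≠ 0 := hp.out.ne_zero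
  have hinj : ∀ z z' : L, e z = e z' → z = z' := by
    intro z z' h
    have : e (z - z') ∈ C := by rw [map_sub, h, sub_self]; exact C.zero_mem
    exact sub_eq_zero.mp (hdisj _ this)
  have hadd : ∀ x x' x₁ x₁' : L, e x ^ p - e x₁ ∈ C → e x' ^ p - e x₁' ∈ C →
      e (x + x') ^ p - e (x₁ + x₁' - jacobson R p x x') ∈ C := by
    intro x x' x₁ x₁' h1 h2
    have hJ : jacobson R p (e x) (e x') = e (jacobson R p x x') := (jacobson_map p e x x').symm
    rw [map_add, add_pow_char_eq R p (e x) (e x'), hJ, map_sub, map_add]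
    have := C.add_mem h1 h2
    convert this using 1
    abel
  have hsmul : ∀ (c : R) (x x₁ : L), e x ^ p - e x₁ ∈ C → e (c • x) ^ p - e (c ^ p • x₁) ∈ C := by
    intro c x x₁ h1
    rw [map_smul, map_smul, smul_pow, ← smul_sub]
    exact C.smul_mem _ h1
  have hex : ∀ x : L, ∃ x₁ : L, e x ^ p - e x₁ ∈ C := by
    intro x
    have hx : x ∈ Submodule.span R (Set.range b) := by rw [hb]; trivial
    induction hx using Submodule.span_induction with
    | mem x hx =>
      obtain ⟨i, rfl⟩ := hx
      exact ⟨y i, hy i⟩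
    | zero =>
      refine ⟨0, ?_⟩
      rw [map_zero, zero_pow hp0, sub_zero]
      exact C.zero_mem
    | add x x' _ _ h1 h2 =>
      obtain ⟨x₁, h1⟩ := h1
      obtain ⟨x₁', h2⟩ := h2
      exact ⟨_, hadd x x' x₁ x₁' h1 h2⟩
    | smul c x _ h1 =>
      obtain ⟨x₁, h1⟩ := h1
      exact ⟨_, hsmul c x x₁ h1⟩
  choose φ hφ using hex
  have huniq : ∀ x x' : L, e x ^ p - e x' ∈ C → φ x = x' := by
    intro x x' h
    apply hinj
    have : e (φ x - x') ∈ C := by
      have := C.sub_mem h (hφ x)
      rw [sub_sub_sub_cancel_left] at this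
      rwa [map_sub]
    have h0 := hdisj _ this
    rw [sub_eq_zero.mp h0]
  refine ⟨⟨φ, fun c x => huniq _ _ (hsmul c x _ (hφ x)), fun x => ?_, fun x x' =>
    huniq _ _ (hadd x x' _ _ (hφ x) (hφ x'))⟩, fun i => huniq _ _ (hy i), hφ⟩
  -- the `ad` condition
  refine LinearMap.ext fun v => ?_
  apply hinj
  rw [LieAlgebra.ad_apply, LieHom.map_lie, ← ad_pow_map e x v p, ad_pow_char,
    LieRing.of_associative_ring_bracket]
  have hζ := hC _ (hφ x) v
  have : e (φ x) = e x ^ p - (e x ^ p - e (φ x)) := by abel
  rw [this, sub_mul, mul_sub, hζ]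
  abel

end Existence

section Uniqueness

variable {R : Type u} [CommRing R] {p : ℕ} [CharP R p] {L : Type w} [LieRing L] [LieAlgebra R L]

/-- A `p`-map is determined by its values on a spanning family. -/
theorem pmap_ext_of_span (φ ψ : PMap R p L) {ι : Type*} (b : ι → L)
    (hb : Submodule.span R (Set.range b) = ⊤) (h : ∀ i, φ (b i) = ψ (b i)) : φ = ψ := by
  refine PMap.ext' fun x => ?_
  have hx : x ∈ Submodule.span R (Set.range b) := by rw [hb]; trivial
  induction hx using Submodule.span_induction with
  | mem x hx =>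
    obtain ⟨i, rfl⟩ := hx
    exact h i
  | zero =>
    have h1 := φ.map_smul 0 0
    have h2 := ψ.map_smul 0 0
    rw [zero_smul] at h1 h2
    change φ.toFun 0 = ψ.toFun 0
    rw [h1, h2]
    by_cases hp0 : p = 0
    · subst hp0
      -- `CharP R 0`, `0 ^ 0 = 1`: use `map_add` instead
      have a1 := φ.map_add 0 0
      have a2 := ψ.map_add 0 0
      rw [add_zero, jacobson_zero_right] at a1 a2
      have e1 : φ.toFun 0 = 0 := by
        have : φ.toFun 0 = φ.toFun 0 + φ.toFun 0 - 0 := a1
        rw [sub_zero] at this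
        exact left_eq_add.mp this
      have e2 : ψ.toFun 0 = 0 := by
        have : ψ.toFun 0 = ψ.toFun 0 + ψ.toFun 0 - 0 := a2
        rw [sub_zero] at this
        exact left_eq_add.mp this
      rw [e1, e2]
    · rw [zero_pow hp0, zero_smul, zero_smul]
  | add x x' _ _ h1 h2 =>
    change φ.toFun (x + x') = ψ.toFun (x + x')
    rw [φ.map_add, ψ.map_add]
    rw [h1, h2]
  | smul c x _ h1 =>
    change φ.toFun (c • x) = ψ.toFun (c • x)
    rw [φ.map_smul, ψ.map_smul]
    rw [h1]

end Uniqueness

section Jacobson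

open Groth.Agent.Lib.Helper66.PBW Finsupp

variable {R : Type u} [CommRing R] {p : ℕ} [hp : Fact p.Prime] [CharP R p]
  {L : Type v} [LieRing L] [LieAlgebra R L] {ι : Type w}

theorem rho_vac [LinearOrder ι] (b : Module.Basis ι R L) (z : L) :
    rho b z (mono R 0) = Finsupp.mapDomain (fun i => (single i 1 : ι →₀ ℕ)) (b.repr z) := by
  have : (rho b).flip (mono R 0) =
      (Finsupp.lmapDomain R R (fun i : ι => (single i 1 : ι →₀ ℕ))).comp b.repr.toLinearMap := by
    refine b.ext fun i => ?_
    simp only [LinearMap.flip_apply, LinearMap.coe_comp, LinearEquiv.coe_coe, Function.comp_apply,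
      Module.Basis.repr_self, Finsupp.lmapDomain_apply, Finsupp.mapDomain_single]
    rw [rho_of_Le b (Le_zero i), zero_add]
    rfl
  exact LinearMap.congr_fun this z

theorem rho_pow_vac [LinearOrder ι] (b : Module.Basis ι R L) (i : ι) (n : ℕ) :
    ((rhoLie b (b i)) ^ n) (mono R 0) = mono R (single i n) := by
  induction n with
  | zero => simp
  | succ n ih =>
    rw [pow_succ', Module.End.mul_apply, ih, rhoLie_apply]
    have hle : Le i (single i n) := by
      intro k hk
      have := Finsupp.support_single_subset hk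
      rw [Finset.mem_singleton] at this
      rw [this]
    rw [rho_of_Le b hle, ← Finsupp.single_add]

/-- **Jacobson's theorem**: existence of a `p`-map with prescribed values on a basis. -/
theorem exists_pmap_of_basis (b : Module.Basis ι R L) (y : ι → L)
    (hy : ∀ i : ι, LieAlgebra.ad R L (b i) ^ p = LieAlgebra.ad R L (y i)) :
    ∃ φ : PMap R p L, ∀ i : ι, φ (b i) = y i := by
  classical
  letI : LinearOrder ι := IsWellOrder.linearOrder WellOrderingRel
  have hp1 : p ≠ 1 := hp.out.ne_one
  have hp0 : p ≠ 0 := hp.out.ne_zero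
  let e : L →ₗ⁅R⁆ Module.End R (Mod R ι) := rhoLie b
  let z : ι → Module.End R (Mod R ι) := fun i => e (b i) ^ p - e (y i)
  let C : Submodule R (Module.End R (Mod R ι)) := Submodule.span R (Set.range z)
  have hz : ∀ i, ∀ x : L, z i * e x = e x * z i := by
    intro i x
    have h1 := ad_pow_char (R := R) (p := p) (e (b i)) (e x)
    rw [ad_pow_map e (b i) x p, hy i, LieAlgebra.ad_apply, LieHom.map_lie,
      LieRing.of_associative_ring_bracket] at h1
    refine LinearMap.ext fun m => ?_
    have h2 := LinearMap.congr_fun h1 m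
    simp only [LinearMap.sub_apply, Module.End.mul_apply] at h2
    change (e (b i) ^ p - e (y i)) (e x m) = e x ((e (b i) ^ p - e (y i)) m)
    simp only [LinearMap.sub_apply, map_sub]
    rw [sub_eq_iff_eq_add] at h2 ⊢
    rw [h2]
    abel
  have hC : ∀ ζ ∈ C, ∀ x : L, ζ * e x = e x * ζ := by
    intro ζ hζ x
    induction hζ using Submodule.span_induction with
    | mem ζ hζ =>
      obtain ⟨i, rfl⟩ := hζ
      exact hz i x
    | zero => simp
    | add ζ ζ' _ _ h1 h2 => rw [add_mul, mul_add, h1, h2]
    | smul c ζ _ h1 => rw [smul_mul_assoc, mul_smul_comm, h1]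
  have hdisj : ∀ x : L, e x ∈ C → x = 0 := by
    intro x hx
    obtain ⟨c, hc⟩ := (Finsupp.mem_span_range_iff_exists_finsupp).mp hx
    -- evaluate at the vacuum
    have hev := LinearMap.congr_fun hc (mono R 0)
    have h1 : (c.sum fun i a => a • z i) (mono R 0) =
        Finsupp.mapDomain (fun j => (single j p : ι →₀ ℕ)) c
          - rho b (Finsupp.linearCombination R y c) (mono R 0) := by
      rw [Finsupp.sum, LinearMap.sum_apply, Finsupp.linearCombination_apply, Finsupp.sum, map_sum,
        LinearMap.sum_apply, Finsupp.mapDomain, Finsupp.sum, ← Finset.sum_sub_distrib]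
      refine Finset.sum_congr rfl fun i _ => ?_
      rw [LinearMap.smul_apply, map_smul, LinearMap.smul_apply]
      change c i • ((e (b i) ^ p) (mono R 0) - e (y i) (mono R 0)) = _
      rw [rho_pow_vac, smul_sub]
      congr 1
      unfold mono
      rw [Finsupp.smul_single, smul_eq_mul, mul_one]
    rw [h1] at hev
    change _ = rho b x (mono R 0) at hev
    have h2 : Finsupp.mapDomain (fun j => (single j p : ι →₀ ℕ)) c =
        rho b (x + Finsupp.linearCombination R y c) (mono R 0) := by
      rw [map_add, LinearMap.add_apply, ← hev]; abel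
    rw [rho_vac] at h2
    have hinj1 : Function.Injective (fun i : ι => (single i 1 : ι →₀ ℕ)) :=
      fun i j h => Finsupp.single_left_injective (one_ne_zero (α := ℕ)) h
    have hinjp : Function.Injective (fun i : ι => (single i p : ι →₀ ℕ)) :=
      fun i j h => Finsupp.single_left_injective hp0 h
    have hc0 : c = 0 := by
      ext i
      have h3 := DFunLike.congr_fun h2 (single i p)
      rw [Finsupp.mapDomain_apply hinjp, Finsupp.mapDomain_of_notMem_range] at h3
      · exact h3
      · rintro ⟨j, hj⟩
        have hj' : (single j 1 : ι →₀ ℕ) = single i p := hj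
        have h4 := DFunLike.congr_fun hj' i
        rw [Finsupp.single_eq_same] at h4
        by_cases hji : j = i
        · subst hji
          rw [Finsupp.single_eq_same] at h4
          exact hp1 h4.symm
        · rw [Finsupp.single_eq_of_ne (Ne.symm hji)] at h4
          exact hp0 h4.symm
    rw [hc0, Finsupp.mapDomain_zero, map_zero, add_zero] at h2
    have h5 : b.repr x = 0 := by
      apply Finsupp.mapDomain_injective hinj1
      rw [← h2, Finsupp.mapDomain_zero]
    exact b.repr.map_eq_zero_iff.mp h5
  obtain ⟨φ, hφ, -⟩ := exists_pmap_of_assoc (p := p) e C hC hdisj b b.span_eq y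
    (fun i => Submodule.subset_span ⟨i, rfl⟩)
  exact ⟨φ, hφ⟩

end Jacobson

end Groth.Agent.Lib.Helper66.JacobsonThm
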