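import Mathlib
import Groth.Prelude.Def_PLie
import Groth.Agent.Lib.Helper66.JacobsonThm

/-!
# Computations in three-dimensional Lie algebras with a basis; dual numbers; restrictability criterion (helper66)
-/

set_option autoImplicit false
universe u v w

namespace Groth.Agent.Lib.Helper66.Lie3

open PLie

section Criterion

variable {R : Type u} [CommRing R] {p : ℕ} [hp : Fact p.Prime] [CharP R p]
  {L : Type v} [LieRing L] [LieAlgebra R L] {ι : Type w}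

/-- Restrictability criterion (Jacobson): a Lie algebra with a basis carries a `p`-map iff `(ad b_i)^p` is inner
for every basis vector. -/
theorem nonempty_pmap_iff (b : Module.Basis ι R L) :
    Nonempty (PMap R p L) ↔ ∀ i, ∃ w : L, LieAlgebra.ad R L (b i) ^ p = LieAlgebra.ad R L w := by
  constructor
  · rintro ⟨γ⟩ i
    exact ⟨γ (b i), (γ.ad_map (b i)).symm⟩
  · intro h
    choose y hy using h
    obtain ⟨φ, -⟩ := Groth.Agent.Lib.Helper66.JacobsonThm.exists_pmap_of_basis (p := p) b y hy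
    exact ⟨φ⟩

end Criterion

section Vec

variable {D : Type u} [CommRing D] {L : Type v} [LieRing L] [LieAlgebra D L]
  (bs : Module.Basis (Fin 3) D L)

/-- the vector with coordinates `u₀, u₁, u₂` -/
noncomputable def vec (u₀ u₁ u₂ : D) : L := u₀ • bs 0 + u₁ • bs 1 + u₂ • bs 2

theorem vec_add (u₀ u₁ u₂ v₀ v₁ v₂ : D) :
    vec bs u₀ u₁ u₂ + vec bs v₀ v₁ v₂ = vec bs (u₀ + v₀) (u₁ + v₁) (u₂ + v₂) := by
  unfold vec; simp only [add_smul]; abel

theorem vec_sub (u₀ u₁ u₂ v₀ v₁ v₂ : D) :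
    vec bs u₀ u₁ u₂ - vec bs v₀ v₁ v₂ = vec bs (u₀ - v₀) (u₁ - v₁) (u₂ - v₂) := by
  unfold vec; simp only [sub_smul]; abel

theorem vec_neg (u₀ u₁ u₂ : D) : - vec bs u₀ u₁ u₂ = vec bs (-u₀) (-u₁) (-u₂) := by
  unfold vec; simp only [neg_smul]; abel

theorem smul_vec (c u₀ u₁ u₂ : D) : c • vec bs u₀ u₁ u₂ = vec bs (c * u₀) (c * u₁) (c * u₂) := by
  unfold vec; simp only [smul_add, smul_smul]

theorem vec_zero : vec bs 0 0 0 = 0 := by unfold vec; simp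

theorem b0_eq : bs 0 = vec bs 1 0 0 := by unfold vec; simp
theorem b1_eq : bs 1 = vec bs 0 1 0 := by unfold vec; simp
theorem b2_eq : bs 2 = vec bs 0 0 1 := by unfold vec; simp

theorem eq_vec (x : L) : x = vec bs (bs.repr x 0) (bs.repr x 1) (bs.repr x 2) := by
  have := bs.sum_repr x
  rw [Fin.sum_univ_three] at this
  exact this.symm

theorem repr_vec (u₀ u₁ u₂ : D) :
    bs.repr (vec bs u₀ u₁ u₂) 0 = u₀ ∧ bs.repr (vec bs u₀ u₁ u₂) 1 = u₁ ∧ bs.repr (vec bs u₀ u₁ u₂) 2 = u₂ := by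
  unfold vec
  simp only [map_add, map_smul, Module.Basis.repr_self, Finsupp.add_apply, Finsupp.smul_apply,
    Finsupp.single_apply]
  refine ⟨?_, ?_, ?_⟩ <;> simp

theorem vec_inj {u₀ u₁ u₂ v₀ v₁ v₂ : D} :
    vec bs u₀ u₁ u₂ = vec bs v₀ v₁ v₂ ↔ u₀ = v₀ ∧ u₁ = v₁ ∧ u₂ = v₂ := by
  constructor
  · intro h
    have hu := repr_vec bs u₀ u₁ u₂
    have hv := repr_vec bs v₀ v₁ v₂
    rw [h] at hu
    exact ⟨hu.1.symm.trans hv.1, hu.2.1.symm.trans hv.2.1, hu.2.2.symm.trans hv.2.2⟩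
  · rintro ⟨rfl, rfl, rfl⟩; rfl

theorem basis3_ext {f g : Module.End D L}
    (h0 : f (bs 0) = g (bs 0)) (h1 : f (bs 1) = g (bs 1)) (h2 : f (bs 2) = g (bs 2)) : f = g := by
  refine bs.ext fun j => ?_
  fin_cases j
  · exact h0
  · exact h1
  · exact h2

theorem ad_pow_eq_zero_of_cube (x : L) (h : (LieAlgebra.ad D L x) ^ 3 = 0) (p : ℕ) (hp : 3 ≤ p) :
    (LieAlgebra.ad D L x) ^ p = LieAlgebra.ad D L 0 := by
  obtain ⟨k, rfl⟩ : ∃ k, p = 3 + k := ⟨p - 3, by omega⟩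
  rw [pow_add, h, zero_mul, map_zero]

/-- The bracket of two vectors in terms of the structure constants. -/
theorem lie_vec {q₀ q₁ q₂ r₀ r₁ r₂ s₀ s₁ s₂ : D}
    (hxy : ⁅bs 0, bs 1⁆ = vec bs q₀ q₁ q₂) (hxz : ⁅bs 0, bs 2⁆ = vec bs r₀ r₁ r₂)
    (hyz : ⁅bs 1, bs 2⁆ = vec bs s₀ s₁ s₂) (u₀ u₁ u₂ v₀ v₁ v₂ : D) :
    ⁅vec bs u₀ u₁ u₂, vec bs v₀ v₁ v₂⁆ =
      vec bs ((u₀ * v₁ - u₁ * v₀) * q₀ + (u₀ * v₂ - u₂ * v₀) * r₀ + (u₁ * v₂ - u₂ * v₁) * s₀)
        ((u₀ * v₁ - u₁ * v₀) * q₁ + (u₀ * v₂ - u₂ * v₀) * r₁ + (u₁ * v₂ - u₂ * v₁) * s₁)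
        ((u₀ * v₁ - u₁ * v₀) * q₂ + (u₀ * v₂ - u₂ * v₀) * r₂ + (u₁ * v₂ - u₂ * v₁) * s₂) := by
  have hyx : ⁅bs 1, bs 0⁆ = - vec bs q₀ q₁ q₂ := by rw [← lie_skew, hxy]
  have hzx : ⁅bs 2, bs 0⁆ = - vec bs r₀ r₁ r₂ := by rw [← lie_skew, hxz]
  have hzy : ⁅bs 2, bs 1⁆ = - vec bs s₀ s₁ s₂ := by rw [← lie_skew, hyz]
  conv_lhs => unfold vec
  simp only [add_lie, lie_add, smul_lie, lie_smul, lie_self, hxy, hxz, hyz, hyx, hzx, hzy, smul_zero,
    add_zero, zero_add, smul_neg, smul_vec, vec_neg, vec_add]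
  rw [vec_inj]
  refine ⟨?_, ?_, ?_⟩ <;> ring

end Vec

section Dual

open DualNumber

variable {K : Type u} [Field K]

/-- `r + s ε` -/
noncomputable def dn (r s : K) : DualNumber K := TrivSqZeroExt.inl r + TrivSqZeroExt.inr s

theorem dn_fst (r s : K) : (dn r s).fst = r := by simp [dn]
theorem dn_snd (r s : K) : (dn r s).snd = s := by simp [dn]
theorem dn_mul (r s r' s' : K) : dn r s * dn r' s' = dn (r * r') (r * s' + s * r') := by
  apply TrivSqZeroExt.ext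
  · simp [dn]
  · simp [dn]
theorem dn_add (r s r' s' : K) : dn r s + dn r' s' = dn (r + r') (s + s') := by
  apply TrivSqZeroExt.ext <;> simp [dn]
theorem dn_sub (r s r' s' : K) : dn r s - dn r' s' = dn (r - r') (s - s') := by
  apply TrivSqZeroExt.ext <;> simp [dn]
theorem smul_eps_eq (a : K) : (a • ε : DualNumber K) = dn 0 a := by
  apply TrivSqZeroExt.ext <;> simp [dn]
theorem one_add_smul_eps (b : K) : (1 + b • ε : DualNumber K) = dn 1 b := by
  apply TrivSqZeroExt.ext <;> simp [dn]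
theorem algebraMap_add_smul_eps (t f : K) : (algebraMap K (DualNumber K) t + f • ε) = dn t f := by
  rw [TrivSqZeroExt.algebraMap_eq_inl]
  apply TrivSqZeroExt.ext <;> simp [dn]
theorem dn_eta (x : DualNumber K) : x = dn x.fst x.snd := by
  apply TrivSqZeroExt.ext <;> simp [dn]
theorem dn_zero : (0 : DualNumber K) = dn 0 0 := by
  apply TrivSqZeroExt.ext <;> simp [dn]
theorem dn_one : (1 : DualNumber K) = dn 1 0 := by
  apply TrivSqZeroExt.ext <;> simp [dn]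
theorem dn_neg (r s : K) : -dn r s = dn (-r) (-s) := by
  apply TrivSqZeroExt.ext <;> simp [dn]
theorem dn_inj {r s r' s' : K} : dn r s = dn r' s' ↔ r = r' ∧ s = s' := by
  constructor
  · intro h
    exact ⟨by simpa [dn_fst] using congrArg TrivSqZeroExt.fst h,
      by simpa [dn_snd] using congrArg TrivSqZeroExt.snd h⟩
  · rintro ⟨rfl, rfl⟩; rfl

end Dual

end Groth.Agent.Lib.Helper66.Lie3
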