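import Mathlib
import Groth.Prelude.Def_PLie
import Groth.Agent.Lib.Helper66.Lie3

/-!
# First-order deformations of the Heisenberg algebra over dual numbers: restrictability (helper66)
Brackets `[x,y] = aε x + bε y + cε z`, `[x,z] = dε x + eε y + fε z`, `[y,z] = (1+gε) x + hε y + iε z`.
-/

set_option autoImplicit false
universe u v

namespace Groth.Agent.Lib.Helper66.H3Deform

open PLie DualNumber Groth.Agent.Lib.Helper66.Lie3

section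
variable {K : Type u} [Field K] {L : Type v} [LieRing L] [LieAlgebra (DualNumber K) L]
  (bs : Module.Basis (Fin 3) (DualNumber K) L) {a b c d e f g h i : K}
  (hxy : ⁅bs 0, bs 1⁆ = vec bs (dn 0 a) (dn 0 b) (dn 0 c))
  (hxz : ⁅bs 0, bs 2⁆ = vec bs (dn 0 d) (dn 0 e) (dn 0 f))
  (hyz : ⁅bs 1, bs 2⁆ = vec bs (dn 1 g) (dn 0 h) (dn 0 i))

include hxy hxz hyz

theorem adx_vec (u₀ u₁ u₂ : DualNumber K) :
    ⁅bs 0, vec bs u₀ u₁ u₂⁆ = vec bs (u₁ * dn 0 a + u₂ * dn 0 d) (u₁ * dn 0 b + u₂ * dn 0 e)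
      (u₁ * dn 0 c + u₂ * dn 0 f) := by
  rw [b0_eq bs, lie_vec bs hxy hxz hyz, vec_inj]
  refine ⟨?_, ?_, ?_⟩ <;> ring

theorem ady_vec (u₀ u₁ u₂ : DualNumber K) :
    ⁅bs 1, vec bs u₀ u₁ u₂⁆ = vec bs (-u₀ * dn 0 a + u₂ * dn 1 g) (-u₀ * dn 0 b + u₂ * dn 0 h)
      (-u₀ * dn 0 c + u₂ * dn 0 i) := by
  rw [b1_eq bs, lie_vec bs hxy hxz hyz, vec_inj]
  refine ⟨?_, ?_, ?_⟩ <;> ring

theorem adz_vec (u₀ u₁ u₂ : DualNumber K) :
    ⁅bs 2, vec bs u₀ u₁ u₂⁆ = vec bs (-u₀ * dn 0 d - u₁ * dn 1 g) (-u₀ * dn 0 e - u₁ * dn 0 h)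
      (-u₀ * dn 0 f - u₁ * dn 0 i) := by
  rw [b2_eq bs, lie_vec bs hxy hxz hyz, vec_inj]
  refine ⟨?_, ?_, ?_⟩ <;> ring

/-- Jacobi identity consequence `b + f = 0`. -/
theorem jacobi_bf : b + f = 0 := by
  have hJ := leibniz_lie (bs 0) (bs 1) (bs 2)
  rw [hyz, hxz, hxy, adx_vec bs hxy hxz hyz, ady_vec bs hxy hxz hyz] at hJ
  rw [b2_eq bs, lie_vec bs hxy hxz hyz, vec_add, vec_inj] at hJ
  simp only [dn_mul, dn_add, dn_sub, dn_neg, dn_zero, dn_one, dn_inj] at hJ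
  obtain ⟨⟨-, h2⟩, -, -⟩ := hJ
  ring_nf at h2
  linear_combination (-1 : K) * h2

theorem adx_sq : LieAlgebra.ad (DualNumber K) L (bs 0) ^ 2 = 0 := by
  apply basis3_ext bs
  · rw [pow_two, Module.End.mul_apply, LieAlgebra.ad_apply, LieAlgebra.ad_apply, lie_self, lie_zero]; rfl
  · rw [pow_two, Module.End.mul_apply, LieAlgebra.ad_apply, LieAlgebra.ad_apply, hxy,
      adx_vec bs hxy hxz hyz]
    change _ = (0 : L)
    rw [← vec_zero bs, vec_inj]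
    simp only [dn_mul, dn_add, dn_zero, dn_inj]
    refine ⟨⟨?_, ?_⟩, ⟨?_, ?_⟩, ⟨?_, ?_⟩⟩ <;> ring
  · rw [pow_two, Module.End.mul_apply, LieAlgebra.ad_apply, LieAlgebra.ad_apply, hxz,
      adx_vec bs hxy hxz hyz]
    change _ = (0 : L)
    rw [← vec_zero bs, vec_inj]
    simp only [dn_mul, dn_add, dn_zero, dn_inj]
    refine ⟨⟨?_, ?_⟩, ⟨?_, ?_⟩, ⟨?_, ?_⟩⟩ <;> ring

/-- squares of `ad y` on the basis -/
theorem ady_sq :
    (LieAlgebra.ad (DualNumber K) L (bs 1) ^ 2) (bs 0) = vec bs (dn 0 (-c)) 0 0 ∧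
    (LieAlgebra.ad (DualNumber K) L (bs 1) ^ 2) (bs 1) = 0 ∧
    (LieAlgebra.ad (DualNumber K) L (bs 1) ^ 2) (bs 2) = vec bs (dn 0 (i - a)) (dn 0 (-b)) (dn 0 (-c)) := by
  refine ⟨?_, ?_, ?_⟩
  · rw [pow_two, Module.End.mul_apply, LieAlgebra.ad_apply, LieAlgebra.ad_apply]
    conv_lhs => rw [b0_eq bs, ady_vec bs hxy hxz hyz, ady_vec bs hxy hxz hyz]
    rw [vec_inj]
    simp only [dn_mul, dn_add, dn_neg, dn_zero, dn_one, dn_inj]
    refine ⟨⟨?_, ?_⟩, ⟨?_, ?_⟩, ⟨?_, ?_⟩⟩ <;> ring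
  · rw [pow_two, Module.End.mul_apply, LieAlgebra.ad_apply, LieAlgebra.ad_apply, lie_self, lie_zero]
  · rw [pow_two, Module.End.mul_apply, LieAlgebra.ad_apply, LieAlgebra.ad_apply, hyz,
      ady_vec bs hxy hxz hyz, vec_inj]
    simp only [dn_mul, dn_add, dn_neg, dn_zero, dn_inj]
    refine ⟨⟨?_, ?_⟩, ⟨?_, ?_⟩, ⟨?_, ?_⟩⟩ <;> ring

/-- squares of `ad z` on the basis -/
theorem adz_sq :
    (LieAlgebra.ad (DualNumber K) L (bs 2) ^ 2) (bs 0) = vec bs (dn 0 e) 0 0 ∧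
    (LieAlgebra.ad (DualNumber K) L (bs 2) ^ 2) (bs 1) = vec bs (dn 0 (h + d)) (dn 0 e) (dn 0 f) ∧
    (LieAlgebra.ad (DualNumber K) L (bs 2) ^ 2) (bs 2) = 0 := by
  refine ⟨?_, ?_, ?_⟩
  · rw [pow_two, Module.End.mul_apply, LieAlgebra.ad_apply, LieAlgebra.ad_apply]
    conv_lhs => rw [b0_eq bs, adz_vec bs hxy hxz hyz, adz_vec bs hxy hxz hyz]
    rw [vec_inj]
    simp only [dn_mul, dn_add, dn_sub, dn_neg, dn_zero, dn_one, dn_inj]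
    refine ⟨⟨?_, ?_⟩, ⟨?_, ?_⟩, ⟨?_, ?_⟩⟩ <;> ring
  · rw [pow_two, Module.End.mul_apply, LieAlgebra.ad_apply, LieAlgebra.ad_apply]
    conv_lhs => rw [b1_eq bs, adz_vec bs hxy hxz hyz, adz_vec bs hxy hxz hyz]
    rw [vec_inj]
    simp only [dn_mul, dn_add, dn_sub, dn_neg, dn_zero, dn_one, dn_inj]
    refine ⟨⟨?_, ?_⟩, ⟨?_, ?_⟩, ⟨?_, ?_⟩⟩ <;> ring
  · rw [pow_two, Module.End.mul_apply, LieAlgebra.ad_apply, LieAlgebra.ad_apply, lie_self, lie_zero]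

/-- cubes of `ad y` on the basis -/
theorem ady_cube :
    (LieAlgebra.ad (DualNumber K) L (bs 1) ^ 3) (bs 0) = 0 ∧
    (LieAlgebra.ad (DualNumber K) L (bs 1) ^ 3) (bs 1) = 0 ∧
    (LieAlgebra.ad (DualNumber K) L (bs 1) ^ 3) (bs 2) = vec bs (dn 0 (-c)) 0 0 := by
  obtain ⟨h0, h1, h2⟩ := ady_sq bs hxy hxz hyz
  refine ⟨?_, ?_, ?_⟩
  · rw [pow_succ', Module.End.mul_apply, h0, LieAlgebra.ad_apply, ady_vec bs hxy hxz hyz, ← vec_zero bs, vec_inj]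
    simp only [dn_mul, dn_add, dn_neg, dn_zero, dn_inj]
    refine ⟨⟨?_, ?_⟩, ⟨?_, ?_⟩, ⟨?_, ?_⟩⟩ <;> ring
  · rw [pow_succ', Module.End.mul_apply, h1, map_zero]
  · rw [pow_succ', Module.End.mul_apply, h2, LieAlgebra.ad_apply, ady_vec bs hxy hxz hyz, vec_inj]
    simp only [dn_mul, dn_add, dn_neg, dn_zero, dn_inj]
    refine ⟨⟨?_, ?_⟩, ⟨?_, ?_⟩, ⟨?_, ?_⟩⟩ <;> ring

/-- cubes of `ad z` on the basis -/
theorem adz_cube :
    (LieAlgebra.ad (DualNumber K) L (bs 2) ^ 3) (bs 0) = 0 ∧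
    (LieAlgebra.ad (DualNumber K) L (bs 2) ^ 3) (bs 1) = vec bs (dn 0 (-e)) 0 0 ∧
    (LieAlgebra.ad (DualNumber K) L (bs 2) ^ 3) (bs 2) = 0 := by
  obtain ⟨h0, h1, h2⟩ := adz_sq bs hxy hxz hyz
  refine ⟨?_, ?_, ?_⟩
  · rw [pow_succ', Module.End.mul_apply, h0, LieAlgebra.ad_apply, adz_vec bs hxy hxz hyz, ← vec_zero bs, vec_inj]
    simp only [dn_mul, dn_add, dn_sub, dn_neg, dn_zero, dn_inj]
    refine ⟨⟨?_, ?_⟩, ⟨?_, ?_⟩, ⟨?_, ?_⟩⟩ <;> ring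
  · rw [pow_succ', Module.End.mul_apply, h1, LieAlgebra.ad_apply, adz_vec bs hxy hxz hyz, vec_inj]
    simp only [dn_mul, dn_add, dn_sub, dn_neg, dn_zero, dn_inj]
    refine ⟨⟨?_, ?_⟩, ⟨?_, ?_⟩, ⟨?_, ?_⟩⟩ <;> ring
  · rw [pow_succ', Module.End.mul_apply, h2, map_zero]

theorem ady_four : LieAlgebra.ad (DualNumber K) L (bs 1) ^ 4 = 0 := by
  obtain ⟨h0, h1, h2⟩ := ady_cube bs hxy hxz hyz
  apply basis3_ext bs
  · rw [pow_succ', Module.End.mul_apply, h0, map_zero]; rfl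
  · rw [pow_succ', Module.End.mul_apply, h1, map_zero]; rfl
  · rw [pow_succ', Module.End.mul_apply, h2, LieAlgebra.ad_apply, ady_vec bs hxy hxz hyz]
    change _ = (0 : L)
    rw [← vec_zero bs, vec_inj]
    simp only [dn_mul, dn_add, dn_neg, dn_zero, dn_inj]
    refine ⟨⟨?_, ?_⟩, ⟨?_, ?_⟩, ⟨?_, ?_⟩⟩ <;> ring

theorem adz_four : LieAlgebra.ad (DualNumber K) L (bs 2) ^ 4 = 0 := by
  obtain ⟨h0, h1, h2⟩ := adz_cube bs hxy hxz hyz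
  apply basis3_ext bs
  · rw [pow_succ', Module.End.mul_apply, h0, map_zero]; rfl
  · rw [pow_succ', Module.End.mul_apply, h1, LieAlgebra.ad_apply, adz_vec bs hxy hxz hyz]
    change _ = (0 : L)
    rw [← vec_zero bs, vec_inj]
    simp only [dn_mul, dn_add, dn_sub, dn_neg, dn_zero, dn_inj]
    refine ⟨⟨?_, ?_⟩, ⟨?_, ?_⟩, ⟨?_, ?_⟩⟩ <;> ring
  · rw [pow_succ', Module.End.mul_apply, h2, map_zero]; rfl

end

section
variable {K : Type u} [Field K] {p : ℕ} [hp : Fact p.Prime] [CharP K p] [CharP (DualNumber K) p]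
  {L : Type v} [LieRing L] [LieAlgebra (DualNumber K) L]
  (bs : Module.Basis (Fin 3) (DualNumber K) L) {a b c d e f g h i : K}
  (hxy : ⁅bs 0, bs 1⁆ = vec bs (dn 0 a) (dn 0 b) (dn 0 c))
  (hxz : ⁅bs 0, bs 2⁆ = vec bs (dn 0 d) (dn 0 e) (dn 0 f))
  (hyz : ⁅bs 1, bs 2⁆ = vec bs (dn 1 g) (dn 0 h) (dn 0 i))

include hxy hxz hyz

theorem suff (h2 : p = 2 → b = 0 ∧ c = 0 ∧ e = 0) : Nonempty (PMap (DualNumber K) p L) := by
  rw [nonempty_pmap_iff bs]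
  have hbf := jacobi_bf bs hxy hxz hyz
  suffices H : (∃ w : L, LieAlgebra.ad (DualNumber K) L (bs 0) ^ p = LieAlgebra.ad (DualNumber K) L w) ∧
      (∃ w : L, LieAlgebra.ad (DualNumber K) L (bs 1) ^ p = LieAlgebra.ad (DualNumber K) L w) ∧
      (∃ w : L, LieAlgebra.ad (DualNumber K) L (bs 2) ^ p = LieAlgebra.ad (DualNumber K) L w) by
    intro j
    fin_cases j
    · exact H.1
    · exact H.2.1
    · exact H.2.2
  have hp2 : 2 ≤ p := hp.out.two_le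
  refine ⟨⟨0, ?_⟩, ?_, ?_⟩
  · obtain ⟨k, rfl⟩ : ∃ k, p = 2 + k := ⟨p - 2, by omega⟩
    rw [pow_add, adx_sq bs hxy hxz hyz, zero_mul, map_zero]
  · -- y
    rcases Nat.lt_or_ge p 4 with hlt | hge
    · have h23 : p = 2 ∨ p = 3 := by omega
      rcases h23 with h | h
      · obtain ⟨hb, hc, he⟩ := h2 h
        subst h hb hc he
        obtain ⟨e0, e1, e2⟩ := ady_sq bs hxy hxz hyz
        refine ⟨vec bs 0 (dn 0 (i - a)) 0, ?_⟩
        apply basis3_ext bs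
        · rw [e0, LieAlgebra.ad_apply]
          conv_rhs => rw [b0_eq bs, lie_vec bs hxy hxz hyz]
          rw [vec_inj]
          simp only [dn_mul, dn_add, dn_sub, dn_neg, dn_zero, dn_one, dn_inj]
          refine ⟨⟨?_, ?_⟩, ⟨?_, ?_⟩, ⟨?_, ?_⟩⟩ <;> ring
        · rw [e1, LieAlgebra.ad_apply]
          conv_rhs => rw [b1_eq bs, lie_vec bs hxy hxz hyz]
          rw [← vec_zero bs, vec_inj]
          refine ⟨?_, ?_, ?_⟩ <;> ring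
        · rw [e2, LieAlgebra.ad_apply]
          conv_rhs => rw [b2_eq bs, lie_vec bs hxy hxz hyz]
          rw [vec_inj]
          simp only [dn_mul, dn_add, dn_sub, dn_neg, dn_zero, dn_one, dn_inj]
          refine ⟨⟨?_, ?_⟩, ⟨?_, ?_⟩, ⟨?_, ?_⟩⟩ <;> ring
      · subst h
        obtain ⟨e0, e1, e2⟩ := ady_cube bs hxy hxz hyz
        refine ⟨vec bs 0 (dn 0 (-c)) 0, ?_⟩
        apply basis3_ext bs
        · rw [e0, LieAlgebra.ad_apply]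
          conv_rhs => rw [b0_eq bs, lie_vec bs hxy hxz hyz]
          rw [← vec_zero bs, vec_inj]
          simp only [dn_mul, dn_add, dn_sub, dn_neg, dn_zero, dn_one, dn_inj]
          refine ⟨⟨?_, ?_⟩, ⟨?_, ?_⟩, ⟨?_, ?_⟩⟩ <;> ring
        · rw [e1, LieAlgebra.ad_apply]
          conv_rhs => rw [b1_eq bs, lie_vec bs hxy hxz hyz]
          rw [← vec_zero bs, vec_inj]
          refine ⟨?_, ?_, ?_⟩ <;> ring
        · rw [e2, LieAlgebra.ad_apply]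
          conv_rhs => rw [b2_eq bs, lie_vec bs hxy hxz hyz]
          rw [vec_inj]
          simp only [dn_mul, dn_add, dn_sub, dn_neg, dn_zero, dn_one, dn_inj]
          refine ⟨⟨?_, ?_⟩, ⟨?_, ?_⟩, ⟨?_, ?_⟩⟩ <;> ring
    · refine ⟨0, ?_⟩
      obtain ⟨k, rfl⟩ : ∃ k, p = 4 + k := ⟨p - 4, by omega⟩
      rw [pow_add, ady_four bs hxy hxz hyz, zero_mul, map_zero]
  · -- z
    rcases Nat.lt_or_ge p 4 with hlt | hge
    · have h23 : p = 2 ∨ p = 3 := by omega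
      rcases h23 with h | h
      · obtain ⟨hb, hc, he⟩ := h2 h
        subst h hb hc he
        have hf : f = 0 := by linear_combination hbf
        subst hf
        obtain ⟨e0, e1, e2⟩ := adz_sq bs hxy hxz hyz
        refine ⟨vec bs 0 0 (dn 0 (-(h + d))), ?_⟩
        apply basis3_ext bs
        · rw [e0, LieAlgebra.ad_apply]
          conv_rhs => rw [b0_eq bs, lie_vec bs hxy hxz hyz]
          rw [vec_inj]
          simp only [dn_mul, dn_add, dn_sub, dn_neg, dn_zero, dn_one, dn_inj]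
          refine ⟨⟨?_, ?_⟩, ⟨?_, ?_⟩, ⟨?_, ?_⟩⟩ <;> ring
        · rw [e1, LieAlgebra.ad_apply]
          conv_rhs => rw [b1_eq bs, lie_vec bs hxy hxz hyz]
          rw [vec_inj]
          simp only [dn_mul, dn_add, dn_sub, dn_neg, dn_zero, dn_one, dn_inj]
          refine ⟨⟨?_, ?_⟩, ⟨?_, ?_⟩, ⟨?_, ?_⟩⟩ <;> ring
        · rw [e2, LieAlgebra.ad_apply]
          conv_rhs => rw [b2_eq bs, lie_vec bs hxy hxz hyz]
          rw [← vec_zero bs, vec_inj]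
          refine ⟨?_, ?_, ?_⟩ <;> ring
      · subst h
        obtain ⟨e0, e1, e2⟩ := adz_cube bs hxy hxz hyz
        refine ⟨vec bs 0 0 (dn 0 e), ?_⟩
        apply basis3_ext bs
        · rw [e0, LieAlgebra.ad_apply]
          conv_rhs => rw [b0_eq bs, lie_vec bs hxy hxz hyz]
          rw [← vec_zero bs, vec_inj]
          simp only [dn_mul, dn_add, dn_sub, dn_neg, dn_zero, dn_one, dn_inj]
          refine ⟨⟨?_, ?_⟩, ⟨?_, ?_⟩, ⟨?_, ?_⟩⟩ <;> ring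
        · rw [e1, LieAlgebra.ad_apply]
          conv_rhs => rw [b1_eq bs, lie_vec bs hxy hxz hyz]
          rw [vec_inj]
          simp only [dn_mul, dn_add, dn_sub, dn_neg, dn_zero, dn_one, dn_inj]
          refine ⟨⟨?_, ?_⟩, ⟨?_, ?_⟩, ⟨?_, ?_⟩⟩ <;> ring
        · rw [e2, LieAlgebra.ad_apply]
          conv_rhs => rw [b2_eq bs, lie_vec bs hxy hxz hyz]
          rw [← vec_zero bs, vec_inj]
          refine ⟨?_, ?_, ?_⟩ <;> ring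
    · refine ⟨0, ?_⟩
      obtain ⟨k, rfl⟩ : ∃ k, p = 4 + k := ⟨p - 4, by omega⟩
      rw [pow_add, adz_four bs hxy hxz hyz, zero_mul, map_zero]

theorem nec (hne : Nonempty (PMap (DualNumber K) p L)) (hp2 : p = 2) : b = 0 ∧ c = 0 ∧ e = 0 := by
  rw [nonempty_pmap_iff bs] at hne
  subst hp2
  obtain ⟨w, hw⟩ := hne 1
  obtain ⟨w', hw'⟩ := hne 2
  obtain ⟨α₀, α₁, β₀, β₁, γ₀, γ₁, rfl⟩ : ∃ α₀ α₁ β₀ β₁ γ₀ γ₁ : K,
      w = vec bs (dn α₀ α₁) (dn β₀ β₁) (dn γ₀ γ₁) :=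
    ⟨_, _, _, _, _, _, by
      conv_lhs => rw [eq_vec bs w, dn_eta (bs.repr w 0), dn_eta (bs.repr w 1), dn_eta (bs.repr w 2)]⟩
  obtain ⟨α₀', α₁', β₀', β₁', γ₀', γ₁', rfl⟩ : ∃ α₀ α₁ β₀ β₁ γ₀ γ₁ : K,
      w' = vec bs (dn α₀ α₁) (dn β₀ β₁) (dn γ₀ γ₁) :=
    ⟨_, _, _, _, _, _, by
      conv_lhs => rw [eq_vec bs w', dn_eta (bs.repr w' 0), dn_eta (bs.repr w' 1), dn_eta (bs.repr w' 2)]⟩
  obtain ⟨e0, e1, e2⟩ := ady_sq bs hxy hxz hyz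
  obtain ⟨f0, f1, f2⟩ := adz_sq bs hxy hxz hyz
  have Ex := LinearMap.congr_fun hw (bs 0)
  have Ey := LinearMap.congr_fun hw (bs 1)
  have Ez := LinearMap.congr_fun hw (bs 2)
  have Fx := LinearMap.congr_fun hw' (bs 0)
  have Fy := LinearMap.congr_fun hw' (bs 1)
  have Fz := LinearMap.congr_fun hw' (bs 2)
  rw [e0, LieAlgebra.ad_apply] at Ex
  rw [e1, LieAlgebra.ad_apply] at Ey
  rw [e2, LieAlgebra.ad_apply] at Ez
  rw [f0, LieAlgebra.ad_apply] at Fx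
  rw [f1, LieAlgebra.ad_apply] at Fy
  rw [f2, LieAlgebra.ad_apply] at Fz
  conv_rhs at Ex => rw [b0_eq bs, lie_vec bs hxy hxz hyz]
  conv_rhs at Ey => rw [b1_eq bs, lie_vec bs hxy hxz hyz]
  conv_rhs at Ez => rw [b2_eq bs, lie_vec bs hxy hxz hyz]
  conv_rhs at Fx => rw [b0_eq bs, lie_vec bs hxy hxz hyz]
  conv_rhs at Fy => rw [b1_eq bs, lie_vec bs hxy hxz hyz]
  conv_rhs at Fz => rw [b2_eq bs, lie_vec bs hxy hxz hyz]
  rw [← vec_zero bs, vec_inj] at Ey Fz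
  rw [vec_inj] at Ex Ez Fx Fy
  simp only [dn_mul, dn_add, dn_sub, dn_neg, dn_zero, dn_one, dn_inj] at Ex Ey Ez Fx Fy Fz
  obtain ⟨⟨-, x1⟩, -, -⟩ := Ex
  obtain ⟨⟨y1, -⟩, ⟨-, y2⟩, -⟩ := Ey
  obtain ⟨⟨z1, -⟩, ⟨-, z2⟩, -⟩ := Ez
  obtain ⟨⟨-, fx1⟩, -, -⟩ := Fx
  obtain ⟨⟨fy1, -⟩, -, -⟩ := Fy
  obtain ⟨⟨fz1, -⟩, -, -⟩ := Fz
  ring_nf at x1 y1 y2 z1 z2 fx1 fy1 fz1
  have hγ : γ₀ = 0 := by linear_combination y1
  have hβ : β₀ = 0 := by linear_combination (-1 : K) * z1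
  have hγ' : γ₀' = 0 := by linear_combination fy1
  have hβ' : β₀' = 0 := by linear_combination (-1 : K) * fz1
  subst hγ hβ hγ' hβ'
  refine ⟨?_, ?_, ?_⟩
  · have hbb : b * b = 0 := by linear_combination (-b) * z2 + e * y2
    exact mul_self_eq_zero.mp hbb
  · linear_combination (-1 : K) * x1
  · linear_combination fx1

end

end Groth.Agent.Lib.Helper66.H3Deform
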