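import Mathlib
import Groth.Prelude.Def_PLie
import Groth.Agent.Lib.Helper66.Lie3

/-!
# First-order deformations of the Lie algebra `l_t` over dual numbers: restrictability (helper66)
Brackets `[x,y] = aε x + (1+bε) y + cε z`, `[x,z] = dε x + eε y + (t+fε) z`, `[y,z] = gε x + hε y + iε z`.
-/

set_option autoImplicit false
universe u v

namespace Groth.Agent.Lib.Helper66.L3Deform

open PLie DualNumber Groth.Agent.Lib.Helper66.Lie3

section
variable {K : Type u} [Field K] {L : Type v} [LieRing L] [LieAlgebra (DualNumber K) L]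
  (bs : Module.Basis (Fin 3) (DualNumber K) L) {t a b c d e f g h i : K}

/-- geometric sum -/
noncomputable def S (t : K) (n : ℕ) : K := ∑ k ∈ Finset.range n, t ^ k

theorem S_succ (t : K) (n : ℕ) : S t (n + 1) = t * S t n + 1 := by
  unfold S; exact geom_sum_succ

theorem S_succ' (t : K) (n : ℕ) : S t (n + 1) = S t n + t ^ n := by
  unfold S; exact Finset.sum_range_succ _ _

theorem S_one (t : K) : S t 1 = 1 := by simp [S]

variable (hxy : ⁅bs 0, bs 1⁆ = vec bs (dn 0 a) (dn 1 b) (dn 0 c))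
  (hxz : ⁅bs 0, bs 2⁆ = vec bs (dn 0 d) (dn 0 e) (dn t f))
  (hyz : ⁅bs 1, bs 2⁆ = vec bs (dn 0 g) (dn 0 h) (dn 0 i))

include hxy hxz hyz

theorem adx_vec (u₀ u₁ u₂ : DualNumber K) :
    ⁅bs 0, vec bs u₀ u₁ u₂⁆ = vec bs (u₁ * dn 0 a + u₂ * dn 0 d) (u₁ * dn 1 b + u₂ * dn 0 e)
      (u₁ * dn 0 c + u₂ * dn t f) := by
  rw [b0_eq bs, lie_vec bs hxy hxz hyz, vec_inj]
  refine ⟨?_, ?_, ?_⟩ <;> ring

theorem ady_vec (u₀ u₁ u₂ : DualNumber K) :
    ⁅bs 1, vec bs u₀ u₁ u₂⁆ = vec bs (-u₀ * dn 0 a + u₂ * dn 0 g) (-u₀ * dn 1 b + u₂ * dn 0 h)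
      (-u₀ * dn 0 c + u₂ * dn 0 i) := by
  rw [b1_eq bs, lie_vec bs hxy hxz hyz, vec_inj]
  refine ⟨?_, ?_, ?_⟩ <;> ring

theorem adz_vec (u₀ u₁ u₂ : DualNumber K) :
    ⁅bs 2, vec bs u₀ u₁ u₂⁆ = vec bs (-u₀ * dn 0 d - u₁ * dn 0 g) (-u₀ * dn 0 e - u₁ * dn 0 h)
      (-u₀ * dn t f - u₁ * dn 0 i) := by
  rw [b2_eq bs, lie_vec bs hxy hxz hyz, vec_inj]
  refine ⟨?_, ?_, ?_⟩ <;> ring

theorem adx_pow_y (n : ℕ) :
    (LieAlgebra.ad (DualNumber K) L (bs 0) ^ (n + 1)) (bs 1) =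
      vec bs (dn 0 a) (dn 1 (((n + 1 : ℕ) : K) * b)) (dn 0 (c * S t (n + 1))) := by
  induction n with
  | zero =>
    rw [zero_add, pow_one, LieAlgebra.ad_apply, hxy, S_one]
    simp
  | succ n ih =>
    rw [pow_succ', Module.End.mul_apply, ih, LieAlgebra.ad_apply, adx_vec bs hxy hxz hyz, vec_inj]
    simp only [dn_mul, dn_add, dn_inj]
    rw [S_succ t (n + 1)]
    push_cast
    refine ⟨⟨?_, ?_⟩, ⟨?_, ?_⟩, ⟨?_, ?_⟩⟩ <;> ring

theorem adx_pow_z (n : ℕ) :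
    (LieAlgebra.ad (DualNumber K) L (bs 0) ^ (n + 1)) (bs 2) =
      vec bs (dn 0 (d * t ^ n)) (dn 0 (e * S t (n + 1))) (dn (t ^ (n + 1)) (((n + 1 : ℕ) : K) * f * t ^ n)) := by
  induction n with
  | zero =>
    rw [zero_add, pow_one, LieAlgebra.ad_apply, hxz, S_one]
    simp
  | succ n ih =>
    rw [pow_succ', Module.End.mul_apply, ih, LieAlgebra.ad_apply, adx_vec bs hxy hxz hyz, vec_inj]
    simp only [dn_mul, dn_add, dn_inj]
    rw [S_succ' t (n + 1)]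
    push_cast
    refine ⟨⟨?_, ?_⟩, ⟨?_, ?_⟩, ⟨?_, ?_⟩⟩ <;> ring


/-- Jacobi identity consequence. -/
theorem jacobi_d : d = t * h := by
  have hJ := leibniz_lie (bs 0) (bs 1) (bs 2)
  rw [hyz, hxz, hxy, adx_vec bs hxy hxz hyz, ady_vec bs hxy hxz hyz] at hJ
  rw [b2_eq bs, lie_vec bs hxy hxz hyz, vec_add, vec_inj] at hJ
  simp only [dn_mul, dn_add, dn_sub, dn_neg, dn_zero, dn_one, dn_inj] at hJ
  obtain ⟨-, ⟨-, h2⟩, -⟩ := hJ
  ring_nf at h2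
  linear_combination h2

end

section
variable {K : Type u} [Field K] {p : ℕ} [hp : Fact p.Prime] [CharP K p] {t : K}

theorem S_p_of_ne (ht : t ^ p = t) (h1 : t ≠ 1) : S t p = 1 := by
  have := geom_sum_mul t p
  rw [ht] at this
  have h2 : t - 1 ≠ 0 := sub_ne_zero.mpr h1
  unfold S
  exact mul_right_cancel₀ h2 (by rw [this, one_mul])

theorem S_p_one : S (1 : K) p = 0 := by
  unfold S
  simp

theorem t_pow_pred (ht : t ^ p = t) (h0 : t ≠ 0) : t ^ (p - 1) = 1 := by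
  have hpp : p = (p - 1) + 1 := by have := hp.out.pos; omega
  rw [hpp, pow_succ] at ht
  exact mul_right_cancel₀ h0 (by rw [ht, one_mul])

end

section
variable {K : Type u} [Field K] {p : ℕ} [hp : Fact p.Prime] [CharP K p] [CharP (DualNumber K) p]
  {L : Type v} [LieRing L] [LieAlgebra (DualNumber K) L]
  (bs : Module.Basis (Fin 3) (DualNumber K) L) {t a b c d e f g h i : K}
  (hxy : ⁅bs 0, bs 1⁆ = vec bs (dn 0 a) (dn 1 b) (dn 0 c))
  (hxz : ⁅bs 0, bs 2⁆ = vec bs (dn 0 d) (dn 0 e) (dn t f))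
  (hyz : ⁅bs 1, bs 2⁆ = vec bs (dn 0 g) (dn 0 h) (dn 0 i))

include hxy hxz hyz

theorem adx_p_x : (LieAlgebra.ad (DualNumber K) L (bs 0) ^ p) (bs 0) = 0 := by
  have hpp : p = (p - 1) + 1 := by have := hp.out.pos; omega
  rw [hpp, pow_succ, Module.End.mul_apply, LieAlgebra.ad_apply, lie_self, map_zero]

theorem adx_p_y (ht : t ^ p = t) :
    (LieAlgebra.ad (DualNumber K) L (bs 0) ^ p) (bs 1) = vec bs (dn 0 a) (dn 1 0) (dn 0 (c * S t p)) := by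
  have hpp : p = (p - 1) + 1 := by have := hp.out.pos; omega
  have := adx_pow_y bs hxy hxz hyz (p - 1)
  rw [← hpp] at this
  rw [this, CharP.cast_eq_zero, zero_mul]

theorem adx_p_z (ht : t ^ p = t) :
    (LieAlgebra.ad (DualNumber K) L (bs 0) ^ p) (bs 2) =
      vec bs (dn 0 (d * t ^ (p - 1))) (dn 0 (e * S t p)) (dn t 0) := by
  have hpp : p = (p - 1) + 1 := by have := hp.out.pos; omega
  have := adx_pow_z bs hxy hxz hyz (p - 1)
  rw [← hpp] at this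
  rw [this, CharP.cast_eq_zero, zero_mul, zero_mul, ht]

/-- squares of `ad y` on the basis -/
theorem ady_sq :
    (LieAlgebra.ad (DualNumber K) L (bs 1) ^ 2) (bs 0) = vec bs 0 (dn 0 a) 0 ∧
    (LieAlgebra.ad (DualNumber K) L (bs 1) ^ 2) (bs 1) = 0 ∧
    (LieAlgebra.ad (DualNumber K) L (bs 1) ^ 2) (bs 2) = vec bs 0 (dn 0 (-g)) 0 := by
  refine ⟨?_, ?_, ?_⟩
  · rw [pow_two, Module.End.mul_apply, LieAlgebra.ad_apply, LieAlgebra.ad_apply]
    conv_lhs => rw [b0_eq bs, ady_vec bs hxy hxz hyz, ady_vec bs hxy hxz hyz]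
    rw [vec_inj]
    simp only [dn_mul, dn_add, dn_neg, dn_zero, dn_one, dn_inj]
    refine ⟨⟨?_, ?_⟩, ⟨?_, ?_⟩, ⟨?_, ?_⟩⟩ <;> ring
  · rw [pow_two, Module.End.mul_apply, LieAlgebra.ad_apply, LieAlgebra.ad_apply, lie_self, lie_zero]
  · rw [pow_two, Module.End.mul_apply, LieAlgebra.ad_apply, LieAlgebra.ad_apply, hyz,
      ady_vec bs hxy hxz hyz, vec_inj]
    simp only [dn_mul, dn_add, dn_neg, dn_zero, dn_inj]
    refine ⟨⟨?_, ?_⟩, ⟨?_, ?_⟩, ⟨?_, ?_⟩⟩ <;> ring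

/-- squares of `ad z` on the basis -/
theorem adz_sq :
    (LieAlgebra.ad (DualNumber K) L (bs 2) ^ 2) (bs 0) = vec bs 0 0 (dn 0 (d * t)) ∧
    (LieAlgebra.ad (DualNumber K) L (bs 2) ^ 2) (bs 1) = vec bs 0 0 (dn 0 (g * t)) ∧
    (LieAlgebra.ad (DualNumber K) L (bs 2) ^ 2) (bs 2) = 0 := by
  refine ⟨?_, ?_, ?_⟩
  · rw [pow_two, Module.End.mul_apply, LieAlgebra.ad_apply, LieAlgebra.ad_apply]
    conv_lhs => rw [b0_eq bs, adz_vec bs hxy hxz hyz, adz_vec bs hxy hxz hyz]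
    rw [vec_inj]
    simp only [dn_mul, dn_add, dn_sub, dn_neg, dn_zero, dn_one, dn_inj]
    refine ⟨⟨?_, ?_⟩, ⟨?_, ?_⟩, ⟨?_, ?_⟩⟩ <;> ring
  · rw [pow_two, Module.End.mul_apply, LieAlgebra.ad_apply, LieAlgebra.ad_apply]
    conv_lhs => rw [b1_eq bs, adz_vec bs hxy hxz hyz, adz_vec bs hxy hxz hyz]
    rw [vec_inj]
    simp only [dn_mul, dn_add, dn_sub, dn_neg, dn_zero, dn_one, dn_inj]
    refine ⟨⟨?_, ?_⟩, ⟨?_, ?_⟩, ⟨?_, ?_⟩⟩ <;> ring
  · rw [pow_two, Module.End.mul_apply, LieAlgebra.ad_apply, LieAlgebra.ad_apply, lie_self, lie_zero]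

theorem ady_cube : LieAlgebra.ad (DualNumber K) L (bs 1) ^ 3 = 0 := by
  obtain ⟨h0, h1, h2⟩ := ady_sq bs hxy hxz hyz
  have key : ∀ r : DualNumber K, ⁅bs 1, vec bs 0 r 0⁆ = 0 := by
    intro r
    rw [ady_vec bs hxy hxz hyz, ← vec_zero bs, vec_inj]
    refine ⟨?_, ?_, ?_⟩ <;> ring
  apply basis3_ext bs
  · rw [pow_succ', Module.End.mul_apply, h0, LieAlgebra.ad_apply, key]; rfl
  · rw [pow_succ', Module.End.mul_apply, h1, map_zero]; rfl
  · rw [pow_succ', Module.End.mul_apply, h2, LieAlgebra.ad_apply, key]; rfl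

theorem adz_cube : LieAlgebra.ad (DualNumber K) L (bs 2) ^ 3 = 0 := by
  obtain ⟨h0, h1, h2⟩ := adz_sq bs hxy hxz hyz
  have key : ∀ r : DualNumber K, ⁅bs 2, vec bs 0 0 r⁆ = 0 := by
    intro r
    rw [adz_vec bs hxy hxz hyz, ← vec_zero bs, vec_inj]
    refine ⟨?_, ?_, ?_⟩ <;> ring
  apply basis3_ext bs
  · rw [pow_succ', Module.End.mul_apply, h0, LieAlgebra.ad_apply, key]; rfl
  · rw [pow_succ', Module.End.mul_apply, h1, LieAlgebra.ad_apply, key]; rfl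
  · rw [pow_succ', Module.End.mul_apply, h2, map_zero]; rfl


theorem suff (ht : t ^ p = t) (hbt : b * t = f) (h1 : t = 1 → c = 0 ∧ e = 0) (h2 : p = 2 → g = 0) :
    Nonempty (PMap (DualNumber K) p L) := by
  rw [nonempty_pmap_iff bs]
  have hd := jacobi_d bs hxy hxz hyz
  suffices H : (∃ w : L, LieAlgebra.ad (DualNumber K) L (bs 0) ^ p = LieAlgebra.ad (DualNumber K) L w) ∧
      (∃ w : L, LieAlgebra.ad (DualNumber K) L (bs 1) ^ p = LieAlgebra.ad (DualNumber K) L w) ∧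
      (∃ w : L, LieAlgebra.ad (DualNumber K) L (bs 2) ^ p = LieAlgebra.ad (DualNumber K) L w) by
    intro j
    fin_cases j
    · exact H.1
    · exact H.2.1
    · exact H.2.2
  refine ⟨?_, ?_, ?_⟩
  · -- x
    refine ⟨vec bs (dn 1 (-b)) 0 0, ?_⟩
    apply basis3_ext bs
    · rw [adx_p_x bs hxy hxz hyz, LieAlgebra.ad_apply]
      conv_rhs => rw [b0_eq bs, lie_vec bs hxy hxz hyz]
      rw [← vec_zero bs, vec_inj]
      refine ⟨?_, ?_, ?_⟩ <;> ring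
    · rw [adx_p_y bs hxy hxz hyz ht, LieAlgebra.ad_apply]
      conv_rhs => rw [b1_eq bs, lie_vec bs hxy hxz hyz]
      rw [vec_inj]
      simp only [dn_mul, dn_add, dn_sub, dn_neg, dn_zero, dn_one, dn_inj]
      have hc : c * S t p = c := by
        by_cases h : t = 1
        · rw [(h1 h).1, zero_mul]
        · rw [S_p_of_ne ht h, mul_one]
      rw [hc]
      refine ⟨⟨?_, ?_⟩, ⟨?_, ?_⟩, ⟨?_, ?_⟩⟩ <;> ring
    · rw [adx_p_z bs hxy hxz hyz ht, LieAlgebra.ad_apply]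
      conv_rhs => rw [b2_eq bs, lie_vec bs hxy hxz hyz]
      rw [vec_inj]
      simp only [dn_mul, dn_add, dn_sub, dn_neg, dn_zero, dn_one, dn_inj]
      have he : e * S t p = e := by
        by_cases h : t = 1
        · rw [(h1 h).2, zero_mul]
        · rw [S_p_of_ne ht h, mul_one]
      have hdt : d * t ^ (p - 1) = d := by
        by_cases h0 : t = 0
        · rw [hd, h0, zero_mul, zero_mul]
        · rw [t_pow_pred ht h0, mul_one]
      rw [he, hdt, ← hbt]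
      refine ⟨⟨?_, ?_⟩, ⟨?_, ?_⟩, ⟨?_, ?_⟩⟩ <;> ring
  · -- y
    by_cases hp2 : p = 2
    · have hg := h2 hp2
      subst hp2
      haveI : CharP K 2 := inferInstance
      have hneg : ∀ r : K, -r = r := fun r => CharTwo.neg_eq r
      obtain ⟨e0, e1, e2⟩ := ady_sq bs hxy hxz hyz
      refine ⟨vec bs 0 (dn 0 a) 0, ?_⟩
      apply basis3_ext bs
      · rw [e0, LieAlgebra.ad_apply]
        conv_rhs => rw [b0_eq bs, lie_vec bs hxy hxz hyz]
        rw [vec_inj]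
        simp only [dn_mul, dn_add, dn_sub, dn_neg, dn_zero, dn_one, dn_inj]
        refine ⟨⟨?_, ?_⟩, ⟨?_, ?_⟩, ⟨?_, ?_⟩⟩ <;> ring_nf
        rw [hneg]
      · rw [e1, LieAlgebra.ad_apply]
        conv_rhs => rw [b1_eq bs, lie_vec bs hxy hxz hyz]
        rw [← vec_zero bs, vec_inj]
        refine ⟨?_, ?_, ?_⟩ <;> ring
      · rw [e2, LieAlgebra.ad_apply]
        conv_rhs => rw [b2_eq bs, lie_vec bs hxy hxz hyz]
        rw [vec_inj]
        simp only [dn_mul, dn_add, dn_sub, dn_neg, dn_zero, dn_one, dn_inj, hg]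
        refine ⟨⟨?_, ?_⟩, ⟨?_, ?_⟩, ⟨?_, ?_⟩⟩ <;> ring
    · refine ⟨0, ?_⟩
      have hp3 : 3 ≤ p := by have := hp.out.two_le; omega
      exact ad_pow_eq_zero_of_cube _ (ady_cube bs hxy hxz hyz) p hp3
  · -- z
    by_cases hp2 : p = 2
    · have hg := h2 hp2
      subst hp2
      haveI : CharP K 2 := inferInstance
      have hneg : ∀ r : K, -r = r := fun r => CharTwo.neg_eq r
      obtain ⟨e0, e1, e2⟩ := adz_sq bs hxy hxz hyz
      refine ⟨vec bs 0 0 (dn 0 d), ?_⟩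
      apply basis3_ext bs
      · rw [e0, LieAlgebra.ad_apply]
        conv_rhs => rw [b0_eq bs, lie_vec bs hxy hxz hyz]
        rw [vec_inj]
        simp only [dn_mul, dn_add, dn_sub, dn_neg, dn_zero, dn_one, dn_inj]
        refine ⟨⟨?_, ?_⟩, ⟨?_, ?_⟩, ⟨?_, ?_⟩⟩ <;> ring_nf
        rw [hneg]
      · rw [e1, LieAlgebra.ad_apply]
        conv_rhs => rw [b1_eq bs, lie_vec bs hxy hxz hyz]
        rw [vec_inj]
        simp only [dn_mul, dn_add, dn_sub, dn_neg, dn_zero, dn_one, dn_inj, hg]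
        refine ⟨⟨?_, ?_⟩, ⟨?_, ?_⟩, ⟨?_, ?_⟩⟩ <;> ring
      · rw [e2, LieAlgebra.ad_apply]
        conv_rhs => rw [b2_eq bs, lie_vec bs hxy hxz hyz]
        rw [← vec_zero bs, vec_inj]
        refine ⟨?_, ?_, ?_⟩ <;> ring
    · refine ⟨0, ?_⟩
      have hp3 : 3 ≤ p := by have := hp.out.two_le; omega
      exact ad_pow_eq_zero_of_cube _ (adz_cube bs hxy hxz hyz) p hp3


theorem nec (ht : t ^ p = t) (hne : Nonempty (PMap (DualNumber K) p L)) :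
    b * t = f ∧ (t = 1 → c = 0 ∧ e = 0) ∧ (p = 2 → g = 0) := by
  rw [nonempty_pmap_iff bs] at hne
  have hx := hne 0
  have hy := hne 1
  obtain ⟨w, hw⟩ := hx
  obtain ⟨w', hw'⟩ := hy
  -- coordinates of `w`
  obtain ⟨α₀, α₁, β₀, β₁, γ₀, γ₁, rfl⟩ : ∃ α₀ α₁ β₀ β₁ γ₀ γ₁ : K,
      w = vec bs (dn α₀ α₁) (dn β₀ β₁) (dn γ₀ γ₁) :=
    ⟨_, _, _, _, _, _, by
      conv_lhs => rw [eq_vec bs w, dn_eta (bs.repr w 0), dn_eta (bs.repr w 1), dn_eta (bs.repr w 2)]⟩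
  have Ex := LinearMap.congr_fun hw (bs 0)
  have Ey := LinearMap.congr_fun hw (bs 1)
  have Ez := LinearMap.congr_fun hw (bs 2)
  rw [adx_p_x bs hxy hxz hyz, LieAlgebra.ad_apply] at Ex
  rw [adx_p_y bs hxy hxz hyz ht, LieAlgebra.ad_apply] at Ey
  rw [adx_p_z bs hxy hxz hyz ht, LieAlgebra.ad_apply] at Ez
  conv_rhs at Ex => rw [b0_eq bs, lie_vec bs hxy hxz hyz]
  conv_rhs at Ey => rw [b1_eq bs, lie_vec bs hxy hxz hyz]
  conv_rhs at Ez => rw [b2_eq bs, lie_vec bs hxy hxz hyz]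
  rw [← vec_zero bs, vec_inj] at Ex
  rw [vec_inj] at Ey Ez
  simp only [dn_mul, dn_add, dn_sub, dn_neg, dn_zero, dn_one, dn_inj] at Ex Ey Ez
  obtain ⟨-, ⟨x1, -⟩, ⟨x2, -⟩⟩ := Ex
  obtain ⟨-, ⟨y1, y2⟩, ⟨-, y3⟩⟩ := Ey
  obtain ⟨-, ⟨-, z1⟩, ⟨-, z2⟩⟩ := Ez
  ring_nf at x1 x2 y1 y2 y3 z1 z2
  have hβ₀ : β₀ = 0 := by linear_combination x1
  have hγt : γ₀ * t = 0 := by linear_combination x2
  have hα₀ : α₀ = 1 := by linear_combination (-1 : K) * y1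
  subst hβ₀ hα₀
  refine ⟨?_, ?_, ?_⟩
  · linear_combination (-t) * y2 + z2 + h * hγt
  · intro ht1
    subst ht1
    have hγ₀ : γ₀ = 0 := by simpa using hγt
    subst hγ₀
    rw [S_p_one] at y3 z1
    constructor
    · linear_combination (-1 : K) * y3
    · linear_combination (-1 : K) * z1
  · intro hp2
    subst hp2
    obtain ⟨α₀, α₁, β₀, β₁, γ₀, γ₁, rfl⟩ : ∃ α₀ α₁ β₀ β₁ γ₀ γ₁ : K,
        w' = vec bs (dn α₀ α₁) (dn β₀ β₁) (dn γ₀ γ₁) :=
      ⟨_, _, _, _, _, _, by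
        conv_lhs => rw [eq_vec bs w', dn_eta (bs.repr w' 0), dn_eta (bs.repr w' 1), dn_eta (bs.repr w' 2)]⟩
    obtain ⟨e0, e1, e2⟩ := ady_sq bs hxy hxz hyz
    have Fx := LinearMap.congr_fun hw' (bs 0)
    have Fy := LinearMap.congr_fun hw' (bs 1)
    have Fz := LinearMap.congr_fun hw' (bs 2)
    rw [e0, LieAlgebra.ad_apply] at Fx
    rw [e1, LieAlgebra.ad_apply] at Fy
    rw [e2, LieAlgebra.ad_apply] at Fz
    conv_rhs at Fx => rw [b0_eq bs, lie_vec bs hxy hxz hyz]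
    conv_rhs at Fy => rw [b1_eq bs, lie_vec bs hxy hxz hyz]
    conv_rhs at Fz => rw [b2_eq bs, lie_vec bs hxy hxz hyz]
    rw [← vec_zero bs, vec_inj] at Fy
    rw [vec_inj] at Fx Fz
    simp only [dn_mul, dn_add, dn_sub, dn_neg, dn_zero, dn_one, dn_inj] at Fx Fy Fz
    obtain ⟨-, ⟨fx1, -⟩, -⟩ := Fx
    obtain ⟨-, ⟨fy1, -⟩, -⟩ := Fy
    obtain ⟨-, ⟨-, fz1⟩, -⟩ := Fz
    ring_nf at fx1 fy1 fz1
    have hβ : β₀ = 0 := by linear_combination fx1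
    have hα : α₀ = 0 := by linear_combination (-1 : K) * fy1
    subst hβ hα
    linear_combination (-1 : K) * fz1

end

end Groth.Agent.Lib.Helper66.L3Deform
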