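import Groth.Agent.Lib.Helper66.NQ5
import Groth.Agent.Lib.Helper32.HopfSub
import Mathlib

/-!
# The coinvariants of a normal Hopf ideal form a Hopf subalgebra (helper66)
-/

set_option autoImplicit false
open TensorProduct WithConv

universe u
namespace Groth.Agent.Lib.Helper66.NQ6
open Groth.Agent.Lib.Helper96 Groth.Agent.Lib.Helper66.NQ1 Groth.Agent.Lib.Helper66.NQ4

section Lin
variable {k : Type*} [Field k] {A : Type*} [AddCommGroup A] [Module k A]

/-- `(W ⊗ A) ∩ (A ⊗ W) = W ⊗ W` over a field, in terms of slices -/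
theorem mem_range_map_subtype (W : Submodule k A) (y : A ⊗[k] A)
    (h1 : ∀ l : Module.Dual k A, lslM l y ∈ W) (h2 : ∀ g : Module.Dual k A, slice A g y ∈ W) :
    y ∈ LinearMap.range (TensorProduct.map W.subtype W.subtype) := by
  obtain ⟨z, hz⟩ := (mem_range_rTensor_subtype_iff W y).2 h2
  have h3 : z ∈ LinearMap.range (W.subtype.lTensor W) := by
    rw [NQ2.mem_range_lTensor_subtype_iff]
    intro l
    obtain ⟨l', hl'⟩ := LinearMap.exists_extend l
    rw [← hl', ← lslM_rTensor, hz]
    exact h1 l'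
  obtain ⟨z', hz'⟩ := h3
  refine ⟨z', ?_⟩
  rw [← hz, ← hz', ← LinearMap.comp_apply, LinearMap.rTensor_comp_lTensor]

end Lin

variable {k : Type u} [Field k] {A : Type u} [CommRing A] [HopfAlgebra k A]
variable {I : Ideal A} [I.IsHopfIdeal k]

theorem ρL_of_mem_coinv (hI : SGA3.IsNormalHopfIdeal k A I) {b : A} (hb : b ∈ coinv k I) :
    ρL k I b = (1 : A ⧸ I) ⊗ₜ[k] b := by
  rw [ρL_of_isSemi hI (mem_coinv.1 hb), map_one, one_mul]

theorem antipode_mem_coinv (hI : SGA3.IsNormalHopfIdeal k A I) {b : A} (hb : b ∈ coinv k I) :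
    HopfAlgebra.antipode k b ∈ coinv k I := by
  rw [mem_coinv]
  have := isSemi_antipode (ρL_of_mem_coinv hI hb)
  rwa [HopfAlgebra.antipode_one] at this

/-- `A ⊗ (A ⊗ C)`-valued: `(id ⊗ ρ_R) Δ b = (id ⊗ (- ⊗ 1)) Δ b` for a right coinvariant `b` -/
theorem lslM_comul_mem_coinv {b : A} (hb : b ∈ coinv k I) (l : Module.Dual k A) :
    lslM l (CoalgebraStruct.comul (R := k) b) ∈ coinv k I := by
  rw [mem_coinv, isSemi_iff]
  set mk := (Ideal.Quotient.mkₐ k I).toLinearMap with hmk
  set r : A →ₗ[k] A ⊗[k] (A ⧸ I) := mk.lTensor A ∘ₗ CoalgebraStruct.comul (R := k) with hr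
  have hb' : r b = b ⊗ₜ[k] (1 : A ⧸ I) := isSemi_iff.1 (mem_coinv.1 hb)
  change r (lslM l (CoalgebraStruct.comul (R := k) b)) = _
  rw [← lslM_lTensor]
  have nat1 : (LinearMap.lTensor A (LinearMap.lTensor A mk)) ∘ₗ
      (TensorProduct.assoc k A A A).toLinearMap =
      (TensorProduct.assoc k A A (A ⧸ I)).toLinearMap ∘ₗ LinearMap.lTensor (A ⊗[k] A) mk := by
    apply TensorProduct.ext_threefold
    intro x y z
    simp
  have h1 : LinearMap.lTensor A r (CoalgebraStruct.comul (R := k) b) =
      TensorProduct.assoc k A A (A ⧸ I) (CoalgebraStruct.comul (R := k) b ⊗ₜ[k] (1 : A ⧸ I)) := by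
    rw [hr, LinearMap.lTensor_comp, LinearMap.comp_apply, ← Coalgebra.coassoc_apply]
    have := LinearMap.congr_fun nat1
      (LinearMap.rTensor A (CoalgebraStruct.comul (R := k)) (CoalgebraStruct.comul (R := k) b))
    simp only [LinearMap.comp_apply, LinearEquiv.coe_coe] at this
    rw [this, ← LinearMap.comp_apply (LinearMap.lTensor (A ⊗[k] A) mk),
      LinearMap.lTensor_comp_rTensor, ← LinearMap.rTensor_comp_lTensor, LinearMap.comp_apply]
    have hb'' : LinearMap.lTensor A mk (CoalgebraStruct.comul (R := k) b) =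
        b ⊗ₜ[k] (1 : A ⧸ I) := hb'
    rw [hb'', LinearMap.rTensor_tmul]
  rw [h1]
  generalize CoalgebraStruct.comul (R := k) b = y
  induction y using TensorProduct.induction_on with
  | zero => simp
  | add x y hx hy => simp only [map_add, add_tmul, hx, hy]
  | tmul x y => simp [lslM_tmul, TensorProduct.smul_tmul']

theorem slice_eq_antipode (g : Module.Dual k A) (y : A ⊗[k] A) :
    slice A g y = HopfAlgebra.antipode k (lslM (g ∘ₗ HopfAlgebra.antipode k)
      (TensorProduct.map (HopfAlgebra.antipode k) (HopfAlgebra.antipode k)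
        (TensorProduct.comm k A A y))) := by
  induction y using TensorProduct.induction_on with
  | zero => simp
  | add x y hx hy => simp only [map_add, hx, hy]
  | tmul x z =>
    simp [lslM_tmul, Groth.Agent.Lib.Helper32.HopfSub.antipode_antipode]

theorem slice_comul_mem_coinv (hI : SGA3.IsNormalHopfIdeal k A I) {b : A} (hb : b ∈ coinv k I)
    (g : Module.Dual k A) : slice A g (CoalgebraStruct.comul (R := k) b) ∈ coinv k I := by
  rw [slice_eq_antipode, ← Groth.Agent.Lib.Helper99.comul_antipode]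
  exact antipode_mem_coinv hI (lslM_comul_mem_coinv (antipode_mem_coinv hI hb) _)

theorem isHopfSubalgebra_coinv (hI : SGA3.IsNormalHopfIdeal k A I) :
    SGA3.IsHopfSubalgebra k A (coinv k I) := by
  refine ⟨fun b hb => ?_, fun b hb => antipode_mem_coinv hI hb⟩
  exact mem_range_map_subtype (Subalgebra.toSubmodule (coinv k I)) _
    (fun l => lslM_comul_mem_coinv hb l) (fun g => slice_comul_mem_coinv hI hb g)

end Groth.Agent.Lib.Helper66.NQ6
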