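import Mathlib
import Groth.Prelude.Def_SGA3y
import Groth.Agent.Lib.Helper66.MM3
import Groth.Agent.Lib.Helper66.MM4

/-!
# Milnor–Moore / Cartier–Kostant in characteristic zero (helper66)
-/

set_option autoImplicit false
universe u

namespace Groth.Agent.Lib.Helper66.MM5

open TensorProduct Coalgebra Groth.Agent.Lib.Helper66.MM2 Groth.Agent.Lib.Helper66.MM4

attribute [local instance] LieRing.ofAssociativeRing

variable (k : Type u) [Field k] [CharZero k] (H : Type u) [Ring H] [Bialgebra k H]
  [Coalgebra.IsCocomm k H]

/-- the canonical map as a bialgebra homomorphism -/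
noncomputable def liftBialg :
    UniversalEnvelopingAlgebra k (SGA3y.primLie k H) →ₐc[k] H :=
  BialgHom.ofAlgHom (UniversalEnvelopingAlgebra.lift k (SGA3y.primLie k H).incl)
    (by
      apply MM4.algHom_ext
      intro x
      rw [AlgHom.comp_apply, UniversalEnvelopingAlgebra.lift_ι_apply]
      change Coalgebra.counit (R := k) (x : H) =
        Coalgebra.counit (R := k) (UniversalEnvelopingAlgebra.ι k x)
      rw [MM4.counit_ι]
      exact counit_of_isPrim (k := k) x.2)
    (by
      apply MM4.algHom_ext
      intro x
      rw [AlgHom.comp_apply, AlgHom.comp_apply, UniversalEnvelopingAlgebra.lift_ι_apply]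
      change Algebra.TensorProduct.map _ _ (Coalgebra.comul (R := k) (UniversalEnvelopingAlgebra.ι k x)) =
        Coalgebra.comul (R := k) (x : H)
      rw [MM4.comul_ι, map_add, Algebra.TensorProduct.map_tmul, Algebra.TensorProduct.map_tmul, map_one,
        UniversalEnvelopingAlgebra.lift_ι_apply]
      exact x.2.symm)

theorem liftBialg_apply (u : UniversalEnvelopingAlgebra k (SGA3y.primLie k H)) :
    liftBialg k H u = UniversalEnvelopingAlgebra.lift k (SGA3y.primLie k H).incl u := rfl

theorem main (hconn : SGA3y.IsConnectedCoalg k H) :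
    Function.Bijective (UniversalEnvelopingAlgebra.lift k (SGA3y.primLie k H).incl) := by
  classical
  have hsplit := MM3.ker_counit_le_W hconn
  constructor
  · -- injectivity
    letI : LinearOrder (Module.Free.ChooseBasisIndex k (SGA3y.primLie k H)) :=
      linearOrderOfSTO (WellOrderingRel)
    let b := Module.Free.chooseBasis k (SGA3y.primLie k H)
    have hinj := injective_of_injOn_prim (MM4.ker_counit_le_W b) (liftBialg k H) ?_
    · exact hinj
    · intro x hx hφ
      obtain ⟨g, rfl⟩ := MM4.mem_range_ι_of_T_eq b x (T_of_isPrim hx)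
      rw [liftBialg_apply] at hφ
      change UniversalEnvelopingAlgebra.lift k (SGA3y.primLie k H).incl
        (UniversalEnvelopingAlgebra.ι k g) = 0 at hφ
      rw [UniversalEnvelopingAlgebra.lift_ι_apply] at hφ
      have hg : g = 0 := Subtype.ext hφ
      rw [hg, map_zero]
  · -- surjectivity
    have htop := adjoin_isPrim_eq_top hsplit
    have hle : Algebra.adjoin k {x : H | IsPrim (k := k) x} ≤
        (UniversalEnvelopingAlgebra.lift k (SGA3y.primLie k H).incl).range := by
      apply Algebra.adjoin_le
      intro x hx
      have hx' : x ∈ SGA3y.primLie k H := hx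
      refine ⟨UniversalEnvelopingAlgebra.ι k (⟨x, hx'⟩ : SGA3y.primLie k H), ?_⟩
      exact UniversalEnvelopingAlgebra.lift_ι_apply k _ _
    rw [htop] at hle
    intro y
    exact hle (Algebra.mem_top)

end Groth.Agent.Lib.Helper66.MM5
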