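import Groth.Agent.Lib.Helper66.MR1

/-!
helper66: rigidity of the unit homomorphism from a group of multiplicative type (constant type)
over a local base (S5245).
-/

set_option autoImplicit false
universe u
open TensorProduct Coalgebra WithConv
open Groth.Agent.Lib.Helper83.MultRigid

namespace Groth.Agent.Lib.Helper66.MR2

section Desc
variable (R : Type u) [CommRing R] (R' : Type u) [CommRing R'] [Algebra R R']

theorem map_maximalIdeal_ne_top [IsLocalRing R] [Module.FaithfullyFlat R R'] :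
    (IsLocalRing.maximalIdeal R).map (algebraMap R R') ≠ ⊤ := by
  intro htop
  have := Module.FaithfullyFlat.submodule_ne_top (R := R) (M := R')
    (IsLocalRing.maximalIdeal.isMaximal R)
  apply this
  rw [Ideal.smul_top_eq_map, htop]
  rfl

/-- Lemma F -/
theorem eq_zero_of_smul_tmul_eq_zero [IsLocalRing R] [Module.FaithfullyFlat R R']
    (N : Type u) [AddCommGroup N] [Module R N] (x : N) (r : R')
    (hr : r - 1 ∈ (IsLocalRing.maximalIdeal R).map (algebraMap R R'))
    (h : r • ((1 : R') ⊗ₜ[R] x) = 0) : x = 0 := by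
  obtain ⟨q, hq, hle⟩ := Ideal.exists_le_maximal _ (map_maximalIdeal_ne_top R R')
  have hrq : r ∉ q := fun hrq => hq.ne_top ((Ideal.eq_top_iff_one _).mpr (by
    have := q.sub_mem hrq (hle hr)
    simpa using this))
  haveI := hq.isPrime
  let R'' := Localization.AtPrime q
  haveI : Module.Flat R' R'' := IsLocalization.flat R'' q.primeCompl
  haveI : Module.Flat R R'' := Module.Flat.trans R R' R''
  haveI : IsLocalHom (algebraMap R R'') := by
    refine ⟨fun a ha => ?_⟩
    by_contra hna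
    have h1 : a ∈ IsLocalRing.maximalIdeal R := (IsLocalRing.mem_maximalIdeal a).mpr hna
    have h2 : algebraMap R R' a ∈ q := hle (Ideal.mem_map_of_mem _ h1)
    have h3 : algebraMap R' R'' (algebraMap R R' a) ∈ IsLocalRing.maximalIdeal R'' :=
      (IsLocalization.AtPrime.to_map_mem_maximal_iff R'' q _).mpr h2
    rw [← IsScalarTower.algebraMap_apply] at h3
    exact ((IsLocalRing.mem_maximalIdeal _).mp h3) ha
  haveI : Module.FaithfullyFlat R R'' := Module.FaithfullyFlat.of_flat_of_isLocalHom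
  let g : R' ⊗[R] N →ₗ[R] R'' ⊗[R] N :=
    LinearMap.rTensor N (IsScalarTower.toAlgHom R R' R'').toLinearMap
  have h4 : g (r • ((1 : R') ⊗ₜ[R] x)) = (algebraMap R' R'' r) ⊗ₜ[R] x := by
    rw [TensorProduct.smul_tmul', smul_eq_mul, mul_one]
    rfl
  rw [h, map_zero] at h4
  have hu : IsUnit (algebraMap R' R'' r) := IsLocalization.map_units R'' (⟨r, hrq⟩ : q.primeCompl)
  obtain ⟨u, hu⟩ := hu
  have h5 : (1 : R'') ⊗ₜ[R] x = 0 := by
    have : (↑u⁻¹ : R'') • ((algebraMap R' R'' r) ⊗ₜ[R] x) = (1 : R'') ⊗ₜ[R] x := by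
      rw [TensorProduct.smul_tmul', smul_eq_mul, ← hu, Units.inv_mul]
    rw [← this, ← h4, smul_zero]
  apply Module.FaithfullyFlat.tensorProduct_mk_injective (A := R) (B := R'') N
  simpa using h5

/-- Lemma D -/
theorem mem_smul_top_of_tmul_mem [Module.FaithfullyFlat R R']
    (N : Type u) [AddCommGroup N] [Module R N] (K : Ideal R) (x : N)
    (h : (1 : R') ⊗ₜ[R] x ∈ (K.map (algebraMap R R')) • (⊤ : Submodule R' (R' ⊗[R] N))) :
    x ∈ K • (⊤ : Submodule R N) := by
  let P : Submodule R N := K • (⊤ : Submodule R N)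
  let g : R' ⊗[R] N →ₗ[R'] R' ⊗[R] (N ⧸ P) := LinearMap.baseChange R' P.mkQ
  have hann : K.map (algebraMap R R') ≤ Module.annihilator R' (R' ⊗[R] (N ⧸ P)) := by
    rw [Ideal.map_le_iff_le_comap]
    intro k hk
    rw [Ideal.mem_comap, Module.mem_annihilator]
    intro z
    induction z using TensorProduct.induction_on with
    | zero => simp
    | tmul s q =>
      obtain ⟨n, rfl⟩ := P.mkQ_surjective q
      rw [TensorProduct.smul_tmul', Algebra.algebraMap_eq_smul_one, smul_assoc, one_smul,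
        TensorProduct.smul_tmul, ← map_smul]
      have : P.mkQ (k • n) = 0 := by
        rw [Submodule.mkQ_apply, Submodule.Quotient.mk_eq_zero]
        exact Submodule.smul_mem_smul hk Submodule.mem_top
      rw [this, TensorProduct.tmul_zero]
    | add a b ha hb => rw [smul_add, ha, hb, add_zero]
  have hg : ∀ y ∈ (K.map (algebraMap R R')) • (⊤ : Submodule R' (R' ⊗[R] N)), g y = 0 := by
    intro y hy
    refine Submodule.smul_induction_on (p := fun y => g y = 0) hy ?_ ?_
    · intro k' hk' y _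
      rw [map_smul]
      exact Module.mem_annihilator.mp (hann hk') _
    · intro a b ha hb
      rw [map_add, ha, hb, add_zero]
  have h1 := hg _ h
  have h2 : g ((1 : R') ⊗ₜ[R] x) = (1 : R') ⊗ₜ[R] P.mkQ x := LinearMap.baseChange_tmul _ _ _
  rw [h2] at h1
  have h3 : P.mkQ x = 0 := by
    apply Module.FaithfullyFlat.tensorProduct_mk_injective (A := R) (B := R') (N ⧸ P)
    simpa using h1
  rw [Submodule.mkQ_apply, Submodule.Quotient.mk_eq_zero] at h3
  exact h3

end Desc


section Main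
variable (R : Type u) [CommRing R] [IsLocalRing R]
  (A : Type u) [CommRing A] [HopfAlgebra R A]
  (C : Type u) [CommRing C] [Bialgebra R C]

theorem main_const (hH : SGA3b.IsMultTypeConst R A)
    (hcase : (IsNoetherianRing R ∧ Algebra.FiniteType R A) ∨ Algebra.FiniteType R C)
    (φ : C →ₐc[R] A)
    (hs : ∀ c : C, φ c - algebraMap R A (Coalgebra.counit c) ∈
      (IsLocalRing.maximalIdeal R) • (⊤ : Submodule R A)) :
    ∀ c : C, φ c = algebraMap R A (Coalgebra.counit c) := by
  obtain ⟨R', _, _, hff, M, _, ⟨e⟩⟩ := hH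
  intro c
  set I : Ideal R' := (IsLocalRing.maximalIdeal R).map (algebraMap R R') with hI
  let ψ : R' ⊗[R] C →ₐc[R'] MonoidAlgebra R' M :=
    (e : (R' ⊗[R] A) →ₐc[R'] MonoidAlgebra R' M).comp (bc R' φ)
  have hψ : ∀ c', ψ c' = e (bc R' φ c') := fun c' => rfl
  have he1 : ∀ r : R', e (algebraMap R' (R' ⊗[R] A) r) = MonoidAlgebra.single 1 r := by
    intro r
    have : e (algebraMap R' (R' ⊗[R] A) r) = algebraMap R' (MonoidAlgebra R' M) r :=
      (e : (R' ⊗[R] A) →ₐ[R'] MonoidAlgebra R' M).commutes r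
    rw [this]
    rfl
  let eL : (R' ⊗[R] A) →ₗ[R'] MonoidAlgebra R' M :=
    ((e : (R' ⊗[R] A) →ₐc[R'] MonoidAlgebra R' M) : (R' ⊗[R] A) →ₗ[R'] MonoidAlgebra R' M)
  have heL : ∀ y, eL y = e y := fun y => rfl
  -- coefficients off the unit lie in I
  have h1 : ∀ c' m, m ≠ 1 → (ψ c').coeff m ∈ I := by
    intro c' m hm
    have h1 := map_mem_smul_top eL I _ (bc_hyp R' _ φ hs c')
    have h2 := coeff_mem_of_mem_smul_top I _ h1 m
    have h3 : eL (bc R' φ c' - algebraMap R' (R' ⊗[R] A) (Coalgebra.counit c')) =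
        e (bc R' φ c') - MonoidAlgebra.single 1 (Coalgebra.counit c') := by
      rw [map_sub, heL, heL, he1]
    rw [h3, MonoidAlgebra.coeff_sub, Finsupp.sub_apply, MonoidAlgebra.coeff_single,
      Finsupp.single_eq_of_ne hm, sub_zero] at h2
    exact h2
  set x : A := φ c - algebraMap R A (Coalgebra.counit c) with hx
  set c' : R' ⊗[R] C := (1 : R') ⊗ₜ[R] c with hc'
  set w : MonoidAlgebra R' M := ψ c' - MonoidAlgebra.single 1 (Coalgebra.counit (R := R') c')
    with hw
  have hxw : e ((1 : R') ⊗ₜ[R] x) = w := by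
    rw [hx, TensorProduct.tmul_sub, ← bc_tmul R' φ 1 c, ← algebraMap_counit_tmul R' 1 c, map_sub,
      he1]
    rfl
  have hwε : Coalgebra.counit (R := R') w = 0 := by
    rw [hw, map_sub, MonoidAlgebra.counit_single, CommSemiring.counit_apply]
    have : Coalgebra.counit (R := R') (ψ c') = Coalgebra.counit (R := R') c' :=
      CoalgHomClass.counit_comp_apply ψ c'
    rw [this, sub_self]
  have hwc : ∀ m, m ≠ 1 → w.coeff m = (ψ c').coeff m := by
    intro m hm
    rw [hw, MonoidAlgebra.coeff_sub, Finsupp.sub_apply, MonoidAlgebra.coeff_single,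
      Finsupp.single_eq_of_ne hm, sub_zero]
  suffices hsuff : ∃ r : R', r - 1 ∈ I ∧ r • w = 0 by
    obtain ⟨r, hr, hrw⟩ := hsuff
    have h0 : r • ((1 : R') ⊗ₜ[R] x) = 0 := by
      have h00 : eL (r • ((1 : R') ⊗ₜ[R] x)) = eL 0 := by
        rw [map_smul, heL, hxw, hrw, map_zero]
      exact e.injective h00
    have := eq_zero_of_smul_tmul_eq_zero R R' A x r hr h0
    rw [hx, sub_eq_zero] at this
    exact this
  rcases hcase with ⟨hN, hft⟩ | hft
  · -- Noetherian case
    let ψ' : R' ⊗[R] C →ₗc[R'] MonoidAlgebra R' M := (ψ : R' ⊗[R] C →ₗc[R'] MonoidAlgebra R' M)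
    have hpow : ∀ n : ℕ, ∀ m, w.coeff m ∈ I ^ n := by
      intro n
      apply MR1.coeff_one_mem (I ^ n) w hwε
      intro m hm
      rw [hwc m hm]
      exact MR1.coeffHom_pow_mem ψ' I m (fun c'' => h1 c'' m hm) n c'
    have hxn : ∀ n : ℕ, x ∈ (IsLocalRing.maximalIdeal R) ^ n • (⊤ : Submodule R A) := by
      intro n
      apply mem_smul_top_of_tmul_mem R R' A
      rw [Ideal.map_pow]
      have h2 := MR1.mem_smul_top_of_coeff (I ^ n) w (hpow n)
      have h3 := map_mem_smul_top
        ((e.symm : MonoidAlgebra R' M →ₐc[R'] (R' ⊗[R] A)) :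
          MonoidAlgebra R' M →ₗ[R'] (R' ⊗[R] A)) (I ^ n) w h2
      have h4 : ((e.symm : MonoidAlgebra R' M →ₐc[R'] (R' ⊗[R] A)) :
          MonoidAlgebra R' M →ₗ[R'] (R' ⊗[R] A)) w = (1 : R') ⊗ₜ[R] x := by
        rw [← hxw]
        exact e.symm_apply_apply _
      rw [h4] at h3
      exact h3
    haveI : IsNoetherianRing A := Algebra.FiniteType.isNoetherianRing R A
    set 𝔞 : Ideal A := (IsLocalRing.maximalIdeal R).map (algebraMap R A) with h𝔞
    have hxinf : x ∈ (⨅ i : ℕ, 𝔞 ^ i • ⊤ : Submodule A A) := by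
      rw [Submodule.mem_iInf]
      intro n
      have h2 := hxn n
      rw [Ideal.smul_top_eq_map, Ideal.map_pow] at h2
      have h3 : x ∈ 𝔞 ^ n := h2
      rw [smul_eq_mul, Ideal.mul_top]
      exact h3
    obtain ⟨a, ha⟩ := (Ideal.mem_iInf_smul_pow_eq_bot_iff 𝔞 x).mp hxinf
    set a' : MonoidAlgebra R' M := e ((1 : R') ⊗ₜ[R] (a : A)) with ha'
    have ha'c : ∀ m, a'.coeff m ∈ I := by
      have h2 : (a : A) ∈ (IsLocalRing.maximalIdeal R) • (⊤ : Submodule R A) := by
        rw [Ideal.smul_top_eq_map]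
        exact a.2
      have h3 := tmul_mem_smul_top R' (IsLocalRing.maximalIdeal R) (1 : R') (a : A) h2
      have h4 := map_mem_smul_top eL I _ h3
      exact coeff_mem_of_mem_smul_top I _ h4
    have haw : a' * w = w := by
      rw [ha', ← hxw, ← map_mul, Algebra.TensorProduct.tmul_mul_tmul, mul_one]
      congr 2
    exact MR1.exists_of_mul_eq I a' w ha'c haw
  · -- finite type case
    obtain ⟨r, hr, hr'⟩ := MR1.exists_of_finiteType ψ I h1
    refine ⟨r, hr, MR1.smul_eq_zero_of_coeff r w hwε fun m hm => ?_⟩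
    rw [hwc m hm]
    exact hr' c' m hm

end Main

end Groth.Agent.Lib.Helper66.MR2
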