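import Groth.Agent.Lib.Helper66.MR2

/-!
helper66: S5245 — a homomorphism from a group of multiplicative type over a local base which is
trivial on the closed fibre is trivial.
-/

set_option autoImplicit false
universe u
open TensorProduct Coalgebra WithConv
open Groth.Agent.Lib.Helper83.MultRigid

namespace Groth.Agent.Lib.Helper66.MR3

theorem main (R : Type u) [CommRing R] [IsLocalRing R]
    (A : Type u) [CommRing A] [HopfAlgebra R A] (hH : SGA3b.IsMultType R A)
    (C : Type u) [CommRing C] [HopfAlgebra R C]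
    (hcase : (IsNoetherianRing R ∧ Algebra.FiniteType R A) ∨ Algebra.FiniteType R C)
    (φ : C →ₐc[R] A)
    (hs : ∀ c : C, φ c - algebraMap R A (Coalgebra.counit c) ∈
      Ideal.map (algebraMap R A) (IsLocalRing.maximalIdeal R)) :
    ∀ c : C, φ c = algebraMap R A (Coalgebra.counit c) := by
  obtain ⟨s, hspan, hf⟩ := hH
  -- a unit in s
  obtain ⟨f, hfs, hfu⟩ : ∃ f ∈ s, IsUnit f := by
    by_contra hcon
    push Not at hcon
    have : Ideal.span s ≤ IsLocalRing.maximalIdeal R := by
      refine Ideal.span_le.mpr fun f hf' => ?_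
      exact (IsLocalRing.mem_maximalIdeal f).mpr (hcon f hf')
    rw [hspan] at this
    exact (IsLocalRing.maximalIdeal.isMaximal R).ne_top (top_le_iff.mp this)
  set Rf := Localization.Away f with hRf
  have hle : Submonoid.powers f ≤ IsUnit.submonoid R := by
    rintro _ ⟨n, rfl⟩
    exact hfu.pow n
  let e0 : R ≃ₐ[R] Rf := IsLocalization.atUnits R (Submonoid.powers f) hle
  haveI : IsLocalRing Rf := e0.toRingEquiv.isLocalRing
  haveI : Module.FaithfullyFlat R Rf :=
    Module.FaithfullyFlat.of_linearEquiv (R := R) (M := R) e0.symm.toLinearEquiv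
  have hs' : ∀ c : C, φ c - algebraMap R A (Coalgebra.counit c) ∈
      (IsLocalRing.maximalIdeal R) • (⊤ : Submodule R A) := by
    intro c
    rw [Ideal.smul_top_eq_map]
    exact hs c
  have hne := MR2.map_maximalIdeal_ne_top R Rf
  have hcase' : (IsNoetherianRing Rf ∧ Algebra.FiniteType Rf (Rf ⊗[R] A)) ∨
      Algebra.FiniteType Rf (Rf ⊗[R] C) := by
    rcases hcase with ⟨h1, h2⟩ | h
    · exact Or.inl ⟨IsLocalization.isNoetherianRing (Submonoid.powers f) Rf h1, inferInstance⟩
    · exact Or.inr inferInstance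
  have key := MR2.main_const Rf (Rf ⊗[R] A) (Rf ⊗[R] C) (hf f hfs) hcase' (bc Rf φ)
    (fun c' => Submodule.smul_mono_left (IsLocalRing.le_maximalIdeal hne)
      (bc_hyp Rf _ φ hs' c'))
  intro c
  have h1 := key ((1 : Rf) ⊗ₜ[R] c)
  rw [bc_tmul, algebraMap_counit_tmul] at h1
  exact Module.FaithfullyFlat.tensorProduct_mk_injective (A := R) (B := Rf) A h1

end Groth.Agent.Lib.Helper66.MR3
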