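import Groth.Agent.Lib.Helper66.MR4

/-!
helper66: S5254 — a closed subgroup of a group of multiplicative type over a local base with trivial
closed fibre is trivial.  Part 1: lifting points, Nakayama step.
-/

set_option autoImplicit false
universe u
open TensorProduct Coalgebra WithConv
open Groth.Agent.Lib.Helper83.MultRigid

namespace Groth.Agent.Lib.Helper66.MR5

section Point
variable (R : Type u) [CommRing R] [IsLocalRing R] (R' : Type u) [CommRing R'] [Algebra R R']
  [Module.FaithfullyFlat R R']

theorem exists_local_faithfullyFlat :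
    ∃ (𝔫 : Ideal R') (_ : 𝔫.IsMaximal),
      (IsLocalRing.maximalIdeal R).map (algebraMap R R') ≤ 𝔫 ∧
      Module.FaithfullyFlat R (Localization.AtPrime 𝔫) := by
  obtain ⟨q, hq, hle⟩ := Ideal.exists_le_maximal _ (MR2.map_maximalIdeal_ne_top R R')
  refine ⟨q, hq, hle, ?_⟩
  haveI := hq.isPrime
  let R'' := Localization.AtPrime q
  haveI : Module.Flat R' R'' := IsLocalization.flat R'' q.primeCompl
  haveI : Module.Flat R R'' := Module.Flat.trans R R' R''
  haveI : IsLocalHom (algebraMap R R'') := by
    refine ⟨fun a ha => ?_⟩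
    by_contra hna
    have h1 : a ∈ IsLocalRing.maximalIdeal R := (IsLocalRing.mem_maximalIdeal a).mpr hna
    have h2 : algebraMap R R' a ∈ q := hle (Ideal.mem_map_of_mem _ h1)
    have h3 : algebraMap R' R'' (algebraMap R R' a) ∈ IsLocalRing.maximalIdeal R'' :=
      (IsLocalization.AtPrime.to_map_mem_maximal_iff R'' q _).mpr h2
    rw [← IsScalarTower.algebraMap_apply] at h3
    exact ((IsLocalRing.mem_maximalIdeal _).mp h3) ha
  exact Module.FaithfullyFlat.of_flat_of_isLocalHom

/-- lifting a prime of an `R`-algebra `B` to a field point compatible with a point of `R'`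
specializing into the closed fibre -/
theorem exists_field_point (B : Type u) [CommRing B] [Algebra R B] (P : Ideal B) [P.IsPrime] :
    ∃ (L : Type u) (_ : Field L) (f : R' →+* L) (g : B →+* L),
      f.comp (algebraMap R R') = g.comp (algebraMap R B) ∧ RingHom.ker g = P ∧
      ∃ 𝔫 : Ideal R', 𝔫 ≠ ⊤ ∧ (IsLocalRing.maximalIdeal R).map (algebraMap R R') ≤ 𝔫 ∧
        RingHom.ker f ≤ 𝔫 := by
  obtain ⟨𝔫, h𝔫, hle, hff⟩ := exists_local_faithfullyFlat R R'
  haveI := h𝔫.isPrime
  let R'' := Localization.AtPrime 𝔫
  let T := B ⊗[R] R''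
  obtain ⟨P'', hP''prime, hP''⟩ :=
    Ideal.exists_isPrime_liesOver_of_faithfullyFlat (A := B) (B := T) P
  let L := P''.ResidueField
  let f : R' →+* L := (algebraMap T L).comp
    ((Algebra.TensorProduct.includeRight : R'' →ₐ[R] T).toRingHom.comp (algebraMap R' R''))
  let g : B →+* L := (algebraMap T L).comp (algebraMap B T)
  refine ⟨L, inferInstance, f, g, ?_, ?_, 𝔫, h𝔫.ne_top, hle, ?_⟩
  · ext r
    change algebraMap T L ((Algebra.TensorProduct.includeRight : R'' →ₐ[R] T)
      (algebraMap R' R'' (algebraMap R R' r))) = algebraMap T L (algebraMap B T (algebraMap R B r))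
    rw [← IsScalarTower.algebraMap_apply R R' R'', AlgHom.commutes,
      ← IsScalarTower.algebraMap_apply R B T]
  · change RingHom.ker ((algebraMap T L).comp (algebraMap B T)) = P
    rw [← RingHom.comap_ker, Ideal.ker_algebraMap_residueField]
    exact (hP''.over).symm
  · intro x hx
    by_contra hxn
    have hu : IsUnit (algebraMap R' R'' x) :=
      IsLocalization.map_units R'' (⟨x, hxn⟩ : 𝔫.primeCompl)
    have hu2 : IsUnit (f x) := by
      have := hu.map ((algebraMap T L).comp
        (Algebra.TensorProduct.includeRight : R'' →ₐ[R] T).toRingHom)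
      exact this
    rw [RingHom.mem_ker] at hx
    rw [hx] at hu2
    exact not_isUnit_zero hu2

end Point


section Nak
variable (R : Type u) [CommRing R] [IsLocalRing R] (B : Type u) [CommRing B] [Algebra R B]

theorem ker_eq_bot_of_forall_prime (εB : B →ₐ[R] R) (hfg : (RingHom.ker εB).FG)
    (hs : ∀ b : B, b - algebraMap R B (εB b) ∈
      (IsLocalRing.maximalIdeal R) • (⊤ : Submodule R B))
    (hP : ∀ P : Ideal B, P.IsPrime → RingHom.ker εB ≤ P) : RingHom.ker εB = ⊥ := by
  set IB : Ideal B := RingHom.ker εB with hIB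
  set 𝔞 : Ideal B := (IsLocalRing.maximalIdeal R).map (algebraMap R B) with h𝔞
  -- the projection onto the augmentation ideal
  let ν : B →ₗ[R] B := LinearMap.id - (Algebra.linearMap R B).comp εB.toLinearMap
  have hν : ∀ b, ν b = b - algebraMap R B (εB b) := fun b => rfl
  have hνmem : ∀ b, ν b ∈ IB := by
    intro b
    rw [hIB, RingHom.mem_ker, hν]
    have : εB (b - algebraMap R B (εB b)) = εB b - εB (algebraMap R B (εB b)) := map_sub εB _ _
    rw [this, AlgHom.commutes]
    simp
  have hνI : ∀ b ∈ IB, ν b = b := by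
    intro b hb
    rw [hν, (RingHom.mem_ker).mp hb, map_zero, sub_zero]
  have hle : (IB : Submodule B B) ≤ 𝔞 • (IB : Submodule B B) := by
    intro b hb
    have h1 : b ∈ (IsLocalRing.maximalIdeal R) • (⊤ : Submodule R B) := by
      have := hs b
      rwa [(RingHom.mem_ker).mp hb, map_zero, sub_zero] at this
    have h2 : ν b ∈ 𝔞 • (IB : Submodule B B) := by
      refine Submodule.smul_induction_on
        (p := fun b => ν b ∈ 𝔞 • (IB : Submodule B B)) h1 ?_ ?_
      · intro μ hμ z _
        rw [map_smul]
        have hsm : μ • ν z = (algebraMap R B μ) • ν z := by rw [Algebra.smul_def, smul_eq_mul]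
        rw [hsm]
        exact Submodule.smul_mem_smul (Ideal.mem_map_of_mem (algebraMap R B) hμ) (hνmem z)
      · intro x y hx hy
        rw [map_add]
        exact Submodule.add_mem _ hx hy
    rwa [hνI b hb] at h2
  obtain ⟨t, ht, ht'⟩ :=
    Submodule.exists_sub_one_mem_and_smul_eq_zero_of_fg_of_le_smul 𝔞 IB hfg hle
  -- IB is contained in the nilradical
  have hnil : IB ≤ nilradical B := by
    rw [nilradical_eq_sInf]
    exact le_sInf fun P hP' => hP P hP'
  -- t is a unit
  have htu : IsUnit t := by
    have h1 : εB (t - 1) ∈ IsLocalRing.maximalIdeal R := by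
      have : 𝔞 ≤ (IsLocalRing.maximalIdeal R).comap (εB : B →+* R) := by
        rw [h𝔞, Ideal.map_le_iff_le_comap]
        intro μ hμ
        rw [Ideal.mem_comap, Ideal.mem_comap]
        have : (εB : B →+* R) (algebraMap R B μ) = μ := by
          change εB (algebraMap R B μ) = μ
          rw [AlgHom.commutes]; rfl
        rw [this]
        exact hμ
      exact this ht
    have h2 : IsUnit (1 + εB (t - 1)) := by
      by_contra hnu
      have h3 : 1 + εB (t - 1) ∈ IsLocalRing.maximalIdeal R :=
        (IsLocalRing.mem_maximalIdeal _).mpr hnu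
      have h4 : (1 : R) ∈ IsLocalRing.maximalIdeal R := by
        have h40 := Ideal.sub_mem _ h3 h1
        rw [add_sub_cancel_right] at h40
        exact h40
      exact (IsLocalRing.maximalIdeal.isMaximal R).ne_top ((Ideal.eq_top_iff_one _).mpr h4)
    have h5 : t = algebraMap R B (1 + εB (t - 1)) + ν (t - 1) := by
      rw [hν, map_add, map_one]; ring
    rw [h5]
    have h6 : IsNilpotent (ν (t - 1)) := hnil (hνmem _)
    exact h6.isUnit_add_left_of_commute (h2.map (algebraMap R B)) (Commute.all _ _)
  rw [eq_bot_iff]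
  intro b hb
  have h1 := ht' b hb
  rw [smul_eq_mul] at h1
  exact (Submodule.mem_bot B).mpr (htu.mul_right_eq_zero.mp h1)

end Nak

end Groth.Agent.Lib.Helper66.MR5
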