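import Groth.Agent.Lib.Helper66.MR5
import Groth.Agent.Lib.Helper96.BaseChangeBialg

/-!
helper66: S5254, part 2: the fibre argument.
-/

set_option autoImplicit false
universe u
open TensorProduct Coalgebra WithConv
open Groth.Agent.Lib.Helper83.MultRigid

namespace Groth.Agent.Lib.Helper66.MR6

open Classical in
theorem exists_functional (K V : Type u) [Field K] [AddCommGroup V] [Module K V] (s : Set V)
    (hs : LinearIndepOn K id s) (v₀ : V) :
    ∃ l : V →ₗ[K] K, ∀ v ∈ s, l v = if v = v₀ then 1 else 0 := by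
  let b := Module.Basis.extend hs
  refine ⟨b.constr K (fun i => if (i : V) = v₀ then 1 else 0), fun v hv => ?_⟩
  have hv' : v ∈ hs.extend (Set.subset_univ s) := hs.subset_extend _ hv
  have h1 : b ⟨v, hv'⟩ = v := Module.Basis.extend_apply_self hs ⟨v, hv'⟩
  conv_lhs => rw [← h1]
  rw [Module.Basis.constr_basis]

section Fibre
variable {R : Type u} [CommRing R] {R' : Type u} [CommRing R'] [Algebra R R']
  {A : Type u} [CommRing A] [Bialgebra R A]
  {B : Type u} [CommRing B] [Bialgebra R B]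
  {M : Type u} [CommGroup M]

theorem point_eq_counit (e : R' ⊗[R] A ≃ₐc[R'] MonoidAlgebra R' M)
    (π : A →ₐc[R] B) (hπ : Function.Surjective π) (𝔪 : Ideal R)
    (hs : ∀ x : A, π x - algebraMap R B (Coalgebra.counit x) ∈ 𝔪 • (⊤ : Submodule R B))
    (L : Type u) [Field L] [Algebra R' L] [Algebra R L] [IsScalarTower R R' L]
    (g : B →ₐ[R] L)
    (𝔫 : Ideal R') (h𝔫 : 𝔫 ≠ ⊤) (hle : 𝔪.map (algebraMap R R') ≤ 𝔫)
    (hker : RingHom.ker (algebraMap R' L) ≤ 𝔫) :
    ∀ x : A, g (π x) = algebraMap R L (Coalgebra.counit x) := by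
  classical
  let Q := R' ⊗[R] B
  let π' : R' ⊗[R] A →ₐc[R'] Q := bc R' π
  let QL := L ⊗[R'] Q
  let eL : (R' ⊗[R] A) →ₗ[R'] MonoidAlgebra R' M :=
    ((e : (R' ⊗[R] A) →ₐc[R'] MonoidAlgebra R' M) : (R' ⊗[R] A) →ₗ[R'] MonoidAlgebra R' M)
  let eS : MonoidAlgebra R' M →ₗ[R'] (R' ⊗[R] A) :=
    ((e.symm : MonoidAlgebra R' M →ₐc[R'] (R' ⊗[R] A)) : MonoidAlgebra R' M →ₗ[R'] (R' ⊗[R] A))
  have heL : ∀ y, eL y = e y := fun y => rfl
  have heS : ∀ y, eS y = e.symm y := fun y => rfl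
  let γ : M → Q := fun m => π' (e.symm (MonoidAlgebra.single m 1))
  let G : M → QL := fun m => (1 : L) ⊗ₜ[R'] γ m
  have hγ : ∀ m, IsGroupLikeElem R' (γ m) := fun m =>
    ((MonoidAlgebra.isGroupLikeElem_single_one (R := R') (A := R') m).map
      (e.symm : MonoidAlgebra R' M →ₐc[R'] (R' ⊗[R] A))).map π'
  have hG : ∀ m, IsGroupLikeElem L (G m) := fun m =>
    Groth.Agent.Lib.Helper96.BaseChangeBialg.isGroupLikeElem_one_tmul R' L Q (hγ m)
  have hG1 : G 1 = 1 := by
    change (1 : L) ⊗ₜ[R'] π' (e.symm (MonoidAlgebra.single 1 1)) = 1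
    have : (MonoidAlgebra.single (1 : M) (1 : R')) = 1 := rfl
    rw [this, map_one, map_one]
    rfl
  let ρ : MonoidAlgebra R' M →ₗ[R'] QL :=
    (TensorProduct.mk R' L Q 1) ∘ₗ (π' : R' ⊗[R] A →ₗ[R'] Q) ∘ₗ eS
  have hρ : ∀ y, ρ y = (1 : L) ⊗ₜ[R'] π' (e.symm y) := fun y => rfl
  have hli := linearIndepOn_isGroupLikeElem (R := L) (A := QL)
  obtain ⟨l, hl⟩ := exists_functional L QL _ hli 1
  let Λ : MonoidAlgebra R' M →ₗ[R'] L := (l.restrictScalars R') ∘ₗ ρ
  have hΛ1 : ∀ m, Λ (MonoidAlgebra.single m 1) = if G m = 1 then 1 else 0 := fun m =>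
    hl (G m) (hG m)
  let W' : Submodule R' L := Submodule.map (Algebra.linearMap R' L) (𝔫 : Submodule R' R')
  -- Claim 2
  have hc2 : ∀ y : MonoidAlgebra R' M, (∀ m, y.coeff m ∈ 𝔫) → Λ y ∈ W' := by
    intro y hy
    rw [← MonoidAlgebra.sum_coeff_single y, Finsupp.sum, map_sum]
    refine Submodule.sum_mem _ fun m _ => ?_
    have h1 : MonoidAlgebra.single m (y.coeff m) =
        (y.coeff m) • MonoidAlgebra.single m (1 : R') := by
      rw [MonoidAlgebra.smul_single, smul_eq_mul, mul_one]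
    rw [h1, map_smul, hΛ1]
    split_ifs
    · refine ⟨y.coeff m, hy m, ?_⟩
      rw [Algebra.linearMap_apply, Algebra.smul_def, mul_one]
    · rw [smul_zero]
      exact Submodule.zero_mem _
  -- Claim 3
  have hc3 : ∀ x : A, Λ (e ((1 : R') ⊗ₜ[R] (x - algebraMap R A (Coalgebra.counit x)))) ∈ W' := by
    intro x
    set d := x - algebraMap R A (Coalgebra.counit x) with hd
    have h1 : π d ∈ 𝔪 • (⊤ : Submodule R B) := by
      have := hs x
      have h2 : π d = π x - algebraMap R B (Coalgebra.counit x) := by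
        rw [hd, map_sub]
        congr 1
        exact (π : A →ₐ[R] B).commutes _
      rwa [h2]
    have h3 : (𝔪 • (⊤ : Submodule R A)).map (π : A →ₗ[R] B) = 𝔪 • (⊤ : Submodule R B) := by
      rw [Submodule.map_smul'', Submodule.map_top]
      congr 1
      exact LinearMap.range_eq_top.mpr hπ
    rw [← h3] at h1
    obtain ⟨n, hn, hnd⟩ := h1
    have hj : π (d - n) = 0 := by
      rw [map_sub]
      have : π n = π d := hnd
      rw [this, sub_self]
    have hsplit : e ((1 : R') ⊗ₜ[R] d) = e ((1 : R') ⊗ₜ[R] (d - n)) + e ((1 : R') ⊗ₜ[R] n) := by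
      rw [← map_add, ← TensorProduct.tmul_add, sub_add_cancel]
    rw [hsplit, map_add]
    refine Submodule.add_mem _ ?_ ?_
    · have : Λ (e ((1 : R') ⊗ₜ[R] (d - n))) = 0 := by
        change l (ρ (e ((1 : R') ⊗ₜ[R] (d - n)))) = 0
        rw [hρ, e.symm_apply_apply]
        have : π' ((1 : R') ⊗ₜ[R] (d - n)) = (1 : R') ⊗ₜ[R] π (d - n) := bc_tmul R' π 1 _
        rw [this, hj, TensorProduct.tmul_zero, TensorProduct.tmul_zero, map_zero]
      rw [this]
      exact Submodule.zero_mem _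
    · apply hc2
      intro m
      have h4 := tmul_mem_smul_top R' 𝔪 (1 : R') n hn
      have h5 := map_mem_smul_top eL _ _ h4
      exact hle (coeff_mem_of_mem_smul_top _ _ h5 m)
  -- Claim 4
  have hc4 : ∀ z : R' ⊗[R] A,
      Λ (e (z - algebraMap R' (R' ⊗[R] A) (Coalgebra.counit z))) ∈ W' := by
    intro z
    induction z using TensorProduct.induction_on with
    | zero => simp
    | tmul r x =>
      have h1 : r ⊗ₜ[R] x - algebraMap R' (R' ⊗[R] A) (Coalgebra.counit (r ⊗ₜ[R] x)) =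
          r • ((1 : R') ⊗ₜ[R] (x - algebraMap R A (Coalgebra.counit x))) := by
        rw [algebraMap_counit_tmul, ← TensorProduct.tmul_sub, TensorProduct.smul_tmul',
          smul_eq_mul, mul_one]
      rw [h1]
      have h2 : e (r • ((1 : R') ⊗ₜ[R] (x - algebraMap R A (Coalgebra.counit x)))) =
          r • e ((1 : R') ⊗ₜ[R] (x - algebraMap R A (Coalgebra.counit x))) := by
        rw [← heL, ← heL, map_smul]
      rw [h2, map_smul]
      exact Submodule.smul_mem _ _ (hc3 x)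
    | add a b ha hb =>
      have h1 : a + b - algebraMap R' (R' ⊗[R] A) (Coalgebra.counit (a + b)) =
          (a - algebraMap R' (R' ⊗[R] A) (Coalgebra.counit a)) +
            (b - algebraMap R' (R' ⊗[R] A) (Coalgebra.counit b)) := by
        rw [map_add, map_add]; ring
      rw [h1]
      have h2 : ∀ u v : R' ⊗[R] A, e (u + v) = e u + e v := fun u v => by
        rw [← heL, ← heL, ← heL, map_add]
      rw [h2, map_add]
      exact Submodule.add_mem _ ha hb
  -- Claim 5
  have hc5 : ∀ m, G m = 1 := by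
    intro m
    by_contra hne
    set y : MonoidAlgebra R' M := MonoidAlgebra.single m 1 - MonoidAlgebra.single 1 1 with hy
    have h1 : Coalgebra.counit (R := R') (e.symm y) = 0 := by
      have : Coalgebra.counit (R := R') (e.symm y) = Coalgebra.counit (R := R') y :=
        CoalgHomClass.counit_comp_apply (e.symm : MonoidAlgebra R' M →ₐc[R'] (R' ⊗[R] A)) y
      rw [this, hy, map_sub, MonoidAlgebra.counit_single, MonoidAlgebra.counit_single, sub_self]
    have h2 := hc4 (e.symm y)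
    rw [h1, map_zero, sub_zero, e.apply_symm_apply] at h2
    have h3 : Λ y = -1 := by
      rw [hy, map_sub, hΛ1, hΛ1, if_neg hne, hG1, if_pos rfl, zero_sub]
    rw [h3] at h2
    obtain ⟨n, hn, hn1⟩ := h2
    rw [Algebra.linearMap_apply] at hn1
    have h4 : n + 1 ∈ RingHom.ker (algebraMap R' L) := by
      rw [RingHom.mem_ker, map_add, hn1, map_one, neg_add_cancel]
    have h5 : (1 : R') ∈ 𝔫 := by
      have := 𝔫.sub_mem (hker h4) hn
      rwa [add_sub_cancel_left] at this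
    exact h𝔫 ((Ideal.eq_top_iff_one _).mpr h5)
  -- the point
  let θ' : Q →ₐ[R'] L :=
    Algebra.TensorProduct.lift (Algebra.ofId R' L) g (fun _ _ => Commute.all _ _)
  have hθ' : ∀ (r : R') (b : B), θ' (r ⊗ₜ[R] b) = algebraMap R' L r * g b := fun r b => by
    change Algebra.TensorProduct.lift (Algebra.ofId R' L) g _ (r ⊗ₜ[R] b) = _
    rw [Algebra.TensorProduct.lift_tmul]
    rfl
  let θQ : QL →ₐ[L] L :=
    Algebra.TensorProduct.lift (AlgHom.id L L) θ' (fun _ _ => Commute.all _ _)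
  have hθQ : ∀ z : Q, θQ ((1 : L) ⊗ₜ[R'] z) = θ' z := fun z => by
    change Algebra.TensorProduct.lift (AlgHom.id L L) θ' _ ((1 : L) ⊗ₜ[R'] z) = _
    rw [Algebra.TensorProduct.lift_tmul, AlgHom.id_apply, one_mul]
  have hθγ : ∀ m, θ' (γ m) = 1 := by
    intro m
    rw [← hθQ]
    have : (1 : L) ⊗ₜ[R'] γ m = 1 := hc5 m
    rw [this, map_one]
  let Θ : MonoidAlgebra R' M →ₗ[R'] L := θ'.toLinearMap ∘ₗ (π' : R' ⊗[R] A →ₗ[R'] Q) ∘ₗ eS
  have hΘ : Θ = (Algebra.linearMap R' L) ∘ₗ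
      (Coalgebra.counit : MonoidAlgebra R' M →ₗ[R'] R') := by
    apply MonoidAlgebra.lhom_ext'
    intro m
    apply LinearMap.ext_ring
    simp only [LinearMap.comp_apply, MonoidAlgebra.lsingle_apply]
    rw [MonoidAlgebra.counit_single]
    change θ' (γ m) = _
    rw [hθγ]
    simp
  intro x
  have h1 : g (π x) = Θ (e ((1 : R') ⊗ₜ[R] x)) := by
    change _ = θ' (π' (e.symm (e ((1 : R') ⊗ₜ[R] x))))
    rw [e.symm_apply_apply]
    have : π' ((1 : R') ⊗ₜ[R] x) = (1 : R') ⊗ₜ[R] π x := bc_tmul R' π 1 _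
    rw [this, hθ', map_one, one_mul]
  rw [h1, hΘ, LinearMap.comp_apply]
  have h2 : Coalgebra.counit (R := R') (e ((1 : R') ⊗ₜ[R] x)) =
      Coalgebra.counit (R := R') ((1 : R') ⊗ₜ[R] x) :=
    CoalgHomClass.counit_comp_apply (e : (R' ⊗[R] A) →ₐc[R'] MonoidAlgebra R' M) _
  rw [h2, TensorProduct.counit_tmul, Algebra.linearMap_apply]
  simp only [CommSemiring.counit_apply]
  rw [Algebra.smul_def, mul_one, ← IsScalarTower.algebraMap_apply]

end Fibre

end Groth.Agent.Lib.Helper66.MR6
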