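import Groth.Agent.Lib.Helper66.MR6

/-!
helper66: S5254 — assembling.
-/

set_option autoImplicit false
universe u
open TensorProduct Coalgebra WithConv
open Groth.Agent.Lib.Helper83.MultRigid

namespace Groth.Agent.Lib.Helper66.MR7

theorem main_const3 (R : Type u) [CommRing R] [IsLocalRing R]
    (A : Type u) [CommRing A] [HopfAlgebra R A] (hH : SGA3b.IsMultTypeConst R A)
    (B : Type u) [CommRing B] [Bialgebra R B] [Algebra.FinitePresentation R B]
    (π : A →ₐc[R] B) (hπ : Function.Surjective π)
    (hs : ∀ x : A, π x - algebraMap R B (Coalgebra.counit x) ∈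
      (IsLocalRing.maximalIdeal R) • (⊤ : Submodule R B)) :
    ∀ x : A, π x = algebraMap R B (Coalgebra.counit x) := by
  obtain ⟨R', _, _, hff, M, _, ⟨e⟩⟩ := hH
  let εB : B →ₐ[R] R := Bialgebra.counitAlgHom R B
  have hεB : ∀ b, εB b = Coalgebra.counit b := fun b => rfl
  have hεπ : ∀ x, εB (π x) = Coalgebra.counit x := fun x =>
    CoalgHomClass.counit_comp_apply π x
  have hεsurj : Function.Surjective εB := fun r => ⟨algebraMap R B r, by
    rw [AlgHom.commutes]; rfl⟩
  have hfg : (RingHom.ker εB).FG :=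
    Algebra.FinitePresentation.ker_fG_of_surjective εB hεsurj
  have hsB : ∀ b : B, b - algebraMap R B (εB b) ∈
      (IsLocalRing.maximalIdeal R) • (⊤ : Submodule R B) := by
    intro b
    obtain ⟨x, rfl⟩ := hπ b
    rw [hεπ]
    exact hs x
  have hP : ∀ P : Ideal B, P.IsPrime → RingHom.ker εB ≤ P := by
    intro P hPp b hb
    obtain ⟨L, _, f, g', hcompat, hkerg, 𝔫, h𝔫, hle, hkerf⟩ :=
      MR5.exists_field_point R R' B P
    letI : Algebra R' L := f.toAlgebra
    letI : Algebra R L := (f.comp (algebraMap R R')).toAlgebra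
    haveI : IsScalarTower R R' L := IsScalarTower.of_algebraMap_eq (fun _ => rfl)
    let g : B →ₐ[R] L := { g' with
      commutes' := fun r => by
        change g' (algebraMap R B r) = f (algebraMap R R' r)
        exact (RingHom.congr_fun hcompat r).symm }
    have key := MR6.point_eq_counit e π hπ (IsLocalRing.maximalIdeal R) hs L g 𝔫 h𝔫 hle hkerf
    obtain ⟨x, rfl⟩ := hπ b
    have h1 : g (π x) = 0 := by
      rw [key x, ← hεπ, (RingHom.mem_ker).mp hb, map_zero]
    rw [← hkerg, RingHom.mem_ker]
    exact h1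
  have hbot := MR5.ker_eq_bot_of_forall_prime R B εB hfg hsB hP
  intro x
  have h1 : π x - algebraMap R B (Coalgebra.counit x) ∈ RingHom.ker εB := by
    rw [RingHom.mem_ker]
    have : εB (π x - algebraMap R B (Coalgebra.counit x)) =
        εB (π x) - εB (algebraMap R B (Coalgebra.counit x)) := map_sub εB _ _
    rw [this, hεπ, AlgHom.commutes]
    simp
  rw [hbot, Ideal.mem_bot, sub_eq_zero] at h1
  exact h1

theorem bc_surjective {R : Type u} [CommRing R] (S : Type u) [CommRing S] [Algebra R S]
    {A B : Type u} [CommRing A] [Bialgebra R A] [CommRing B] [Bialgebra R B]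
    (π : A →ₐc[R] B) (hπ : Function.Surjective π) : Function.Surjective (bc S π) := by
  intro z
  induction z using TensorProduct.induction_on with
  | zero => exact ⟨0, map_zero _⟩
  | tmul s b =>
    obtain ⟨a, rfl⟩ := hπ b
    exact ⟨s ⊗ₜ a, bc_tmul S π s a⟩
  | add x y hx hy =>
    obtain ⟨x', rfl⟩ := hx
    obtain ⟨y', rfl⟩ := hy
    exact ⟨x' + y', map_add _ _ _⟩

theorem main3 (R : Type u) [CommRing R] [IsLocalRing R]
    (A : Type u) [CommRing A] [HopfAlgebra R A] (hH : SGA3b.IsMultType R A)
    (B : Type u) [CommRing B] [Bialgebra R B] [Algebra.FinitePresentation R B]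
    (π : A →ₐc[R] B) (hπ : Function.Surjective π)
    (hs : ∀ x : A, π x - algebraMap R B (Coalgebra.counit x) ∈
      (IsLocalRing.maximalIdeal R) • (⊤ : Submodule R B)) :
    ∀ x : A, π x = algebraMap R B (Coalgebra.counit x) := by
  obtain ⟨s, hspan, hf⟩ := hH
  obtain ⟨f, hfs, hfu⟩ : ∃ f ∈ s, IsUnit f := by
    by_contra hcon
    push Not at hcon
    have : Ideal.span s ≤ IsLocalRing.maximalIdeal R := by
      refine Ideal.span_le.mpr fun f hf' => ?_
      exact (IsLocalRing.mem_maximalIdeal f).mpr (hcon f hf')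
    rw [hspan] at this
    exact (IsLocalRing.maximalIdeal.isMaximal R).ne_top (top_le_iff.mp this)
  set Rf := Localization.Away f with hRf
  have hle : Submonoid.powers f ≤ IsUnit.submonoid R := by
    rintro _ ⟨n, rfl⟩
    exact hfu.pow n
  let e0 : R ≃ₐ[R] Rf := IsLocalization.atUnits R (Submonoid.powers f) hle
  haveI : IsLocalRing Rf := e0.toRingEquiv.isLocalRing
  haveI : Module.FaithfullyFlat R Rf :=
    Module.FaithfullyFlat.of_linearEquiv (R := R) (M := R) e0.symm.toLinearEquiv
  have hne := MR2.map_maximalIdeal_ne_top R Rf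
  have key := main_const3 Rf (Rf ⊗[R] A) (hf f hfs) (Rf ⊗[R] B) (bc Rf π)
    (bc_surjective Rf π hπ)
    (fun c' => Submodule.smul_mono_left (IsLocalRing.le_maximalIdeal hne)
      (bc_hyp Rf _ π hs c'))
  intro x
  have h1 := key ((1 : Rf) ⊗ₜ[R] x)
  rw [bc_tmul, algebraMap_counit_tmul] at h1
  exact Module.FaithfullyFlat.tensorProduct_mk_injective (A := R) (B := Rf) B h1

/-- S5254 -/
theorem result5254 (R : Type u) [CommRing R] [IsLocalRing R]
    (A : Type u) [CommRing A] [HopfAlgebra R A] (hH : SGA3b.IsMultType R A)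
    (J : Ideal A) [J.IsHopfIdeal R] (hK : Algebra.FinitePresentation R (A ⧸ J))
    (hs : J ⊔ Ideal.map (algebraMap R A) (IsLocalRing.maximalIdeal R) =
      RingHom.ker (Bialgebra.counitAlgHom R A) ⊔
        Ideal.map (algebraMap R A) (IsLocalRing.maximalIdeal R)) :
    J = RingHom.ker (Bialgebra.counitAlgHom R A) := by
  let π : A →ₐc[R] A ⧸ J := Bialgebra.Quotient.mkBialgHom J
  have hπ : Function.Surjective π := Ideal.Quotient.mk_surjective
  have hπL : ∀ x, ((π : A →ₐc[R] A ⧸ J) : A →ₗ[R] A ⧸ J) x = π x := fun x => rfl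
  have hs' : ∀ x : A, π x - algebraMap R (A ⧸ J) (Coalgebra.counit x) ∈
      (IsLocalRing.maximalIdeal R) • (⊤ : Submodule R (A ⧸ J)) := by
    intro x
    have h1 : x - algebraMap R A (Coalgebra.counit x) ∈
        RingHom.ker (Bialgebra.counitAlgHom R A) := by
      rw [RingHom.mem_ker]
      have : Bialgebra.counitAlgHom R A (x - algebraMap R A (Coalgebra.counit x)) =
          Bialgebra.counitAlgHom R A x -
            Bialgebra.counitAlgHom R A (algebraMap R A (Coalgebra.counit x)) := map_sub _ _ _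
      rw [this, AlgHom.commutes]
      simp
    have h2 : x - algebraMap R A (Coalgebra.counit x) ∈
        J ⊔ Ideal.map (algebraMap R A) (IsLocalRing.maximalIdeal R) := by
      rw [hs]
      exact Ideal.mem_sup_left h1
    obtain ⟨j, hj, n, hn, hjn⟩ := Submodule.mem_sup.mp h2
    have h3 : π x - algebraMap R (A ⧸ J) (Coalgebra.counit x) = π n := by
      have h4 : π (x - algebraMap R A (Coalgebra.counit x)) =
          π x - algebraMap R (A ⧸ J) (Coalgebra.counit x) := by
        rw [map_sub]
        congr 1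
      rw [← h4, ← hjn, map_add]
      have : π j = 0 := Ideal.Quotient.eq_zero_iff_mem.mpr hj
      rw [this, zero_add]
    rw [h3, ← hπL]
    apply map_mem_smul_top
    rw [Ideal.smul_top_eq_map]
    exact hn
  have key := main3 R A hH (A ⧸ J) π hπ hs'
  apply le_antisymm
  · intro x hx
    rw [RingHom.mem_ker]
    exact Submodule.IsCoideal.counit_eq_zero (I := J.restrictScalars R) hx
  · intro x hx
    have h1 := key x
    have h2' : Bialgebra.counitAlgHom R A x = 0 := (RingHom.mem_ker).mp hx
    have h2 : Coalgebra.counit (R := R) x = 0 := h2'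
    rw [h2, map_zero] at h1
    exact Ideal.Quotient.eq_zero_iff_mem.mp h1

end Groth.Agent.Lib.Helper66.MR7
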