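import Mathlib

/-!
helper66: S15088, part A: lying over lemma and the core contraction argument.
-/

set_option autoImplicit false
universe u v
open TensorProduct

namespace Groth.Agent.Lib.Helper66.MovA

theorem sup_eq_top_of_map_eq_top {A S : Type*} [CommRing A] [CommRing S] [Algebra A S]
    [Algebra.IsIntegral A S] (P : Ideal A) (h : Ideal.map (algebraMap A S) P = ⊤) :
    RingHom.ker (algebraMap A S) ⊔ P = ⊤ := by
  by_contra hne
  obtain ⟨𝔫, h𝔫, hle⟩ := Ideal.exists_le_maximal _ hne
  haveI := h𝔫.isPrime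
  obtain ⟨Q, -, hQ, hQ'⟩ := Ideal.exists_ideal_over_prime_of_isIntegral 𝔫 (⊥ : Ideal S)
    (by
      rw [← RingHom.ker_eq_comap_bot]
      exact le_sup_left.trans hle)
  have h1 : Ideal.map (algebraMap A S) P ≤ Q := by
    rw [Ideal.map_le_iff_le_comap, hQ']
    exact le_sup_right.trans hle
  rw [h] at h1
  exact hQ.ne_top (top_le_iff.mp h1)

end Groth.Agent.Lib.Helper66.MovA
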