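import Groth.Agent.Lib.Helper66.MovA

/-!
helper66: S15088, part B: the core contraction argument for one `P`, one `K`, one `g`.
-/

set_option autoImplicit false
set_option maxHeartbeats 400000
universe u v
open TensorProduct

namespace Groth.Agent.Lib.Helper66.MovB

open Groth.Agent.Lib.Helper66.MovA

variable {k : Type u} [Field k] {r d : ℕ}

/-- the finite `k`-algebra used for one closed point -/
abbrev WP (P : Ideal (MvPolynomial (Fin r) k)) (p : Polynomial k) : Type u :=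
  (MvPolynomial (Fin r) k ⧸ P) ⊗[k] AdjoinRoot p

/-- general: a ring hom out of `W[g]` commutes with `aeval` from `k[g]` -/
theorem ringHom_aeval {W : Type*} [CommRing W] [Algebra k W] {T : Type*} [CommRing T] [Algebra k T]
    (Ψ : MvPolynomial (Fin r) W →+* T)
    (hΨ : ∀ a : k, Ψ (MvPolynomial.C (algebraMap k W a)) = algebraMap k T a)
    (w : Fin r → MvPolynomial (Fin r) W) (q : MvPolynomial (Fin r) k) :
    Ψ (MvPolynomial.aeval w q) = MvPolynomial.aeval (fun i => Ψ (w i)) q := by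
  induction q using MvPolynomial.induction_on with
  | C a =>
    rw [MvPolynomial.aeval_C, MvPolynomial.aeval_C, MvPolynomial.algebraMap_apply, hΨ]
  | add x y hx hy => rw [map_add, map_add, map_add, hx, hy]
  | mul_X x i hx => rw [map_mul, map_mul, map_mul, hx, MvPolynomial.aeval_X, MvPolynomial.aeval_X]


theorem abs_eval {W T : Type*} [CommRing W] [Algebra k W] [CommRing T] [Algebra k T]
    (ψ : W →ₐ[k] T) (x y : Fin r → T) (t : T) (ξ : Fin r → W) (c : W)
    (hξ : ∀ i, ψ (ξ i) = x i) (hc : ψ c = t)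
    (f h : MvPolynomial (Fin r) k) (G : MvPolynomial (Fin r) W)
    (hG : MvPolynomial.aeval (fun i => MvPolynomial.C (ξ i) + MvPolynomial.C c * MvPolynomial.X i) f * G =
      MvPolynomial.map (algebraMap k W) h)
    (hF : MvPolynomial.aeval (fun i => x i + t * y i) f = 0) :
    MvPolynomial.aeval y h = 0 := by
  let Ψ : MvPolynomial (Fin r) W →+* T := MvPolynomial.eval₂Hom ψ.toRingHom y
  have hΨC : ∀ w, Ψ (MvPolynomial.C w) = ψ w := fun w => MvPolynomial.eval₂Hom_C _ _ _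
  have hΨX : ∀ i, Ψ (MvPolynomial.X i) = y i := fun i => MvPolynomial.eval₂Hom_X' _ _ _
  have hΨk : ∀ a : k, Ψ (MvPolynomial.C (algebraMap k W a)) = algebraMap k T a := fun a => by
    rw [hΨC, AlgHom.commutes]
  have h1 := ringHom_aeval Ψ hΨk
    (fun i => MvPolynomial.C (ξ i) + MvPolynomial.C c * MvPolynomial.X i) f
  have h2 : (fun i => Ψ (MvPolynomial.C (ξ i) + MvPolynomial.C c * MvPolynomial.X i)) =
      fun i => x i + t * y i := by
    funext i
    rw [map_add, map_mul, hΨC, hΨC, hΨX, hξ, hc]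
  have h3 : Ψ (MvPolynomial.map (algebraMap k W) h) = MvPolynomial.aeval y h := by
    change MvPolynomial.eval₂ _ _ (MvPolynomial.map (algebraMap k W) h) = _
    rw [MvPolynomial.eval₂_map, MvPolynomial.aeval_def]
    congr 1
    ext a
    exact AlgHom.commutes ψ a
  have h4 := congrArg Ψ hG
  rw [map_mul, h1, h2, hF, zero_mul, h3] at h4
  exact h4.symm


section Core

variable (N : ℕ) (I : Ideal (MvPolynomial (Fin r ⊕ (Unit ⊕ Fin d)) k))
  (f : MvPolynomial (Fin r) k)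
  (p : Polynomial k)
  (P : Ideal (MvPolynomial (Fin r) k))
  (K : Type v) [Field K] [Algebra k K] (g : Fin r → K)

/-- the translation map of the statement -/
noncomputable abbrev Phi : MvPolynomial (Fin r ⊕ (Unit ⊕ Fin d)) k →ₐ[k]
    MvPolynomial (Fin r ⊕ (Unit ⊕ Fin d)) K :=
  MvPolynomial.aeval
    (Sum.elim (fun i : Fin r => MvPolynomial.X (Sum.inl i) +
        MvPolynomial.X (Sum.inr (Sum.inl ())) ^ N * MvPolynomial.C (g i))
      (fun j : Unit ⊕ Fin d => MvPolynomial.X (Sum.inr j)))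

/-- the element `F₀` -/
noncomputable abbrev F0 : MvPolynomial (Fin r) K ⊗[k] AdjoinRoot p :=
  MvPolynomial.aeval (fun i => (MvPolynomial.X i : MvPolynomial (Fin r) K) ⊗ₜ[k] (1 : AdjoinRoot p) +
    (MvPolynomial.C (g i) : MvPolynomial (Fin r) K) ⊗ₜ[k] (AdjoinRoot.root p ^ N)) f

/-- the ideal generated by `F₀` -/
noncomputable abbrev J0 : Ideal (MvPolynomial (Fin r) K ⊗[k] AdjoinRoot p) :=
  Ideal.span {F0 N f p K g}

/-- Part 1: the kernel is contained in the contraction. -/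
theorem ker_le (hfI : MvPolynomial.rename Sum.inl f ∈ I)
    (hpI : Polynomial.aeval
      (MvPolynomial.X (Sum.inr (Sum.inl ())) : MvPolynomial (Fin r ⊕ (Unit ⊕ Fin d)) k) p ∈ I) :
    RingHom.ker (algebraMap (MvPolynomial (Fin r) K)
      ((MvPolynomial (Fin r) K ⊗[k] AdjoinRoot p) ⧸ J0 N f p K g)) ≤
    Ideal.comap (MvPolynomial.rename Sum.inl :
        MvPolynomial (Fin r) K →ₐ[K] MvPolynomial (Fin r ⊕ (Unit ⊕ Fin d)) K)
      (Ideal.map (Phi (d := d) N K g) I) := by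
  set JZ := Ideal.map (Phi (d := d) N K g) I with hJZ
  let mkZ : MvPolynomial (Fin r ⊕ (Unit ⊕ Fin d)) K →ₐ[k] (MvPolynomial (Fin r ⊕ (Unit ⊕ Fin d)) K ⧸ JZ) := Ideal.Quotient.mkₐ k JZ
  have hmk0 : ∀ y ∈ I, mkZ (Phi (d := d) N K g y) = 0 := fun y hy =>
    Ideal.Quotient.eq_zero_iff_mem.mpr (Ideal.mem_map_of_mem _ hy)
  let α : MvPolynomial (Fin r) K →ₐ[k] (MvPolynomial (Fin r ⊕ (Unit ⊕ Fin d)) K ⧸ JZ) :=
    mkZ.comp ((MvPolynomial.rename Sum.inl :
      MvPolynomial (Fin r) K →ₐ[K] MvPolynomial (Fin r ⊕ (Unit ⊕ Fin d)) K).restrictScalars k)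
  have hα : ∀ a, α a = mkZ (MvPolynomial.rename Sum.inl a) := fun a => rfl
  have hPhiX : Phi (d := d) N K g
      (MvPolynomial.X (Sum.inr (Sum.inl ())) : MvPolynomial (Fin r ⊕ (Unit ⊕ Fin d)) k) =
      (MvPolynomial.X (Sum.inr (Sum.inl ())) : MvPolynomial (Fin r ⊕ (Unit ⊕ Fin d)) K) := by
    rw [MvPolynomial.aeval_X]; rfl
  have hβ0 : Polynomial.aeval (mkZ
      (MvPolynomial.X (Sum.inr (Sum.inl ())) : MvPolynomial (Fin r ⊕ (Unit ⊕ Fin d)) K)) p = 0 := by
    rw [← hPhiX, Polynomial.aeval_algHom_apply, Polynomial.aeval_algHom_apply]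
    exact hmk0 _ hpI
  let β : AdjoinRoot p →ₐ[k] (MvPolynomial (Fin r ⊕ (Unit ⊕ Fin d)) K ⧸ JZ) :=
    AdjoinRoot.liftAlgHom p (Algebra.ofId k (MvPolynomial (Fin r ⊕ (Unit ⊕ Fin d)) K ⧸ JZ)) (mkZ (MvPolynomial.X (Sum.inr (Sum.inl ())))) hβ0
  have hβ : β (AdjoinRoot.root p) = mkZ (MvPolynomial.X (Sum.inr (Sum.inl ()))) :=
    AdjoinRoot.liftAlgHom_root _ _ _ _
  let ι : MvPolynomial (Fin r) K ⊗[k] AdjoinRoot p →ₐ[k] (MvPolynomial (Fin r ⊕ (Unit ⊕ Fin d)) K ⧸ JZ) :=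
    Algebra.TensorProduct.lift α β (fun _ _ => Commute.all _ _)
  have hι : ∀ a b, ι (a ⊗ₜ[k] b) = α a * β b := fun a b =>
    Algebra.TensorProduct.lift_tmul _ _ _ _ _
  have hιF : ι (F0 N f p K g) = 0 := by
    have h1 : ι (F0 N f p K g) = MvPolynomial.aeval (fun i =>
        ι ((MvPolynomial.X i : MvPolynomial (Fin r) K) ⊗ₜ[k] (1 : AdjoinRoot p) +
          (MvPolynomial.C (g i) : MvPolynomial (Fin r) K) ⊗ₜ[k] (AdjoinRoot.root p ^ N))) f :=
      DFunLike.congr_fun (MvPolynomial.comp_aeval _ ι) f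
    have h2 : mkZ (Phi (d := d) N K g (MvPolynomial.rename Sum.inl f)) =
        MvPolynomial.aeval (fun i => mkZ (MvPolynomial.X (Sum.inl i) +
          MvPolynomial.X (Sum.inr (Sum.inl ())) ^ N * MvPolynomial.C (g i))) f := by
      rw [MvPolynomial.aeval_rename]
      exact DFunLike.congr_fun (MvPolynomial.comp_aeval _ mkZ) f
    rw [h1, ← hmk0 _ hfI, h2]
    refine congrArg (fun v => MvPolynomial.aeval v f) (funext fun i => ?_)
    rw [map_add, hι, hι, map_one, mul_one, hα, hα, MvPolynomial.rename_X, MvPolynomial.rename_C,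
      map_pow, hβ, map_add, map_mul, map_pow]
    ring
  intro a ha
  rw [RingHom.mem_ker] at ha
  rw [Ideal.mem_comap]
  have h1 : (a ⊗ₜ[k] (1 : AdjoinRoot p)) ∈ Ideal.span {F0 N f p K g} := by
    rw [← Ideal.Quotient.eq_zero_iff_mem]
    exact ha
  have h2 : Ideal.span {F0 N f p K g} ≤ RingHom.ker ι.toRingHom := by
    rw [Ideal.span_le]
    intro x hx
    rw [Set.mem_singleton_iff] at hx
    rw [hx]
    exact hιF
  have h3 : ι (a ⊗ₜ[k] (1 : AdjoinRoot p)) = 0 := h2 h1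
  rw [hι, map_one, mul_one, hα] at h3
  exact Ideal.Quotient.eq_zero_iff_mem.mp h3


/-- Part 2, abstract form. -/
theorem subsingleton_target
    (h : MvPolynomial (Fin r) k) (G : MvPolynomial (Fin r) (WP P p))
    (hG : MvPolynomial.aeval (fun i =>
        MvPolynomial.C ((Ideal.Quotient.mk P (MvPolynomial.X i)) ⊗ₜ[k] (1 : AdjoinRoot p)) +
        MvPolynomial.C ((1 : MvPolynomial (Fin r) k ⧸ P) ⊗ₜ[k] (AdjoinRoot.root p ^ N)) *
          MvPolynomial.X i) f * G = MvPolynomial.map (algebraMap k (WP P p)) h)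
    (hg : MvPolynomial.aeval g h ≠ 0)
    (T : Type*) [CommRing T] [Algebra k T]
    (π : MvPolynomial (Fin r) K ⊗[k] AdjoinRoot p →ₐ[k] T)
    (hπF : π (F0 N f p K g) = 0)
    (hπP : ∀ a ∈ Ideal.map (MvPolynomial.map (algebraMap k K)) P,
      π (a ⊗ₜ[k] (1 : AdjoinRoot p)) = 0) : Subsingleton T := by
  let sA : MvPolynomial (Fin r) K →ₐ[k]
      T :=
    π.comp (Algebra.TensorProduct.includeLeft :
      MvPolynomial (Fin r) K →ₐ[k] MvPolynomial (Fin r) K ⊗[k] AdjoinRoot p)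
  have hsA : ∀ a, sA a = π (a ⊗ₜ[k] (1 : AdjoinRoot p)) := fun a => rfl
  have hsA0 : ∀ a ∈ Ideal.map (MvPolynomial.map (algebraMap k K)) P, sA a = 0 := fun a ha => hπP a ha
  let γ : MvPolynomial (Fin r) k →ₐ[k]
      T :=
    sA.comp (MvPolynomial.mapAlgHom (Algebra.ofId k K))
  have hγ : ∀ a, γ a = sA (MvPolynomial.map (algebraMap k K) a) := fun a => rfl
  have hγ0 : ∀ a ∈ P, γ a = 0 := fun a ha => by
    rw [hγ]
    exact hsA0 _ (Ideal.mem_map_of_mem _ ha)
  let γbar : (MvPolynomial (Fin r) k ⧸ P) →ₐ[k]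
      T :=
    Ideal.Quotient.liftₐ P γ hγ0
  have hγbar : ∀ a, γbar (Ideal.Quotient.mk P a) = γ a := fun a => rfl
  let δ : AdjoinRoot p →ₐ[k]
      T :=
    π.comp (Algebra.TensorProduct.includeRight :
      AdjoinRoot p →ₐ[k] MvPolynomial (Fin r) K ⊗[k] AdjoinRoot p)
  have hδ : ∀ b, δ b = π ((1 : MvPolynomial (Fin r) K) ⊗ₜ[k] b) := fun b => rfl
  let ψ : WP P p →ₐ[k] T :=
    Algebra.TensorProduct.lift γbar δ (fun x y => mul_comm (γbar x) (δ y))
  have hψ : ∀ a b, ψ (a ⊗ₜ[k] b) = γbar a * δ b := fun a b =>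
    Algebra.TensorProduct.lift_tmul _ _ _ _ _
  have hξ : ∀ i, ψ ((Ideal.Quotient.mk P (MvPolynomial.X i)) ⊗ₜ[k] (1 : AdjoinRoot p)) =
      sA (MvPolynomial.X i) := fun i => by
    rw [hψ, map_one, mul_one, hγbar, hγ, MvPolynomial.map_X]
  have hc : ψ ((1 : MvPolynomial (Fin r) k ⧸ P) ⊗ₜ[k] (AdjoinRoot.root p ^ N)) =
      δ (AdjoinRoot.root p ^ N) := by
    rw [hψ, map_one, one_mul]
  have hF : MvPolynomial.aeval (fun i => sA (MvPolynomial.X i) +
      δ (AdjoinRoot.root p ^ N) * sA (MvPolynomial.C (g i))) f = 0 := by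
    rw [← hπF]
    have h1 : π (F0 N f p K g) = MvPolynomial.aeval (fun i =>
        π ((MvPolynomial.X i : MvPolynomial (Fin r) K) ⊗ₜ[k] (1 : AdjoinRoot p) +
          (MvPolynomial.C (g i) : MvPolynomial (Fin r) K) ⊗ₜ[k] (AdjoinRoot.root p ^ N))) f :=
      DFunLike.congr_fun (MvPolynomial.comp_aeval _ π) f
    rw [h1]
    refine congrArg (fun v => MvPolynomial.aeval v f) (funext fun i => ?_)
    have h2 : (MvPolynomial.C (g i) : MvPolynomial (Fin r) K) ⊗ₜ[k] (AdjoinRoot.root p ^ N) =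
        ((1 : MvPolynomial (Fin r) K) ⊗ₜ[k] (AdjoinRoot.root p ^ N)) *
          ((MvPolynomial.C (g i) : MvPolynomial (Fin r) K) ⊗ₜ[k] (1 : AdjoinRoot p)) := by
      rw [Algebra.TensorProduct.tmul_mul_tmul, one_mul, mul_one]
    rw [map_add, h2, map_mul, hsA, hsA, hδ]
  have h0' := abs_eval ψ (fun i => sA (MvPolynomial.X i)) (fun i => sA (MvPolynomial.C (g i)))
    (δ (AdjoinRoot.root p ^ N))
    (fun i => (Ideal.Quotient.mk P (MvPolynomial.X i)) ⊗ₜ[k] (1 : AdjoinRoot p))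
    ((1 : MvPolynomial (Fin r) k ⧸ P) ⊗ₜ[k] (AdjoinRoot.root p ^ N)) hξ hc f h G hG hF
  have h0 : sA (MvPolynomial.C (MvPolynomial.aeval g h)) = 0 := by
    rw [← h0']
    exact DFunLike.congr_fun (MvPolynomial.comp_aeval g
      (sA.comp (IsScalarTower.toAlgHom k K (MvPolynomial (Fin r) K)))) h
  have h1 : (1 : T) = 0 := by
    have h2 : sA (MvPolynomial.C (MvPolynomial.aeval g h) *
        MvPolynomial.C (MvPolynomial.aeval g h)⁻¹) = 1 := by
      rw [← map_mul, mul_inv_cancel₀ hg, map_one, map_one]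
    rw [← h2, map_mul, h0, zero_mul]
  exact subsingleton_of_zero_eq_one h1.symm

/-- Part 2: the extension of `P` is the unit ideal. -/
theorem map_eq_top
    (h : MvPolynomial (Fin r) k) (G : MvPolynomial (Fin r) (WP P p))
    (hG : MvPolynomial.aeval (fun i =>
        MvPolynomial.C ((Ideal.Quotient.mk P (MvPolynomial.X i)) ⊗ₜ[k] (1 : AdjoinRoot p)) +
        MvPolynomial.C ((1 : MvPolynomial (Fin r) k ⧸ P) ⊗ₜ[k] (AdjoinRoot.root p ^ N)) *
          MvPolynomial.X i) f * G = MvPolynomial.map (algebraMap k (WP P p)) h)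
    (hg : MvPolynomial.aeval g h ≠ 0) :
    Ideal.map (algebraMap (MvPolynomial (Fin r) K)
      ((MvPolynomial (Fin r) K ⊗[k] AdjoinRoot p) ⧸ J0 N f p K g) :
        MvPolynomial (Fin r) K →+* ((MvPolynomial (Fin r) K ⊗[k] AdjoinRoot p) ⧸ J0 N f p K g))
      (Ideal.map (MvPolynomial.map (algebraMap k K)) P) = ⊤ := by
  suffices hJS : J0 N f p K g ⊔ Ideal.map (algebraMap (MvPolynomial (Fin r) K)
      (MvPolynomial (Fin r) K ⊗[k] AdjoinRoot p))
        (Ideal.map (MvPolynomial.map (algebraMap k K)) P) = ⊤ by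
    have h1 : Ideal.map (Ideal.Quotient.mk (J0 N f p K g)) (J0 N f p K g ⊔
        Ideal.map (algebraMap (MvPolynomial (Fin r) K)
          (MvPolynomial (Fin r) K ⊗[k] AdjoinRoot p))
        (Ideal.map (MvPolynomial.map (algebraMap k K)) P)) = ⊤ := by
      rw [hJS, Ideal.map_top]
    rw [Ideal.map_sup, Ideal.map_quotient_self, bot_sup_eq, Ideal.map_map] at h1
    exact h1
  rw [← Ideal.Quotient.subsingleton_iff]
  refine subsingleton_target N f p P K g h G hG hg _ (Ideal.Quotient.mkₐ k _) ?_ ?_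
  · exact Ideal.Quotient.eq_zero_iff_mem.mpr
      (Ideal.mem_sup_left (Ideal.subset_span (Set.mem_singleton _)))
  · intro a ha
    exact Ideal.Quotient.eq_zero_iff_mem.mpr (Ideal.mem_sup_right (Ideal.mem_map_of_mem _ ha))

end Core

end Groth.Agent.Lib.Helper66.MovB
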