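import Groth.Agent.Lib.Helper66.MovB
import Groth.Agent.Lib.Helper51.MovH

/-!
helper66: S15088, part C: extraction of the data and assembly.
-/

set_option autoImplicit false
set_option maxHeartbeats 1000000
universe u v
open TensorProduct

namespace Groth.Agent.Lib.Helper66.MovC

open Groth.Agent.Lib.Helper66.MovA Groth.Agent.Lib.Helper66.MovB

variable {k : Type u} [Field k] {r d : ℕ}

theorem isUnit_root (p : Polynomial k) (hp0 : p.coeff 0 ≠ 0) : IsUnit (AdjoinRoot.root p) := by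
  have h1 : Polynomial.aeval (AdjoinRoot.root p) p = 0 := by
    rw [AdjoinRoot.aeval_eq, AdjoinRoot.mk_self]
  have h1' : Polynomial.aeval (AdjoinRoot.root p)
      (p.divX * Polynomial.X + Polynomial.C (p.coeff 0)) = 0 := by
    rw [Polynomial.divX_mul_X_add]; exact h1
  rw [map_add, map_mul, Polynomial.aeval_X, Polynomial.aeval_C] at h1'
  refine isUnit_iff_exists_inv.mpr
    ⟨-(algebraMap k (AdjoinRoot p) (p.coeff 0)⁻¹) * Polynomial.aeval (AdjoinRoot.root p) p.divX, ?_⟩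
  have h3 : Polynomial.aeval (AdjoinRoot.root p) p.divX * AdjoinRoot.root p =
      -(algebraMap k (AdjoinRoot p) (p.coeff 0)) := eq_neg_of_add_eq_zero_left h1'
  have h4 : algebraMap k (AdjoinRoot p) (p.coeff 0)⁻¹ * algebraMap k (AdjoinRoot p) (p.coeff 0) = 1 := by
    rw [← map_mul, inv_mul_cancel₀ hp0, map_one]
  calc AdjoinRoot.root p * (-(algebraMap k (AdjoinRoot p) (p.coeff 0)⁻¹) *
        Polynomial.aeval (AdjoinRoot.root p) p.divX)
      = -(algebraMap k (AdjoinRoot p) (p.coeff 0)⁻¹) *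
        (Polynomial.aeval (AdjoinRoot.root p) p.divX * AdjoinRoot.root p) := by ring
    _ = 1 := by rw [h3, neg_mul_neg, h4]

/-- the one-variable polynomial attached to an element of `k[Unit]` -/
theorem aeval_pUnit (q : MvPolynomial Unit k) :
    Polynomial.aeval
      (MvPolynomial.X (Sum.inr (Sum.inl ())) : MvPolynomial (Fin r ⊕ (Unit ⊕ Fin d)) k)
      (MvPolynomial.uniqueAlgEquiv k Unit q) =
    MvPolynomial.rename (fun _ : Unit => (Sum.inr (Sum.inl ()) : Fin r ⊕ (Unit ⊕ Fin d))) q := by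
  have h : ((Polynomial.aeval
      (MvPolynomial.X (Sum.inr (Sum.inl ())) : MvPolynomial (Fin r ⊕ (Unit ⊕ Fin d)) k)).comp
      (MvPolynomial.uniqueAlgEquiv k Unit).toAlgHom) =
      (MvPolynomial.rename (fun _ : Unit => (Sum.inr (Sum.inl ()) : Fin r ⊕ (Unit ⊕ Fin d))) :
        MvPolynomial Unit k →ₐ[k] _) := by
    apply MvPolynomial.algHom_ext
    intro i
    simp
  exact DFunLike.congr_fun h q


theorem main (N : ℕ)
    (I : Ideal (MvPolynomial (Fin r ⊕ (Unit ⊕ Fin d)) k)) (hI : I.IsPrime)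
    (ht0 : I ⊔ Ideal.span {MvPolynomial.X (Sum.inr (Sum.inl ()))} = ⊤)
    (hx : Ideal.comap (MvPolynomial.rename (Sum.inl : Fin r → Fin r ⊕ (Unit ⊕ Fin d)) :
        MvPolynomial (Fin r) k →ₐ[k] MvPolynomial (Fin r ⊕ (Unit ⊕ Fin d)) k) I ≠ ⊥)
    (ht : Ideal.comap (MvPolynomial.rename
        (fun _ : Unit => (Sum.inr (Sum.inl ()) : Fin r ⊕ (Unit ⊕ Fin d))) :
        MvPolynomial Unit k →ₐ[k] MvPolynomial (Fin r ⊕ (Unit ⊕ Fin d)) k) I ≠ ⊥)
    (Sigma : Finset (Ideal (MvPolynomial (Fin r) k))) (hSigma : ∀ P ∈ Sigma, P.IsMaximal) :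
    ∃ h : MvPolynomial (Fin r) k, h ≠ 0 ∧
      ∀ (K : Type v) [Field K] [Algebra k K] (g : Fin r → K), MvPolynomial.aeval g h ≠ 0 →
        ∀ P ∈ Sigma,
          Ideal.comap (MvPolynomial.rename (Sum.inl : Fin r → Fin r ⊕ (Unit ⊕ Fin d)) :
              MvPolynomial (Fin r) K →ₐ[K] MvPolynomial (Fin r ⊕ (Unit ⊕ Fin d)) K)
            (Ideal.map (Phi (d := d) N K g) I) ⊔
            Ideal.map (MvPolynomial.map (algebraMap k K) :
              MvPolynomial (Fin r) k →+* MvPolynomial (Fin r) K) P = ⊤ := by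
  classical
  obtain ⟨f, hfmem, hf0⟩ := Submodule.exists_mem_ne_zero_of_ne_bot hx
  have hfI : MvPolynomial.rename Sum.inl f ∈ I := hfmem
  obtain ⟨q, hqmem, hq0⟩ := Submodule.exists_mem_ne_zero_of_ne_bot ht
  have hqI : MvPolynomial.rename
      (fun _ : Unit => (Sum.inr (Sum.inl ()) : Fin r ⊕ (Unit ⊕ Fin d))) q ∈ I := hqmem
  set p' := MvPolynomial.uniqueAlgEquiv k Unit q with hp'
  have hp'0 : p' ≠ 0 := (map_ne_zero_iff _ (AlgEquiv.injective _)).mpr hq0
  have hp'I : Polynomial.aeval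
      (MvPolynomial.X (Sum.inr (Sum.inl ())) : MvPolynomial (Fin r ⊕ (Unit ⊕ Fin d)) k) p' ∈ I := by
    rw [hp', aeval_pUnit]; exact hqI
  obtain ⟨p, hpeq, hndvd⟩ := Polynomial.exists_eq_pow_rootMultiplicity_mul_and_not_dvd p' hp'0 0
  rw [Polynomial.C_0, sub_zero] at hpeq hndvd
  have hp0 : p.coeff 0 ≠ 0 := fun h => hndvd (Polynomial.X_dvd_iff.mpr h)
  have hpne : p ≠ 0 := fun h => hp0 (by rw [h, Polynomial.coeff_zero])
  have hXnot : (MvPolynomial.X (Sum.inr (Sum.inl ())) :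
      MvPolynomial (Fin r ⊕ (Unit ⊕ Fin d)) k) ∉ I := by
    intro hX
    have h1 : I ⊔ Ideal.span {(MvPolynomial.X (Sum.inr (Sum.inl ())) :
        MvPolynomial (Fin r ⊕ (Unit ⊕ Fin d)) k)} = I :=
      sup_eq_left.mpr ((Ideal.span_singleton_le_iff_mem _).mpr hX)
    rw [h1] at ht0
    exact hI.ne_top ht0
  have hpI : Polynomial.aeval
      (MvPolynomial.X (Sum.inr (Sum.inl ())) : MvPolynomial (Fin r ⊕ (Unit ⊕ Fin d)) k) p ∈ I := by
    rw [hpeq, map_mul, map_pow, Polynomial.aeval_X] at hp'I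
    rcases hI.mem_or_mem hp'I with h1 | h1
    · exact absurd (hI.mem_of_pow_mem _ h1) hXnot
    · exact h1
  haveI hfinT : Module.Finite k (AdjoinRoot p) := (AdjoinRoot.powerBasis hpne).finite
  -- the polynomials for each point
  have key : ∀ P ∈ Sigma, ∃ (h : MvPolynomial (Fin r) k) (G : MvPolynomial (Fin r) (WP P p)),
      h ≠ 0 ∧ MvPolynomial.aeval (fun i =>
        MvPolynomial.C ((Ideal.Quotient.mk P (MvPolynomial.X i)) ⊗ₜ[k] (1 : AdjoinRoot p)) +
        MvPolynomial.C ((1 : MvPolynomial (Fin r) k ⧸ P) ⊗ₜ[k] (AdjoinRoot.root p ^ N)) *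
          MvPolynomial.X i) f * G = MvPolynomial.map (algebraMap k (WP P p)) h := by
    intro P hP
    haveI := hSigma P hP
    letI : Field (MvPolynomial (Fin r) k ⧸ P) := Ideal.Quotient.field P
    haveI : Module.Finite k (MvPolynomial (Fin r) k ⧸ P) :=
      finite_of_finite_type_of_isJacobsonRing k (MvPolynomial (Fin r) k ⧸ P)
    haveI : Module.Finite k (WP P p) := Module.Finite.tensorProduct k _ _
    have hc : IsUnit ((1 : MvPolynomial (Fin r) k ⧸ P) ⊗ₜ[k] (AdjoinRoot.root p ^ N)) :=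
      ((isUnit_root p hp0).pow N).map (Algebra.TensorProduct.includeRight :
        AdjoinRoot p →ₐ[k] (MvPolynomial (Fin r) k ⧸ P) ⊗[k] AdjoinRoot p)
    exact Groth.Agent.Lib.Helper51.MovH.exists_mul_eq_map (WP P p)
      (fun i => (Ideal.Quotient.mk P (MvPolynomial.X i)) ⊗ₜ[k] (1 : AdjoinRoot p)) _ hc f hf0
  choose hP GP hPne hPG using key
  refine ⟨∏ P ∈ Sigma.attach, hP P.1 P.2, ?_, ?_⟩
  · exact Finset.prod_ne_zero_iff.mpr fun P _ => hPne P.1 P.2
  · intro K _ _ g hg P hPmem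
    rw [map_prod] at hg
    have hgP : MvPolynomial.aeval g (hP P hPmem) ≠ 0 :=
      Finset.prod_ne_zero_iff.mp hg ⟨P, hPmem⟩ (Finset.mem_attach _ _)
    haveI : Algebra.IsIntegral k (AdjoinRoot p) := Algebra.IsIntegral.of_finite k _
    haveI : Algebra.IsIntegral (MvPolynomial (Fin r) K)
        (MvPolynomial (Fin r) K ⊗[k] AdjoinRoot p) := inferInstance
    haveI : Algebra.IsIntegral (MvPolynomial (Fin r) K)
        ((MvPolynomial (Fin r) K ⊗[k] AdjoinRoot p) ⧸ J0 N f p K g) :=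
      Algebra.IsIntegral.of_surjective (Ideal.Quotient.mkₐ (MvPolynomial (Fin r) K) (J0 N f p K g))
        Ideal.Quotient.mk_surjective
    have h1 := sup_eq_top_of_map_eq_top
      (S := (MvPolynomial (Fin r) K ⊗[k] AdjoinRoot p) ⧸ J0 N f p K g)
      (Ideal.map (MvPolynomial.map (algebraMap k K) :
              MvPolynomial (Fin r) k →+* MvPolynomial (Fin r) K) P)
      (map_eq_top N f p P K g (hP P hPmem) (GP P hPmem) (hPG P hPmem) hgP)
    exact eq_top_iff.mpr (h1.ge.trans (sup_le_sup_right (ker_le N I f p K g hfI hpI) _))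

end Groth.Agent.Lib.Helper66.MovC
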