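import Groth.Agent.Lib.Helper71.MovDK
import Groth.Agent.Lib.Helper86.MovDT

/-!
helper66: S15087: assembly.
-/

set_option autoImplicit false
set_option maxHeartbeats 1000000
universe u v w
open TensorProduct

namespace Groth.Agent.Lib.Helper66.MovD

variable {k : Type u} [Field k] {r d : ℕ}

/-- the ideal of the intersection with a face -/
noncomputable abbrev faceI (I : Ideal (MvPolynomial (Fin r ⊕ (Unit ⊕ Fin d)) k)) (S : Finset (Fin d)) (ε : Fin d → k) :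
    Ideal (MvPolynomial (Fin r ⊕ (Unit ⊕ Fin d)) k) :=
  I ⊔ Ideal.span ((fun i => MvPolynomial.X (Sum.inr (Sum.inr i)) - MvPolynomial.C (ε i)) ''
    (S : Set (Fin d)))

/-- the ring of the incidence -/
abbrev RR (I : Ideal (MvPolynomial (Fin r ⊕ (Unit ⊕ Fin d)) k)) (S : Finset (Fin d)) (ε : Fin d → k)
    (P : Ideal (MvPolynomial (Fin r) k)) : Type u :=
  (MvPolynomial (Fin r ⊕ (Unit ⊕ Fin d)) k ⧸ faceI I S ε) ⊗[k] (MvPolynomial (Fin r) k ⧸ P)

/-- the map `g ↦ (x - ξ) / t^N` -/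
noncomputable def phi (N : ℕ) (I : Ideal (MvPolynomial (Fin r ⊕ (Unit ⊕ Fin d)) k))
    (b : MvPolynomial (Fin r ⊕ (Unit ⊕ Fin d)) k) (S : Finset (Fin d)) (ε : Fin d → k)
    (P : Ideal (MvPolynomial (Fin r) k)) : MvPolynomial (Fin r) k →ₐ[k] RR I S ε P :=
  MvPolynomial.aeval (fun i =>
    ((Ideal.Quotient.mk (faceI I S ε) (MvPolynomial.X (Sum.inl i))) ⊗ₜ[k]
        (1 : MvPolynomial (Fin r) k ⧸ P) -
      (1 : MvPolynomial (Fin r ⊕ (Unit ⊕ Fin d)) k ⧸ faceI I S ε) ⊗ₜ[k]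
        (Ideal.Quotient.mk P (MvPolynomial.X i))) *
    (((Ideal.Quotient.mk (faceI I S ε) b) ^ N) ⊗ₜ[k] (1 : MvPolynomial (Fin r) k ⧸ P)))

theorem point_kills (N : ℕ) (I : Ideal (MvPolynomial (Fin r ⊕ (Unit ⊕ Fin d)) k))
    (b : MvPolynomial (Fin r ⊕ (Unit ⊕ Fin d)) k)
    (hb : b * MvPolynomial.X (Sum.inr (Sum.inl ())) - 1 ∈ I)
    (S : Finset (Fin d)) (ε : Fin d → k) (P : Ideal (MvPolynomial (Fin r) k))
    (L : Type w) [Field L] [Algebra k L]
    (z : Fin r ⊕ (Unit ⊕ Fin d) → L) (hz : ∀ q ∈ I, MvPolynomial.aeval z q = 0)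
    (hzS : ∀ i ∈ S, z (Sum.inr (Sum.inr i)) = algebraMap k L (ε i))
    (ξ : Fin r → L) (hξ : ∀ p ∈ P, MvPolynomial.aeval ξ p = 0)
    (gL : Fin r → L)
    (hzg : ∀ i, z (Sum.inl i) = ξ i + z (Sum.inr (Sum.inl ())) ^ N * gL i)
    (h : MvPolynomial (Fin r) k) (hh : phi N I b S ε P h = 0) :
    MvPolynomial.aeval gL h = 0 := by
  have hface : ∀ a ∈ faceI I S ε, (MvPolynomial.aeval z : MvPolynomial (Fin r ⊕ (Unit ⊕ Fin d)) k →ₐ[k] L) a = 0 := by
    intro a ha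
    have hle : faceI I S ε ≤ RingHom.ker (MvPolynomial.aeval z : MvPolynomial (Fin r ⊕ (Unit ⊕ Fin d)) k →ₐ[k] L).toRingHom := by
      refine sup_le (fun q hq => hz q hq) ?_
      rw [Ideal.span_le]
      rintro _ ⟨i, hi, rfl⟩
      change (MvPolynomial.aeval z) (MvPolynomial.X (Sum.inr (Sum.inr i)) - MvPolynomial.C (ε i)) = 0
      rw [map_sub, MvPolynomial.aeval_X, MvPolynomial.aeval_C, hzS i hi, sub_self]
    exact hle ha
  let evZ : (MvPolynomial (Fin r ⊕ (Unit ⊕ Fin d)) k ⧸ faceI I S ε) →ₐ[k] L :=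
    Ideal.Quotient.liftₐ (faceI I S ε) (MvPolynomial.aeval z) hface
  have hevZ : ∀ a, evZ (Ideal.Quotient.mk (faceI I S ε) a) = MvPolynomial.aeval z a := fun a => rfl
  let evP : (MvPolynomial (Fin r) k ⧸ P) →ₐ[k] L :=
    Ideal.Quotient.liftₐ P (MvPolynomial.aeval ξ) hξ
  have hevP : ∀ a, evP (Ideal.Quotient.mk P a) = MvPolynomial.aeval ξ a := fun a => rfl
  let ev : RR I S ε P →ₐ[k] L :=
    Algebra.TensorProduct.lift evZ evP (fun x y => mul_comm (evZ x) (evP y))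
  have hev : ∀ a c, ev (a ⊗ₜ[k] c) = evZ a * evP c := fun a c =>
    Algebra.TensorProduct.lift_tmul _ _ _ _ _
  have hbt : MvPolynomial.aeval z b * z (Sum.inr (Sum.inl ())) = 1 := by
    have h1 := hz _ hb
    rw [map_sub, map_mul, MvPolynomial.aeval_X, map_one, sub_eq_zero] at h1
    exact h1
  have hcomp : ev.comp (phi N I b S ε P) = MvPolynomial.aeval gL := by
    apply MvPolynomial.algHom_ext
    intro i
    rw [AlgHom.comp_apply, MvPolynomial.aeval_X]
    unfold phi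
    rw [MvPolynomial.aeval_X, map_mul, map_sub, hev, hev, hev, map_one, map_one, mul_one, one_mul,
      mul_one, map_pow, hevZ, hevZ, hevP, MvPolynomial.aeval_X, MvPolynomial.aeval_X, hzg i]
    have : (ξ i + z (Sum.inr (Sum.inl ())) ^ N * gL i - ξ i) * (MvPolynomial.aeval z) b ^ N =
        gL i * ((MvPolynomial.aeval z b * z (Sum.inr (Sum.inl ()))) ^ N) := by ring
    rw [this, hbt, one_pow, mul_one]
  have h1 := DFunLike.congr_fun hcomp h
  rw [AlgHom.comp_apply, hh, map_zero] at h1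
  exact h1.symm


theorem exists_h_one (N : ℕ) (hr : 1 ≤ r) (I : Ideal (MvPolynomial (Fin r ⊕ (Unit ⊕ Fin d)) k))
    (b : MvPolynomial (Fin r ⊕ (Unit ⊕ Fin d)) k)
    (hface : ∀ (S : Finset (Fin d)), S.Nonempty → ∀ (ε : Fin d → k), (∀ i, ε i = 0 ∨ ε i = 1) →
      ringKrullDim (MvPolynomial (Fin r ⊕ (Unit ⊕ Fin d)) k ⧸
        (I ⊔ Ideal.span ((fun i => MvPolynomial.X (Sum.inr (Sum.inr i)) - MvPolynomial.C (ε i)) ''
          (S : Set (Fin d))))) ≤ (r - S.card : ℕ))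
    (P : Ideal (MvPolynomial (Fin r) k)) (hP : P.IsMaximal)
    (S : Finset (Fin d)) (ε : Fin d → k) :
    ∃ h : MvPolynomial (Fin r) k, h ≠ 0 ∧
      (S.Nonempty → (∀ i, ε i = 0 ∨ ε i = 1) → phi N I b S ε P h = 0) := by
  by_cases hS : S.Nonempty ∧ ∀ i, ε i = 0 ∨ ε i = 1
  · obtain ⟨hS1, hε⟩ := hS
    letI : Field (MvPolynomial (Fin r) k ⧸ P) := Ideal.Quotient.field P
    haveI : Module.Finite k (MvPolynomial (Fin r) k ⧸ P) :=
      finite_of_finite_type_of_isJacobsonRing k (MvPolynomial (Fin r) k ⧸ P)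
    haveI : Algebra.FiniteType k (MvPolynomial (Fin r ⊕ (Unit ⊕ Fin d)) k ⧸ faceI I S ε) :=
      Algebra.FiniteType.of_surjective (Ideal.Quotient.mkₐ k (faceI I S ε))
        Ideal.Quotient.mk_surjective
    haveI : Algebra.FiniteType k (MvPolynomial (Fin r) k ⧸ P) :=
      Algebra.FiniteType.of_surjective (Ideal.Quotient.mkₐ k P) Ideal.Quotient.mk_surjective
    haveI : Algebra.FiniteType k (RR I S ε P) :=
      Algebra.FiniteType.trans
        (inferInstance : Algebra.FiniteType k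
          (MvPolynomial (Fin r ⊕ (Unit ⊕ Fin d)) k ⧸ faceI I S ε))
        (inferInstance : Algebra.FiniteType
          (MvPolynomial (Fin r ⊕ (Unit ⊕ Fin d)) k ⧸ faceI I S ε) (RR I S ε P))
    have h1 : ringKrullDim (RR I S ε P) ≤
        ringKrullDim (MvPolynomial (Fin r ⊕ (Unit ⊕ Fin d)) k ⧸ faceI I S ε) :=
      Groth.Agent.Lib.Helper86.MovDT.ringKrullDim_tensor_le _ _
    have h2 := hface S hS1 ε hε
    have h3 : ((r - S.card : ℕ) : WithBot ℕ∞) < (r : WithBot ℕ∞) := by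
      have : r - S.card < r := Nat.sub_lt hr (Finset.card_pos.mpr hS1)
      exact_mod_cast this
    have hdim : ringKrullDim (RR I S ε P) < (r : WithBot ℕ∞) := lt_of_le_of_lt (h1.trans h2) h3
    obtain ⟨h, hne, hh⟩ := Groth.Agent.Lib.Helper71.MovDK.exists_ne_zero_mem_ker (RR I S ε P) hdim
      (phi N I b S ε P)
    exact ⟨h, hne, fun _ _ => hh⟩
  · refine ⟨1, one_ne_zero, fun h1 h2 => absurd ⟨h1, h2⟩ hS⟩

theorem main (N : ℕ) (hr : 1 ≤ r)
    (I : Ideal (MvPolynomial (Fin r ⊕ (Unit ⊕ Fin d)) k))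
    (ht0 : I ⊔ Ideal.span {MvPolynomial.X (Sum.inr (Sum.inl ()))} = ⊤)
    (hface : ∀ (S : Finset (Fin d)), S.Nonempty → ∀ (ε : Fin d → k), (∀ i, ε i = 0 ∨ ε i = 1) →
      ringKrullDim (MvPolynomial (Fin r ⊕ (Unit ⊕ Fin d)) k ⧸
        (I ⊔ Ideal.span ((fun i => MvPolynomial.X (Sum.inr (Sum.inr i)) - MvPolynomial.C (ε i)) ''
          (S : Set (Fin d))))) ≤ (r - S.card : ℕ))
    (Sigma : Finset (Ideal (MvPolynomial (Fin r) k))) (hSigma : ∀ P ∈ Sigma, P.IsMaximal) :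
    ∃ h : MvPolynomial (Fin r) k, h ≠ 0 ∧
      ∀ (K : Type v) [Field K] [Algebra k K] (g : Fin r → K), MvPolynomial.aeval g h ≠ 0 →
        ∀ (L : Type w) [Field L] [Algebra k L] [Algebra K L] [IsScalarTower k K L]
          (ξ : Fin r → L) (t : L) (y : Fin d → L),
          ∀ P ∈ Sigma, (∀ p ∈ P, MvPolynomial.aeval ξ p = 0) →
            ∀ (S : Finset (Fin d)), S.Nonempty → ∀ (ε : Fin d → k), (∀ i, ε i = 0 ∨ ε i = 1) →
              (∀ i ∈ S, y i = algebraMap k L (ε i)) →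
                ¬ (∀ q ∈ I, MvPolynomial.aeval
                    (Sum.elim (fun i => ξ i + t ^ N * algebraMap K L (g i))
                      (Sum.elim (fun _ : Unit => t) y)) q = 0) := by
  classical
  -- the inverse of t modulo I
  obtain ⟨b, hb⟩ : ∃ b : MvPolynomial (Fin r ⊕ (Unit ⊕ Fin d)) k,
      b * MvPolynomial.X (Sum.inr (Sum.inl ())) - 1 ∈ I := by
    have h1 : (1 : MvPolynomial (Fin r ⊕ (Unit ⊕ Fin d)) k) ∈
        I ⊔ Ideal.span {MvPolynomial.X (Sum.inr (Sum.inl ()))} := by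
      rw [ht0]; exact Submodule.mem_top
    obtain ⟨a, ha, c, hc, hac⟩ := Submodule.mem_sup.mp h1
    obtain ⟨b, rfl⟩ := Ideal.mem_span_singleton'.mp hc
    refine ⟨b, ?_⟩
    have : b * MvPolynomial.X (Sum.inr (Sum.inl ())) - 1 = -a := by
      rw [← hac]; ring
    rw [this]
    exact I.neg_mem ha
  have key : ∀ P ∈ Sigma, ∀ (S : Finset (Fin d)) (ε : Fin d → k),
      ∃ h : MvPolynomial (Fin r) k, h ≠ 0 ∧
        (S.Nonempty → (∀ i, ε i = 0 ∨ ε i = 1) → phi N I b S ε P h = 0) :=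
    fun P hP S ε => exists_h_one N hr I b hface P (hSigma P hP) S ε
  choose hfun hne hker using key
  let ℰ : Finset (Fin d → k) := Fintype.piFinset (fun _ : Fin d => ({0, 1} : Finset k))
  refine ⟨∏ P ∈ Sigma.attach, ∏ S ∈ (Finset.univ : Finset (Finset (Fin d))), ∏ ε ∈ ℰ,
    hfun P.1 P.2 S ε, ?_, ?_⟩
  · exact Finset.prod_ne_zero_iff.mpr fun P _ => Finset.prod_ne_zero_iff.mpr fun S _ =>
      Finset.prod_ne_zero_iff.mpr fun ε _ => hne P.1 P.2 S ε
  · intro K _ _ g hg L _ _ _ _ ξ t y P hPmem hξ S hS ε hε hy hall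
    rw [map_prod] at hg
    have hg1 := Finset.prod_ne_zero_iff.mp hg ⟨P, hPmem⟩ (Finset.mem_attach _ _)
    rw [map_prod] at hg1
    have hg2 := Finset.prod_ne_zero_iff.mp hg1 S (Finset.mem_univ _)
    rw [map_prod] at hg2
    have hεmem : ε ∈ ℰ := by
      rw [Fintype.mem_piFinset]
      intro i
      rcases hε i with h | h
      · rw [h]; exact Finset.mem_insert_self _ _
      · rw [h]; exact Finset.mem_insert_of_mem (Finset.mem_singleton_self _)
    have hg3 : MvPolynomial.aeval g (hfun P hPmem S ε) ≠ 0 :=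
      Finset.prod_ne_zero_iff.mp hg2 ε hεmem
    have h0 := point_kills N I b hb S ε P L
      (Sum.elim (fun i => ξ i + t ^ N * algebraMap K L (g i)) (Sum.elim (fun _ : Unit => t) y))
      hall (fun i hi => hy i hi) ξ hξ (fun i => algebraMap K L (g i)) (fun i => rfl)
      (hfun P hPmem S ε) (hker P hPmem S ε hS hε)
    have h1 : MvPolynomial.aeval (fun i => algebraMap K L (g i)) (hfun P hPmem S ε) =
        algebraMap K L (MvPolynomial.aeval g (hfun P hPmem S ε)) :=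
      (DFunLike.congr_fun (MvPolynomial.comp_aeval g (IsScalarTower.toAlgHom k K L)) _).symm
    rw [h1, map_eq_zero] at h0
    exact hg3 h0

end Groth.Agent.Lib.Helper66.MovD
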