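/-
Helper library (helper66): group-like elements from algebra homs of the dual algebra,
structure of monogenic infinitesimal Hopf algebras.  Used for S15066, S15065.
-/
import Mathlib
import Groth.Agent.Lib.Helper66.AlphaP
import Groth.Agent.Lib.Helper66.TruncPolyQ

open scoped TensorProduct
open WithConv MvPolynomial
open Groth.Agent.Lib.Helper66.TruncPoly Groth.Agent.Lib.Helper66.FrobSub Groth.Agent.Lib.Helper66.AlphaP
  Groth.Agent.Lib.Helper66.TruncPolyQ

set_option autoImplicit false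

namespace Groth.Agent.Lib.Helper66.MuP

section GrpLike
universe u
variable {k A : Type u} [Field k] [CommRing A] [Bialgebra k A] [Coalgebra.IsCocomm k A]
  [FiniteDimensional k A]

theorem groupLike_of_algHom (χ : WithConv (A →ₗ[k] k) →ₐ[k] k) :
    ∃ g : A, IsGroupLikeElem k g ∧ ∀ φ : A →ₗ[k] k, φ g = χ (toConv φ) := by
  let e : WithConv (A →ₗ[k] k) ≃ₗ[k] (A →ₗ[k] k) := WithConv.linearEquiv k (A →ₗ[k] k)
  let χ' : Module.Dual k (Module.Dual k A) := χ.toLinearMap ∘ₗ e.symm.toLinearMap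
  set g : A := (Module.evalEquiv k A).symm χ' with hg
  have hgφ : ∀ φ : A →ₗ[k] k, φ g = χ (toConv φ) := by
    intro φ
    rw [hg, Module.apply_evalEquiv_symm_apply]
    rfl
  refine ⟨g, ⟨?_, ?_⟩, hgφ⟩
  · rw [hgφ]
    have : (toConv (Coalgebra.counit (R := k) (A := A)) : WithConv (A →ₗ[k] k)) = 1 := by
      rw [LinearMap.convOne_def]
      congr 1
    rw [this, map_one]
  · rw [← sub_eq_zero]
    apply tensor_eq_zero_of_dual
    intro φ ψ
    have h3 : (toConv φ * toConv ψ : WithConv (A →ₗ[k] k)).ofConv g =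
        (LinearMap.mul' k k) ((TensorProduct.map φ ψ) (Coalgebra.comul g)) := rfl
    rw [map_sub, map_sub, ← h3, hgφ, ofConv_toConv, map_mul, TensorProduct.map_tmul,
      LinearMap.mul'_apply, hgφ, hgφ, sub_self]

theorem exists_groupLike_ne_one [IsAlgClosed k] (hdual : IsReduced (WithConv (A →ₗ[k] k)))
    (hA : 1 < Module.finrank k A) : ∃ g : A, IsGroupLikeElem k g ∧ g ≠ 1 := by
  let e : WithConv (A →ₗ[k] k) ≃ₗ[k] (A →ₗ[k] k) := WithConv.linearEquiv k (A →ₗ[k] k)
  haveI : Module.Finite k (WithConv (A →ₗ[k] k)) := Module.Finite.equiv e.symm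
  haveI : IsArtinianRing (WithConv (A →ₗ[k] k)) := IsArtinianRing.of_finite k _
  set 𝔫 : Ideal (WithConv (A →ₗ[k] k)) := RingHom.ker (evOne (k := k) (A := A)) with h𝔫
  have hmem : ∀ f, f ∈ 𝔫 ↔ f.ofConv 1 = 0 := fun f => by
    rw [h𝔫, RingHom.mem_ker]; rfl
  have hne : 𝔫 ≠ ⊥ := by
    intro h
    have hinj : Function.Injective (evOne (k := k) (A := A)).toLinearMap := by
      rw [← LinearMap.ker_eq_bot, LinearMap.ker_eq_bot']
      intro f hf
      have : f ∈ 𝔫 := hf
      rwa [h, Ideal.mem_bot] at this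
    have := LinearMap.finrank_le_finrank_of_injective hinj
    rw [Module.finrank_self, e.finrank_eq, Subspace.dual_finrank_eq] at this
    omega
  have hex : ∃ 𝔪 : Ideal (WithConv (A →ₗ[k] k)), 𝔪.IsMaximal ∧ 𝔪 ≠ 𝔫 := by
    by_contra hcon
    push Not at hcon
    apply hne
    obtain ⟨N, hN0⟩ := IsArtinianRing.isNilpotent_jacobson_bot (R := WithConv (A →ₗ[k] k))
    have hle : 𝔫 ≤ Ideal.jacobson ⊥ := by
      unfold Ideal.jacobson
      apply le_sInf
      rintro J ⟨_, hJ⟩
      rw [hcon J hJ]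
    rw [eq_bot_iff]
    intro a ha
    have h1 : a ^ N ∈ (Ideal.jacobson ⊥ : Ideal (WithConv (A →ₗ[k] k))) ^ N :=
      Ideal.pow_mem_pow (hle ha) N
    rw [hN0] at h1
    have h2 : IsNilpotent a := ⟨N, h1⟩
    rw [Ideal.mem_bot]
    exact h2.eq_zero
  obtain ⟨𝔪, h𝔪, h𝔪n⟩ := hex
  letI : Field (WithConv (A →ₗ[k] k) ⧸ 𝔪) := Ideal.Quotient.field 𝔪
  have hbij : Function.Bijective (algebraMap k (WithConv (A →ₗ[k] k) ⧸ 𝔪)) :=
    IsAlgClosed.algebraMap_bijective_of_isIntegral
  let ek : k ≃ₐ[k] (WithConv (A →ₗ[k] k) ⧸ 𝔪) := AlgEquiv.ofBijective (Algebra.ofId k _) hbij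
  let χ : WithConv (A →ₗ[k] k) →ₐ[k] k := ek.symm.toAlgHom.comp (Ideal.Quotient.mkₐ k 𝔪)
  have hχ : ∀ f, χ f = 0 ↔ f ∈ 𝔪 := by
    intro f
    show ek.symm (Ideal.Quotient.mkₐ k 𝔪 f) = 0 ↔ _
    rw [map_eq_zero_iff _ ek.symm.injective, Ideal.Quotient.mkₐ_eq_mk, Ideal.Quotient.eq_zero_iff_mem]
  obtain ⟨g, hg, hgφ⟩ := groupLike_of_algHom χ
  refine ⟨g, hg, ?_⟩
  intro hg1
  apply h𝔪n
  ext f
  rw [← hχ, hmem, ← toConv_ofConv f, ← hgφ, hg1]

end GrpLike

section Struct
variable {k A : Type*} [Field k] [CommRing A] [Bialgebra k A] [Module.Finite k A]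
  (p : ℕ) [Fact p.Prime] [CharP k p]

/-- if the augmentation ideal is principal, generated by `x`, killed by Frobenius and not
idempotent, then `A = k[x]/(x^p)`. -/
theorem monogenic_structure (I : Ideal A) (hI : ∀ a, a ∈ I ↔ Coalgebra.counit (R := k) a = 0)
    (hfrob : ∀ a : A, Coalgebra.counit (R := k) a = 0 → a ^ p = 0)
    (hnotidem : ¬ (I ≤ I ^ 2)) (x : A) (hspan : Ideal.span {x} = I) :
    LinearIndependent k (fun i : Fin p => x ^ (i : ℕ)) ∧ Module.finrank k A = p := by
  have hp : 0 < p := (Fact.out : p.Prime).pos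
  have hxI : x ∈ I := by rw [← hspan]; exact Ideal.subset_span rfl
  set t : I.Cotangent := I.toCotangent ⟨x, hxI⟩ with ht
  have ht0 : t ≠ 0 := by
    intro h
    rw [ht, Ideal.toCotangent_eq_zero] at h
    apply hnotidem
    calc I = Ideal.span {x} := hspan.symm
      _ ≤ I ^ 2 := by
        rw [Ideal.span_le, Set.singleton_subset_iff]; exact h
  have hli : LinearIndependent k (fun _ : Fin 1 => t) := by
    rw [linearIndependent_unique_iff]; exact ht0
  have hsp : ⊤ ≤ Submodule.span k (Set.range (fun _ : Fin 1 => t)) := by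
    intro y _
    obtain ⟨⟨a, ha⟩, rfl⟩ := I.toCotangent_surjective y
    have ha' := ha
    rw [← hspan, Ideal.mem_span_singleton'] at ha'
    obtain ⟨c, rfl⟩ := ha'
    rw [toCotangent_mul I hI c x hxI]
    exact Submodule.smul_mem _ _ (Submodule.subset_span ⟨0, rfl⟩)
  let b : Module.Basis (Fin 1) k I.Cotangent := Module.Basis.mk hli hsp
  have hb : ∀ i, I.toCotangent ⟨(fun _ : Fin 1 => x) i, hxI⟩ = b i := by
    intro i; rw [Module.Basis.mk_apply]
  have hbij := field_reduced_bijective p hfrob I hI b (fun _ => x) (fun _ => hxI) hb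
  set L : restrictDegree (Fin 1) k (p - 1) →ₗ[k] A :=
    (aeval (fun _ : Fin 1 => x) : MvPolynomial (Fin 1) k →ₐ[k] A).toLinearMap ∘ₗ
      (restrictDegree (Fin 1) k (p - 1)).subtype with hL
  refine ⟨?_, ?_⟩
  · have hmemd : ∀ i : Fin p, Finsupp.single (0 : Fin 1) (i : ℕ) ∈
        {d : Fin 1 →₀ ℕ | ∀ j, d j ≤ p - 1} := by
      intro i j
      have : j = 0 := Subsingleton.elim _ _
      rw [this, Finsupp.single_eq_same]
      have := i.2
      omega
    have hinj : Function.Injective (fun i : Fin p =>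
        (⟨Finsupp.single (0 : Fin 1) (i : ℕ), hmemd i⟩ : {d : Fin 1 →₀ ℕ | ∀ j, d j ≤ p - 1})) := by
      intro i j hij
      have h1 : Finsupp.single (0 : Fin 1) (i : ℕ) = Finsupp.single (0 : Fin 1) (j : ℕ) :=
        congrArg Subtype.val hij
      have h2 := DFunLike.congr_fun h1 0
      simp only [Finsupp.single_eq_same] at h2
      exact Fin.ext h2
    have hli2 := ((reducedBasis k p 1).linearIndependent.map' L
      (LinearMap.ker_eq_bot.2 hbij.1)).comp _ hinj
    have hfun : (fun i : Fin p => x ^ (i : ℕ)) = (L ∘ (reducedBasis k p 1)) ∘ (fun i : Fin p =>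
        (⟨Finsupp.single (0 : Fin 1) (i : ℕ), hmemd i⟩ : {d : Fin 1 →₀ ℕ | ∀ j, d j ≤ p - 1})) := by
      funext i
      simp only [Function.comp_apply, hL, LinearMap.comp_apply, Submodule.subtype_apply,
        AlgHom.toLinearMap_apply, reducedBasis_coe, aeval_monomial]
      simp
    rw [hfun]
    exact hli2
  · have h1 := Module.finrank_eq_nat_card_basis (reducedBasis k p 1)
    rw [card_reduced hp, pow_one] at h1
    rw [← (LinearEquiv.ofBijective L hbij).finrank_eq, h1]

end Struct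

section Simple
universe u
variable {k A : Type u} [Field k] [CommRing A] [HopfAlgebra k A] [FiniteDimensional k A]
  [IsLocalRing A] (p : ℕ) [Fact p.Prime] [CharP k p]

/-- common consequences of simplicity for a local finite Hopf algebra of dimension > 1 -/
theorem simple_local_facts (hA : 1 < Module.finrank k A)
    (hsimple : ∀ I : Ideal A, I.IsHopfIdeal k → I = ⊥ ∨ I = RingHom.ker (Bialgebra.counitAlgHom k A)) :
    (¬ (RingHom.ker (Bialgebra.counitAlgHom k A) ≤ RingHom.ker (Bialgebra.counitAlgHom k A) ^ 2)) ∧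
    ∀ a : A, Coalgebra.counit (R := k) a = 0 → a ^ p = 0 := by
  set I : Ideal A := RingHom.ker (Bialgebra.counitAlgHom k A) with hIdef
  have hI : ∀ a, a ∈ I ↔ Coalgebra.counit (R := k) a = 0 := fun a => by
    rw [hIdef, RingHom.mem_ker]; rfl
  have hart : IsArtinianRing A := IsArtinianRing.of_finite k A
  have hne : I ≠ ⊤ := by
    intro h
    have : (1 : A) ∈ I := by rw [h]; trivial
    rw [hI, Bialgebra.counit_one] at this
    exact one_ne_zero this
  have hjac : I ≤ Ideal.jacobson ⊥ := by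
    rw [IsLocalRing.jacobson_eq_maximalIdeal _ bot_ne_top]
    exact IsLocalRing.le_maximalIdeal hne
  obtain ⟨N, hN0⟩ := IsArtinianRing.isNilpotent_jacobson_bot (R := A)
  have hN : I ^ N = ⊥ := by
    rw [eq_bot_iff]
    calc I ^ N ≤ (Ideal.jacobson ⊥) ^ N := Ideal.pow_right_mono hjac N
      _ = ⊥ := hN0
  have hnotidem : ¬ (I ≤ I ^ 2) := by
    intro hle
    have hidem : IsIdempotentElem I :=
      le_antisymm (by rw [← sq]; exact Ideal.pow_le_self two_ne_zero) (by rw [← sq]; exact hle)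
    have hsub : Subsingleton I.Cotangent := (Ideal.cotangent_subsingleton_iff I).2 hidem
    have h0 : Module.finrank k I.Cotangent = 0 := Module.finrank_zero_of_subsingleton
    have := finrank_eq_one_of_cotangent_trivial I hI N hN h0
    omega
  refine ⟨hnotidem, ?_⟩
  intro a ha
  rcases hsimple _ (frobIdeal_isHopfIdeal (k := k) (A := A) p) with h | h
  · have : a ^ p ∈ frobIdeal (k := k) (A := A) p := Ideal.subset_span ⟨a, ha, rfl⟩
    rwa [h, Ideal.mem_bot] at this
  · exfalso
    apply hnotidem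
    have := frobIdeal_le_sq (k := k) p I hI
    rwa [h] at this

end Simple

end Groth.Agent.Lib.Helper66.MuP
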