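import Groth.Agent.Lib.Helper96.LeftSlice
import Mathlib

/-!
# Right support of a tensor `X ∈ C ⊗ R` and "group-like over `R`" tensors (helper66)

For a tensor `X ∈ C ⊗[k] R` over a field, `supp X ⊆ R` is the space of all left slices
`(l ⊗ id) X`.  It is finite-dimensional, `X ∈ C ⊗ supp X`, and when `C` is a coalgebra, `R` an
algebra and `X` is group-like over `R`, `supp X` is a finite-dimensional subalgebra of `R`.
-/

set_option autoImplicit false
open TensorProduct

namespace Groth.Agent.Lib.Helper66.NQ2
open Groth.Agent.Lib.Helper96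

section Supp
variable {k : Type*} [Field k] {C : Type*} [AddCommGroup C] [Module k C]
variable {R : Type*} [AddCommGroup R] [Module k R]

theorem lslM_add (l l' : C →ₗ[k] k) (X : C ⊗[k] R) :
    lslM (l + l') X = lslM l X + lslM l' X := by
  simp [lslM, LinearMap.rTensor_add]

theorem lslM_smul (c : k) (l : C →ₗ[k] k) (X : C ⊗[k] R) :
    lslM (c • l) X = c • lslM l X := by
  simp [lslM, LinearMap.rTensor_smul]

/-- the slices as a linear map in the form -/
noncomputable def suppMap (X : C ⊗[k] R) : Module.Dual k C →ₗ[k] R where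
  toFun l := lslM l X
  map_add' l l' := lslM_add l l' X
  map_smul' c l := lslM_smul c l X

/-- the right support of a tensor -/
noncomputable def supp (X : C ⊗[k] R) : Submodule k R := LinearMap.range (suppMap X)

theorem mem_supp {X : C ⊗[k] R} {r : R} : r ∈ supp X ↔ ∃ l : Module.Dual k C, lslM l X = r :=
  LinearMap.mem_range

theorem lslM_mem_supp (X : C ⊗[k] R) (l : Module.Dual k C) : lslM l X ∈ supp X :=
  mem_supp.2 ⟨l, rfl⟩

theorem exists_finset_supp_le (X : C ⊗[k] R) :
    ∃ s : Finset R, supp X ≤ Submodule.span k (s : Set R) := by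
  classical
  induction X using TensorProduct.induction_on with
  | zero =>
    refine ⟨∅, ?_⟩
    rintro r ⟨l, rfl⟩
    simp [suppMap]
  | tmul c r =>
    refine ⟨{r}, ?_⟩
    rintro _ ⟨l, rfl⟩
    simp only [suppMap, LinearMap.coe_mk, AddHom.coe_mk, lslM_tmul]
    apply Submodule.smul_mem
    apply Submodule.subset_span
    simp
  | add X Y hX hY =>
    obtain ⟨s, hs⟩ := hX
    obtain ⟨t, ht⟩ := hY
    refine ⟨s ∪ t, ?_⟩
    rintro _ ⟨l, rfl⟩
    simp only [suppMap, LinearMap.coe_mk, AddHom.coe_mk, map_add]
    apply Submodule.add_mem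
    · exact Submodule.span_mono (by simp) (hs (lslM_mem_supp X l))
    · exact Submodule.span_mono (by simp) (ht (lslM_mem_supp Y l))

instance finite_supp (X : C ⊗[k] R) : Module.Finite k (supp X) := by
  obtain ⟨s, hs⟩ := exists_finset_supp_le X
  haveI : Module.Finite k (Submodule.span k (s : Set R)) := FiniteDimensional.span_finset k s
  exact Submodule.finiteDimensional_of_le hs

theorem mem_range_lTensor_subtype_iff (W : Submodule k R) (y : C ⊗[k] R) :
    y ∈ LinearMap.range (W.subtype.lTensor C) ↔ ∀ l : Module.Dual k C, lslM l y ∈ W := by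
  constructor
  · rintro ⟨z, rfl⟩ l
    rw [lslM_lTensor]
    exact (lslM l z).2
  · intro h
    have h1 : TensorProduct.comm k C R y ∈ LinearMap.range (W.subtype.rTensor C) := by
      rw [mem_range_rTensor_subtype_iff]
      intro g
      rw [← lslM_eq_slice_comm]
      exact h g
    obtain ⟨z, hz⟩ := h1
    refine ⟨TensorProduct.comm k W C z, ?_⟩
    apply (TensorProduct.comm k C R).injective
    rw [← hz]
    have key : ∀ z : W ⊗[k] C, (TensorProduct.comm k C R)
        ((LinearMap.lTensor C W.subtype) ((TensorProduct.comm k (↥W) C) z)) =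
        (LinearMap.rTensor C W.subtype) z := by
      intro z
      induction z using TensorProduct.induction_on with
      | zero => simp
      | add x y hx hy => simp only [map_add, hx, hy]
      | tmul w c => simp
    exact key z

theorem mem_range_lTensor_supp (X : C ⊗[k] R) :
    X ∈ LinearMap.range ((supp X).subtype.lTensor C) := by
  rw [mem_range_lTensor_subtype_iff]
  exact lslM_mem_supp X

end Supp

section Alg
variable {k : Type*} [Field k] {C : Type*} [CommRing C] [Bialgebra k C]
variable {R : Type*} [CommRing R] [Algebra k R]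

/-- the two embeddings `C ⊗ R → (C ⊗ C) ⊗ R` -/
noncomputable def j₁ : C ⊗[k] R →ₐ[k] (C ⊗[k] C) ⊗[k] R :=
  Algebra.TensorProduct.map Algebra.TensorProduct.includeLeft (AlgHom.id k R)

noncomputable def j₂ : C ⊗[k] R →ₐ[k] (C ⊗[k] C) ⊗[k] R :=
  Algebra.TensorProduct.map Algebra.TensorProduct.includeRight (AlgHom.id k R)

/-- `Δ ⊗ id` -/
noncomputable def jΔ : C ⊗[k] R →ₐ[k] (C ⊗[k] C) ⊗[k] R :=
  Algebra.TensorProduct.map (Bialgebra.comulAlgHom k C) (AlgHom.id k R)

theorem lslM_mul (l l' : C →ₗ[k] k) (Y Y' : C ⊗[k] R) :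
    lslM l Y * lslM l' Y' =
      lslM (LinearMap.mul' k k ∘ₗ TensorProduct.map l l') (j₁ Y * j₂ Y') := by
  induction Y using TensorProduct.induction_on with
  | zero => simp
  | add x y hx hy => simp only [map_add, add_mul, hx, hy]
  | tmul c r =>
    induction Y' using TensorProduct.induction_on with
    | zero => simp
    | add x y hx hy => simp only [map_add, mul_add, hx, hy]
    | tmul c' r' =>
      simp only [j₁, j₂, Algebra.TensorProduct.map_tmul, AlgHom.id_apply,
        Algebra.TensorProduct.includeLeft_apply, Algebra.TensorProduct.includeRight_apply,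
        Algebra.TensorProduct.tmul_mul_tmul, one_mul, mul_one, lslM_tmul, LinearMap.comp_apply,
        TensorProduct.map_tmul, LinearMap.mul'_apply]
      rw [smul_mul_smul_comm]

theorem lslM_jΔ (l : (C ⊗[k] C) →ₗ[k] k) (Y : C ⊗[k] R) :
    lslM l (jΔ Y) = lslM (l ∘ₗ (CoalgebraStruct.comul (R := k) (A := C))) Y := by
  induction Y using TensorProduct.induction_on with
  | zero => simp
  | add x y hx hy => simp only [map_add, hx, hy]
  | tmul c r =>
    simp [jΔ, lslM_tmul]

/-- a tensor is group-like over `R` -/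
structure IsGL (X : C ⊗[k] R) : Prop where
  comul : jΔ X = j₁ X * j₂ X
  counit : lslM (CoalgebraStruct.counit (R := k) (A := C)) X = 1

theorem mul_mem_supp {X : C ⊗[k] R} (hX : IsGL X) {x y : R} (hx : x ∈ supp X) (hy : y ∈ supp X) :
    x * y ∈ supp X := by
  obtain ⟨l, rfl⟩ := mem_supp.1 hx
  obtain ⟨l', rfl⟩ := mem_supp.1 hy
  rw [lslM_mul, ← hX.comul, lslM_jΔ]
  exact lslM_mem_supp X _

theorem one_mem_supp {X : C ⊗[k] R} (hX : IsGL X) : (1 : R) ∈ supp X := by
  rw [← hX.counit]
  exact lslM_mem_supp X _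

/-- the finite-dimensional subalgebra of coefficients of a group-like tensor -/
noncomputable def suppAlg {X : C ⊗[k] R} (hX : IsGL X) : Subalgebra k R :=
  (supp X).toSubalgebra (one_mem_supp hX) (fun _ _ hx hy => mul_mem_supp hX hx hy)

theorem mem_suppAlg {X : C ⊗[k] R} (hX : IsGL X) {r : R} : r ∈ suppAlg hX ↔ r ∈ supp X :=
  Iff.rfl

instance finite_suppAlg {X : C ⊗[k] R} (hX : IsGL X) : Module.Finite k (suppAlg hX) :=
  finite_supp X

end Alg

end Groth.Agent.Lib.Helper66.NQ2
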