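import Mathlib

/-!
# Idempotent at an augmentation of a finite-dimensional subalgebra, and a Frobenius-power
computation (helper66)
-/

set_option autoImplicit false
open TensorProduct

namespace Groth.Agent.Lib.Helper66.NQ3

section Idem
variable {k : Type*} [Field k] {R : Type*} [CommRing R] [Algebra k R]

/-- In a finite-dimensional subalgebra `F` with an augmentation `ε`, there is an idempotent `e`
with `ε e = 1` such that every element of the augmentation ideal is nilpotent on `e`. -/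
theorem exists_idem (F : Subalgebra k R) [Module.Finite k F] (ε : R →ₐ[k] k) :
    ∃ e ∈ F, IsIdempotentElem e ∧ ε e = 1 ∧ ∃ r : ℕ, 0 < r ∧
      ∀ x ∈ F, ε x = 0 → x ^ r * e = 0 := by
  let ε' : F →ₐ[k] k := ε.comp F.val
  let 𝔫 : Ideal F := RingHom.ker (ε' : F →+* k)
  haveI : IsArtinianRing F := IsArtinianRing.of_finite k F
  haveI : IsNoetherianRing F := inferInstance
  let f : ℕ →o (Submodule F F)ᵒᵈ :=
    ⟨fun n => OrderDual.toDual (𝔫 ^ n), fun n m h => Ideal.pow_le_pow_right h⟩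
  obtain ⟨r₀, hr₀⟩ := IsArtinian.monotone_stabilizes f
  have hst : ∀ m, r₀ ≤ m → 𝔫 ^ r₀ = 𝔫 ^ m := fun m hm => by
    have := hr₀ m hm
    exact this
  set r := r₀ + 1 with hr
  have h1 : 𝔫 ^ r = 𝔫 ^ r₀ := (hst r (by omega)).symm
  have hidem : IsIdempotentElem (𝔫 ^ r) := by
    unfold IsIdempotentElem
    rw [← pow_add, h1]
    exact (hst (r + r) (by omega)).symm
  obtain ⟨f₀, hf₀, hspan⟩ :=
    (Ideal.isIdempotentElem_iff_of_fg (𝔫 ^ r) (IsNoetherian.noetherian _)).1 hidem
  have hf₀mem : f₀ ∈ 𝔫 := by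
    have : f₀ ∈ 𝔫 ^ r := by
      rw [hspan]; exact Ideal.mem_span_singleton_self f₀
    exact Ideal.pow_le_self (by omega) this
  have hεf₀ : ε (f₀ : R) = 0 := by
    have := (RingHom.mem_ker).1 hf₀mem
    exact this
  refine ⟨((1 - f₀ : F) : R), (1 - f₀ : F).2, ?_, ?_, r, by omega, ?_⟩
  · have := hf₀.one_sub
    unfold IsIdempotentElem at this ⊢
    have h2 := congrArg (fun x : F => (x : R)) this
    simpa using h2
  · simp [hεf₀]
  · intro x hx hεx
    have hxmem : (⟨x, hx⟩ : F) ∈ 𝔫 := by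
      rw [RingHom.mem_ker]
      exact hεx
    have hxr : (⟨x, hx⟩ : F) ^ r ∈ 𝔫 ^ r := Ideal.pow_mem_pow hxmem r
    rw [hspan, Ideal.mem_span_singleton'] at hxr
    obtain ⟨y, hy⟩ := hxr
    have h3 : (⟨x, hx⟩ : F) ^ r * (1 - f₀) = 0 := by
      rw [← hy, mul_assoc, mul_sub, mul_one, hf₀.eq, sub_self, mul_zero]
    have h4 := congrArg (fun x : F => (x : R)) h3
    simpa using h4

end Idem

section Frob
variable {k : Type*} [Field k] {C : Type*} [CommRing C] [Algebra k C]
variable {R : Type*} [CommRing R] [Algebra k R]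

/-- the specialisation `(id ⊗ ε) X ∈ C` -/
noncomputable def spec (ε : R →ₐ[k] k) : C ⊗[k] R →ₐ[k] C :=
  (Algebra.TensorProduct.rid k k C).toAlgHom.comp
    (Algebra.TensorProduct.map (AlgHom.id k C) ε)

@[simp] theorem spec_tmul (ε : R →ₐ[k] k) (c : C) (r : R) : spec ε (c ⊗ₜ[k] r) = ε r • c := by
  simp [spec]

theorem exists_pow_kill (p : ℕ) [ExpChar k p] (hred : p = 1 → IsReduced R)
    (F : Subalgebra k R) (ε : R →ₐ[k] k) (e : R) (he : IsIdempotentElem e) (r : ℕ) (hr0 : 0 < r)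
    (hr : ∀ x ∈ F, ε x = 0 → x ^ r * e = 0) :
    ∃ s : ℕ, ∀ x ∈ F, ε x = 0 → (x * e) ^ (p ^ s) = 0 := by
  have her : e ^ r = e := by
    obtain ⟨n, rfl⟩ : ∃ n, r = n + 1 := ⟨r - 1, by omega⟩
    exact he.pow_succ_eq n
  have hnil : ∀ x ∈ F, ε x = 0 → (x * e) ^ r = 0 := by
    intro x hx hεx
    rw [mul_pow, her]
    exact hr x hx hεx
  by_cases hp : p = 1
  · haveI := hred hp
    refine ⟨0, fun x hx hεx => ?_⟩
    have h1 : IsNilpotent (x * e) := ⟨r, hnil x hx hεx⟩
    rw [pow_zero, pow_one]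
    exact h1.eq_zero
  · have hprime : p.Prime := by
      rcases expChar_is_prime_or_one k p with h | h
      · exact h
      · exact absurd h hp
    refine ⟨r, fun x hx hεx => ?_⟩
    have hlt : r < p ^ r := Nat.lt_pow_self hprime.one_lt
    have : p ^ r = r + (p ^ r - r) := by omega
    rw [this, pow_add, hnil x hx hεx, zero_mul]

theorem frob_key (p : ℕ) [ExpChar k p] (F : Subalgebra k R) (ε : R →ₐ[k] k) (e : R)
    (he : IsIdempotentElem e) (s : ℕ)
    (hs : ∀ x ∈ F, ε x = 0 → (x * e) ^ (p ^ s) = 0)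
    (X : C ⊗[k] R) (hX : X ∈ LinearMap.range ((Subalgebra.toSubmodule F).subtype.lTensor C)) :
    X ^ (p ^ s) * (1 ⊗ₜ[k] e) = ((spec ε X) ^ (p ^ s)) ⊗ₜ[k] e := by
  rcases subsingleton_or_nontrivial (C ⊗[k] R) with hsub | hnt
  · exact Subsingleton.elim _ _
  haveI : Nontrivial C :=
    RingHom.domain_nontrivial (Algebra.TensorProduct.includeLeft : C →ₐ[k] C ⊗[k] R).toRingHom
  haveI : Nontrivial R :=
    RingHom.domain_nontrivial (Algebra.TensorProduct.includeRight : R →ₐ[k] C ⊗[k] R).toRingHom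
  haveI : ExpChar C p := expChar_of_injective_algebraMap (algebraMap k C).injective p
  haveI : ExpChar R p := expChar_of_injective_algebraMap (algebraMap k R).injective p
  haveI : ExpChar (C ⊗[k] R) p :=
    expChar_of_injective_algebraMap (algebraMap k (C ⊗[k] R)).injective p
  have hq : p ^ s ≠ 0 := by
    have : 0 < p := expChar_pos k p
    positivity
  have heq : e ^ (p ^ s) = e := by
    obtain ⟨n, hn⟩ : ∃ n, p ^ s = n + 1 := ⟨p ^ s - 1, by omega⟩
    rw [hn]; exact he.pow_succ_eq n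
  have key : ∀ Y : C ⊗[k] (Subalgebra.toSubmodule F),
      ((Subalgebra.toSubmodule F).subtype.lTensor C Y * (1 ⊗ₜ[k] e)) ^ (p ^ s) =
        ((spec ε ((Subalgebra.toSubmodule F).subtype.lTensor C Y)) ^ (p ^ s)) ⊗ₜ[k] e := by
    intro Y
    induction Y using TensorProduct.induction_on with
    | zero => simp [zero_pow hq]
    | add x y hx hy =>
      rw [map_add, add_mul, add_pow_expChar_pow, hx, hy, map_add, add_pow_expChar_pow, add_tmul]
    | tmul c b =>
      obtain ⟨b, hb⟩ := b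
      simp only [LinearMap.lTensor_tmul, Submodule.subtype_apply, spec_tmul,
        Algebra.TensorProduct.tmul_mul_tmul, mul_one, Algebra.TensorProduct.tmul_pow]
      have hb' : b ∈ F := hb
      have h1 : (b * e) ^ (p ^ s) = (ε b) ^ (p ^ s) • e := by
        have hn : b - algebraMap k R (ε b) ∈ F := F.sub_mem hb' (F.algebraMap_mem _)
        have hεn : ε (b - algebraMap k R (ε b)) = 0 := by simp
        have h2 := hs _ hn hεn
        have h3 : b * e = algebraMap k R (ε b) * e + (b - algebraMap k R (ε b)) * e := by ring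
        rw [h3, add_pow_expChar_pow, h2, add_zero, mul_pow, heq, ← map_pow, Algebra.smul_def]
      rw [h1, smul_pow, TensorProduct.smul_tmul]
  obtain ⟨Y, rfl⟩ := hX
  rw [← key Y, mul_pow, Algebra.TensorProduct.tmul_pow, one_pow, heq]

end Frob

end Groth.Agent.Lib.Helper66.NQ3
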