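import Groth.Agent.Lib.Helper66.TK1
import Groth.Agent.Lib.Helper66.NQ2
import Groth.Agent.Lib.Helper66.NQ3
import Groth.Agent.Lib.Helper96.NormalInv
import Mathlib

/-!
# The conjugation coaction `C → C ⊗ A` of a normal Hopf ideal (helper66)

For a normal Hopf ideal `I` of a commutative Hopf algebra `A` with `C = A ⧸ I`, the algebra map
`mbar : C → C ⊗ A`, "`(n, g) ↦ g⁻¹ n g`", and its basic properties.
-/

set_option autoImplicit false
open TensorProduct WithConv

universe u
namespace Groth.Agent.Lib.Helper66.NQ1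
open Groth.Agent.Lib.Helper66.TK1 Groth.Agent.Lib.Helper96

section General
variable {k : Type*} [CommRing k] {A : Type*} [CommRing A] [HopfAlgebra k A]

theorem invC_invC {T : Type*} [CommRing T] [Algebra k T] (f : WithConv (A →ₐ[k] T)) :
    invC (invC f) = f :=
  (eq_invC_of_mul_eq_one (mul_invC f)).symm

theorem invC_mul_rev {T : Type*} [CommRing T] [Algebra k T] (f g : WithConv (A →ₐ[k] T)) :
    invC (f * g) = invC g * invC f := by
  symm
  apply eq_invC_of_mul_eq_one
  rw [_root_.mul_assoc, ← _root_.mul_assoc (invC f), invC_mul, _root_.one_mul, invC_mul]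

theorem invC_one {T : Type*} [CommRing T] [Algebra k T] :
    invC (1 : WithConv (A →ₐ[k] T)) = 1 := by
  symm
  apply eq_invC_of_mul_eq_one
  rw [_root_.one_mul]

theorem conj_one_left {T : Type*} [CommRing T] [Algebra k T] (n : WithConv (A →ₐ[k] T)) :
    invC (1 : WithConv (A →ₐ[k] T)) * n * 1 = n := by
  rw [invC_one, _root_.one_mul, _root_.mul_one]

theorem conj_one_mid {T : Type*} [CommRing T] [Algebra k T] (g : WithConv (A →ₐ[k] T)) :
    invC g * 1 * g = 1 := by
  rw [_root_.mul_one, invC_mul]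

theorem conj_mul {T : Type*} [CommRing T] [Algebra k T] (g n₁ n₂ : WithConv (A →ₐ[k] T)) :
    invC g * (n₁ * n₂) * g = (invC g * n₁ * g) * (invC g * n₂ * g) := by
  have h : (invC g * n₁ * g) * (invC g * n₂ * g) =
      invC g * n₁ * (g * invC g) * n₂ * g := by
    simp only [_root_.mul_assoc]
  rw [h, mul_invC, _root_.mul_one]
  simp only [_root_.mul_assoc]

theorem conj_conj {T : Type*} [CommRing T] [Algebra k T] (g₂ n₃ n₁ : WithConv (A →ₐ[k] T)) :
    invC (g₂ * n₃) * n₁ * (g₂ * n₃) = invC n₃ * (invC g₂ * n₁ * g₂) * n₃ := by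
  rw [invC_mul_rev]
  simp only [_root_.mul_assoc]

end General

variable (k : Type u) [Field k] {A : Type u} [CommRing A] [HopfAlgebra k A]
variable (I : Ideal A) [I.IsHopfIdeal k]

/-- the point `n = (π ⊗ 1)` of `G` with values in `C ⊗ A` -/
noncomputable def nn : WithConv (A →ₐ[k] (A ⧸ I) ⊗[k] A) :=
  toConv ((Algebra.TensorProduct.includeLeft).comp (Ideal.Quotient.mkₐ k I))

/-- the point `g = (1 ⊗ id)` of `G` with values in `C ⊗ A` -/
noncomputable def gg : WithConv (A →ₐ[k] (A ⧸ I) ⊗[k] A) :=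
  toConv Algebra.TensorProduct.includeRight

/-- the point `g⁻¹ n g` -/
noncomputable def mm : WithConv (A →ₐ[k] (A ⧸ I) ⊗[k] A) := invC (gg k I) * nn k I * gg k I

theorem mm_kills (hI : SGA3.IsNormalHopfIdeal k A I) : ∀ a ∈ I, (mm k I).ofConv a = 0 := by
  have hn : ∀ a ∈ I, (nn k I).ofConv a = 0 := by
    intro a ha
    have : Ideal.Quotient.mkₐ k I a = 0 := by
      rw [Ideal.Quotient.mkₐ_eq_mk, Ideal.Quotient.eq_zero_iff_mem]; exact ha
    simp only [nn, ofConv_toConv, AlgHom.comp_apply, this, map_zero]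
  have h := hI ((A ⧸ I) ⊗[k] A) (invC (gg k I)).ofConv (nn k I).ofConv hn
  rw [NormalInv.conv3_eq] at h
  have h2 : toConv ((invC (gg k I)).ofConv.comp (HopfAlgebra.antipodeAlgHom k A)) = gg k I :=
    invC_invC (gg k I)
  rw [h2] at h
  exact h

/-- the conjugation coaction `C → C ⊗ A` -/
noncomputable def mbar (hI : SGA3.IsNormalHopfIdeal k A I) : (A ⧸ I) →ₐ[k] (A ⧸ I) ⊗[k] A :=
  Ideal.Quotient.liftₐ I (mm k I).ofConv (mm_kills k I hI)

theorem mbar_mk (hI : SGA3.IsNormalHopfIdeal k A I) (a : A) :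
    mbar k I hI (Ideal.Quotient.mk I a) = (mm k I).ofConv a := by
  simp [mbar]

theorem mbar_comp_mk (hI : SGA3.IsNormalHopfIdeal k A I) :
    (mbar k I hI).comp (Ideal.Quotient.mkₐ k I) = (mm k I).ofConv := by
  apply AlgHom.ext
  intro a
  simp [mbar]

/-- `h ∘ mbar ∘ π` as a conjugate -/
theorem comp_mbar_mk (hI : SGA3.IsNormalHopfIdeal k A I) {T : Type*} [CommRing T] [Algebra k T]
    (h : (A ⧸ I) ⊗[k] A →ₐ[k] T) :
    toConv ((h.comp (mbar k I hI)).comp (Ideal.Quotient.mkₐ k I)) =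
      invC (postComp h (gg k I)) * postComp h (nn k I) * postComp h (gg k I) := by
  rw [AlgHom.comp_assoc, mbar_comp_mk]
  change postComp h (mm k I) = _
  rw [mm, map_mul, map_mul, postComp_invC]

/-- two algebra maps out of `C` agreeing after `π` agree -/
theorem algHom_ext_mk {T : Type*} [CommRing T] [Algebra k T] {f g : (A ⧸ I) →ₐ[k] T}
    (h : f.comp (Ideal.Quotient.mkₐ k I) = g.comp (Ideal.Quotient.mkₐ k I)) : f = g := by
  apply AlgHom.ext
  intro c
  obtain ⟨a, rfl⟩ := Ideal.Quotient.mk_surjective c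
  exact AlgHom.congr_fun h a

/-- the quotient bialgebra map -/
noncomputable abbrev πb : A →ₐc[k] A ⧸ I := Bialgebra.Quotient.mkBialgHom I

theorem preComp_πb {T : Type*} [CommRing T] [Algebra k T] (f : WithConv ((A ⧸ I) →ₐ[k] T)) :
    preComp (πb k I) f = toConv (f.ofConv.comp (Ideal.Quotient.mkₐ k I)) := rfl

theorem conv_ext_mk {T : Type*} [CommRing T] [Algebra k T] {f g : WithConv ((A ⧸ I) →ₐ[k] T)}
    (h : preComp (πb k I) f = preComp (πb k I) g) : f = g := by
  apply WithConv.ofConv_injective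
  apply algHom_ext_mk k I
  exact congrArg WithConv.ofConv h

section GroupLike
variable {T : Type*} [CommRing T] [Algebra k T] {B : Type*} [CommRing B] [HopfAlgebra k B]

theorem conv_apply_groupLike (f g : WithConv (B →ₐ[k] T)) {χ : B} (hχ : IsGroupLikeElem k χ) :
    (f * g).ofConv χ = f.ofConv χ * g.ofConv χ := by
  have := AlgHom.convMul_apply f g χ
  rw [hχ.comul_eq_tmul_self] at this
  simpa using this

theorem invC_apply (f : WithConv (B →ₐ[k] T)) (b : B) :
    (invC f).ofConv b = f.ofConv (HopfAlgebra.antipode k b) := rfl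

end GroupLike

/-! ### (d) left translation of a right semi-invariant -/

theorem lift_nn_gg (y : A ⊗[k] A) :
    Algebra.TensorProduct.lift (nn k I).ofConv (gg k I).ofConv (fun _ _ => .all ..) y =
      LinearMap.rTensor A (Ideal.Quotient.mkₐ k I).toLinearMap y := by
  induction y using TensorProduct.induction_on with
  | zero => simp
  | add x y hx hy => simp only [map_add, hx, hy]
  | tmul x y =>
    simp [nn, gg, Algebra.TensorProduct.includeRight_apply]

theorem lift_gg_mm (hI : SGA3.IsNormalHopfIdeal k A I) (y : A ⊗[k] A) :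
    Algebra.TensorProduct.lift (gg k I).ofConv (mm k I).ofConv (fun _ _ => .all ..) y =
      Algebra.TensorProduct.lift (gg k I).ofConv (mbar k I hI) (fun _ _ => .all ..)
        (LinearMap.lTensor A (Ideal.Quotient.mkₐ k I).toLinearMap y) := by
  induction y using TensorProduct.induction_on with
  | zero => simp
  | add x y hx hy => simp only [map_add, hx, hy]
  | tmul x y =>
    simp [mbar_mk]

/-- For a right semi-invariant `a` of weight `y`: `(π ⊗ id) Δ a = mbar y * (1 ⊗ a)`. -/
theorem rTensor_comul_eq (hI : SGA3.IsNormalHopfIdeal k A I) (a : A) (y : A ⧸ I)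
    (ha : LinearMap.lTensor A (Ideal.Quotient.mkₐ k I).toLinearMap
      (CoalgebraStruct.comul (R := k) a) = a ⊗ₜ[k] y) :
    LinearMap.rTensor A (Ideal.Quotient.mkₐ k I).toLinearMap
      (CoalgebraStruct.comul (R := k) a) = mbar k I hI y * ((1 : A ⧸ I) ⊗ₜ[k] a) := by
  have key : nn k I * gg k I = gg k I * mm k I := by
    rw [mm, _root_.mul_assoc (invC (gg k I)), ← _root_.mul_assoc (gg k I), mul_invC]
    exact (_root_.one_mul (nn k I * gg k I)).symm
  have e1 := congrArg (fun f : WithConv (A →ₐ[k] (A ⧸ I) ⊗[k] A) => f.ofConv a) key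
  rw [AlgHom.convMul_apply, AlgHom.convMul_apply, lift_nn_gg, lift_gg_mm k I hI, ha] at e1
  rw [e1]
  simp [gg, Algebra.TensorProduct.includeRight_apply, mul_comm]

/-! ### abstract transfer lemmas -/
section Transfer
variable (hI : SGA3.IsNormalHopfIdeal k A I) {T : Type*} [CommRing T] [Algebra k T]

theorem conv_of_mul (h j₁ j₂ : (A ⧸ I) ⊗[k] A →ₐ[k] T) (G N₁ N₂ : WithConv (A →ₐ[k] T))
    (hG : postComp h (gg k I) = G) (hG1 : postComp j₁ (gg k I) = G)
    (hG2 : postComp j₂ (gg k I) = G) (hN : postComp h (nn k I) = N₁ * N₂)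
    (hN1 : postComp j₁ (nn k I) = N₁) (hN2 : postComp j₂ (nn k I) = N₂) :
    toConv (h.comp (mbar k I hI)) =
      toConv (j₁.comp (mbar k I hI)) * toConv (j₂.comp (mbar k I hI)) := by
  apply conv_ext_mk k I
  rw [map_mul]
  simp only [preComp_πb, ofConv_toConv]
  rw [comp_mbar_mk, comp_mbar_mk, comp_mbar_mk, hG, hG1, hG2, hN, hN1, hN2]
  exact conj_mul G N₁ N₂

theorem conv_of_conj (h j : (A ⧸ I) ⊗[k] A →ₐ[k] T) (ν : (A ⧸ I) →ₐ[k] T)
    (G₂ N₃ N₁ : WithConv (A →ₐ[k] T))
    (hG : postComp h (gg k I) = G₂ * N₃) (hN : postComp h (nn k I) = N₁)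
    (hjG : postComp j (gg k I) = G₂) (hjN : postComp j (nn k I) = N₁)
    (hν : toConv (ν.comp (Ideal.Quotient.mkₐ k I)) = N₃) :
    toConv (h.comp (mbar k I hI)) =
      invC (toConv ν) * toConv (j.comp (mbar k I hI)) * toConv ν := by
  apply conv_ext_mk k I
  rw [map_mul, map_mul, preComp_invC]
  simp only [preComp_πb, ofConv_toConv]
  rw [comp_mbar_mk, comp_mbar_mk, hG, hN, hjG, hjN, hν]
  exact conj_conj G₂ N₃ N₁

end Transfer

/-! ### concrete properties of `mbar` -/
section Props
variable (hI : SGA3.IsNormalHopfIdeal k A I)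

/-- (GL2): specialising `g = e` gives back the element -/
theorem spec_mbar (y : A ⧸ I) :
    NQ3.spec (Bialgebra.counitAlgHom k A) (mbar k I hI y) = y := by
  have key : (NQ3.spec (C := A ⧸ I) (Bialgebra.counitAlgHom k A)).comp (mbar k I hI) =
      AlgHom.id k (A ⧸ I) := by
    apply algHom_ext_mk k I
    apply WithConv.toConv_injective
    rw [comp_mbar_mk]
    have hg : postComp (NQ3.spec (C := A ⧸ I) (Bialgebra.counitAlgHom k A)) (gg k I) = 1 := by
      apply WithConv.ofConv_injective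
      apply AlgHom.ext
      intro a
      simp [gg, Algebra.TensorProduct.includeRight_apply, Algebra.algebraMap_eq_smul_one]
    have hn : postComp (NQ3.spec (C := A ⧸ I) (Bialgebra.counitAlgHom k A)) (nn k I) =
        toConv ((AlgHom.id k (A ⧸ I)).comp (Ideal.Quotient.mkₐ k I)) := by
      apply WithConv.ofConv_injective
      apply AlgHom.ext
      intro a
      simp [nn]
    rw [hg, hn]
    exact conj_one_left _
  exact AlgHom.congr_fun key y

/-- `ε_C ⊗ id` as an algebra map -/
noncomputable def hl : (A ⧸ I) ⊗[k] A →ₐ[k] A :=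
  (Algebra.TensorProduct.lid k A).toAlgHom.comp
    (Algebra.TensorProduct.map (Bialgebra.counitAlgHom k (A ⧸ I)) (AlgHom.id k A))

@[simp] theorem hl_tmul (c : A ⧸ I) (a : A) :
    hl k I (c ⊗ₜ[k] a) = CoalgebraStruct.counit (R := k) c • a := by
  simp [hl]

theorem lslM_counit_eq (Y : (A ⧸ I) ⊗[k] A) :
    lslM (CoalgebraStruct.counit (R := k) (A := A ⧸ I)) Y = hl k I Y := by
  induction Y using TensorProduct.induction_on with
  | zero => simp
  | add x y hx hy => simp only [map_add, hx, hy]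
  | tmul c a => simp [lslM_tmul]

/-- (GL3) -/
theorem hl_mbar (y : A ⧸ I) :
    hl k I (mbar k I hI y) = algebraMap k A (CoalgebraStruct.counit (R := k) y) := by
  have key : toConv (((hl k I).comp (mbar k I hI)).comp (Ideal.Quotient.mkₐ k I)) = 1 := by
    rw [comp_mbar_mk]
    have hn : postComp (hl k I) (nn k I) = 1 := by
      apply WithConv.ofConv_injective
      apply AlgHom.ext
      intro a
      simp [nn, Algebra.algebraMap_eq_smul_one]
    rw [hn]
    exact conj_one_mid _
  obtain ⟨a, rfl⟩ := Ideal.Quotient.mk_surjective y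
  have := AlgHom.congr_fun (congrArg WithConv.ofConv key) a
  simpa using this

/-- (GL1) -/
theorem jΔ_mbar {χ : A ⧸ I} (hχ : IsGroupLikeElem k χ) :
    NQ2.jΔ (mbar k I hI χ) = NQ2.j₁ (mbar k I hI χ) * NQ2.j₂ (mbar k I hI χ) := by
  have key := conv_of_mul k I hI (NQ2.jΔ (C := A ⧸ I) (R := A)) NQ2.j₁ NQ2.j₂
    (toConv Algebra.TensorProduct.includeRight)
    (toConv ((Algebra.TensorProduct.includeLeft.comp Algebra.TensorProduct.includeLeft).comp
      (Ideal.Quotient.mkₐ k I)))
    (toConv ((Algebra.TensorProduct.includeLeft.comp Algebra.TensorProduct.includeRight).comp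
      (Ideal.Quotient.mkₐ k I)))
    ?_ ?_ ?_ ?_ ?_ ?_
  · have := congrArg (fun f : WithConv ((A ⧸ I) →ₐ[k] ((A ⧸ I) ⊗[k] (A ⧸ I)) ⊗[k] A) =>
      f.ofConv χ) key
    simp only [ofConv_toConv, AlgHom.comp_apply] at this
    rw [this, conv_apply_groupLike k _ _ hχ]
    rfl
  · apply WithConv.ofConv_injective
    apply AlgHom.ext
    intro a
    simp [gg, NQ2.jΔ, Algebra.TensorProduct.includeRight_apply,
      Algebra.TensorProduct.one_def]
  · apply WithConv.ofConv_injective
    apply AlgHom.ext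
    intro a
    simp [gg, NQ2.j₁, Algebra.TensorProduct.includeRight_apply,
      Algebra.TensorProduct.one_def]
  · apply WithConv.ofConv_injective
    apply AlgHom.ext
    intro a
    simp [gg, NQ2.j₂, Algebra.TensorProduct.includeRight_apply,
      Algebra.TensorProduct.one_def]
  · apply WithConv.ofConv_injective
    apply AlgHom.ext
    intro a
    rw [AlgHom.convMul_apply]
    simp only [postComp_apply, ofConv_toConv, nn, AlgHom.comp_apply, NQ2.jΔ,
      Algebra.TensorProduct.includeLeft_apply, Algebra.TensorProduct.map_tmul,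
      Ideal.Quotient.mkₐ_eq_mk, Bialgebra.comulAlgHom_apply, Bialgebra.Quotient.comul_mk,
      AlgHom.id_apply]
    generalize CoalgebraStruct.comul (R := k) a = y
    induction y using TensorProduct.induction_on with
    | zero => simp
    | add x y hx hy => simp only [map_add, hx, hy, add_tmul]
    | tmul x y =>
      simp [Algebra.TensorProduct.includeRight_apply]
  · apply WithConv.ofConv_injective
    apply AlgHom.ext
    intro a
    simp [nn, NQ2.j₁]
  · apply WithConv.ofConv_injective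
    apply AlgHom.ext
    intro a
    simp [nn, NQ2.j₂]

/-- the right coaction `ρ_R = (id ⊗ π) Δ : A → A ⊗ C` -/
noncomputable def ρR : A →ₐ[k] A ⊗[k] (A ⧸ I) :=
  (Algebra.TensorProduct.map (AlgHom.id k A) (Ideal.Quotient.mkₐ k I)).comp
    (Bialgebra.comulAlgHom k A)

theorem ρR_apply (a : A) : ρR k I a =
    LinearMap.lTensor A (Ideal.Quotient.mkₐ k I).toLinearMap (CoalgebraStruct.comul (R := k) a) := by
  simp only [ρR, AlgHom.comp_apply, Bialgebra.comulAlgHom_apply]
  exact NormalInv.algMap_eq_lTensor I _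

theorem map_id_eq_lTensor {B B' : Type*} [CommRing B] [Algebra k B] [CommRing B'] [Algebra k B']
    {D : Type*} [CommRing D] [Algebra k D] (f : B →ₐ[k] B') (y : D ⊗[k] B) :
    Algebra.TensorProduct.map (AlgHom.id k D) f y = LinearMap.lTensor D f.toLinearMap y := by
  induction y using TensorProduct.induction_on with
  | zero => simp
  | add x y hx hy => simp only [map_add, hx, hy]
  | tmul x y => simp

/-- (b): the `A`-coefficients of `mbar χ` are right `N`-invariant -/
theorem map_ρR_mbar {χ : A ⧸ I} (hχ : IsGroupLikeElem k χ) :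
    Algebra.TensorProduct.map (AlgHom.id k (A ⧸ I)) (ρR k I) (mbar k I hI χ) =
      Algebra.TensorProduct.map (AlgHom.id k (A ⧸ I))
        (Algebra.TensorProduct.includeLeft : A →ₐ[k] A ⊗[k] (A ⧸ I)) (mbar k I hI χ) := by
  have key := conv_of_conj k I hI (T := (A ⧸ I) ⊗[k] (A ⊗[k] (A ⧸ I)))
    (Algebra.TensorProduct.map (AlgHom.id k (A ⧸ I)) (ρR k I))
    (Algebra.TensorProduct.map (AlgHom.id k (A ⧸ I))
        (Algebra.TensorProduct.includeLeft : A →ₐ[k] A ⊗[k] (A ⧸ I)))
    ((Algebra.TensorProduct.includeRight : A ⊗[k] (A ⧸ I) →ₐ[k] (A ⧸ I) ⊗[k] (A ⊗[k] (A ⧸ I))).comp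
      (Algebra.TensorProduct.includeRight : (A ⧸ I) →ₐ[k] A ⊗[k] (A ⧸ I)))
    (toConv ((Algebra.TensorProduct.includeRight :
        A ⊗[k] (A ⧸ I) →ₐ[k] (A ⧸ I) ⊗[k] (A ⊗[k] (A ⧸ I))).comp
      (Algebra.TensorProduct.includeLeft : A →ₐ[k] A ⊗[k] (A ⧸ I))))
    (toConv (((Algebra.TensorProduct.includeRight :
        A ⊗[k] (A ⧸ I) →ₐ[k] (A ⧸ I) ⊗[k] (A ⊗[k] (A ⧸ I))).comp
      (Algebra.TensorProduct.includeRight : (A ⧸ I) →ₐ[k] A ⊗[k] (A ⧸ I))).comp
        (Ideal.Quotient.mkₐ k I)))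
    (toConv ((Algebra.TensorProduct.includeLeft :
        (A ⧸ I) →ₐ[k] (A ⧸ I) ⊗[k] (A ⊗[k] (A ⧸ I))).comp (Ideal.Quotient.mkₐ k I)))
    ?_ ?_ ?_ ?_ ?_
  · have := congrArg (fun f : WithConv ((A ⧸ I) →ₐ[k] (A ⧸ I) ⊗[k] (A ⊗[k] (A ⧸ I))) =>
      f.ofConv χ) key
    simp only [ofConv_toConv, AlgHom.comp_apply] at this
    rw [this]
    erw [conv_apply_groupLike k (B := A ⧸ I) (T := (A ⧸ I) ⊗[k] (A ⊗[k] (A ⧸ I))) _ _ hχ,
      conv_apply_groupLike k (B := A ⧸ I) (T := (A ⧸ I) ⊗[k] (A ⊗[k] (A ⧸ I))) _ _ hχ]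
    rw [invC_apply]
    simp only [ofConv_toConv, AlgHom.comp_apply]
    have h1 : (Algebra.TensorProduct.includeRight :
        A ⊗[k] (A ⧸ I) →ₐ[k] (A ⧸ I) ⊗[k] (A ⊗[k] (A ⧸ I)))
          ((Algebra.TensorProduct.includeRight : (A ⧸ I) →ₐ[k] A ⊗[k] (A ⧸ I))
            ((HopfAlgebraStruct.antipode k) χ)) *
        (Algebra.TensorProduct.includeRight :
        A ⊗[k] (A ⧸ I) →ₐ[k] (A ⧸ I) ⊗[k] (A ⊗[k] (A ⧸ I)))
          ((Algebra.TensorProduct.includeRight : (A ⧸ I) →ₐ[k] A ⊗[k] (A ⧸ I)) χ) = 1 := by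
      rw [← map_mul, ← map_mul, hχ.antipode_mul_cancel, map_one, map_one]
    linear_combination ((Algebra.TensorProduct.map (AlgHom.id k (A ⧸ I))
      (Algebra.TensorProduct.includeLeft : A →ₐ[k] A ⊗[k] (A ⧸ I))) ((mbar k I hI) χ)) * h1
  · apply WithConv.ofConv_injective
    apply AlgHom.ext
    intro a
    erw [AlgHom.convMul_apply]
    simp only [postComp_apply, ofConv_toConv, gg, AlgHom.comp_apply,
      Algebra.TensorProduct.includeRight_apply, Algebra.TensorProduct.map_tmul,
      AlgHom.id_apply, ρR, Bialgebra.comulAlgHom_apply]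
    generalize CoalgebraStruct.comul (R := k) a = y
    induction y using TensorProduct.induction_on with
    | zero => simp
    | add x y hx hy => simp only [map_add, hx, hy, tmul_add]
    | tmul x y =>
      simp [Algebra.TensorProduct.includeRight_apply]
  · apply WithConv.ofConv_injective
    apply AlgHom.ext
    intro a
    simp [nn, Algebra.TensorProduct.one_def]
  · apply WithConv.ofConv_injective
    apply AlgHom.ext
    intro a
    simp [gg, Algebra.TensorProduct.includeRight_apply]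
  · apply WithConv.ofConv_injective
    apply AlgHom.ext
    intro a
    simp [nn, Algebra.TensorProduct.one_def]
  · rfl

/-- the coefficients `(l ⊗ id)(mbar χ)` are right coinvariants -/
theorem lslM_mbar_coinv {χ : A ⧸ I} (hχ : IsGroupLikeElem k χ) (l : Module.Dual k (A ⧸ I)) :
    LinearMap.lTensor A (Ideal.Quotient.mkₐ k I).toLinearMap
      (CoalgebraStruct.comul (R := k) (lslM l (mbar k I hI χ))) =
      lslM l (mbar k I hI χ) ⊗ₜ[k] (1 : A ⧸ I) := by
  rw [← ρR_apply]
  have h1 := lslM_lTensor l (ρR k I).toLinearMap (mbar k I hI χ)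
  have h2 := lslM_lTensor l
    (Algebra.TensorProduct.includeLeft : A →ₐ[k] A ⊗[k] (A ⧸ I)).toLinearMap (mbar k I hI χ)
  rw [← map_id_eq_lTensor] at h1 h2
  rw [map_ρR_mbar k I hI hχ, h2] at h1
  exact h1.symm

end Props

end Groth.Agent.Lib.Helper66.NQ1
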