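import Groth.Agent.Lib.Helper66.NQ1
import Groth.Agent.Lib.Helper99.TotalIntegral
import Groth.Agent.Lib.Helper96.CartierG
import Groth.Prelude.Def_SGA3
import Mathlib

/-!
# Semi-invariants for a normal Hopf ideal and the core lemma `I ≤ A·(A^{co A/I})⁺` (helper66)
-/

set_option autoImplicit false
open TensorProduct WithConv

universe u
namespace Groth.Agent.Lib.Helper66.NQ4
open Groth.Agent.Lib.Helper66.TK1 Groth.Agent.Lib.Helper96 Groth.Agent.Lib.Helper66.NQ1

variable (k : Type u) [Field k] {A : Type u} [CommRing A] [HopfAlgebra k A]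
variable (I : Ideal A) [I.IsHopfIdeal k]

/-- right semi-invariants of weight `y` -/
def IsSemi (a : A) (y : A ⧸ I) : Prop := ρR k I a = a ⊗ₜ[k] y

variable {k I}

theorem IsSemi.mul {a a' : A} {y y' : A ⧸ I} (h : IsSemi k I a y) (h' : IsSemi k I a' y') :
    IsSemi k I (a * a') (y * y') := by
  unfold IsSemi at *
  rw [map_mul, h, h', Algebra.TensorProduct.tmul_mul_tmul]

theorem isSemi_one : IsSemi k I (1 : A) 1 := by
  unfold IsSemi
  rw [map_one, Algebra.TensorProduct.one_def]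

theorem IsSemi.pow {a : A} {y : A ⧸ I} (h : IsSemi k I a y) (n : ℕ) :
    IsSemi k I (a ^ n) (y ^ n) := by
  induction n with
  | zero => simpa using isSemi_one
  | succ n ih => rw [pow_succ, pow_succ]; exact ih.mul h

theorem isSemi_iff {a : A} {y : A ⧸ I} : IsSemi k I a y ↔
    LinearMap.lTensor A (Ideal.Quotient.mkₐ k I).toLinearMap (CoalgebraStruct.comul (R := k) a) =
      a ⊗ₜ[k] y := by
  unfold IsSemi
  rw [ρR_apply]

variable (k I)

/-- the left coaction `ρ_L = (π ⊗ id) Δ` -/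
noncomputable def ρL : A →ₐ[k] (A ⧸ I) ⊗[k] A :=
  (Algebra.TensorProduct.map (Ideal.Quotient.mkₐ k I) (AlgHom.id k A)).comp
    (Bialgebra.comulAlgHom k A)

theorem ρL_apply (a : A) : ρL k I a =
    LinearMap.rTensor A (Ideal.Quotient.mkₐ k I).toLinearMap (CoalgebraStruct.comul (R := k) a) := by
  simp only [ρL, AlgHom.comp_apply, Bialgebra.comulAlgHom_apply]
  exact NormalInv.algMap_eq_rTensor I _

variable {k I}

theorem ρL_of_isSemi (hI : SGA3.IsNormalHopfIdeal k A I) {a : A} {y : A ⧸ I}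
    (h : IsSemi k I a y) : ρL k I a = mbar k I hI y * ((1 : A ⧸ I) ⊗ₜ[k] a) := by
  rw [ρL_apply]
  exact rTensor_comul_eq k I hI a y (isSemi_iff.1 h)

theorem lTensor_map_antipode (z : A ⊗[k] A) :
    LinearMap.lTensor A (Ideal.Quotient.mkₐ k I).toLinearMap
      (TensorProduct.map (HopfAlgebra.antipode k) (HopfAlgebra.antipode k)
        (TensorProduct.comm k A A z)) =
    TensorProduct.map (HopfAlgebra.antipode k) (HopfAlgebra.antipode k)
      (TensorProduct.comm k (A ⧸ I) A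
        (LinearMap.rTensor A (Ideal.Quotient.mkₐ k I).toLinearMap z)) := by
  induction z using TensorProduct.induction_on with
  | zero => simp
  | add x y hx hy => simp only [map_add, hx, hy]
  | tmul x y => simp

/-- the antipode turns left semi-invariants into right semi-invariants of the inverse weight -/
theorem isSemi_antipode {a : A} {y : A ⧸ I} (h : ρL k I a = y ⊗ₜ[k] a) :
    IsSemi k I (HopfAlgebra.antipode k a) (HopfAlgebra.antipode k y) := by
  rw [isSemi_iff, Groth.Agent.Lib.Helper99.comul_antipode, lTensor_map_antipode, ← ρL_apply, h]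
  simp

theorem mk_eq_of_isSemi {a : A} {y : A ⧸ I} (h : IsSemi k I a y) :
    Ideal.Quotient.mk I a = CoalgebraStruct.counit (R := k) a • y := by
  have h1 := isSemi_iff.1 h
  have h2 := congrArg (lslM (CoalgebraStruct.counit (R := k) (A := A))) h1
  rw [lslM_lTensor, lslM_tmul] at h2
  rw [← h2]
  have h3 : lslM (CoalgebraStruct.counit (R := k) (A := A)) (CoalgebraStruct.comul (R := k) a) = a := by
    have := Coalgebra.rTensor_counit_comul (R := k) a
    unfold lslM
    rw [LinearMap.comp_apply, this]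
    simp
  rw [h3]
  rfl

variable (k I)

/-- the right coinvariants `A^{co A/I}` -/
noncomputable def coinv : Subalgebra k A :=
  AlgHom.equalizer (ρR k I) (Algebra.TensorProduct.includeLeft : A →ₐ[k] A ⊗[k] (A ⧸ I))

variable {k I}

theorem mem_coinv {a : A} : a ∈ coinv k I ↔ IsSemi k I a 1 := by
  unfold coinv IsSemi
  rw [AlgHom.mem_equalizer]
  rfl

theorem augIdealSpan_coinv_le : SGA3.augIdealSpan k A (coinv k I) ≤ I := by
  unfold SGA3.augIdealSpan
  rw [Ideal.span_le]
  rintro a ⟨ha, hε⟩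
  have := mk_eq_of_isSemi (mem_coinv.1 ha)
  rw [hε, zero_smul] at this
  exact Ideal.Quotient.eq_zero_iff_mem.1 this

/-- **Core lemma.** -/
theorem le_augIdealSpan_coinv (hI : SGA3.IsNormalHopfIdeal k A I)
    (hred : ringExpChar k = 1 → IsReduced A)
    (M : Set A) (χ : A ⧸ I) (hχ : IsGroupLikeElem k χ) (hM : ∀ a ∈ M, IsSemi k I a χ)
    (a₁ : A) (ha₁ : IsSemi k I a₁ χ) (hε₁ : CoalgebraStruct.counit (R := k) a₁ = 1)
    (hIM : I ≤ Ideal.span {a : A | a ∈ M ∧ CoalgebraStruct.counit (R := k) a = 0}) :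
    I ≤ SGA3.augIdealSpan k A (coinv k I) := by
  set X := mbar k I hI χ with hX
  have hGL : NQ2.IsGL X := by
    refine ⟨jΔ_mbar k I hI hχ, ?_⟩
    rw [lslM_counit_eq, hl_mbar, hχ.counit_eq_one, map_one]
  let F := NQ2.suppAlg hGL
  let ε := Bialgebra.counitAlgHom k A
  obtain ⟨e, heF, heidem, hεe, r, hr0, hr⟩ := NQ3.exists_idem F ε
  haveI : ExpChar k (ringExpChar k) := ringExpChar.expChar k
  obtain ⟨s, hs⟩ := NQ3.exists_pow_kill (ringExpChar k) hred F ε e heidem r hr0 hr
  set q := ringExpChar k ^ s with hq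
  have hq0 : 0 < q := pow_pos (expChar_pos k (ringExpChar k)) s
  have hfrob := NQ3.frob_key (C := A ⧸ I) (ringExpChar k) F ε e heidem s hs X
    (NQ2.mem_range_lTensor_supp X)
  rw [spec_mbar, ← hq] at hfrob
  -- `e` is a right coinvariant
  have he_semi : IsSemi k I e 1 := by
    obtain ⟨l, rfl⟩ := NQ2.mem_supp.1 heF
    exact isSemi_iff.2 (lslM_mbar_coinv k I hI hχ l)
  set f := a₁ ^ q * e with hf
  have hf_semi : IsSemi k I f (χ ^ q) := by
    have := (ha₁.pow q).mul he_semi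
    rwa [mul_one] at this
  have hf_left : ρL k I f = (χ ^ q) ⊗ₜ[k] f := by
    rw [ρL_of_isSemi hI hf_semi, map_pow, ← hX, hf]
    have : ((1 : A ⧸ I) ⊗ₜ[k] (a₁ ^ q * e) : (A ⧸ I) ⊗[k] A) =
        ((1 : A ⧸ I) ⊗ₜ[k] e) * ((1 : A ⧸ I) ⊗ₜ[k] (a₁ ^ q)) := by
      rw [Algebra.TensorProduct.tmul_mul_tmul, mul_one, mul_comm]
    rw [this, ← mul_assoc, hfrob, Algebra.TensorProduct.tmul_mul_tmul, mul_one, mul_comm e]
  set b := HopfAlgebra.antipode k f with hb
  have hb_semi : IsSemi k I b (HopfAlgebra.antipode k (χ ^ q)) := isSemi_antipode hf_left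
  have hχq : IsGroupLikeElem k (χ ^ q) := hχ.pow
  have hεb : CoalgebraStruct.counit (R := k) b = 1 := by
    rw [hb, HopfAlgebra.counit_antipode, hf, Bialgebra.counit_mul, Bialgebra.counit_pow, hε₁, one_pow,
      one_mul]
    exact hεe
  obtain ⟨q', hq'⟩ : ∃ q', q = q' + 1 := ⟨q - 1, by omega⟩
  -- invariants
  have hinv : ∀ a, IsSemi k I a χ → a * a₁ ^ q' * b ∈ coinv k I := by
    intro a ha
    rw [mem_coinv]
    have h1 := (ha.mul (ha₁.pow q')).mul hb_semi
    have h2 : χ * χ ^ q' * HopfAlgebra.antipode k (χ ^ q) = 1 := by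
      rw [← pow_succ', ← hq']
      exact hχq.mul_antipode_cancel
    rwa [h2] at h1
  set J' := SGA3.augIdealSpan k A (coinv k I) with hJ'
  have hβ : a₁ * a₁ ^ q' * b - 1 ∈ J' := by
    apply Ideal.subset_span
    refine ⟨(coinv k I).sub_mem (hinv a₁ ha₁) (coinv k I).one_mem, ?_⟩
    rw [map_sub, Bialgebra.counit_mul, Bialgebra.counit_mul, Bialgebra.counit_pow, hε₁, hεb,
      Bialgebra.counit_one]
    simp
  refine hIM.trans ?_
  rw [Ideal.span_le]
  rintro a ⟨haM, hεa⟩
  have hc : a * a₁ ^ q' * b ∈ J' := by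
    apply Ideal.subset_span
    refine ⟨hinv a (hM a haM), ?_⟩
    rw [Bialgebra.counit_mul, Bialgebra.counit_mul, hεa, zero_mul, zero_mul]
  have : a = (a * a₁ ^ q' * b) * a₁ - a * (a₁ * a₁ ^ q' * b - 1) := by ring
  rw [SetLike.mem_coe, this]
  exact J'.sub_mem (J'.mul_mem_right _ hc) (J'.mul_mem_left _ hβ)

end Groth.Agent.Lib.Helper66.NQ4
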