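import Groth.Agent.Lib.Helper66.NQ4
import Groth.Agent.S3019
import Mathlib

/-!
# Normal Hopf ideals of finitely generated Hopf algebras are generated by invariants (helper66)
-/

set_option autoImplicit false
open TensorProduct WithConv

universe u
namespace Groth.Agent.Lib.Helper66.NQ5
open Groth.Agent.Lib.Helper96 Groth.Agent.Lib.Helper66.NQ1 Groth.Agent.Lib.Helper66.NQ4

variable {k : Type u} [Field k] {A : Type u} [CommRing A] [HopfAlgebra k A]
variable {I : Ideal A} [I.IsHopfIdeal k]

theorem isReduced_of_ringExpChar [Algebra.FiniteType k A] (h : ringExpChar k = 1) :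
    IsReduced A := by
  haveI : ExpChar k 1 := h ▸ ringExpChar.expChar k
  haveI : CharZero k := charZero_of_expChar_one' k
  exact Cartier.isReduced k A

section Chev
variable {V : Type u} [AddCommGroup V] [Module k V] [HopfRep.Comod k A V]

/-- the coefficient function `a_l = (l ⊗ id) ρ(v)` -/
noncomputable def coef (v : V) (l : Module.Dual k V) : A :=
  lslM l (HopfRep.Comod.coact (k := k) (A := A) v)

theorem coef_sub (v : V) (l l' : Module.Dual k V) :
    coef (A := A) v (l - l') = coef v l - coef v l' := by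
  unfold coef
  rw [sub_eq_add_neg, NQ2.lslM_add, ← neg_one_smul k l', NQ2.lslM_smul, neg_one_smul,
    ← sub_eq_add_neg]

theorem coef_smul (v : V) (c : k) (l : Module.Dual k V) :
    coef (A := A) v (c • l) = c • coef v l := NQ2.lslM_smul c l _

theorem counit_coef (v : V) (l : Module.Dual k V) :
    CoalgebraStruct.counit (R := k) (coef (A := A) v l) = l v :=
  counit_lsl'_coact _ l v

theorem isSemi_coef {v : V} {χ : A ⧸ I}
    (h : LinearMap.lTensor V (Ideal.Quotient.mkₐ k I).toLinearMap
      (HopfRep.Comod.coact (k := k) (A := A) v) = v ⊗ₜ[k] χ) (l : Module.Dual k V) :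
    IsSemi k I (coef v l) χ := by
  rw [isSemi_iff]
  have hA := comul_lsl'_coact (inferInstance : HopfRep.Comod k A V) l v
  change LinearMap.lTensor A (Ideal.Quotient.mkₐ k I).toLinearMap
    (CoalgebraStruct.comul (R := k) (lsl' l (HopfRep.Comod.coact (k := k) (A := A) v))) =
    lsl' l (HopfRep.Comod.coact (k := k) (A := A) v) ⊗ₜ[k] χ
  rw [hA, ← LinearMap.comp_apply, LinearMap.lTensor_comp_rTensor,
    ← LinearMap.rTensor_comp_lTensor, LinearMap.comp_apply, h, LinearMap.rTensor_tmul]
  rfl

theorem main_le (hI : SGA3.IsNormalHopfIdeal k A I) (hred : ringExpChar k = 1 → IsReduced A)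
    {v : V} (hv : v ≠ 0)
    (hrep : Dyn.Represents k A I (fun R _ _ g => SGA3.StabilizesLine k A v R g)) :
    I ≤ SGA3.augIdealSpan k A (coinv k I) := by
  -- the character
  obtain ⟨χ, hχv⟩ : SGA3.StabilizesLine k A v (A ⧸ I) (Ideal.Quotient.mkₐ k I) := by
    refine (hrep (A ⧸ I) (Ideal.Quotient.mkₐ k I)).1 ?_
    intro a ha
    rw [Ideal.Quotient.mkₐ_eq_mk, Ideal.Quotient.eq_zero_iff_mem]
    exact ha
  obtain ⟨l₁, hl₁⟩ : ∃ l : Module.Dual k V, l v = 1 := by
    have h0 : ¬ ∀ f : Module.Dual k V, f v = 0 := by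
      rw [Module.forall_dual_apply_eq_zero_iff]
      exact hv
    push Not at h0
    obtain ⟨f, hf⟩ := h0
    exact ⟨(f v)⁻¹ • f, by simp [hf]⟩
  set a₁ := coef (A := A) v l₁ with ha₁
  have hsemi := isSemi_coef (I := I) hχv
  have hε₁ : CoalgebraStruct.counit (R := k) a₁ = 1 := by rw [ha₁, counit_coef, hl₁]
  have hmk : Ideal.Quotient.mk I a₁ = χ := by
    rw [mk_eq_of_isSemi (hsemi l₁), hε₁, one_smul]
  have hχ : IsGroupLikeElem k χ := by
    refine ⟨?_, ?_⟩
    · rw [← hmk, Bialgebra.Quotient.counit_mk, hε₁]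
    · have h1 := isSemi_iff.1 (hsemi l₁)
      rw [← hmk, Bialgebra.Quotient.comul_mk]
      have h2 : TensorProduct.map (Ideal.Quotient.mkₐ k I).toLinearMap
          (Ideal.Quotient.mkₐ k I).toLinearMap (CoalgebraStruct.comul (R := k) a₁) =
          LinearMap.rTensor (A ⧸ I) (Ideal.Quotient.mkₐ k I).toLinearMap
            (LinearMap.lTensor A (Ideal.Quotient.mkₐ k I).toLinearMap
              (CoalgebraStruct.comul (R := k) a₁)) := by
        generalize CoalgebraStruct.comul (R := k) a₁ = z
        induction z using TensorProduct.induction_on with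
        | zero => simp
        | add x y hx hy => simp only [map_add, hx, hy]
        | tmul x y => simp
      rw [h2, h1, LinearMap.rTensor_tmul]
      have h3 : (Ideal.Quotient.mkₐ k I).toLinearMap (coef v l₁) = χ := hmk
      rw [h3, hmk]
  refine le_augIdealSpan_coinv hI hred (Set.range (coef (k := k) (A := A) v)) χ hχ ?_ a₁ (hsemi l₁) hε₁ ?_
  · rintro _ ⟨l, rfl⟩
    exact hsemi l
  · set J := Ideal.span {a : A | a ∈ Set.range (coef (k := k) (A := A) v) ∧
      CoalgebraStruct.counit (R := k) a = 0} with hJ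
    have hstab : SGA3.StabilizesLine k A v (A ⧸ J) (Ideal.Quotient.mkₐ k J) := by
      refine ⟨Ideal.Quotient.mkₐ k J a₁, ?_⟩
      rw [← sub_eq_zero]
      apply eq_zero_of_lslM_eq_zero
      intro μ
      rw [map_sub, lslM_lTensor, lslM_tmul, sub_eq_zero]
      change Ideal.Quotient.mkₐ k J (coef v μ) = _
      rw [← map_smul, ← sub_eq_zero, ← map_sub, Ideal.Quotient.mkₐ_eq_mk,
        Ideal.Quotient.eq_zero_iff_mem, ← coef_smul, ← coef_sub]
      apply Ideal.subset_span
      refine ⟨⟨_, rfl⟩, ?_⟩
      rw [counit_coef]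
      simp [hl₁]
    have := (hrep (A ⧸ J) (Ideal.Quotient.mkₐ k J)).2 hstab
    intro a ha
    have h3 := this a ha
    rwa [Ideal.Quotient.mkₐ_eq_mk, Ideal.Quotient.eq_zero_iff_mem] at h3

end Chev

/-- **Theorem.** A normal Hopf ideal of a finitely generated commutative Hopf algebra over a field
is generated by the augmentation ideal of its coinvariants. -/
theorem eq_augIdealSpan_coinv [Algebra.FiniteType k A] (hI : SGA3.IsNormalHopfIdeal k A I) :
    I = SGA3.augIdealSpan k A (coinv k I) := by
  apply le_antisymm _ augIdealSpan_coinv_le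
  obtain ⟨V, _, _, _, _, v, hv, hrep⟩ := Groth.Agent.S3019.result k A I
  exact main_le hI isReduced_of_ringExpChar hv hrep

end Groth.Agent.Lib.Helper66.NQ5
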