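import Groth.Agent.Lib.Helper66.NQ6
import Groth.Agent.Lib.Helper66.TK10
import Groth.Agent.Lib.Helper96.ChevChar
import Mathlib

/-!
# Normal Hopf ideals are generated by invariants: the general case (helper66)
-/

set_option autoImplicit false
open TensorProduct WithConv

universe u
namespace Groth.Agent.Lib.Helper66.NQ7
open Groth.Agent.Lib.Helper96 Groth.Agent.Lib.Helper66.NQ1 Groth.Agent.Lib.Helper66.NQ4
  Groth.Agent.Lib.Helper66.TK1

section Normal
variable {k : Type u} [Field k] {A : Type u} [CommRing A] [HopfAlgebra k A]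
variable {I : Ideal A} [I.IsHopfIdeal k]

/-- normality is detected on the universal pair of points -/
theorem isNormal_of_mm_kills (h : ∀ a ∈ I, (mm k I).ofConv a = 0) :
    SGA3.IsNormalHopfIdeal k A I := by
  intro R _ _ g n hn a ha
  rw [NormalInv.conv3_eq]
  let nbar : (A ⧸ I) →ₐ[k] R := Ideal.Quotient.liftₐ I n hn
  let φ : (A ⧸ I) ⊗[k] A →ₐ[k] R :=
    Algebra.TensorProduct.lift nbar (g.comp (HopfAlgebra.antipodeAlgHom k A))
      (fun _ _ => Commute.all _ _)
  have h1 : postComp φ (gg k I) = invC (toConv g) := by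
    apply WithConv.ofConv_injective
    apply AlgHom.ext
    intro a
    simp [φ, gg, invC, Algebra.TensorProduct.includeRight_apply]
  have h2 : postComp φ (nn k I) = toConv n := by
    apply WithConv.ofConv_injective
    apply AlgHom.ext
    intro a
    simp [φ, nn, nbar]
  have h3 : postComp φ (mm k I) = toConv g * toConv n * invC (toConv g) := by
    rw [mm, map_mul, map_mul, postComp_invC, h1, h2, invC_invC]
  have h4 : (toConv g * toConv n * toConv (g.comp (HopfAlgebra.antipodeAlgHom k A))) =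
      postComp φ (mm k I) := by
    rw [h3]
    rfl
  rw [h4]
  show φ ((mm k I).ofConv a) = 0
  rw [h a ha, map_zero]

end Normal

section Transfer
variable {k : Type u} [Field k] {A₀ A : Type u} [CommRing A₀] [HopfAlgebra k A₀]
  [CommRing A] [HopfAlgebra k A]
variable (ι : A₀ →ₐc[k] A) (hι : Function.Injective ι)
variable {I : Ideal A} [I.IsHopfIdeal k] {I₀ : Ideal A₀} [I₀.IsHopfIdeal k]
  (hI₀ : I₀ = I.comap (ι : A₀ →+* A))

/-- the induced map on quotients -/
noncomputable def ιbar : (A₀ ⧸ I₀) →ₐ[k] (A ⧸ I) :=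
  Ideal.Quotient.liftₐ I₀ ((Ideal.Quotient.mkₐ k I).comp (ι : A₀ →ₐ[k] A)) (by
    intro a ha
    rw [hI₀] at ha
    simp only [AlgHom.comp_apply, Ideal.Quotient.mkₐ_eq_mk]
    exact Ideal.Quotient.eq_zero_iff_mem.2 ha)

theorem ιbar_mk (a : A₀) : ιbar ι hI₀ (Ideal.Quotient.mk I₀ a) = Ideal.Quotient.mk I (ι a) := by
  simp [ιbar]

include hI₀ in
theorem ιbar_injective : Function.Injective (ιbar ι hI₀) := by
  rw [injective_iff_map_eq_zero]
  intro c hc
  obtain ⟨a, rfl⟩ := Ideal.Quotient.mk_surjective c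
  rw [ιbar_mk, Ideal.Quotient.eq_zero_iff_mem] at hc
  rw [Ideal.Quotient.eq_zero_iff_mem, hI₀]
  exact hc

/-- `ῑ ⊗ ι` -/
noncomputable def jj : (A₀ ⧸ I₀) ⊗[k] A₀ →ₐ[k] (A ⧸ I) ⊗[k] A :=
  Algebra.TensorProduct.map (ιbar ι hI₀) (ι : A₀ →ₐ[k] A)

include hι in
theorem jj_injective : Function.Injective (jj ι hI₀) := by
  have := TensorProduct.map_injective_of_flat_flat (ιbar ι hI₀).toLinearMap
    (ι : A₀ →ₐ[k] A).toLinearMap (ιbar_injective ι hI₀) hι
  intro x y hxy
  apply this
  exact hxy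

theorem postComp_jj_mm : postComp (jj ι hI₀) (mm k I₀) = preComp ι (mm k I) := by
  have h1 : postComp (jj ι hI₀) (gg k I₀) = preComp ι (gg k I) := by
    apply WithConv.ofConv_injective
    apply AlgHom.ext
    intro a
    simp [jj, gg, Algebra.TensorProduct.includeRight_apply]
  have h2 : postComp (jj ι hI₀) (nn k I₀) = preComp ι (nn k I) := by
    apply WithConv.ofConv_injective
    apply AlgHom.ext
    intro a
    simp [jj, nn, ιbar_mk]
  rw [mm, mm, map_mul, map_mul, map_mul, map_mul, postComp_invC, preComp_invC, h1, h2]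

include hι hI₀ in
theorem isNormal_comap (hI : SGA3.IsNormalHopfIdeal k A I) : SGA3.IsNormalHopfIdeal k A₀ I₀ := by
  apply isNormal_of_mm_kills
  intro a ha
  apply jj_injective ι hι hI₀
  rw [map_zero]
  have h1 := congrArg (fun f : WithConv (A₀ →ₐ[k] (A ⧸ I) ⊗[k] A) => f.ofConv a)
    (postComp_jj_mm ι hI₀)
  simp only [postComp_apply, preComp_apply, ofConv_toConv, AlgHom.comp_apply] at h1
  rw [h1]
  apply mm_kills k I hI
  rw [hI₀] at ha
  exact ha

include hI₀ in
theorem map_mem_coinv {b : A₀} (hb : b ∈ coinv k I₀) : ι b ∈ coinv k I := by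
  rw [mem_coinv] at hb ⊢
  unfold IsSemi at hb ⊢
  have key : ∀ z : A₀ ⊗[k] A₀,
      Algebra.TensorProduct.map (ι : A₀ →ₐ[k] A) (ιbar ι hI₀)
        (Algebra.TensorProduct.map (AlgHom.id k A₀) (Ideal.Quotient.mkₐ k I₀) z) =
      Algebra.TensorProduct.map (AlgHom.id k A) (Ideal.Quotient.mkₐ k I)
        (TensorProduct.map (ι : A₀ →ₗ[k] A) (ι : A₀ →ₗ[k] A) z) := by
    intro z
    induction z using TensorProduct.induction_on with
    | zero => simp
    | add x y hx hy => simp only [map_add, hx, hy]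
    | tmul x y => simp [ιbar_mk]
  have h1 := congrArg (Algebra.TensorProduct.map (ι : A₀ →ₐ[k] A) (ιbar ι hI₀)) hb
  simp only [ρR, AlgHom.comp_apply, Bialgebra.comulAlgHom_apply] at h1 ⊢
  rw [key, CoalgHomClass.map_comp_comul_apply] at h1
  rw [h1]
  simp

include hι hI₀ in
/-- transfer of the finitely generated theorem along an injective bialgebra map -/
theorem map_le_augIdealSpan [Algebra.FiniteType k A₀] (hI : SGA3.IsNormalHopfIdeal k A I)
    {x : A₀} (hx : x ∈ I₀) : ι x ∈ SGA3.augIdealSpan k A (coinv k I) := by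
  have hI₀n := isNormal_comap ι hι hI₀ hI
  have h1 := NQ5.eq_augIdealSpan_coinv hI₀n
  rw [h1] at hx
  have h2 : SGA3.augIdealSpan k A₀ (coinv k I₀) ≤
      (SGA3.augIdealSpan k A (coinv k I)).comap (ι : A₀ →+* A) := by
    unfold SGA3.augIdealSpan
    rw [Ideal.span_le]
    rintro b ⟨hb, hε⟩
    apply Ideal.subset_span
    refine ⟨map_mem_coinv ι hI₀ hb, ?_⟩
    show CoalgebraStruct.counit (R := k) (ι b) = 0
    rw [CoalgHomClass.counit_comp_apply]
    exact hε
  exact h2 hx

end Transfer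

end Groth.Agent.Lib.Helper66.NQ7
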