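import Groth.Agent.Lib.Helper66.NQ7
import Mathlib

/-!
# Normal Hopf ideals are generated by their invariants (helper66)

`I = A · (A^{co A/I})⁺` for every normal Hopf ideal of a commutative Hopf algebra over a field.
-/

set_option autoImplicit false
open TensorProduct WithConv

universe u
namespace Groth.Agent.Lib.Helper66.NQ8
open Groth.Agent.Lib.Helper96 Groth.Agent.Lib.Helper66.NQ1 Groth.Agent.Lib.Helper66.NQ4
  Groth.Agent.Lib.Helper66.TK1 Groth.Agent.Lib.Helper66.TK7 Groth.Agent.Lib.Helper66.TK10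

variable {k : Type u} [Field k] {A : Type u} [CommRing A] [HopfAlgebra k A]
variable {I : Ideal A} [I.IsHopfIdeal k]

/-- **Theorem.** A normal Hopf ideal is generated by the augmentation ideal of its coinvariants. -/
theorem eq_augIdealSpan_coinv (hI : SGA3.IsNormalHopfIdeal k A I) :
    I = SGA3.augIdealSpan k A (coinv k I) := by
  apply le_antisymm _ augIdealSpan_coinv_le
  intro x hx
  obtain ⟨A₀, hHS, hfg, hx₀⟩ := exists_fg_isHS_finset (k := k) ({x} : Finset A)
  letI := hopfAlgebraOfSub A₀ hHS.1 hHS.2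
  let ι : A₀ →ₐc[k] A := subBialgHom A₀ hHS.1 hHS.2
  have hι : Function.Injective ι := subBialgHom_injective A₀ hHS.1 hHS.2
  let φ : A₀ →ₐc[k] A ⧸ I := (πb k I).comp ι
  let I₀ : Ideal A₀ := RingHom.ker (φ : A₀ →+* A ⧸ I)
  haveI : I₀.IsHopfIdeal k := ChevChar.isHopfIdeal_ker φ
  have hI₀ : I₀ = I.comap (ι : A₀ →+* A) := by
    ext a
    rw [RingHom.mem_ker, Ideal.mem_comap]
    show Ideal.Quotient.mk I (ι a) = 0 ↔ _
    rw [Ideal.Quotient.eq_zero_iff_mem]
    rfl
  haveI : Algebra.FiniteType k A₀ := (Subalgebra.fg_iff_finiteType A₀).1 hfg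
  have hxm : x ∈ A₀ := hx₀ x (Finset.mem_singleton_self x)
  have hx' : (⟨x, hxm⟩ : A₀) ∈ I₀ := by
    rw [hI₀, Ideal.mem_comap]
    exact hx
  exact NQ7.map_le_augIdealSpan ι hι hI₀ hI hx'

end Groth.Agent.Lib.Helper66.NQ8
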