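import Mathlib
import Groth.Prelude.Def_CartDual2

open scoped TensorProduct

namespace Groth.Agent.Lib.Helper66.OT10

universe u

section LiftSurj
variable {R : Type*} [CommRing R] {T : Type*} [Ring T] [Algebra R T] {A : Type*} [Ring A]
  [Algebra R A] {C : Type*} [Ring C] [Algebra R C]

theorem liftSurj_key (f : T →ₐ[R] A) (hf : Function.Surjective f) (g : T →ₐ[R] C)
    (H : ∀ t, f t = 0 → g t = 0) (t : T) : g (Function.surjInv hf (f t)) = g t := by
  have h1 : f (Function.surjInv hf (f t) - t) = 0 := by
    rw [map_sub, Function.surjInv_eq hf, sub_self]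
  have h2 := H _ h1
  rw [map_sub, sub_eq_zero] at h2
  exact h2

/-- descend an algebra map along a surjection (no commutativity needed) -/
noncomputable def liftSurj (f : T →ₐ[R] A) (hf : Function.Surjective f) (g : T →ₐ[R] C)
    (H : ∀ t, f t = 0 → g t = 0) : A →ₐ[R] C where
  toFun a := g (Function.surjInv hf a)
  map_one' := by
    have := liftSurj_key f hf g H 1
    rw [map_one] at this
    rw [this, map_one]
  map_mul' a b := by
    have := liftSurj_key f hf g H (Function.surjInv hf a * Function.surjInv hf b)
    rw [map_mul, Function.surjInv_eq hf, Function.surjInv_eq hf] at this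
    rw [this, map_mul]
  map_zero' := by
    have := liftSurj_key f hf g H 0
    rw [map_zero] at this
    rw [this, map_zero]
  map_add' a b := by
    have := liftSurj_key f hf g H (Function.surjInv hf a + Function.surjInv hf b)
    rw [map_add, Function.surjInv_eq hf, Function.surjInv_eq hf] at this
    rw [this, map_add]
  commutes' r := by
    have := liftSurj_key f hf g H (algebraMap R T r)
    rw [AlgHom.commutes] at this
    rw [this, AlgHom.commutes]

theorem liftSurj_apply (f : T →ₐ[R] A) (hf : Function.Surjective f) (g : T →ₐ[R] C)
    (H : ∀ t, f t = 0 → g t = 0) (t : T) : liftSurj f hf g H (f t) = g t :=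
  liftSurj_key f hf g H t

end LiftSurj

section DualRank

theorem rankAtStalk_dual {R : Type u} [CommRing R] {M : Type u} [AddCommGroup M] [Module R M]
    [Module.Finite R M] [Module.Projective R M] (q : PrimeSpectrum R) :
    Module.rankAtStalk (Module.Dual R M) q = Module.rankAtStalk M q := by
  let S := Localization.AtPrime q.asIdeal
  haveI : Module.FinitePresentation R M := Module.finitePresentation_of_projective R M
  have hbc : IsBaseChange S (LinearMap.baseChangeHom R S M R) :=
    Module.FinitePresentation.isBaseChange_map R M R S
  have hq : (IsLocalRing.closedPoint S).comap (algebraMap R S) = q := by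
    apply PrimeSpectrum.ext
    exact Localization.AtPrime.under_maximalIdeal (I := q.asIdeal)
  have h1 := Module.rankAtStalk_baseChange (R := R) (M := Module.Dual R M) (S := S)
    (IsLocalRing.closedPoint S)
  rw [hq] at h1
  have h2 := Module.rankAtStalk_baseChange (R := R) (M := M) (S := S) (IsLocalRing.closedPoint S)
  rw [hq] at h2
  rw [← h1, ← h2]
  haveI : Module.Free S (S ⊗[R] M) := Module.free_of_flat_of_isLocalRing
  have e : S ⊗[R] (Module.Dual R M) ≃ₗ[S] (S ⊗[R] M →ₗ[S] S ⊗[R] R) := hbc.equiv
  haveI : Module.Free S (S ⊗[R] (Module.Dual R M)) := Module.Free.of_equiv e.symm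
  rw [Module.rankAtStalk_eq_finrank_of_free, Module.rankAtStalk_eq_finrank_of_free]
  simp only [Pi.natCast_apply, Nat.cast_id]
  rw [e.finrank_eq, Module.finrank_linearMap,
    (TensorProduct.AlgebraTensorModule.rid R S S).finrank_eq, Module.finrank_self, mul_one]

theorem rankAtStalk_D {R : Type u} [CommRing R] {A : Type u} [Ring A] [Algebra R A]
    [Module.Finite R A] [Module.Projective R A] (q : PrimeSpectrum R) :
    Module.rankAtStalk (CartDual.D R A) q = Module.rankAtStalk A q := by
  rw [← rankAtStalk_dual (M := A) q]
  exact congrFun (Module.rankAtStalk_eq_of_equiv (CartDual.toDual R A)) q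

end DualRank

end Groth.Agent.Lib.Helper66.OT10
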