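import Mathlib
import Groth.Prelude.Def_CartDual2
import Groth.Agent.Lib.Helper66.CoBase
import Groth.Agent.Lib.Helper66.PrimDual
import Groth.Agent.Lib.Helper66.PointsDecomp
import Groth.Agent.S7970
import Groth.Agent.S18472

open scoped TensorProduct
open Groth.Agent.Lib.Helper66.CoBase Groth.Agent.Lib.Helper66.PrimDual
  Groth.Agent.Lib.Helper66.PointsDecomp Groth.Agent.Lib.Helper66.TruncPoly

namespace Groth.Agent.Lib.Helper66.OrderP1

universe u v

section Field
variable {κ : Type u} [Field κ] {A : Type v} [CommRing A] [HopfAlgebra κ A] [Module.Finite κ A]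

/-- order `p` Hopf algebras over any field are cocommutative -/
theorem isCocomm_field (p : ℕ) (hp : p.Prime) (hA : Module.finrank κ A = p) :
    Coalgebra.IsCocomm κ A := by
  haveI : Coalgebra.IsCocomm (AlgebraicClosure κ) (AlgebraicClosure κ ⊗[κ] A) :=
    Groth.Agent.S7970.result (AlgebraicClosure κ) (AlgebraicClosure κ ⊗[κ] A) p hp
      (by rw [Module.finrank_baseChange]; exact hA)
  apply isCocomm_of_injective κ (AlgebraicClosure κ) A
  intro x hx
  have := Module.Flat.tensorProduct_mk_injective (R := κ) (S := AlgebraicClosure κ) (M := A ⊗[κ] A)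
  apply this
  rw [map_zero]
  exact hx

/-- universe polymorphic version of S4113 -/
theorem sq_eq_self_of_finrank_ne_zero' (h : (Module.finrank κ A : κ) ≠ 0) :
    RingHom.ker (Bialgebra.counitAlgHom κ A) ^ 2 = RingHom.ker (Bialgebra.counitAlgHom κ A) := by
  have h1 : (Module.finrank (AlgebraicClosure κ) ((AlgebraicClosure κ) ⊗[κ] A) : AlgebraicClosure κ) ≠ 0 := by
    rw [Module.finrank_baseChange]
    intro h0
    apply h
    have : algebraMap κ (AlgebraicClosure κ) (Module.finrank κ A : κ) = 0 := by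
      rw [map_natCast]; exact h0
    exact (map_eq_zero_iff _ (algebraMap κ (AlgebraicClosure κ)).injective).1 this
  have h2 := sq_eq_self_of_finrank_ne_zero (K := AlgebraicClosure κ)
    (A := (AlgebraicClosure κ) ⊗[κ] A) h1
  haveI : Algebra.Etale (AlgebraicClosure κ) ((AlgebraicClosure κ) ⊗[κ] A) :=
    (Groth.Agent.S18472.result (AlgebraicClosure κ) ((AlgebraicClosure κ) ⊗[κ] A)).2 h2
  haveI : Algebra.Etale κ A := Algebra.Etale.of_etale_tensorProduct_of_faithfullyFlat (AlgebraicClosure κ)
  exact (Groth.Agent.S18472.result κ A).1 inferInstance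

end Field


section Red
variable {R : Type u} [CommRing R] {κ : Type u} [Field κ] [Algebra R κ]
  {A : Type v} [CommRing A] [HopfAlgebra R A] [Module.Finite R A] [Module.Projective R A]

/-- reduction of linear forms: `D(A) → D(A_κ)` -/
noncomputable def red (φ : CartDual.D R A) : CartDual.D κ (κ ⊗[R] A) :=
  WithConv.toConv ((TensorProduct.AlgebraTensorModule.rid R κ κ).toLinearMap ∘ₗ
    (LinearMap.baseChange κ φ.ofConv))

theorem red_tmul (φ : CartDual.D R A) (c : κ) (a : A) :
    (red (κ := κ) φ).ofConv (c ⊗ₜ[R] a) = c * algebraMap R κ (φ.ofConv a) := by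
  simp [red, Algebra.smul_def, mul_comm]

theorem dual_ext {ξ ξ' : CartDual.D κ (κ ⊗[R] A)}
    (h : ∀ a : A, ξ.ofConv ((1 : κ) ⊗ₜ[R] a) = ξ'.ofConv ((1 : κ) ⊗ₜ[R] a)) : ξ = ξ' := by
  apply WithConv.ofConv_injective
  apply TensorProduct.AlgebraTensorModule.ext
  intro c a
  have : c ⊗ₜ[R] a = c • ((1 : κ) ⊗ₜ[R] a) := by
    rw [TensorProduct.smul_tmul', smul_eq_mul, mul_one]
  rw [this, map_smul, map_smul, h]

theorem red_add (φ ψ : CartDual.D R A) : red (κ := κ) (φ + ψ) = red φ + red ψ := by
  apply dual_ext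
  intro a
  simp [red_tmul, mul_add]

theorem red_zero : red (κ := κ) (0 : CartDual.D R A) = 0 := by
  apply dual_ext
  intro a
  simp [red_tmul]

theorem red_smul (r : R) (φ : CartDual.D R A) :
    red (κ := κ) (r • φ) = algebraMap R κ r • red φ := by
  apply dual_ext
  intro a
  rw [red_tmul, WithConv.ofConv_smul, WithConv.ofConv_smul, LinearMap.smul_apply,
    LinearMap.smul_apply, red_tmul, smul_eq_mul, smul_eq_mul, map_mul, one_mul, one_mul]

theorem red_sum {ι : Type*} (s : Finset ι) (f : ι → CartDual.D R A) :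
    red (κ := κ) (∑ i ∈ s, f i) = ∑ i ∈ s, red (f i) := by
  classical
  induction s using Finset.induction_on with
  | empty => simp [red_zero]
  | insert a s ha ih => rw [Finset.sum_insert ha, Finset.sum_insert ha, red_add, ih]

theorem red_one : red (κ := κ) (1 : CartDual.D R A) = 1 := by
  apply dual_ext
  intro a
  rw [red_tmul, one_mul]
  simp [LinearMap.convOne_def, Algebra.smul_def]

theorem mul_map_red_Θ (φ ψ : CartDual.D R A) (t : A ⊗[R] A) :
    LinearMap.mul' κ κ (TensorProduct.map (red (κ := κ) φ).ofConv (red (κ := κ) ψ).ofConv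
      (Θ R κ A t)) =
      algebraMap R κ (LinearMap.mul' R R (TensorProduct.map φ.ofConv ψ.ofConv t)) := by
  induction t using TensorProduct.induction_on with
  | zero => simp
  | tmul x y =>
    rw [Θ_tmul, TensorProduct.map_tmul, LinearMap.mul'_apply, red_tmul, red_tmul,
      TensorProduct.map_tmul, LinearMap.mul'_apply, map_mul, one_mul, one_mul]
  | add t t' ht ht' => simp only [map_add, ht, ht']

theorem red_mul (φ ψ : CartDual.D R A) : red (κ := κ) (φ * ψ) = red φ * red ψ := by
  apply dual_ext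
  intro a
  rw [red_tmul, one_mul, LinearMap.convMul_apply, LinearMap.convMul_apply, comul_one_tmul,
    mul_map_red_Θ]

theorem red_pow (φ : CartDual.D R A) (n : ℕ) : red (κ := κ) (φ ^ n) = red φ ^ n := by
  induction n with
  | zero => rw [pow_zero, pow_zero, red_one]
  | succ n ih => rw [pow_succ, pow_succ, red_mul, ih]

end Red


section Lift
variable {R : Type u} [CommRing R] {κ : Type u} [Field κ] [Algebra R κ]
  {A : Type v} [CommRing A] [HopfAlgebra R A] [Module.Finite R A] [Module.Free R A]

theorem exists_red_eq (hsurj : Function.Surjective (algebraMap R κ))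
    (ξ : CartDual.D κ (κ ⊗[R] A)) : ∃ φ : CartDual.D R A, red (κ := κ) φ = ξ := by
  classical
  let b := Module.Free.chooseBasis R A
  choose r hr using fun i => hsurj (ξ.ofConv ((1 : κ) ⊗ₜ[R] b i))
  refine ⟨WithConv.toConv (b.constr R r), ?_⟩
  apply dual_ext
  intro a
  rw [red_tmul, one_mul, WithConv.ofConv_toConv]
  have h : (Algebra.linearMap R κ) ∘ₗ (b.constr R r) =
      (ξ.ofConv.restrictScalars R) ∘ₗ (TensorProduct.mk R κ A 1) := by
    apply b.ext
    intro i
    simp [hr]
  exact DFunLike.congr_fun h a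

theorem mem_smul_top_of_red_eq_zero (ψ : CartDual.D R A) (h : red (κ := κ) ψ = 0) :
    ψ ∈ (RingHom.ker (algebraMap R κ)) • (⊤ : Submodule R (CartDual.D R A)) := by
  classical
  let b := Module.Free.chooseBasis R A
  have h1 : ∀ a : A, ψ.ofConv a ∈ RingHom.ker (algebraMap R κ) := by
    intro a
    rw [RingHom.mem_ker]
    have := congrArg (fun ξ : CartDual.D κ (κ ⊗[R] A) => ξ.ofConv ((1 : κ) ⊗ₜ[R] a)) h
    simpa [red_tmul] using this
  have h2 : ψ = ∑ i, ψ.ofConv (b i) • (WithConv.toConv (b.coord i) : CartDual.D R A) := by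
    apply WithConv.ofConv_injective
    rw [WithConv.ofConv_sum]
    simp only [WithConv.ofConv_smul]
    exact (b.sum_dual_apply_smul_coord ψ.ofConv).symm
  rw [h2]
  refine Submodule.sum_mem _ fun i _ => ?_
  exact Submodule.smul_mem_smul (h1 _) Submodule.mem_top

end Lift


section Nak
variable {R : Type u} [CommRing R] [IsLocalRing R] {κ : Type u} [Field κ] [Algebra R κ]
  {A : Type v} [CommRing A] [HopfAlgebra R A] [Module.Finite R A] [Module.Free R A]

theorem red_sub (φ ψ : CartDual.D R A) : red (κ := κ) (φ - ψ) = red φ - red ψ := by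
  rw [eq_sub_iff_add_eq, ← red_add, sub_add_cancel]

theorem span_pow_eq_top (hsurj : Function.Surjective (algebraMap R κ))
    (hker : RingHom.ker (algebraMap R κ) = IsLocalRing.maximalIdeal R)
    (y : CartDual.D R A) (n : ℕ)
    (hy : Submodule.span κ (Set.range fun i : Fin n => (red (κ := κ) y) ^ (i : ℕ)) = ⊤) :
    Submodule.span R (Set.range fun i : Fin n => y ^ (i : ℕ)) = ⊤ := by
  rw [eq_top_iff]
  apply Submodule.le_of_le_smul_of_le_jacobson_bot (I := IsLocalRing.maximalIdeal R)
    (Module.Finite.fg_top) (IsLocalRing.maximalIdeal_le_jacobson ⊥)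
  intro φ _
  have h1 : red (κ := κ) φ ∈ Submodule.span κ (Set.range fun i : Fin n => (red (κ := κ) y) ^ (i : ℕ)) := by
    rw [hy]; trivial
  obtain ⟨c, hc⟩ := (Submodule.mem_span_range_iff_exists_fun κ).1 h1
  choose r hr using fun i => hsurj (c i)
  set φ' : CartDual.D R A := ∑ i : Fin n, r i • y ^ (i : ℕ) with hφ'
  have h2 : red (κ := κ) (φ - φ') = 0 := by
    rw [red_sub, hφ', red_sum, ← hc, sub_eq_zero]
    refine Finset.sum_congr rfl fun i _ => ?_
    rw [red_smul, red_pow, hr]
  have h3 := mem_smul_top_of_red_eq_zero (κ := κ) (φ - φ') h2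
  rw [hker] at h3
  have h4 : φ = φ' + (φ - φ') := by abel
  rw [h4]
  refine Submodule.add_mem_sup ?_ h3
  rw [hφ']
  refine Submodule.sum_mem _ fun i _ => ?_
  exact Submodule.smul_mem _ _ (Submodule.subset_span ⟨i, rfl⟩)

omit [IsLocalRing R] in
theorem mul_comm_of_span_pow (y : CartDual.D R A) (n : ℕ)
    (h : Submodule.span R (Set.range fun i : Fin n => y ^ (i : ℕ)) = ⊤) (φ ψ : CartDual.D R A) :
    φ * ψ = ψ * φ := by
  have h1 : ∀ ψ ∈ Submodule.span R (Set.range fun i : Fin n => y ^ (i : ℕ)), ∀ m : ℕ,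
      Commute (y ^ m) ψ := by
    intro ψ hψ m
    induction hψ using Submodule.span_induction with
    | mem x hx =>
      obtain ⟨i, rfl⟩ := hx
      exact Commute.pow_pow_self y m i
    | zero => exact Commute.zero_right _
    | add a b _ _ ha hb => exact ha.add_right hb
    | smul r a _ ha => exact ha.smul_right r
  have h2 : ∀ φ ∈ Submodule.span R (Set.range fun i : Fin n => y ^ (i : ℕ)),
      ∀ ψ : CartDual.D R A, Commute φ ψ := by
    intro φ hφ ψ
    induction hφ using Submodule.span_induction with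
    | mem x hx =>
      obtain ⟨i, rfl⟩ := hx
      exact h1 ψ (by rw [h]; trivial) i
    | zero => exact Commute.zero_left _
    | add a b _ _ ha hb => exact ha.add_left hb
    | smul r a _ ha => exact ha.smul_left r
  exact h2 φ (by rw [h]; trivial) ψ

end Nak


section DualComm
variable {R : Type u} [CommRing R] {A : Type v} [CommRing A] [Bialgebra R A]
  [Module.Finite R A] [Module.Projective R A]

theorem ev₂_apply_comul (φ ψ : CartDual.D R A) (a : A) :
    CartDual.ev₂ R A (φ ⊗ₜ[R] ψ) (Coalgebra.comul (R := R) a) = (φ * ψ).ofConv a := by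
  rw [CartDual.ev₂_tmul_eq', LinearMap.convMul_apply]
  rfl

theorem ev₂_tmul_comm (φ ψ : CartDual.D R A) (x : A ⊗[R] A) :
    CartDual.ev₂ R A (φ ⊗ₜ[R] ψ) (TensorProduct.comm R A A x) = CartDual.ev₂ R A (ψ ⊗ₜ[R] φ) x := by
  induction x using TensorProduct.induction_on with
  | zero => simp
  | tmul a b => simp [mul_comm]
  | add x y hx hy => simp only [map_add, hx, hy]

theorem isCocomm_of_dual_comm (h : ∀ φ ψ : CartDual.D R A, φ * ψ = ψ * φ) :
    Coalgebra.IsCocomm R A := by
  refine ⟨?_⟩
  apply LinearMap.ext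
  intro a
  rw [LinearMap.comp_apply, LinearEquiv.coe_coe, ← sub_eq_zero]
  rw [← Module.forall_dual_apply_eq_zero_iff R]
  intro ξ
  obtain ⟨t, rfl⟩ := (CartDual.ev₂ R A).surjective ξ
  induction t using TensorProduct.induction_on with
  | zero => simp
  | tmul φ ψ =>
    rw [map_sub, sub_eq_zero, ev₂_tmul_comm, ev₂_apply_comul, ev₂_apply_comul, h]
  | add t t' ht ht' =>
    rw [map_add, LinearMap.add_apply, ht, ht', add_zero]

end DualComm


section PrimField
variable {k : Type u} [Field k] {A : Type v} [CommRing A] [HopfAlgebra k A] [Module.Finite k A]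

/-- a finite group scheme over a field with `I² ≠ I` has a nonzero primitive element in its dual -/
theorem exists_isPrim_ne_zero_of_sq_ne
    (hne : RingHom.ker (Bialgebra.counitAlgHom k A) ^ 2 ≠ RingHom.ker (Bialgebra.counitAlgHom k A)) :
    ∃ y : CartDual.D k A, IsPrim (k := k) y ∧ y ≠ 0 := by
  set I : Ideal A := RingHom.ker (Bialgebra.counitAlgHom k A) with hIdef
  have hI : ∀ a, a ∈ I ↔ Coalgebra.counit (R := k) a = 0 := fun a => by
    rw [hIdef, RingHom.mem_ker]; rfl
  have hnsub : ¬ Subsingleton I.Cotangent := by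
    intro hsub
    have := (Ideal.cotangent_subsingleton_iff I).1 hsub
    exact hne (by rw [sq]; exact this)
  rw [not_subsingleton_iff_nontrivial] at hnsub
  obtain ⟨t, ht⟩ := exists_ne (0 : I.Cotangent)
  obtain ⟨f, hf⟩ : ∃ f : I.Cotangent →ₗ[k] k, f t ≠ 0 := by
    by_contra hcon
    push Not at hcon
    exact ht ((Module.forall_dual_apply_eq_zero_iff k t).1 hcon)
  obtain ⟨x, rfl⟩ := I.toCotangent_surjective t
  refine ⟨WithConv.toConv (epsDer I hI f), isPrim_toConv _ (epsDer_mul I hI f), ?_⟩
  intro h0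
  apply hf
  have h1 : epsDer I hI f (x : A) = 0 := by
    have := congrArg (fun w : CartDual.D k A => w.ofConv (x : A)) h0
    exact this
  simp only [epsDer, LinearMap.comp_apply, LinearMap.restrictScalars_apply] at h1
  rw [augProj_of_mem I hI _ x.2] at h1
  exact h1

theorem finrank_dual_eq : Module.finrank k (CartDual.D k A) = Module.finrank k A := by
  rw [(CartDual.toDual k A).finrank_eq, Subspace.dual_finrank_eq]

end PrimField

section CaseL
variable {R : Type u} [CommRing R] [IsLocalRing R] {κ : Type u} [Field κ] [Algebra R κ]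
  {A : Type v} [CommRing A] [HopfAlgebra R A] [Module.Finite R A] [Module.Free R A]

/-- Case L: the special fibre is not étale. -/
theorem isCocomm_of_sq_ne (hsurj : Function.Surjective (algebraMap R κ))
    (hker : RingHom.ker (algebraMap R κ) = IsLocalRing.maximalIdeal R)
    (p : ℕ) [Fact p.Prime] (hrk : Module.finrank R A = p)
    (hne : RingHom.ker (Bialgebra.counitAlgHom κ (κ ⊗[R] A)) ^ 2 ≠
      RingHom.ker (Bialgebra.counitAlgHom κ (κ ⊗[R] A))) :
    Coalgebra.IsCocomm R A := by
  have hfr : Module.finrank κ (κ ⊗[R] A) = p := by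
    rw [Module.finrank_baseChange, hrk]
  haveI : CharP κ p := by
    rw [CharP.charP_iff_prime_eq_zero (Fact.out : p.Prime)]
    by_contra h0
    apply hne
    apply sq_eq_self_of_finrank_ne_zero'
    rw [hfr]
    exact h0
  obtain ⟨y₀, hy₀, hy₀0⟩ := exists_isPrim_ne_zero_of_sq_ne (k := κ) (A := κ ⊗[R] A) hne
  have hli := hy₀.linearIndependent_pow hy₀0 p p le_rfl
  have hspan : Submodule.span κ (Set.range fun i : Fin p => y₀ ^ (i : ℕ)) = ⊤ := by
    apply hli.span_eq_top_of_card_eq_finrank'
    rw [Fintype.card_fin, finrank_dual_eq, hfr]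
  obtain ⟨y, rfl⟩ := exists_red_eq (κ := κ) hsurj y₀
  have h1 := span_pow_eq_top hsurj hker y p hspan
  exact isCocomm_of_dual_comm (mul_comm_of_span_pow y p h1)

end CaseL

end Groth.Agent.Lib.Helper66.OrderP1
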