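import Mathlib
import Groth.Prelude.Def_CartDual2
import Groth.Agent.Lib.Helper66.CoBase
import Groth.Agent.S18472
import Groth.Agent.Lib.Helper66.OrderP1

open scoped TensorProduct
open Groth.Agent.Lib.Helper66.CoBase Groth.Agent.Lib.Helper66.OrderP1

namespace Groth.Agent.Lib.Helper66.OrderP2

universe u v

section Rigid

/-- rigidity of maps out of a finite unramified algebra -/
theorem algHom_eq_of_unramified {R : Type*} [CommRing R] {A B : Type*} [CommRing A] [CommRing B]
    [Algebra R A] [Algebra R B] [Algebra.FormallyUnramified R A] [Algebra.EssFiniteType R A]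
    (f g : A →ₐ[R] B) (𝔞 : Ideal B) (h𝔞 : 𝔞 ≤ Ideal.jacobson ⊥) (hfg : ∀ a, f a - g a ∈ 𝔞) :
    f = g := by
  obtain ⟨t, ht1, ht2⟩ := Algebra.FormallyUnramified.iff_exists_tensorProduct.1
    (inferInstance : Algebra.FormallyUnramified R A)
  let F : A ⊗[R] A →ₐ[R] B := Algebra.TensorProduct.productMap f g
  have hF : ∀ x : A ⊗[R] A, F x - f (Algebra.TensorProduct.lmul' R x) ∈ 𝔞 := by
    intro x
    induction x using TensorProduct.induction_on with
    | zero => simp
    | tmul a b =>
      have : F (a ⊗ₜ[R] b) - f (Algebra.TensorProduct.lmul' R (a ⊗ₜ[R] b)) = - (f a * (f b - g b)) := by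
        simp only [F, Algebra.TensorProduct.productMap_apply_tmul, Algebra.TensorProduct.lmul'_apply_tmul,
          map_mul]
        ring
      rw [this]
      exact 𝔞.neg_mem (𝔞.mul_mem_left _ (hfg b))
    | add x y hx hy =>
      have : F (x + y) - f (Algebra.TensorProduct.lmul' R (x + y)) =
          (F x - f (Algebra.TensorProduct.lmul' R x)) + (F y - f (Algebra.TensorProduct.lmul' R y)) := by
        simp only [map_add]; ring
      rw [this]
      exact 𝔞.add_mem hx hy
  have h1 : F t - 1 ∈ Ideal.jacobson (⊥ : Ideal B) := by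
    have := hF t
    rw [ht2, map_one] at this
    exact h𝔞 this
  have hunit : IsUnit (F t) := by
    have := (Ideal.mem_jacobson_bot.1 h1) 1
    simpa using this
  apply AlgHom.ext
  intro s
  have h2 := congrArg F (ht1 s)
  rw [map_mul, map_sub, map_zero] at h2
  simp only [F, Algebra.TensorProduct.productMap_apply_tmul, map_one, one_mul, mul_one] at h2
  have h3 := (hunit.mul_left_eq_zero).1 h2
  exact (sub_eq_zero.1 h3).symm

/-- over a local ring, the extension of the maximal ideal to an integral algebra lies in the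
Jacobson radical -/
theorem map_maximalIdeal_le_jacobson {R : Type*} [CommRing R] [IsLocalRing R] {B : Type*}
    [CommRing B] [Algebra R B] [Algebra.IsIntegral R B] :
    Ideal.map (algebraMap R B) (IsLocalRing.maximalIdeal R) ≤ Ideal.jacobson (⊥ : Ideal B) := by
  unfold Ideal.jacobson
  refine le_sInf ?_
  rintro M ⟨-, hM⟩
  rw [Ideal.map_le_iff_le_comap]
  haveI := hM
  have h1 : (M.comap (algebraMap R B)).IsMaximal :=
    Ideal.isMaximal_comap_of_isIntegral_of_isMaximal M
  rw [IsLocalRing.eq_maximalIdeal h1]

end Rigid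


section Aug
variable {R : Type u} [CommRing R] {κ : Type u} [Field κ] [Algebra R κ]
  {A : Type v} [CommRing A] [HopfAlgebra R A]

theorem includeRight_surjective (hsurj : Function.Surjective (algebraMap R κ)) :
    Function.Surjective (Algebra.TensorProduct.includeRight : A →ₐ[R] κ ⊗[R] A) := by
  intro x
  induction x using TensorProduct.induction_on with
  | zero => exact ⟨0, map_zero _⟩
  | tmul c a =>
    obtain ⟨r, rfl⟩ := hsurj c
    refine ⟨r • a, ?_⟩
    rw [Algebra.TensorProduct.includeRight_apply, TensorProduct.tmul_smul,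
      TensorProduct.smul_tmul', Algebra.smul_def, mul_one]
  | add x y hx hy =>
    obtain ⟨a, rfl⟩ := hx
    obtain ⟨b, rfl⟩ := hy
    exact ⟨a + b, map_add _ _ _⟩

/-- projection onto the augmentation ideal -/
noncomputable def π : A →ₗ[R] A :=
  LinearMap.id - (Algebra.linearMap R A) ∘ₗ (Coalgebra.counit (R := R) (A := A))

theorem π_apply (a : A) : π (R := R) a = a - algebraMap R A (Coalgebra.counit (R := R) a) := rfl

theorem π_mem (a : A) : π (R := R) a ∈ RingHom.ker (Bialgebra.counitAlgHom R A) := by
  rw [RingHom.mem_ker, π_apply, map_sub]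
  show Coalgebra.counit (R := R) a - Coalgebra.counit (R := R) (algebraMap R A _) = 0
  rw [Bialgebra.counit_algebraMap]
  simp

theorem π_of_mem (a : A) (ha : a ∈ RingHom.ker (Bialgebra.counitAlgHom R A)) : π (R := R) a = a := by
  rw [RingHom.mem_ker] at ha
  have : Coalgebra.counit (R := R) a = 0 := ha
  rw [π_apply, this, map_zero, sub_zero]

theorem ker_counit_le_map (hsurj : Function.Surjective (algebraMap R κ)) :
    RingHom.ker (Bialgebra.counitAlgHom κ (κ ⊗[R] A)) ≤
      Ideal.map (Algebra.TensorProduct.includeRight : A →ₐ[R] κ ⊗[R] A)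
        (RingHom.ker (Bialgebra.counitAlgHom R A)) := by
  intro x hx
  obtain ⟨a, rfl⟩ := includeRight_surjective (κ := κ) (A := A) hsurj x
  rw [RingHom.mem_ker] at hx
  have h1 : algebraMap R κ (Coalgebra.counit (R := R) a) = 0 := by
    rw [← counit_one_tmul]
    exact hx
  have h2 : (Algebra.TensorProduct.includeRight : A →ₐ[R] κ ⊗[R] A) a =
      (Algebra.TensorProduct.includeRight : A →ₐ[R] κ ⊗[R] A) (π (R := R) a) := by
    rw [π_apply, map_sub, AlgHom.commutes, Algebra.TensorProduct.algebraMap_apply, h1,
      TensorProduct.zero_tmul, sub_zero]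
  rw [h2]
  exact Ideal.mem_map_of_mem _ (π_mem a)

theorem map_le_ker_counit :
    Ideal.map (Algebra.TensorProduct.includeRight : A →ₐ[R] κ ⊗[R] A)
        (RingHom.ker (Bialgebra.counitAlgHom R A)) ≤
      RingHom.ker (Bialgebra.counitAlgHom κ (κ ⊗[R] A)) := by
  rw [Ideal.map_le_iff_le_comap]
  intro a ha
  rw [Ideal.mem_comap, RingHom.mem_ker]
  rw [RingHom.mem_ker] at ha
  have : Coalgebra.counit (R := R) a = 0 := ha
  show Coalgebra.counit (R := κ) ((1 : κ) ⊗ₜ[R] a) = 0
  rw [counit_one_tmul, this, map_zero]

end Aug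

section Nak
variable {R : Type u} [CommRing R] [IsLocalRing R] {κ : Type u} [Field κ] [Algebra R κ]
  {A : Type v} [CommRing A] [HopfAlgebra R A] [Module.Finite R A]

/-- if the augmentation ideal of the special fibre is idempotent then so is the augmentation
ideal of `A`. -/
theorem sq_eq_of_fibre (hsurj : Function.Surjective (algebraMap R κ))
    (hker : RingHom.ker (algebraMap R κ) = IsLocalRing.maximalIdeal R)
    (hJ : RingHom.ker (Bialgebra.counitAlgHom κ (κ ⊗[R] A)) ^ 2 =
      RingHom.ker (Bialgebra.counitAlgHom κ (κ ⊗[R] A))) :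
    RingHom.ker (Bialgebra.counitAlgHom R A) ^ 2 = RingHom.ker (Bialgebra.counitAlgHom R A) := by
  set I : Ideal A := RingHom.ker (Bialgebra.counitAlgHom R A) with hI
  set ι : A →ₐ[R] κ ⊗[R] A := Algebra.TensorProduct.includeRight with hι
  have hιs : Function.Surjective ι := includeRight_surjective hsurj
  apply le_antisymm (Ideal.pow_le_self two_ne_zero)
  -- Nakayama
  have hfg : (I.restrictScalars R).FG := by
    have : I.restrictScalars R = Submodule.map (π (R := R) (A := A)) ⊤ := by
      ext a
      constructor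
      · intro ha
        exact ⟨a, trivial, π_of_mem a ha⟩
      · rintro ⟨b, -, rfl⟩
        exact π_mem b
    rw [this]
    exact (Module.Finite.fg_top).map _
  have key : I.restrictScalars R ≤ (I ^ 2).restrictScalars R ⊔
      (IsLocalRing.maximalIdeal R) • (I.restrictScalars R) := by
    intro x hx
    have hx' : x ∈ I := hx
    -- `ι x ∈ J = J² ≤ ι(I²)`
    have h1 : ι x ∈ Ideal.map ι (I ^ 2) := by
      rw [Ideal.map_pow]
      have h2 : ι x ∈ RingHom.ker (Bialgebra.counitAlgHom κ (κ ⊗[R] A)) :=
        map_le_ker_counit (Ideal.mem_map_of_mem _ hx')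
      rw [← hJ] at h2
      exact Ideal.pow_right_mono (ker_counit_le_map hsurj) 2 h2
    obtain ⟨z, hz, hzx⟩ := (Ideal.mem_map_iff_of_surjective ι hιs).1 h1
    have hw : x - z ∈ I := I.sub_mem hx' (Ideal.pow_le_self two_ne_zero hz)
    have h3 : (1 : κ) ⊗ₜ[R] (x - z) = 0 := by
      have : ι (x - z) = 0 := by rw [map_sub, hzx, sub_self]
      exact this
    have h4 := mem_smul_top_of_one_tmul_eq_zero hsurj (x - z) h3
    rw [hker] at h4
    have h5 : ∀ w ∈ (IsLocalRing.maximalIdeal R) • (⊤ : Submodule R A),
        π (R := R) w ∈ (IsLocalRing.maximalIdeal R) • (I.restrictScalars R) := by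
      intro w hw
      refine Submodule.smul_induction_on hw ?_ ?_
      · intro r hr n _
        rw [map_smul]
        exact Submodule.smul_mem_smul hr (π_mem n)
      · intro a b ha hb
        rw [map_add]
        exact Submodule.add_mem _ ha hb
    have h6 := h5 _ h4
    rw [π_of_mem _ hw] at h6
    have : x = z + (x - z) := by ring
    rw [this]
    exact Submodule.add_mem_sup hz h6
  have := Submodule.le_of_le_smul_of_le_jacobson_bot hfg (IsLocalRing.maximalIdeal_le_jacobson ⊥) key
  exact this

end Nak


section CaseE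
variable {R : Type u} [CommRing R] [IsLocalRing R] {κ : Type u} [Field κ] [Algebra R κ]
  {A : Type v} [CommRing A] [HopfAlgebra R A] [Module.Finite R A] [Module.Free R A]

/-- Case E: the special fibre is étale. -/
theorem isCocomm_of_sq_eq (hsurj : Function.Surjective (algebraMap R κ))
    (hker : RingHom.ker (algebraMap R κ) = IsLocalRing.maximalIdeal R)
    (p : ℕ) [Fact p.Prime] (hrk : Module.finrank R A = p)
    (hJ : RingHom.ker (Bialgebra.counitAlgHom κ (κ ⊗[R] A)) ^ 2 =
      RingHom.ker (Bialgebra.counitAlgHom κ (κ ⊗[R] A))) :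
    Coalgebra.IsCocomm R A := by
  have hfr : Module.finrank κ (κ ⊗[R] A) = p := by
    rw [Module.finrank_baseChange, hrk]
  haveI : Coalgebra.IsCocomm κ (κ ⊗[R] A) := isCocomm_field p Fact.out hfr
  have hI := sq_eq_of_fibre hsurj hker hJ
  haveI : Algebra.Etale R A := (Groth.Agent.S18472.result R A).2 hI
  let f : A →ₐ[R] A ⊗[R] A := Bialgebra.comulAlgHom R A
  let g : A →ₐ[R] A ⊗[R] A := (Algebra.TensorProduct.comm R A A).toAlgHom.comp f
  have hfg : ∀ a, f a - g a ∈
      Ideal.map (algebraMap R (A ⊗[R] A)) (IsLocalRing.maximalIdeal R) := by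
    intro a
    have h1 : (1 : κ) ⊗ₜ[R] (f a - g a) = 0 := by
      rw [← Θ_eq_zero_iff, map_sub, sub_eq_zero]
      exact (Θ_comm_comul R κ A a).symm
    have h2 := mem_smul_top_of_one_tmul_eq_zero hsurj _ h1
    rw [hker] at h2
    refine Submodule.smul_induction_on h2 ?_ ?_
    · intro r hr n _
      rw [Algebra.smul_def]
      exact Ideal.mul_mem_right _ _ (Ideal.mem_map_of_mem _ hr)
    · intro x y hx hy
      exact Ideal.add_mem _ hx hy
  have := algHom_eq_of_unramified f g _ map_maximalIdeal_le_jacobson hfg
  refine ⟨?_⟩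
  apply LinearMap.ext
  intro a
  exact (DFunLike.congr_fun this a).symm

end CaseE


section Main

/-- the local case -/
theorem isCocomm_local {R : Type u} [CommRing R] [IsLocalRing R] {A : Type v} [CommRing A]
    [HopfAlgebra R A] [Module.Finite R A] [Module.Projective R A] (p : ℕ) [Fact p.Prime]
    (hp : ∀ q : PrimeSpectrum R, Module.rankAtStalk A q = p) : Coalgebra.IsCocomm R A := by
  haveI : Module.Free R A := Module.free_of_flat_of_isLocalRing
  have hrk : Module.finrank R A = p := by
    have := hp (IsLocalRing.closedPoint R)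
    rw [Module.rankAtStalk_eq_finrank_of_free] at this
    exact this
  have hsurj : Function.Surjective (algebraMap R (IsLocalRing.ResidueField R)) :=
    IsLocalRing.residue_surjective
  have hker : RingHom.ker (algebraMap R (IsLocalRing.ResidueField R)) =
      IsLocalRing.maximalIdeal R := IsLocalRing.ker_residue
  by_cases hJ : RingHom.ker (Bialgebra.counitAlgHom (IsLocalRing.ResidueField R)
      (IsLocalRing.ResidueField R ⊗[R] A)) ^ 2 =
      RingHom.ker (Bialgebra.counitAlgHom (IsLocalRing.ResidueField R)
        (IsLocalRing.ResidueField R ⊗[R] A))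
  · exact isCocomm_of_sq_eq hsurj hker p hrk hJ
  · exact isCocomm_of_sq_ne hsurj hker p hrk hJ

/-- Oort–Tate: finite locally free group schemes of prime order are commutative. -/
theorem isCocomm_of_rank_prime (R : Type u) [CommRing R] (p : ℕ) [Fact p.Prime] (A : Type v)
    [CommRing A] [HopfAlgebra R A] [Module.Finite R A] [Module.Projective R A]
    (hp : ∀ q : PrimeSpectrum R, Module.rankAtStalk A q = p) : Coalgebra.IsCocomm R A := by
  apply isCocomm_of_localization
  intro P hP
  apply isCocomm_local p
  intro q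
  rw [Module.rankAtStalk_baseChange, hp]

end Main

end Groth.Agent.Lib.Helper66.OrderP2
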