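import Mathlib
import Groth.Prelude.Def_W4c5ffgsreadingcourseOT
import Groth.Prelude.Def_AlphaP
import Groth.Prelude.Def_ConstGrp
import Groth.Agent.S18468
import Groth.Agent.Lib.Helper66.OT1
import Groth.Agent.Lib.Helper16.OTJ7
import Groth.Agent.Lib.Helper66.EtaleCase
import Groth.Agent.Lib.Helper66.OrderP2
import Groth.Agent.S15048
import Groth.Agent.S17331
import Groth.Agent.S4113

open scoped TensorProduct
open Groth.Agent.S18468 Groth.Agent.Lib.Helper66.OT1

namespace Groth.Agent.Lib.Helper66.OT2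

universe u

section Prim
variable {R : Type u} [CommRing R] {A : Type u} [CommRing A] [HopfAlgebra R A]

theorem powConv_prim (x : A)
    (hx : Coalgebra.comul (R := R) x = x ⊗ₜ[R] (1 : A) + (1 : A) ⊗ₜ[R] x)
    (hε : Coalgebra.counit (R := R) x = 0) (n : ℕ) :
    SGA3b.powConv R A n x = n • x := by
  induction n with
  | zero =>
    rw [powConv_eq, pow_zero, zero_smul]
    show ((1 : WithConv (A →ₐ[R] A))) x = 0
    rw [AlgHom.convOne_apply, hε, map_zero]
  | succ n ih =>
    rw [powConv_eq, pow_succ]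
    show ((X R A ^ n) * X R A) x = _
    rw [AlgHom.convMul_apply, hx, map_add, Algebra.TensorProduct.lift_tmul,
      Algebra.TensorProduct.lift_tmul, map_one, map_one, mul_one, one_mul]
    have : (X R A ^ n).ofConv x = n • x := ih
    rw [this]
    show n • x + x = (n + 1) • x
    rw [add_smul, one_smul]

end Prim

section Alpha
variable {p : ℕ} [Fact p.Prime] {K : Type u} [Field K] [CharP K p]
  (χ : (ZMod p)ˣ →* Kˣ)
  (hχK : ∀ m : (ZMod p)ˣ, ((χ m : Kˣ) : K) = (((m : ZMod p).val : ℕ) : K))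

include hχK in
theorem alpha_key :
    ∃ x ∈ OortTate.eigenAug K (AlphaP.A p K) p χ 1, ∀ t : ℕ, 1 ≤ t → t ≤ p - 1 → x ^ t ≠ 0 := by
  have hp2 : 2 ≤ p := (Fact.out : p.Prime).two_le
  refine ⟨AlphaP.x p K, ?_, ?_⟩
  · rw [mem_eigenAug]
    refine ⟨AlphaP.counit_x p K, fun m => ?_⟩
    unfold E
    rw [AlgHom.toLinearMap_apply, powConv_prim _ (AlphaP.comul_x p K) (AlphaP.counit_x p K), pow_one,
      hχK m, Nat.cast_smul_eq_nsmul]
  · intro t _ ht2
    have : AlphaP.x p K ^ t = AlphaP.basis p K ⟨t, by omega⟩ := by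
      rw [AlphaP.basis_apply]
    rw [this]
    exact (AlphaP.basis p K).ne_zero _

end Alpha


section Mu
open Groth.Agent.Lib.Helper16.OTJ
variable {p : ℕ} [Fact p.Prime] {K : Type u} [Field K]
  (u : K) (hu : u * ((p - 1 : ℕ) : K) = 1) (χ : (ZMod p)ˣ →* Kˣ)
  (hχ : ∀ m : (ZMod p)ˣ, m ≠ 1 → IsUnit ((χ m : K) - 1))
  (hχp : ∀ m : (ZMod p)ˣ,
    ((χ m : Kˣ) : K) - (((m : ZMod p).val : ℕ) : K) ∈ Ideal.span ({(p : K)} : Set K))
  (hp : (WithConv.toConv (AlgHom.id K (MonoidAlgebra K (Multiplicative (ZMod p))))) ^ p = 1)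

include hu hχ hχp hp in
theorem mu_key :
    ∃ x ∈ OortTate.eigenAug K (MonoidAlgebra K (Multiplicative (ZMod p))) p χ 1,
      ∀ t : ℕ, 1 ≤ t → t ≤ p - 1 → x ^ t ≠ 0 := by
  have hp2 : 2 ≤ p := (Fact.out : p.Prime).two_le
  have hli := linearIndependent_ygen u χ hu hχ
  refine ⟨OortTate.ygen K p u χ 1, ?_, ?_⟩
  · apply proj_mem u χ hp 1
    rw [map_sub, map_one]
    have : Bialgebra.counitAlgHom K (MonoidAlgebra K (Multiplicative (ZMod p))) (OortTate.muT K p) = 1 :=
      counit_Tp (R := K) (p := p) 1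
    rw [this, sub_self]
  · intro t ht1 ht2
    by_cases ht : t = p - 1
    · obtain ⟨c, hc, hct⟩ := exists_pow_pred_eq u χ hu hχ hχp
      rw [ht, hct]
      intro h0
      have h1 := hli.ne_zero ⟨0, by omega⟩
      exact h1 ((smul_eq_zero.1 h0).resolve_left hc.ne_zero)
    · have hp3 : 3 ≤ p := by omega
      obtain ⟨c, hc, hct⟩ := ygen_one_pow u χ hu hχ hχp hp3 t ht1 (by omega)
      rw [hct]
      intro h0
      have h1 := hli.ne_zero ⟨t, by omega⟩
      exact h1 ((smul_eq_zero.1 h0).resolve_left hc.ne_zero)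

end Mu


section Const
variable {K : Type u} [Field K] {G : Type} [Group G] [Fintype G] [DecidableEq G]

theorem ev_mul_ev (g h : G) :
    (WithConv.toConv (ConstGrp.ev K g) : WithConv (ConstGrp.F K G →ₐ[K] K)) *
      WithConv.toConv (ConstGrp.ev K h) = WithConv.toConv (ConstGrp.ev K (g * h)) := by
  apply WithConv.ofConv_injective
  apply AlgHom.ext
  intro f
  show ((WithConv.toConv (ConstGrp.ev K g) : WithConv (ConstGrp.F K G →ₐ[K] K)) *
      WithConv.toConv (ConstGrp.ev K h)) f = _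
  rw [AlgHom.convMul_apply]
  have key : ∀ z : ConstGrp.F K G ⊗[K] ConstGrp.F K G,
      Algebra.TensorProduct.lift (ConstGrp.ev K g) (ConstGrp.ev K h) (fun _ _ => .all ..) z =
        ConstGrp.pair K G z (g, h) := by
    intro z
    induction z using TensorProduct.induction_on with
    | zero => simp
    | tmul a b => simp
    | add x y hx hy => simp only [map_add, hx, hy, ConstGrp.add_apply]
  rw [WithConv.ofConv_toConv, WithConv.ofConv_toConv, key, ConstGrp.pair_comul]
  rfl

theorem ev_pow (g : G) (n : ℕ) :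
    (WithConv.toConv (ConstGrp.ev K g) : WithConv (ConstGrp.F K G →ₐ[K] K)) ^ n =
      WithConv.toConv (ConstGrp.ev K (g ^ n)) := by
  induction n with
  | zero =>
    rw [pow_zero, pow_zero]
    apply WithConv.ofConv_injective
    apply AlgHom.ext
    intro f
    show (1 : WithConv (ConstGrp.F K G →ₐ[K] K)) f = _
    rw [AlgHom.convOne_apply]
    rfl
  | succ n ih => rw [pow_succ, ih, ev_mul_ev, pow_succ]

theorem powConv_const (n : ℕ) (f : ConstGrp.F K G) (g : G) :
    SGA3b.powConv K (ConstGrp.F K G) n f g = f (g ^ n) := by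
  have h1 := map_pow (postComp (ConstGrp.ev K g)) (X K (ConstGrp.F K G)) n
  have h2 : postComp (ConstGrp.ev K g) (X K (ConstGrp.F K G)) =
      WithConv.toConv (ConstGrp.ev K g) := by
    apply WithConv.ofConv_injective
    rfl
  rw [h2, ev_pow] at h1
  have h3 := congrArg (fun φ : WithConv (ConstGrp.F K G →ₐ[K] K) => φ.ofConv f) h1
  exact h3

end Const

section ConstKey
variable {p : ℕ} [Fact p.Prime] {K : Type u} [Field K] (χ : (ZMod p)ˣ →* Kˣ)

/-- the character function on `ℤ/p` -/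
noncomputable def chiFun : ConstGrp.F K (Multiplicative (ZMod p)) :=
  fun g => if h : Multiplicative.toAdd g = 0 then 0 else ((χ (Units.mk0 _ h) : Kˣ) : K)

theorem chiFun_apply_zero (g : Multiplicative (ZMod p)) (h : Multiplicative.toAdd g = 0) :
    chiFun χ g = 0 := by
  unfold chiFun
  rw [dif_pos h]

theorem chiFun_apply_ne (g : Multiplicative (ZMod p)) (h : Multiplicative.toAdd g ≠ 0) :
    chiFun χ g = ((χ (Units.mk0 _ h) : Kˣ) : K) := by
  unfold chiFun
  rw [dif_neg h]

theorem const_key :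
    ∃ x ∈ OortTate.eigenAug K (ConstGrp.F K (Multiplicative (ZMod p))) p χ 1,
      ∀ t : ℕ, 1 ≤ t → t ≤ p - 1 → x ^ t ≠ 0 := by
  refine ⟨chiFun χ, ?_, ?_⟩
  · rw [mem_eigenAug]
    constructor
    · show Coalgebra.counit (R := K) (chiFun χ) = 0
      rw [ConstGrp.counit_apply]
      exact chiFun_apply_zero χ 1 rfl
    · intro m
      unfold E
      rw [AlgHom.toLinearMap_apply, pow_one]
      ext g
      rw [powConv_const, ConstGrp.smul_apply]
      have hg : Multiplicative.toAdd (g ^ (m : ZMod p).val) = (m : ZMod p) * Multiplicative.toAdd g := by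
        rw [toAdd_pow, nsmul_eq_mul, ZMod.natCast_zmod_val]
      by_cases h : Multiplicative.toAdd g = 0
      · rw [chiFun_apply_zero χ g h, chiFun_apply_zero χ _ (by rw [hg, h, mul_zero]), mul_zero]
      · have h' : Multiplicative.toAdd (g ^ (m : ZMod p).val) ≠ 0 := by
          rw [hg]
          exact mul_ne_zero m.ne_zero h
        rw [chiFun_apply_ne χ g h, chiFun_apply_ne χ _ h', ← Units.val_mul, ← map_mul]
        congr 2
        apply Units.ext
        rw [Units.val_mk0, Units.val_mul, Units.val_mk0, hg]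
  · intro t _ _ h0
    have h1 := congrFun h0 (Multiplicative.ofAdd (1 : ZMod p))
    have hne : Multiplicative.toAdd (Multiplicative.ofAdd (1 : ZMod p)) ≠ 0 := by
      rw [toAdd_ofAdd]; exact one_ne_zero
    have h2 : (chiFun χ ^ t) (Multiplicative.ofAdd (1 : ZMod p)) =
        (chiFun χ (Multiplicative.ofAdd (1 : ZMod p))) ^ t := rfl
    rw [h2, chiFun_apply_ne χ _ hne] at h1
    exact (pow_ne_zero t (Units.ne_zero _)) h1

end ConstKey


section KeyField
open Groth.Agent.Lib.Helper66.EtaleCase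
variable {p : ℕ} [Fact p.Prime]

/-- a Hopf algebra of prime rank is killed by `p` -/
theorem pow_p_eq_one {R : Type u} [CommRing R] {A : Type u} [CommRing A] [HopfAlgebra R A]
    [Module.Finite R A] [Module.Projective R A]
    (hrk : ∀ q : PrimeSpectrum R, Module.rankAtStalk A q = p) :
    (WithConv.toConv (AlgHom.id R A)) ^ p = 1 := by
  haveI : Coalgebra.IsCocomm R A :=
    Groth.Agent.Lib.Helper66.OrderP2.isCocomm_of_rank_prime R p A hrk
  exact Groth.Agent.S15048.result R A p hrk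

theorem pow_p_eq_one_field {K : Type u} [Field K] {B : Type u} [CommRing B] [HopfAlgebra K B]
    [Module.Finite K B] (hfr : Module.finrank K B = p) :
    (WithConv.toConv (AlgHom.id K B)) ^ p = 1 := by
  apply pow_p_eq_one
  intro q
  rw [Module.rankAtStalk_eq_finrank_of_free, Pi.natCast_apply, hfr, Nat.cast_id]

theorem key_transport {K : Type u} [Field K] {B B' : Type u} [CommRing B] [HopfAlgebra K B]
    [CommRing B'] [HopfAlgebra K B'] (χ : (ZMod p)ˣ →* Kˣ) (e : B ≃ₐc[K] B')
    (h : ∃ x ∈ OortTate.eigenAug K B' p χ 1, ∀ t : ℕ, 1 ≤ t → t ≤ p - 1 → x ^ t ≠ 0) :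
    ∃ x ∈ OortTate.eigenAug K B p χ 1, ∀ t : ℕ, 1 ≤ t → t ≤ p - 1 → x ^ t ≠ 0 := by
  obtain ⟨x, hx, hxt⟩ := h
  refine ⟨e.symm x, bialgHom_mem_eigenAug χ (e.symm : B' →ₐc[K] B) 1 x hx, ?_⟩
  intro t ht1 ht2 h0
  apply hxt t ht1 ht2
  apply e.symm.injective
  rw [map_pow, map_zero]
  exact h0

theorem key_field (K : Type u) [Field K] [IsAlgClosed K]
    (u : K) (hu : u * ((p - 1 : ℕ) : K) = 1) (χ : (ZMod p)ˣ →* Kˣ)
    (hχ : ∀ m : (ZMod p)ˣ, m ≠ 1 → IsUnit ((χ m : K) - 1))
    (hχp : ∀ m : (ZMod p)ˣ,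
      ((χ m : Kˣ) : K) - (((m : ZMod p).val : ℕ) : K) ∈ Ideal.span ({(p : K)} : Set K))
    (B : Type u) [CommRing B] [HopfAlgebra K B] [Module.Finite K B]
    (hfr : Module.finrank K B = p) :
    ∃ x ∈ OortTate.eigenAug K B p χ 1, ∀ t : ℕ, 1 ≤ t → t ≤ p - 1 → x ^ t ≠ 0 := by
  by_cases hred : IsReduced B
  · haveI := hred
    obtain ⟨e⟩ := nonempty_bialgEquiv_constGrp (K := K) (A := B) p hfr
    exact key_transport χ e (const_key χ)
  · have hpK : (p : K) = 0 := by
      by_contra h0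
      apply hred
      haveI : Algebra.Etale K B := Groth.Agent.S4113.result K B (by rw [hfr]; exact h0)
      exact Algebra.FormallyUnramified.isReduced_of_field K B
    haveI : CharP K p := (CharP.charP_iff_prime_eq_zero (Fact.out : p.Prime)).2 hpK
    rcases (Groth.Agent.S17331.result K p B p hfr).2 rfl with ⟨⟨e⟩⟩ | ⟨⟨e⟩⟩ | ⟨⟨e⟩⟩
    · exact key_transport χ e (const_key χ)
    · refine key_transport χ e (mu_key u hu χ hχ hχp (pow_p_eq_one_field ?_))
      rw [← e.toLinearEquiv.finrank_eq, hfr]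
    · refine key_transport χ e (alpha_key χ ?_)
      intro m
      have := hχp m
      rw [hpK, Ideal.span_singleton_zero] at this
      exact sub_eq_zero.1 this

end KeyField

end Groth.Agent.Lib.Helper66.OT2
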