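import Mathlib
import Groth.Agent.Lib.Helper66.CoBase

open scoped TensorProduct
open Groth.Agent.Lib.Helper66.CoBase

namespace Groth.Agent.Lib.Helper66.OT4

universe u

section Retract
variable {R : Type*} [CommRing R] {M : Type*} [AddCommGroup M] [Module R M]
  (K : Type*) [Field K] [Algebra R K]

/-- for a retract `N` of `M`, `K ⊗ N ≅ N.baseChange K`. -/
theorem finrank_baseChange_of_retract (N : Submodule R M) (r : M →ₗ[R] N)
    (hr : ∀ f : N, r (f : M) = f) :
    Module.finrank K (K ⊗[R] N) = Module.finrank K (N.baseChange K) := by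
  have hinj : Function.Injective (N.subtype.baseChange K) := by
    have h1 : (r.baseChange K) ∘ₗ (N.subtype.baseChange K) = LinearMap.id := by
      rw [← LinearMap.baseChange_comp]
      have : r ∘ₗ N.subtype = LinearMap.id := LinearMap.ext fun f => hr f
      rw [this, LinearMap.baseChange_id]
    exact Function.LeftInverse.injective (g := r.baseChange K)
      (fun x => DFunLike.congr_fun h1 x)
  have hinj' : Function.Injective (N.toBaseChange K) := by
    intro x y hxy
    apply hinj
    exact congrArg Subtype.val hxy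
  exact (LinearEquiv.ofBijective (N.toBaseChange K)
    ⟨hinj', Submodule.toBaseChange_surjective K N⟩).finrank_eq

end Retract

section Pow
variable {R : Type*} [CommRing R] (S : Type*) [CommRing S] [Algebra R S]
  {A : Type*} [CommRing A] [Algebra R A]

theorem baseChange_pow (N : Submodule R A) (t : ℕ) :
    (N ^ t).baseChange S = (N.baseChange S) ^ t := by
  rw [Submodule.pow_eq_span_pow_set, Submodule.baseChange_span, Submodule.baseChange_eq_span,
    Submodule.span_pow]
  congr 1
  have : (TensorProduct.mk R S A 1 : A → S ⊗[R] A) =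
      (Algebra.TensorProduct.includeRight : A →ₐ[R] S ⊗[R] A) := rfl
  rw [Submodule.map_coe, this, Set.image_pow]

end Pow

section Nak
variable {R : Type*} [CommRing R] {M : Type*} [AddCommGroup M] [Module R M]

/-- a global form of Nakayama's lemma -/
theorem le_of_forall_maximal (N N' : Submodule R M) (hN : N.FG)
    (h : ∀ (𝔪 : Ideal R), 𝔪.IsMaximal → N ≤ N' ⊔ 𝔪 • N) : N ≤ N' := by
  by_contra hcon
  have hne : N'.colon (N : Set M) ≠ ⊤ := by
    intro htop
    apply hcon
    intro n hn
    have h1 : (1 : R) ∈ N'.colon (N : Set M) := by rw [htop]; trivial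
    rw [Submodule.mem_colon] at h1
    have := h1 n hn
    rwa [one_smul] at this
  obtain ⟨𝔪, h𝔪, hle⟩ := Ideal.exists_le_maximal _ hne
  have h1 : N.map N'.mkQ ≤ 𝔪 • N.map N'.mkQ := by
    have h2 := Submodule.map_mono (f := N'.mkQ) (h 𝔪 h𝔪)
    rw [Submodule.map_sup, Submodule.mkQ_map_self, bot_sup_eq, Submodule.map_smul''] at h2
    exact h2
  obtain ⟨r, hr1, hr2⟩ := Submodule.exists_sub_one_mem_and_smul_eq_zero_of_fg_of_le_smul 𝔪
    (N.map N'.mkQ) (hN.map _) h1
  have hr3 : r ∈ N'.colon (N : Set M) := by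
    rw [Submodule.mem_colon]
    intro n hn
    have := hr2 (N'.mkQ n) (Submodule.mem_map_of_mem hn)
    rw [← map_smul, Submodule.mkQ_apply, Submodule.Quotient.mk_eq_zero] at this
    exact this
  have hr4 : r ∈ 𝔪 := hle hr3
  apply h𝔪.ne_top
  rw [Ideal.eq_top_iff_one]
  have : (1 : R) = r - (r - 1) := by ring
  rw [this]
  exact 𝔪.sub_mem hr4 hr1

end Nak


section Descent
variable {R : Type*} [CommRing R] {M : Type*} [AddCommGroup M] [Module R M]
  (κ : Type*) [Field κ] [Algebra R κ] (K : Type*) [Field K] [Algebra R K] [Algebra κ K]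
  [IsScalarTower R κ K]

theorem one_tmul_eq_zero_of_field_ext (m : M) (h : (1 : K) ⊗ₜ[R] m = 0) :
    (1 : κ) ⊗ₜ[R] m = 0 := by
  have h1 : TensorProduct.AlgebraTensorModule.cancelBaseChange R κ K K M
      ((1 : K) ⊗ₜ[κ] ((1 : κ) ⊗ₜ[R] m)) = (1 : K) ⊗ₜ[R] m := by
    simp
  rw [h, LinearEquiv.map_eq_zero_iff] at h1
  have hinj := Module.Flat.tensorProduct_mk_injective (R := κ) (S := K) (M := κ ⊗[R] M)
  apply hinj
  rw [map_zero]
  exact h1

theorem mem_sup_of_one_tmul_mem_baseChange (hsurj : Function.Surjective (algebraMap R κ))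
    (N : Submodule R M) (f : M) (h : (1 : K) ⊗ₜ[R] f ∈ N.baseChange K) :
    f ∈ N ⊔ (RingHom.ker (algebraMap R κ)) • (⊤ : Submodule R M) := by
  have h1 : (N.mkQ.baseChange K) ((1 : K) ⊗ₜ[R] f) = 0 := by
    obtain ⟨x, hx⟩ := h
    rw [← hx, ← LinearMap.comp_apply, ← LinearMap.baseChange_comp]
    have : N.mkQ ∘ₗ N.subtype = 0 := by
      apply LinearMap.ext
      intro n
      simp
    rw [this, LinearMap.baseChange_zero, LinearMap.zero_apply]
  rw [LinearMap.baseChange_tmul] at h1
  have h2 := one_tmul_eq_zero_of_field_ext κ K (N.mkQ f) h1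
  have h3 := mem_smul_top_of_one_tmul_eq_zero hsurj (N.mkQ f) h2
  have h4 : (RingHom.ker (algebraMap R κ)) • (⊤ : Submodule R (M ⧸ N)) =
      Submodule.map N.mkQ ((RingHom.ker (algebraMap R κ)) • (⊤ : Submodule R M)) := by
    rw [Submodule.map_smul'', Submodule.map_top, Submodule.range_mkQ]
  rw [h4] at h3
  obtain ⟨g, hg, hgf⟩ := h3
  have h5 : f - g ∈ N := by
    rw [← Submodule.Quotient.mk_eq_zero, Submodule.Quotient.mk_sub, sub_eq_zero]
    exact hgf.symm
  have : f = (f - g) + g := by abel
  rw [this]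
  exact Submodule.add_mem_sup h5 hg

end Descent

end Groth.Agent.Lib.Helper66.OT4
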