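import Mathlib
import Groth.Prelude.Def_W4c5ffgsreadingcourseOT
import Groth.Agent.Lib.Helper66.OT1
import Groth.Agent.Lib.Helper66.OT2
import Groth.Agent.Lib.Helper66.OT3
import Groth.Agent.Lib.Helper66.OT4

open scoped TensorProduct
open Groth.Agent.S18468 Groth.Agent.Lib.Helper66.OT1 Groth.Agent.Lib.Helper66.OT2
  Groth.Agent.Lib.Helper66.OT3 Groth.Agent.Lib.Helper66.OT4

namespace Groth.Agent.Lib.Helper66.OT5

universe u

section Main
variable {p : ℕ} [Fact p.Prime] {R : Type u} [CommRing R] (u : R)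
  (hu : u * ((p - 1 : ℕ) : R) = 1)
  (χ : (ZMod p)ˣ →* Rˣ) (hχ : ∀ m : (ZMod p)ˣ, m ≠ 1 → IsUnit ((χ m : R) - 1))
  (hχp : ∀ m : (ZMod p)ˣ,
    ((χ m : Rˣ) : R) - (((m : ZMod p).val : ℕ) : R) ∈ Ideal.span ({(p : R)} : Set R))
  {A : Type u} [CommRing A] [HopfAlgebra R A] [Module.Finite R A] [Module.Projective R A]
  (hrk : ∀ q : PrimeSpectrum R, Module.rankAtStalk A q = p)

include hrk in
theorem finrank_field (K : Type u) [Field K] [Algebra R K] :
    Module.finrank K (K ⊗[R] A) = p := by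
  have h1 := Module.rankAtStalk_baseChange (R := R) (M := A) (S := K) (⊥ : PrimeSpectrum K)
  rw [hrk, Module.rankAtStalk_eq_finrank_of_free, Pi.natCast_apply, Nat.cast_id] at h1
  exact h1

include hu hχ hχp hrk in
theorem field_facts (K : Type u) [Field K] [IsAlgClosed K] [Algebra R K] :
    (∀ i : ℕ, Module.finrank K (OortTate.eigenAug K (K ⊗[R] A) p (chiS K χ) i) = 1) ∧
      ∀ t : ℕ, 1 ≤ t → t ≤ p - 1 →
        (OortTate.eigenAug K (K ⊗[R] A) p (chiS K χ) 1) ^ t =
          OortTate.eigenAug K (K ⊗[R] A) p (chiS K χ) t := by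
  have hfr := finrank_field (A := A) hrk K
  obtain ⟨x, hx, hxt⟩ := key_field K (algebraMap R K u) (hu_baseChange K u hu) (chiS K χ)
    (hχ_baseChange K χ hχ) (hχp_baseChange K χ hχp) (K ⊗[R] A) hfr
  exact of_key (algebraMap R K u) (hu_baseChange K u hu) (chiS K χ) (hχ_baseChange K χ hχ)
    (pow_p_eq_one_field hfr) hfr x hx hxt


include hu hχ hχp hrk in
theorem rank_eigenAug (i : ℕ) (q : PrimeSpectrum R) :
    Module.rankAtStalk (↥(OortTate.eigenAug R A p χ i)) q = 1 := by
  have hp := pow_p_eq_one hrk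
  set N := OortTate.eigenAug R A p χ i with hN
  haveI : Module.Finite R N := finite_eigenAug u hu χ hp i
  haveI : Module.Projective R N := projective_eigenAug u hu χ hp i
  rw [Module.rankAtStalk_eq]
  set κ := q.asIdeal.ResidueField with hκ
  let K := AlgebraicClosure κ
  have h1 : Module.finrank κ (κ ⊗[R] N) = Module.finrank K (K ⊗[κ] (κ ⊗[R] N)) :=
    (Module.finrank_baseChange (R := K) (S := κ) (M' := κ ⊗[R] N)).symm
  have h2 : Module.finrank K (K ⊗[κ] (κ ⊗[R] N)) = Module.finrank K (K ⊗[R] N) :=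
    (TensorProduct.AlgebraTensorModule.cancelBaseChange R κ K K N).finrank_eq
  have h3 : Module.finrank K (K ⊗[R] N) = Module.finrank K (N.baseChange K) :=
    finrank_baseChange_of_retract K N (Groth.Agent.Lib.Helper66.OT1.q u χ hp i)
      (q_of_mem u hu χ hp i)
  have h4 : N.baseChange K = OortTate.eigenAug K (K ⊗[R] A) p (chiS K χ) i :=
    (eigenAug_baseChange K u hu χ hp i).symm
  show Module.finrank κ (κ ⊗[R] N) = 1
  rw [h1, h2, h3, h4]
  exact (field_facts u hu χ hχ hχp hrk K).1 i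

include hu hχ hχp hrk in
theorem pow_eigenAug (t : ℕ) (ht1 : 1 ≤ t) (ht2 : t ≤ p - 1) :
    (OortTate.eigenAug R A p χ 1) ^ t = OortTate.eigenAug R A p χ t := by
  have hp := pow_p_eq_one hrk
  apply le_antisymm (pow_le_eigenAug χ t ht1)
  have hfg : (OortTate.eigenAug R A p χ t).FG := by
    rw [← Module.Finite.iff_fg]
    exact finite_eigenAug u hu χ hp t
  apply le_of_forall_maximal _ _ hfg
  intro 𝔪 h𝔪
  haveI := h𝔪
  set κ := 𝔪.ResidueField with hκ
  let K := AlgebraicClosure κ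
  intro f hf
  have h1 : (1 : K) ⊗ₜ[R] f ∈ ((OortTate.eigenAug R A p χ 1) ^ t).baseChange K := by
    rw [baseChange_pow, ← eigenAug_baseChange K u hu χ hp 1,
      (field_facts u hu χ hχ hχp hrk K).2 t ht1 ht2]
    exact one_tmul_mem_eigenAug K χ t f hf
  have h2 := mem_sup_of_one_tmul_mem_baseChange κ K (Ideal.algebraMap_residueField_surjective 𝔪)
    ((OortTate.eigenAug R A p χ 1) ^ t) f h1
  rw [Ideal.ker_algebraMap_residueField] at h2
  obtain ⟨a, ha, b, hb, hab⟩ := Submodule.mem_sup.1 h2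
  have h3 : Q A u χ t f = f := Q_of_mem u hu χ t f hf
  have h4 : Q A u χ t a = a := Q_of_mem u hu χ t a (pow_le_eigenAug χ t ht1 ha)
  have h5 : Q A u χ t b ∈ 𝔪 • OortTate.eigenAug R A p χ t := by
    refine Submodule.smul_induction_on hb ?_ ?_
    · intro r hr n _
      rw [map_smul]
      exact Submodule.smul_mem_smul hr (Q_mem u χ hp t n)
    · intro x y hx hy
      rw [map_add]
      exact Submodule.add_mem _ hx hy
  rw [← h3, ← hab, map_add, h4]
  exact Submodule.add_mem_sup ha h5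

end Main

end Groth.Agent.Lib.Helper66.OT5
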