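import Mathlib
import Groth.Prelude.Def_W4c5ffgsreadingcourseOT
import Groth.Agent.Lib.Helper66.OT5

open scoped TensorProduct
open Groth.Agent.S18468 Groth.Agent.Lib.Helper66.OT1 Groth.Agent.Lib.Helper66.OT2
  Groth.Agent.Lib.Helper66.OT3 Groth.Agent.Lib.Helper66.OT4 Groth.Agent.Lib.Helper66.OT5

namespace Groth.Agent.Lib.Helper66.OT6

universe u

section TA
variable {R : Type u} [CommRing R] {A : Type u} [CommRing A] [Algebra R A] (L : Submodule R A)
  (p : ℕ)

/-- the degree `n` part of the tensor algebra -/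
noncomputable def Mn (n : ℕ) : Submodule R (TensorAlgebra R L) :=
  (LinearMap.range (TensorAlgebra.ι R : L →ₗ[R] TensorAlgebra R L)) ^ n

/-- the canonical map `T(L) → A` -/
noncomputable def φ : TensorAlgebra R L →ₐ[R] A := TensorAlgebra.lift R L.subtype

/-- the relations -/
def Srel : Set (TensorAlgebra R L) :=
  {x | ∃ (f : Fin p → L) (g : L), (g : A) = ∏ i, (f i : A) ∧
    x = (List.ofFn fun i => TensorAlgebra.ι R (f i)).prod - TensorAlgebra.ι R g}

theorem iSup_Mn : ⨆ n, Mn L n = ⊤ :=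
  (DirectSum.Decomposition.isInternal
    (fun n => (LinearMap.range (TensorAlgebra.ι R : L →ₗ[R] TensorAlgebra R L)) ^ n)).submodule_iSup_eq_top

theorem map_Mn (n : ℕ) : Submodule.map (φ L).toLinearMap (Mn L n) = L ^ n := by
  unfold Mn
  rw [Submodule.map_pow]
  congr 1
  rw [← LinearMap.range_comp]
  have : (φ L).toLinearMap ∘ₗ (TensorAlgebra.ι R : L →ₗ[R] TensorAlgebra R L) = L.subtype := by
    apply LinearMap.ext
    intro x
    simp [φ]
  rw [this, Submodule.range_subtype]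

theorem φ_ofFn (n : ℕ) (f : Fin n → L) :
    φ L (List.ofFn fun i => TensorAlgebra.ι R (f i)).prod = ∏ i, (f i : A) := by
  rw [map_list_prod, List.map_ofFn, List.prod_ofFn]
  refine Finset.prod_congr rfl fun i _ => ?_
  simp [φ]

theorem span_Srel_le_ker : Ideal.span (Srel L p) ≤ RingHom.ker (φ L) := by
  rw [Ideal.span_le]
  rintro x ⟨f, g, hg, rfl⟩
  rw [SetLike.mem_coe, RingHom.mem_ker, map_sub, φ_ofFn]
  simp [φ, hg]

theorem prod_mem_pow (n : ℕ) (a : Fin n → A) (ha : ∀ i, a i ∈ L) : ∏ i, a i ∈ L ^ n := by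
  induction n with
  | zero =>
    rw [Fin.prod_univ_zero, pow_zero]
    exact Submodule.one_le.1 le_rfl
  | succ n ih =>
    rw [Fin.prod_univ_castSucc, pow_succ]
    exact Submodule.mul_mem_mul (ih _ fun i => ha _) (ha _)

/-- degree `p` monomials reduce to degree one modulo the relations, provided `L^p ≤ L`. -/
theorem Mn_p_le (hL : L ^ p ≤ L) :
    Mn L p ≤ Mn L 1 ⊔ (Ideal.span (Srel L p)).restrictScalars R := by
  unfold Mn
  rw [Submodule.pow_eq_span_pow_set, Submodule.span_le]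
  intro x hx
  rw [Set.mem_pow] at hx
  obtain ⟨f, rfl⟩ := hx
  choose l hl using fun i => (f i).2
  have hprod : ∏ i, (l i : A) ∈ L := hL (prod_mem_pow L p _ fun i => (l i).2)
  set g : L := ⟨∏ i, (l i : A), hprod⟩ with hg
  have h1 : (List.ofFn fun i => ((f i).1 : TensorAlgebra R L)).prod =
      TensorAlgebra.ι R g + ((List.ofFn fun i => TensorAlgebra.ι R (l i)).prod - TensorAlgebra.ι R g) := by
    have : (fun i => ((f i).1 : TensorAlgebra R L)) = fun i => TensorAlgebra.ι R (l i) := by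
      funext i
      exact (hl i).symm
    rw [this]
    abel
  rw [h1]
  refine Submodule.add_mem_sup ?_ ?_
  · rw [pow_one]
    exact LinearMap.mem_range_self _ g
  · apply Ideal.subset_span
    exact ⟨l, g, rfl, rfl⟩

/-- reduction modulo the relations to degrees `< p` -/
theorem Mn_le (hp2 : 2 ≤ p) (hL : L ^ p ≤ L) (n : ℕ) :
    Mn L n ≤ (⨆ k : Fin p, Mn L k) ⊔ (Ideal.span (Srel L p)).restrictScalars R := by
  induction n using Nat.strong_induction_on with
  | _ n ih =>
    by_cases hn : n < p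
    · exact le_sup_of_le_left (le_iSup (fun k : Fin p => Mn L k) ⟨n, hn⟩)
    · have hn' : n = (n - p) + p := by omega
      have h1 : Mn L n = Mn L (n - p) * Mn L p := by
        unfold Mn
        conv_lhs => rw [hn']
        exact Submodule.pow_add _ (by omega)
      rw [h1]
      refine le_trans (mul_le_mul' le_rfl (Mn_p_le L p hL)) ?_
      rw [Submodule.mul_sup]
      refine sup_le ?_ ?_
      · have h2 : Mn L (n - p) * Mn L 1 = Mn L (n - p + 1) := by
          unfold Mn
          rw [pow_one, ← Submodule.pow_succ]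
        rw [h2]
        exact ih (n - p + 1) (by omega)
      · refine le_sup_of_le_right ?_
        rw [Submodule.mul_le]
        intro a _ j hj
        exact Ideal.mul_mem_left _ a hj

theorem top_le (hp2 : 2 ≤ p) (hL : L ^ p ≤ L) :
    (⊤ : Submodule R (TensorAlgebra R L)) ≤
      (⨆ k : Fin p, Mn L k) ⊔ (Ideal.span (Srel L p)).restrictScalars R := by
  rw [← iSup_Mn L]
  exact iSup_le (Mn_le L p hp2 hL)


theorem fg_Mn (hL : L.FG) (n : ℕ) : (Mn L n).FG := by
  unfold Mn
  apply Submodule.FG.pow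
  rw [LinearMap.range_eq_map]
  apply Submodule.FG.map
  exact (Module.Finite.iff_fg.2 hL).fg_top

theorem fg_V (hL : L.FG) : (⨆ k : Fin p, Mn L k).FG := by
  rw [← Finset.sup_univ_eq_iSup]
  exact Submodule.fg_finset_sup _ _ fun k _ => fg_Mn L hL k

theorem map_V : Submodule.map (φ L).toLinearMap (⨆ k : Fin p, Mn L k) = ⨆ k : Fin p, L ^ (k : ℕ) := by
  rw [Submodule.map_iSup]
  exact iSup_congr fun k => map_Mn L k

section Smul
variable {B : Type*} [Ring B] [Algebra R B]

theorem mul_mem_smul_right {M N : Submodule R B} {I : Ideal R} {a b : B} (ha : a ∈ M)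
    (hb : b ∈ I • N) : a * b ∈ I • (M * N) := by
  refine Submodule.smul_induction_on hb ?_ ?_
  · intro r hr n hn
    rw [mul_smul_comm]
    exact Submodule.smul_mem_smul hr (Submodule.mul_mem_mul ha hn)
  · intro x y hx hy
    rw [mul_add]
    exact Submodule.add_mem _ hx hy

theorem mul_mem_smul_left {M N : Submodule R B} {I : Ideal R} {a b : B} (ha : a ∈ I • M)
    (hb : b ∈ N) : a * b ∈ I • (M * N) := by
  refine Submodule.smul_induction_on ha ?_ ?_
  · intro r hr n hn
    rw [smul_mul_assoc]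
    exact Submodule.smul_mem_smul hr (Submodule.mul_mem_mul hn hb)
  · intro x y hx hy
    rw [add_mul]
    exact Submodule.add_mem _ hx hy

end Smul

/-- local cyclicity of the graded pieces -/
theorem Mn_le_span (𝔪 : Ideal R) (x₀ : L)
    (hx₀ : (⊤ : Submodule R L) ≤ Submodule.span R {x₀} ⊔ 𝔪 • ⊤) (n : ℕ) :
    Mn L n ≤ Submodule.span R {(TensorAlgebra.ι R x₀) ^ n} ⊔ 𝔪 • Mn L n := by
  induction n with
  | zero =>
    unfold Mn
    rw [pow_zero, pow_zero, Submodule.one_eq_span]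
    exact le_sup_left
  | succ n ih =>
    have h1 : Mn L (n + 1) = Mn L n * Mn L 1 := by
      unfold Mn
      rw [pow_one, ← Submodule.pow_succ]
    rw [h1, Submodule.mul_le]
    intro a ha b hb
    obtain ⟨a₁, ha₁, a₂, ha₂, rfl⟩ := Submodule.mem_sup.1 (ih ha)
    obtain ⟨r, rfl⟩ := Submodule.mem_span_singleton.1 ha₁
    have hb' : b ∈ LinearMap.range (TensorAlgebra.ι R : L →ₗ[R] TensorAlgebra R L) := by
      unfold Mn at hb
      rwa [pow_one] at hb
    obtain ⟨l, rfl⟩ := hb'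
    obtain ⟨l₁, hl₁, l₂, hl₂, hl⟩ := Submodule.mem_sup.1 (hx₀ (Submodule.mem_top : l ∈ ⊤))
    obtain ⟨r', rfl⟩ := Submodule.mem_span_singleton.1 hl₁
    have hl₂' : TensorAlgebra.ι R l₂ ∈ 𝔪 • Mn L 1 := by
      refine Submodule.smul_induction_on hl₂ ?_ ?_
      · intro c hc y _
        rw [map_smul]
        refine Submodule.smul_mem_smul hc ?_
        unfold Mn
        rw [pow_one]
        exact LinearMap.mem_range_self _ y
      · intro x y hx hy
        rw [map_add]
        exact Submodule.add_mem _ hx hy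
    have hx₀n : (TensorAlgebra.ι R x₀) ^ n ∈ Mn L n := by
      unfold Mn
      exact Submodule.pow_mem_pow _ (LinearMap.mem_range_self _ x₀) n
    rw [← hl, map_add, map_smul]
    have e : (r • TensorAlgebra.ι R x₀ ^ n + a₂) * (r' • TensorAlgebra.ι R x₀ + TensorAlgebra.ι R l₂) =
        (r * r') • (TensorAlgebra.ι R x₀) ^ (n + 1) +
          ((r • TensorAlgebra.ι R x₀ ^ n) * TensorAlgebra.ι R l₂ +
            a₂ * (r' • TensorAlgebra.ι R x₀ + TensorAlgebra.ι R l₂)) := by
      rw [pow_succ, add_mul, mul_add, smul_mul_smul_comm]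
      abel
    rw [e]
    refine Submodule.add_mem_sup (Submodule.smul_mem _ _ (Submodule.mem_span_singleton_self _)) ?_
    rw [← h1]
    rw [h1]
    refine Submodule.add_mem _ ?_ ?_
    · exact mul_mem_smul_right (Submodule.smul_mem _ _ hx₀n) hl₂'
    · refine mul_mem_smul_left ha₂ ?_
      unfold Mn
      rw [pow_one]
      exact Submodule.add_mem _ (Submodule.smul_mem _ _ (LinearMap.mem_range_self _ x₀))
        (LinearMap.mem_range_self _ l₂)


theorem V_decomp (𝔪 : Ideal R) (x₀ : L)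
    (hx₀ : (⊤ : Submodule R L) ≤ Submodule.span R {x₀} ⊔ 𝔪 • ⊤)
    (z : TensorAlgebra R L) (hz : z ∈ ⨆ k : Fin p, Mn L k) :
    ∃ r : Fin p → R, ∃ z' ∈ 𝔪 • (⨆ k : Fin p, Mn L k),
      z = ∑ k : Fin p, r k • (TensorAlgebra.ι R x₀) ^ (k : ℕ) + z' := by
  classical
  refine Submodule.iSup_induction (fun k : Fin p => Mn L k)
    (motive := fun z => ∃ r : Fin p → R, ∃ z' ∈ 𝔪 • (⨆ k : Fin p, Mn L k),
      z = ∑ k : Fin p, r k • (TensorAlgebra.ι R x₀) ^ (k : ℕ) + z') hz ?_ ?_ ?_
  · intro k z hz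
    obtain ⟨a₁, ha₁, a₂, ha₂, rfl⟩ := Submodule.mem_sup.1 (Mn_le_span L 𝔪 x₀ hx₀ k hz)
    obtain ⟨r, rfl⟩ := Submodule.mem_span_singleton.1 ha₁
    refine ⟨Pi.single k r, a₂, ?_, ?_⟩
    · exact (Submodule.smul_mono le_rfl (le_iSup (fun k : Fin p => Mn L k) k)) ha₂
    · congr 1
      rw [Finset.sum_eq_single k]
      · rw [Pi.single_eq_same]
      · intro j _ hj
        rw [Pi.single_eq_of_ne hj, zero_smul]
      · intro h
        exact absurd (Finset.mem_univ k) h
  · exact ⟨0, 0, Submodule.zero_mem _, by simp⟩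
  · rintro x y ⟨r, x', hx', rfl⟩ ⟨r', y', hy', rfl⟩
    refine ⟨r + r', x' + y', Submodule.add_mem _ hx' hy', ?_⟩
    simp only [Pi.add_apply, add_smul, Finset.sum_add_distrib]
    abel

/-- the core injectivity statement -/
theorem V_inf_ker_eq_bot [Module.Projective R A] (hLfg : L.FG)
    (hsup : (⨆ k : Fin p, L ^ (k : ℕ)) = ⊤)
    (hloc : ∀ 𝔪 : Ideal R, 𝔪.IsMaximal → ∃ x₀ : L,
      ((⊤ : Submodule R L) ≤ Submodule.span R {x₀} ⊔ 𝔪 • ⊤) ∧
      ∀ r : Fin p → R, (∑ k : Fin p, r k • (x₀ : A) ^ (k : ℕ)) ∈ 𝔪 • (⊤ : Submodule R A) →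
        ∀ k, r k ∈ 𝔪) :
    (⨆ k : Fin p, Mn L k) ⊓ (RingHom.ker (φ L)).restrictScalars R = ⊥ := by
  set V : Submodule R (TensorAlgebra R L) := ⨆ k : Fin p, Mn L k with hV
  -- a section of `φ` on `V`
  have hsurj : Function.Surjective ((φ L).toLinearMap ∘ₗ V.subtype) := by
    intro a
    have ha : a ∈ Submodule.map (φ L).toLinearMap V := by
      rw [hV, map_V, hsup]; trivial
    obtain ⟨v, hv, rfl⟩ := ha
    exact ⟨⟨v, hv⟩, rfl⟩
  obtain ⟨s, hs⟩ := Module.projective_lifting_property ((φ L).toLinearMap ∘ₗ V.subtype)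
    LinearMap.id hsurj
  have hs' : ∀ a : A, φ L ((s a : V) : TensorAlgebra R L) = a := fun a =>
    DFunLike.congr_fun hs a
  let e : TensorAlgebra R L →ₗ[R] TensorAlgebra R L :=
    LinearMap.id - V.subtype ∘ₗ s ∘ₗ (φ L).toLinearMap
  have he : ∀ z, e z = z - ((s (φ L z) : V) : TensorAlgebra R L) := fun z => rfl
  set N : Submodule R (TensorAlgebra R L) := V ⊓ (RingHom.ker (φ L)).restrictScalars R with hN
  have heN : ∀ z ∈ N, e z = z := by
    intro z hz
    have : φ L z = 0 := hz.2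
    rw [he, this, map_zero, Submodule.coe_zero, sub_zero]
  have heV : ∀ v ∈ V, e v ∈ N := by
    intro v hv
    refine ⟨?_, ?_⟩
    · rw [he]
      exact Submodule.sub_mem _ hv (s (φ L v)).2
    · show φ L (e v) = 0
      rw [he, map_sub, hs', sub_self]
  have hNfg : N.FG := by
    have : N = Submodule.map e V := by
      apply le_antisymm
      · intro z hz
        exact ⟨z, hz.1, heN z hz⟩
      · rintro _ ⟨v, hv, rfl⟩
        exact heV v hv
    rw [this]
    exact (fg_V L p hLfg).map e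
  rw [eq_bot_iff]
  apply le_of_forall_maximal N ⊥ hNfg
  intro 𝔪 h𝔪
  rw [bot_sup_eq]
  intro z hz
  obtain ⟨x₀, hx₀, hind⟩ := hloc 𝔪 h𝔪
  obtain ⟨r, z', hz', hzz⟩ := V_decomp L p 𝔪 x₀ hx₀ z hz.1
  -- `φ z' ∈ 𝔪 A`
  have h1 : ∀ w ∈ 𝔪 • V, φ L w ∈ 𝔪 • (⊤ : Submodule R A) := by
    intro w hw
    refine Submodule.smul_induction_on hw ?_ ?_
    · intro c hc n _
      rw [map_smul]
      exact Submodule.smul_mem_smul hc Submodule.mem_top
    · intro x y hx hy
      rw [map_add]
      exact Submodule.add_mem _ hx hy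
  have h2 : φ L z = 0 := hz.2
  have h3 : ∑ k : Fin p, r k • (x₀ : A) ^ (k : ℕ) = - φ L z' := by
    have := congrArg (φ L) hzz
    rw [h2, map_add, map_sum] at this
    have h4 : ∀ k : Fin p, φ L (r k • (TensorAlgebra.ι R x₀) ^ (k : ℕ)) = r k • (x₀ : A) ^ (k : ℕ) := by
      intro k
      rw [map_smul, map_pow]
      simp [φ]
    simp only [h4] at this
    exact eq_neg_of_add_eq_zero_left this.symm
  have h5 : ∀ k, r k ∈ 𝔪 := hind r (by rw [h3]; exact Submodule.neg_mem _ (h1 z' hz'))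
  have h6 : z ∈ 𝔪 • V := by
    rw [hzz]
    refine Submodule.add_mem _ (Submodule.sum_mem _ fun k _ => ?_) hz'
    refine Submodule.smul_mem_smul (h5 k) ?_
    refine (le_iSup (fun k : Fin p => Mn L k) k) ?_
    unfold Mn
    exact Submodule.pow_mem_pow _ (LinearMap.mem_range_self _ x₀) k
  rw [← heN z hz]
  refine Submodule.smul_induction_on h6 ?_ ?_
  · intro c hc n hn
    rw [map_smul]
    exact Submodule.smul_mem_smul hc (heV n hn)
  · intro x y hx hy
    rw [map_add]
    exact Submodule.add_mem _ hx hy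

theorem ker_le_span (hp2 : 2 ≤ p) (hL : L ^ p ≤ L)
    (h : (⨆ k : Fin p, Mn L k) ⊓ (RingHom.ker (φ L)).restrictScalars R = ⊥) :
    RingHom.ker (φ L) ≤ Ideal.span (Srel L p) := by
  intro z hz
  obtain ⟨v, hv, j, hj, rfl⟩ := Submodule.mem_sup.1 (top_le L p hp2 hL (Submodule.mem_top : z ∈ ⊤))
  have hj' : φ L j = 0 := span_Srel_le_ker L p hj
  have hv' : v ∈ (⨆ k : Fin p, Mn L k) ⊓ (RingHom.ker (φ L)).restrictScalars R := by
    refine ⟨hv, ?_⟩
    show φ L v = 0
    have : φ L (v + j) = 0 := hz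
    rwa [map_add, hj', add_zero] at this
  rw [h, Submodule.mem_bot] at hv'
  rw [hv', zero_add]
  exact hj

end TA

end Groth.Agent.Lib.Helper66.OT6
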