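import Mathlib
import Groth.Prelude.Def_W4c5ffgsreadingcourseOT
import Groth.Agent.Lib.Helper66.OT6

open scoped TensorProduct
open Groth.Agent.S18468 Groth.Agent.Lib.Helper66.OT1 Groth.Agent.Lib.Helper66.OT2
  Groth.Agent.Lib.Helper66.OT3 Groth.Agent.Lib.Helper66.OT4 Groth.Agent.Lib.Helper66.OT5
  Groth.Agent.Lib.Helper66.OT6

namespace Groth.Agent.Lib.Helper66.OT7

universe u

section Main
variable {p : ℕ} [Fact p.Prime] {R : Type u} [CommRing R] (u : R)
  (hu : u * ((p - 1 : ℕ) : R) = 1)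
  (χ : (ZMod p)ˣ →* Rˣ) (hχ : ∀ m : (ZMod p)ˣ, m ≠ 1 → IsUnit ((χ m : R) - 1))
  (hχp : ∀ m : (ZMod p)ˣ,
    ((χ m : Rˣ) : R) - (((m : ZMod p).val : ℕ) : R) ∈ Ideal.span ({(p : R)} : Set R))
  {A : Type u} [CommRing A] [HopfAlgebra R A] [Module.Finite R A] [Module.Projective R A]
  (hrk : ∀ q : PrimeSpectrum R, Module.rankAtStalk A q = p)

theorem pow_p_le : (OortTate.eigenAug R A p χ 1) ^ p ≤ OortTate.eigenAug R A p χ 1 := by
  have hp2 : 2 ≤ p := (Fact.out : p.Prime).two_le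
  refine le_trans (pow_le_eigenAug χ p (by omega)) ?_
  rw [eigenAug_mod χ p, eigenAug_mod χ 1]
  have : p % (p - 1) = 1 % (p - 1) := by
    obtain ⟨n, rfl⟩ : ∃ n, p = n + 2 := ⟨p - 2, by omega⟩
    show (n + 2) % (n + 1) = 1 % (n + 1)
    rw [show n + 2 = 1 + (n + 1) by ring, Nat.add_mod_right]
  rw [this]

include hu hχ hχp hrk in
theorem iSup_pow_eq_top :
    (⨆ k : Fin p, (OortTate.eigenAug R A p χ 1) ^ (k : ℕ)) = ⊤ := by
  have hp2 : 2 ≤ p := (Fact.out : p.Prime).two_le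
  have hp := pow_p_eq_one hrk
  obtain ⟨-, hsup, -⟩ := Groth.Agent.S18468.result p R u hu χ hχ A hp
  rw [eq_top_iff]
  intro a _
  have h1 : a = algebraMap R A (Bialgebra.counitAlgHom R A a) + aug R A a := by
    rw [aug_apply]; ring
  rw [h1]
  refine Submodule.add_mem _ ?_ ?_
  · refine (le_iSup (fun k : Fin p => (OortTate.eigenAug R A p χ 1) ^ (k : ℕ)) ⟨0, by omega⟩) ?_
    show _ ∈ (OortTate.eigenAug R A p χ 1) ^ 0
    rw [pow_zero, Submodule.mem_one]
    exact ⟨_, rfl⟩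
  · have h2 : aug R A a ∈ LinearMap.ker (Bialgebra.counitAlgHom R A).toLinearMap := by
      rw [LinearMap.mem_ker]
      exact counit_aug a
    rw [← hsup] at h2
    refine (iSup_le ?_ : (⨆ i : Fin (p - 1), OortTate.eigenAug R A p χ (i : ℕ)) ≤ _) h2
    intro i
    by_cases hi : (i : ℕ) = 0
    · rw [hi]
      have h3 : OortTate.eigenAug R A p χ 0 = OortTate.eigenAug R A p χ (p - 1) := by
        rw [eigenAug_mod χ (p - 1), Nat.mod_self]
      rw [h3, ← pow_eigenAug u hu χ hχ hχp hrk (p - 1) (by omega) le_rfl]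
      exact le_iSup (fun k : Fin p => (OortTate.eigenAug R A p χ 1) ^ (k : ℕ)) ⟨p - 1, by omega⟩
    · have hi2 : (i : ℕ) < p - 1 := i.2
      rw [← pow_eigenAug u hu χ hχ hχp hrk i (by omega) (by omega)]
      exact le_iSup (fun k : Fin p => (OortTate.eigenAug R A p χ 1) ^ (k : ℕ)) ⟨i, by omega⟩


section Loc
variable (𝔪 : Ideal R) [h𝔪 : 𝔪.IsMaximal]

theorem algebraMap_K_eq_zero_iff (r : R) :
    algebraMap R (AlgebraicClosure 𝔪.ResidueField) r = 0 ↔ r ∈ 𝔪 := by
  rw [IsScalarTower.algebraMap_apply R 𝔪.ResidueField (AlgebraicClosure 𝔪.ResidueField),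
    map_eq_zero_iff _ (algebraMap 𝔪.ResidueField (AlgebraicClosure 𝔪.ResidueField)).injective,
    Ideal.algebraMap_residueField_eq_zero]

theorem one_tmul_eq_zero_of_mem_smul_top (b : A) (hb : b ∈ 𝔪 • (⊤ : Submodule R A)) :
    (1 : AlgebraicClosure 𝔪.ResidueField) ⊗ₜ[R] b = 0 := by
  refine Submodule.smul_induction_on hb ?_ ?_
  · intro m hm n _
    rw [TensorProduct.tmul_smul, TensorProduct.smul_tmul', Algebra.smul_def, mul_one,
      (algebraMap_K_eq_zero_iff 𝔪 m).2 hm, TensorProduct.zero_tmul]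
  · intro x y hx hy
    rw [TensorProduct.tmul_add, hx, hy, add_zero]

include hu hχ hχp hrk in
theorem exists_local_gen : ∃ x₀ : OortTate.eigenAug R A p χ 1,
    ((⊤ : Submodule R (OortTate.eigenAug R A p χ 1)) ≤ Submodule.span R {x₀} ⊔ 𝔪 • ⊤) ∧
    ∀ r : Fin p → R, (∑ k : Fin p, r k • (x₀ : A) ^ (k : ℕ)) ∈ 𝔪 • (⊤ : Submodule R A) →
      ∀ k, r k ∈ 𝔪 := by
  classical
  have hp2 : 2 ≤ p := (Fact.out : p.Prime).two_le
  have hp := pow_p_eq_one hrk
  set L := OortTate.eigenAug R A p χ 1 with hL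
  set κ := 𝔪.ResidueField with hκ
  let K := AlgebraicClosure κ
  have facts := field_facts u hu χ hχ hχp hrk K
  have hbc : OortTate.eigenAug K (K ⊗[R] A) p (chiS K χ) 1 = L.baseChange K :=
    eigenAug_baseChange K u hu χ hp 1
  have hfr1 : Module.finrank K (L.baseChange K) = 1 := by rw [← hbc]; exact facts.1 1
  -- Step 1
  obtain ⟨f₀, hf₀, hne⟩ : ∃ f₀ ∈ L, (1 : K) ⊗ₜ[R] f₀ ≠ 0 := by
    by_contra hcon
    push Not at hcon
    have : L.baseChange K = ⊥ := by
      rw [Submodule.baseChange_eq_span, Submodule.span_eq_bot]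
      rintro _ ⟨f, hf, rfl⟩
      exact hcon f hf
    rw [this, finrank_bot] at hfr1
    exact zero_ne_one hfr1
  have hy_mem : (1 : K) ⊗ₜ[R] f₀ ∈ L.baseChange K := Submodule.tmul_mem_baseChange_of_mem _ hf₀
  -- Step 2-4
  have hQ : ∀ l ∈ L, l ∈ Submodule.span R {f₀} ⊔ 𝔪 • L := by
    intro l hl
    have h1 : (1 : K) ⊗ₜ[R] l ∈ (Submodule.span R {f₀}).baseChange K := by
      rw [Submodule.baseChange_span, Set.image_singleton, TensorProduct.mk_apply]
      have hv : (⟨(1 : K) ⊗ₜ[R] f₀, hy_mem⟩ : L.baseChange K) ≠ 0 := fun h => hne (congrArg Subtype.val h)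
      obtain ⟨c, hc⟩ := (finrank_eq_one_iff_of_nonzero' _ hv).1 hfr1
        ⟨(1 : K) ⊗ₜ[R] l, Submodule.tmul_mem_baseChange_of_mem _ hl⟩
      have hc' : c • ((1 : K) ⊗ₜ[R] f₀) = (1 : K) ⊗ₜ[R] l := congrArg Subtype.val hc
      rw [← hc']
      exact Submodule.smul_mem _ _ (Submodule.mem_span_singleton_self _)
    have h2 := mem_sup_of_one_tmul_mem_baseChange κ K (Ideal.algebraMap_residueField_surjective 𝔪)
      (Submodule.span R {f₀}) l h1
    rw [Ideal.ker_algebraMap_residueField] at h2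
    obtain ⟨a, ha, b, hb, hab⟩ := Submodule.mem_sup.1 h2
    obtain ⟨r, rfl⟩ := Submodule.mem_span_singleton.1 ha
    have h3 : Q A u χ 1 l = l := Q_of_mem u hu χ 1 l hl
    have h4 : Q A u χ 1 f₀ = f₀ := Q_of_mem u hu χ 1 f₀ hf₀
    have h5 : Q A u χ 1 b ∈ 𝔪 • L := by
      refine Submodule.smul_induction_on hb ?_ ?_
      · intro c hc n _
        rw [map_smul]
        exact Submodule.smul_mem_smul hc (Q_mem u χ hp 1 n)
      · intro x y hx hy
        rw [map_add]
        exact Submodule.add_mem _ hx hy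
    rw [← h3, ← hab, map_add, map_smul, h4]
    exact Submodule.add_mem_sup (Submodule.smul_mem _ _ (Submodule.mem_span_singleton_self _)) h5
  -- Step 5
  have hx₀ : (⊤ : Submodule R L) ≤ Submodule.span R {(⟨f₀, hf₀⟩ : L)} ⊔ 𝔪 • ⊤ := by
    intro l _
    obtain ⟨a, ha, w, hw, hab⟩ := Submodule.mem_sup.1 (hQ l l.2)
    obtain ⟨r, rfl⟩ := Submodule.mem_span_singleton.1 ha
    have h1 : 𝔪 • L = Submodule.map L.subtype (𝔪 • (⊤ : Submodule R L)) := by
      rw [Submodule.map_smul'', Submodule.map_top, Submodule.range_subtype]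
    rw [h1] at hw
    obtain ⟨w', hw', rfl⟩ := hw
    have : l = r • (⟨f₀, hf₀⟩ : L) + w' := by
      apply Subtype.ext
      rw [Submodule.coe_add, Submodule.coe_smul]
      exact hab.symm
    rw [this]
    exact Submodule.add_mem_sup (Submodule.smul_mem _ _ (Submodule.mem_span_singleton_self _)) hw'
  refine ⟨⟨f₀, hf₀⟩, hx₀, ?_⟩
  -- Step 6
  have hW : (⊤ : Submodule R A) ≤
      Submodule.span R (Set.range fun k : Fin p => f₀ ^ (k : ℕ)) ⊔ 𝔪 • ⊤ := by
    have htop := iSup_pow_eq_top u hu χ hχ hχp hrk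
    intro a _
    have ha : a ∈ ⨆ k : Fin p, L ^ (k : ℕ) := by rw [htop]; trivial
    refine (iSup_le (fun k => ?_) : (⨆ k : Fin p, L ^ (k : ℕ)) ≤ _) ha
    rw [← map_Mn L k]
    refine le_trans (Submodule.map_mono (Mn_le_span L 𝔪 ⟨f₀, hf₀⟩ hx₀ k)) ?_
    rw [Submodule.map_sup, Submodule.map_span, Set.image_singleton, Submodule.map_smul'']
    refine sup_le_sup ?_ (Submodule.smul_mono le_rfl le_top)
    rw [Submodule.span_singleton_le_iff_mem]
    refine Submodule.subset_span ⟨k, ?_⟩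
    simp [φ]
  have hspanK : (⊤ : Submodule K (K ⊗[R] A)) ≤
      Submodule.span K (Set.range fun k : Fin p => ((1 : K) ⊗ₜ[R] f₀) ^ (k : ℕ)) := by
    have hone : ∀ a : A, (1 : K) ⊗ₜ[R] a ∈
        Submodule.span K (Set.range fun k : Fin p => ((1 : K) ⊗ₜ[R] f₀) ^ (k : ℕ)) := by
      intro a
      obtain ⟨w, hw, b, hb, rfl⟩ := Submodule.mem_sup.1 (hW (Submodule.mem_top : a ∈ ⊤))
      rw [TensorProduct.tmul_add, one_tmul_eq_zero_of_mem_smul_top 𝔪 b hb, add_zero]
      have h1 : (1 : K) ⊗ₜ[R] w ∈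
          (Submodule.span R (Set.range fun k : Fin p => f₀ ^ (k : ℕ))).baseChange K :=
        Submodule.tmul_mem_baseChange_of_mem _ hw
      rw [Submodule.baseChange_span] at h1
      refine (Submodule.span_mono ?_) h1
      rintro _ ⟨_, ⟨k, rfl⟩, rfl⟩
      refine ⟨k, ?_⟩
      simp [Algebra.TensorProduct.tmul_pow]
    have hall : ∀ z : K ⊗[R] A, z ∈
        Submodule.span K (Set.range fun k : Fin p => ((1 : K) ⊗ₜ[R] f₀) ^ (k : ℕ)) := by
      intro z
      induction z using TensorProduct.induction_on with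
      | zero => exact Submodule.zero_mem _
      | tmul s a =>
        have : s ⊗ₜ[R] a = s • ((1 : K) ⊗ₜ[R] a) := by
          rw [TensorProduct.smul_tmul', smul_eq_mul, mul_one]
        rw [this]
        exact Submodule.smul_mem _ _ (hone a)
      | add x y hx hy => exact Submodule.add_mem _ hx hy
    exact fun z _ => hall z
  have hli : LinearIndependent K (fun k : Fin p => ((1 : K) ⊗ₜ[R] f₀) ^ (k : ℕ)) := by
    apply linearIndependent_of_top_le_span_of_card_eq_finrank hspanK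
    rw [Fintype.card_fin, finrank_field (A := A) hrk K]
  intro r hr k
  have h1 := one_tmul_eq_zero_of_mem_smul_top 𝔪 _ hr
  rw [TensorProduct.tmul_sum] at h1
  have h2 : ∑ k : Fin p, algebraMap R K (r k) • ((1 : K) ⊗ₜ[R] f₀) ^ (k : ℕ) = 0 := by
    rw [← h1]
    refine Finset.sum_congr rfl fun k _ => ?_
    rw [Algebra.TensorProduct.tmul_pow, one_pow, algebraMap_smul_one_tmul]
  have h3 := (Fintype.linearIndependent_iff.1 hli) (fun k => algebraMap R K (r k)) h2 k
  exact (algebraMap_K_eq_zero_iff 𝔪 (r k)).1 h3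

end Loc


include hu hχ hχp hrk in
theorem main :
    Function.Surjective (φ (OortTate.eigenAug R A p χ 1)) ∧
      RingHom.ker (φ (OortTate.eigenAug R A p χ 1)) =
        Ideal.span (Srel (OortTate.eigenAug R A p χ 1) p) := by
  have hp2 : 2 ≤ p := (Fact.out : p.Prime).two_le
  have hp := pow_p_eq_one hrk
  have hsup := iSup_pow_eq_top u hu χ hχ hχp hrk
  have hfg : (OortTate.eigenAug R A p χ 1).FG := by
    rw [← Module.Finite.iff_fg]
    exact finite_eigenAug u hu χ hp 1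
  constructor
  · intro a
    have ha : a ∈ Submodule.map (φ (OortTate.eigenAug R A p χ 1)).toLinearMap
        (⨆ k : Fin p, Mn (OortTate.eigenAug R A p χ 1) k) := by
      rw [map_V, hsup]; trivial
    obtain ⟨v, -, rfl⟩ := ha
    exact ⟨v, rfl⟩
  · apply le_antisymm
    · apply ker_le_span _ p hp2 (pow_p_le χ)
      apply V_inf_ker_eq_bot _ p hfg hsup
      intro 𝔪 h𝔪
      haveI := h𝔪
      exact exists_local_gen u hu χ hχ hχp hrk 𝔪
    · exact span_Srel_le_ker _ p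

end Main

end Groth.Agent.Lib.Helper66.OT7
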