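import Mathlib
import Groth.Prelude.Def_W4c5ffgsreadingcourseOT
import Groth.Agent.Lib.Helper66.OT7
import Groth.Agent.Lib.Helper66.OT10

open scoped TensorProduct
open Groth.Agent.S18468 Groth.Agent.Lib.Helper66.OT1 Groth.Agent.Lib.Helper66.OT2
  Groth.Agent.Lib.Helper66.OT5 Groth.Agent.Lib.Helper66.OT6 Groth.Agent.Lib.Helper66.OT7
  Groth.Agent.Lib.Helper66.OT10

namespace Groth.Agent.Lib.Helper66.OT11

universe u

section StepA
variable {p : ℕ} [Fact p.Prime] {R : Type u} [CommRing R] (u : R)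
  (hu : u * ((p - 1 : ℕ) : R) = 1)
  (χ : (ZMod p)ˣ →* Rˣ) (hχ : ∀ m : (ZMod p)ˣ, m ≠ 1 → IsUnit ((χ m : R) - 1))
  (hχp : ∀ m : (ZMod p)ˣ,
    ((χ m : Rˣ) : R) - (((m : ZMod p).val : ℕ) : R) ∈ Ideal.span ({(p : R)} : Set R))
  {A : Type u} [CommRing A] [HopfAlgebra R A] [Module.Finite R A] [Module.Projective R A]
  (hrk : ∀ q : PrimeSpectrum R, Module.rankAtStalk A q = p)
  {A' : Type u} [CommRing A'] [HopfAlgebra R A'] [Module.Finite R A'] [Module.Projective R A']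
  (hrk' : ∀ q : PrimeSpectrum R, Module.rankAtStalk A' q = p)
  (θ : OortTate.eigenAug R A p χ 1 ≃ₗ[R] OortTate.eigenAug R A' p χ 1)
  (hθ : ∀ (f : Fin p → OortTate.eigenAug R A p χ 1) (g : OortTate.eigenAug R A p χ 1),
    (g : A) = ∏ i, (f i : A) → ((θ g : OortTate.eigenAug R A' p χ 1) : A') = ∏ i, ((θ (f i)) : A'))

include hθ in
theorem hθ_symm (f' : Fin p → OortTate.eigenAug R A' p χ 1) (g' : OortTate.eigenAug R A' p χ 1)
    (hg' : (g' : A') = ∏ i, (f' i : A')) :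
    ((θ.symm g' : OortTate.eigenAug R A p χ 1) : A) = ∏ i, ((θ.symm (f' i)) : A) := by
  have hprod : ∏ i, ((θ.symm (f' i)) : A) ∈ OortTate.eigenAug R A p χ 1 :=
    pow_p_le χ (prod_mem_pow _ p _ fun i => (θ.symm (f' i)).2)
  have h1 := hθ (fun i => θ.symm (f' i)) ⟨_, hprod⟩ rfl
  simp only [LinearEquiv.apply_symm_apply] at h1
  rw [← hg'] at h1
  have h2 : θ ⟨_, hprod⟩ = g' := Subtype.ext h1
  rw [← h2, LinearEquiv.symm_apply_apply]

/-- the map `T(I_1(A)) → A'` induced by `θ` -/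
noncomputable def Φ : TensorAlgebra R (OortTate.eigenAug R A p χ 1) →ₐ[R] A' :=
  TensorAlgebra.lift R ((OortTate.eigenAug R A' p χ 1).subtype ∘ₗ θ.toLinearMap)

theorem Φ_ι (x : OortTate.eigenAug R A p χ 1) : Φ χ θ (TensorAlgebra.ι R x) = (θ x : A') := by
  simp [Φ]

theorem Φ_ofFn (n : ℕ) (f : Fin n → OortTate.eigenAug R A p χ 1) :
    Φ χ θ (List.ofFn fun i => TensorAlgebra.ι R (f i)).prod = ∏ i, ((θ (f i)) : A') := by
  rw [map_list_prod, List.map_ofFn, List.prod_ofFn]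
  refine Finset.prod_congr rfl fun i _ => ?_
  exact Φ_ι χ θ (f i)

include hu hχ hχp hrk hθ in
theorem ker_le (t : TensorAlgebra R (OortTate.eigenAug R A p χ 1))
    (ht : φ (OortTate.eigenAug R A p χ 1) t = 0) : Φ χ θ t = 0 := by
  have hmain := main u hu χ hχ hχp hrk
  have ht' : t ∈ RingHom.ker (φ (OortTate.eigenAug R A p χ 1)) := ht
  rw [hmain.2] at ht'
  refine Submodule.span_induction (p := fun t _ => Φ χ θ t = 0) ?_ ?_ ?_ ?_ ht'
  · rintro x ⟨f, g, hg, rfl⟩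
    rw [map_sub, Φ_ofFn, Φ_ι, hθ f g hg, sub_self]
  · exact map_zero _
  · intro x y _ _ hx hy
    rw [map_add, hx, hy, add_zero]
  · intro a x _ hx
    rw [smul_eq_mul, map_mul, hx, mul_zero]

/-- the algebra map `A → A'` induced by `θ` -/
noncomputable def Θhom : A →ₐ[R] A' :=
  liftSurj (φ (OortTate.eigenAug R A p χ 1)) (main u hu χ hχ hχp hrk).1 (Φ χ θ)
    (ker_le u hu χ hχ hχp hrk θ hθ)

theorem Θhom_φ (t : TensorAlgebra R (OortTate.eigenAug R A p χ 1)) :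
    Θhom u hu χ hχ hχp hrk θ hθ (φ (OortTate.eigenAug R A p χ 1) t) = Φ χ θ t :=
  liftSurj_apply _ _ _ _ t

theorem Θhom_mem (x : OortTate.eigenAug R A p χ 1) :
    Θhom u hu χ hχ hχp hrk θ hθ (x : A) = (θ x : A') := by
  have h1 : (x : A) = φ (OortTate.eigenAug R A p χ 1) (TensorAlgebra.ι R x) := by
    simp [φ]
  rw [h1, Θhom_φ, Φ_ι]

include hu hχ hχp hrk in
theorem algHom_ext_of_eigenAug {C : Type*} [Ring C] [Algebra R C] (F G : A →ₐ[R] C)
    (h : ∀ x : OortTate.eigenAug R A p χ 1, F (x : A) = G (x : A)) : F = G := by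
  have hmain := main u hu χ hχ hχp hrk
  have h1 : F.comp (φ (OortTate.eigenAug R A p χ 1)) = G.comp (φ (OortTate.eigenAug R A p χ 1)) := by
    apply TensorAlgebra.hom_ext
    apply LinearMap.ext
    intro x
    simp only [LinearMap.comp_apply, AlgHom.toLinearMap_apply, AlgHom.comp_apply]
    have h2 : φ (OortTate.eigenAug R A p χ 1) (TensorAlgebra.ι R x) = (x : A) := by
      simp [φ]
    rw [h2]
    exact h x
  apply AlgHom.ext
  intro a
  obtain ⟨t, rfl⟩ := hmain.1 a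
  exact DFunLike.congr_fun h1 t

include hu hχ hχp hrk hrk' hθ in
theorem exists_algEquiv :
    ∃ Θ : A ≃ₐ[R] A', ∀ x : OortTate.eigenAug R A p χ 1, Θ (x : A) = (θ x : A') := by
  have hθ' := hθ_symm χ θ hθ
  refine ⟨AlgEquiv.ofAlgHom (Θhom u hu χ hχ hχp hrk θ hθ) (Θhom u hu χ hχ hχp hrk' θ.symm hθ') ?_ ?_,
    fun x => Θhom_mem u hu χ hχ hχp hrk θ hθ x⟩
  · apply algHom_ext_of_eigenAug u hu χ hχ hχp hrk'
    intro x
    rw [AlgHom.comp_apply, Θhom_mem, Θhom_mem, LinearEquiv.apply_symm_apply]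
    rfl
  · apply algHom_ext_of_eigenAug u hu χ hχ hχp hrk
    intro x
    rw [AlgHom.comp_apply, Θhom_mem, Θhom_mem, LinearEquiv.symm_apply_apply]
    rfl

end StepA

end Groth.Agent.Lib.Helper66.OT11
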