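import Mathlib
import Groth.Prelude.Def_W4c5ffgsreadingcourseOT
import Groth.Agent.Lib.Helper66.OT5
import Groth.Agent.Lib.Helper66.OT8
import Groth.Agent.Lib.Helper16.OTJ5
import Groth.Agent.S18471

open scoped TensorProduct
open Groth.Agent.S18468 Groth.Agent.Lib.Helper66.OT1 Groth.Agent.Lib.Helper66.OT2
  Groth.Agent.Lib.Helper66.OT5 Groth.Agent.Lib.Helper66.OT8 Groth.Agent.Lib.Helper16.OTJ

namespace Groth.Agent.Lib.Helper66.OT9

universe u

section Main
variable {p : ℕ} [Fact p.Prime] {R : Type u} [CommRing R] (u : R)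
  (hu : u * ((p - 1 : ℕ) : R) = 1)
  (χ : (ZMod p)ˣ →* Rˣ) (hχ : ∀ m : (ZMod p)ˣ, m ≠ 1 → IsUnit ((χ m : R) - 1))
  (hχp : ∀ m : (ZMod p)ˣ,
    ((χ m : Rˣ) : R) - (((m : ZMod p).val : ℕ) : R) ∈ Ideal.span ({(p : R)} : Set R))
  {A : Type u} [CommRing A] [HopfAlgebra R A] [Module.Finite R A] [Module.Projective R A]
  (hrk : ∀ q : PrimeSpectrum R, Module.rankAtStalk A q = p)
  (δ : A ⊗[R] CartDual.D R A)
  (hδ : ∀ a : A, TensorProduct.rid R A
      (LinearMap.lTensor A ((Module.Dual.eval R A a) ∘ₗ (CartDual.toDual R A).toLinearMap) δ) = a)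
  (ϕ : MonoidAlgebra R (Multiplicative (ZMod p)) →ₐ[R] A ⊗[R] CartDual.D R A)
  (hϕ : ϕ (OortTate.muT R p) = δ)

include hδ in
theorem Ψ_δ : Ψ δ = LinearMap.id := by
  apply LinearMap.ext
  intro b
  rw [Ψ_apply]
  exact hδ b

include hδ in
theorem Ψ_δ_pow (n : ℕ) : Ψ (δ ^ n) = (SGA3b.powConv R A n).toLinearMap := by
  have h := Ψ_pow δ n
  rw [Ψ_δ δ hδ] at h
  rw [Groth.Agent.S18471.powConv_toLinearMap]
  exact congrArg WithConv.ofConv h

theorem Ψ_one_apply (b : A) :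
    Ψ (1 : A ⊗[R] CartDual.D R A) b = algebraMap R A (Bialgebra.counitAlgHom R A b) := by
  have h := Ψ_one (R := R) (A := A)
  have h2 := congrArg (fun T : WithConv (A →ₗ[R] A) => T.ofConv b) h
  simpa using h2

include hϕ in
theorem ϕ_Tp (m : (ZMod p)ˣ) : ϕ (Tp R p (m : ZMod p)) = δ ^ (m : ZMod p).val := by
  let _ : Semiring (A ⊗[R] CartDual.D R A) := inferInstance
  rw [← hϕ, ← map_pow, muT_eq, Tp_pow]
  congr 2
  rw [nsmul_eq_mul, mul_one, ZMod.natCast_zmod_val]

include hδ hϕ in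
theorem Ψ_e : Ψ (ϕ (OortTate.ygen R p u χ 1)) = Q A u χ 1 := by
  let _ : Semiring (A ⊗[R] CartDual.D R A) := inferInstance
  apply LinearMap.ext
  intro b
  rw [ygen_eq_sum, map_smul, map_sum, map_smul, map_sum, LinearMap.smul_apply,
    LinearMap.sum_apply]
  unfold Q
  rw [LinearMap.comp_apply, proj_apply]
  congr 1
  refine Finset.sum_congr rfl fun m _ => ?_
  rw [map_smul, map_smul, LinearMap.smul_apply, map_sub, map_one, ϕ_Tp δ ϕ hϕ, map_sub,
    LinearMap.sub_apply, Ψ_δ_pow δ hδ, Ψ_one_apply, aug_apply, map_sub]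
  congr 2
  exact ((SGA3b.powConv R A (m : ZMod p).val).commutes _).symm

include hu hχ hχp hrk in
theorem invertible_I (i : ℕ) : Module.Invertible R ↥(OortTate.eigenAug R A p χ i) := by
  have hp := pow_p_eq_one hrk
  haveI := finite_eigenAug u hu χ hp i
  haveI := projective_eigenAug u hu χ hp i
  exact invertible_of_rank_one (rank_eigenAug u hu χ hχ hχp hrk i)

variable [Coalgebra.IsCocomm R A]

include hu in
theorem ξ_Q (ξ : CartDual.D R A) (hξ : ξ ∈ OortTate.eigenAug R (CartDual.D R A) p χ 1) (b : A) :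
    ξ (Q A u χ 1 b) = ξ b := by
  unfold Q
  rw [LinearMap.comp_apply, Groth.Agent.S18471.L1 u hu χ 1 ξ hξ,
    ← Groth.Agent.S18471.f_red χ 1 ξ hξ b]
  rfl

include hu hχ hχp hrk hδ hϕ in
theorem tmul_eq (a : A) (ha : a ∈ OortTate.eigenAug R A p χ 1) (ξ : CartDual.D R A)
    (hξ : ξ ∈ OortTate.eigenAug R (CartDual.D R A) p χ 1) :
    a ⊗ₜ[R] ξ = ξ a • ϕ (OortTate.ygen R p u χ 1) := by
  apply Ψ_injective
  apply LinearMap.ext
  intro b
  rw [Ψ_tmul, map_smul, LinearMap.smul_apply, Ψ_e u χ δ hδ ϕ hϕ]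
  have hp := pow_p_eq_one hrk
  haveI := invertible_I u hu χ hχ hχp hrk 1
  let l : ↥(OortTate.eigenAug R A p χ 1) →ₗ[R] R :=
    ξ.ofConv ∘ₗ (OortTate.eigenAug R A p χ 1).subtype
  have h2 := rank_one l ⟨a, ha⟩ ⟨Q A u χ 1 b, Q_mem u χ hp 1 b⟩
  have h3 := congrArg Subtype.val h2
  rw [← ξ_Q u hu χ ξ hξ b]
  exact h3.symm

include hu hχ hχp hrk hδ hϕ in
theorem e_mem : ϕ (OortTate.ygen R p u χ 1) ∈
    LinearMap.range (TensorProduct.map (OortTate.eigenAug R A p χ 1).subtype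
      (OortTate.eigenAug R (CartDual.D R A) p χ 1).subtype) := by
  classical
  have hp := pow_p_eq_one hrk
  set N := OortTate.eigenAug R A p χ 1 with hN
  haveI : Module.Finite R N := finite_eigenAug u hu χ hp 1
  haveI : Module.Projective R N := projective_eigenAug u hu χ hp 1
  obtain ⟨n, s, hs⟩ := Module.Finite.exists_fin (R := R) (M := N)
  let f : (Fin n → R) →ₗ[R] N := Fintype.linearCombination R s
  have hf : Function.Surjective f := by
    rw [← LinearMap.range_eq_top, Fintype.range_linearCombination, hs]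
  obtain ⟨g, hg⟩ := Module.projective_lifting_property f LinearMap.id hf
  have hdb : ∀ b : N, ∑ k, (g b k) • s k = b := by
    intro b
    have := DFunLike.congr_fun hg b
    simpa [f, Fintype.linearCombination_apply] using this
  have hbij := Groth.Agent.S18471.result p R u hu χ hχ A hp 1
  choose ξ hξ using fun k : Fin n => hbij.2 ((LinearMap.proj k) ∘ₗ g)
  refine ⟨∑ k, s k ⊗ₜ[R] ξ k, ?_⟩
  rw [map_sum]
  simp only [TensorProduct.map_tmul, Submodule.subtype_apply]
  apply Ψ_injective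
  rw [Ψ_e u χ δ hδ ϕ hϕ, map_sum]
  apply LinearMap.ext
  intro b
  rw [LinearMap.sum_apply]
  simp only [Ψ_tmul]
  have hb := congrArg Subtype.val (hdb (q u χ hp 1 b))
  rw [q_coe] at hb
  rw [← hb, AddSubmonoidClass.coe_finsetSum]
  refine Finset.sum_congr rfl fun k _ => ?_
  rw [Submodule.coe_smul]
  congr 1
  have h1 := DFunLike.congr_fun (hξ k) (q u χ hp 1 b)
  rw [← ξ_Q u hu χ (ξ k : CartDual.D R A) (ξ k).2 b]
  simpa [q_coe] using h1

include hu hχ hχp hrk hδ hϕ in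
theorem smul_e_eq_zero (r : R) (h : r • ϕ (OortTate.ygen R p u χ 1) = 0) : r = 0 := by
  have hp := pow_p_eq_one hrk
  haveI := invertible_I u hu χ hχ hχp hrk 1
  have h1 : r • Q A u χ 1 = 0 := by
    rw [← Ψ_e u χ δ hδ ϕ hϕ, ← map_smul, h, map_zero]
  have h2 : ∀ f : ↥(OortTate.eigenAug R A p χ 1), r • f = (0 : R) • f := by
    intro f
    apply Subtype.ext
    rw [zero_smul, Submodule.coe_smul, Submodule.coe_zero, ← Q_of_mem u hu χ 1 (f : A) f.2,
      ← LinearMap.smul_apply, h1, LinearMap.zero_apply]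
  exact FaithfulSMul.eq_of_smul_eq_smul h2

include hu hχ hχp hrk hδ hϕ in
theorem main :
    Submodule.span R {ϕ (OortTate.ygen R p u χ 1)} =
        LinearMap.range (TensorProduct.map (OortTate.eigenAug R A p χ 1).subtype
          (OortTate.eigenAug R (CartDual.D R A) p χ 1).subtype) ∧
      ∀ r : R, r • ϕ (OortTate.ygen R p u χ 1) = 0 → r = 0 := by
  refine ⟨le_antisymm ?_ ?_, smul_e_eq_zero u hu χ hχ hχp hrk δ hδ ϕ hϕ⟩
  · rw [Submodule.span_le, Set.singleton_subset_iff]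
    exact e_mem u hu χ hχ hχp hrk δ hδ ϕ hϕ
  · rintro _ ⟨t, rfl⟩
    induction t using TensorProduct.induction_on with
    | zero => rw [map_zero]; exact Submodule.zero_mem _
    | add x y hx hy => rw [map_add]; exact Submodule.add_mem _ hx hy
    | tmul a ξ =>
      rw [TensorProduct.map_tmul, Submodule.subtype_apply, Submodule.subtype_apply,
        tmul_eq u hu χ hχ hχp hrk δ hδ ϕ hϕ (a : A) a.2 (ξ : CartDual.D R A) ξ.2]
      exact Submodule.smul_mem _ _ (Submodule.mem_span_singleton_self _)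

end Main

end Groth.Agent.Lib.Helper66.OT9
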