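import Mathlib
import Groth.Prelude.Def_W4c5ffgsreadingcourseOT
import Groth.Agent.Lib.Helper66.OT9
import Groth.Agent.Lib.Helper16.OTJ7

open scoped TensorProduct
open Groth.Agent.S18468 Groth.Agent.Lib.Helper66.OT1 Groth.Agent.Lib.Helper66.OT2
  Groth.Agent.Lib.Helper66.OT5 Groth.Agent.Lib.Helper66.OT8 Groth.Agent.Lib.Helper66.OT9
  Groth.Agent.Lib.Helper16.OTJ

namespace Groth.Agent.Lib.Helper66.OT12

universe u

section PowHom
variable {M : Type*} [Monoid M] (p : ℕ) [NeZero p]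

/-- the monoid map `ℤ/p → M` attached to an element with `δ^p = 1` -/
def powHom (δ : M) (h : δ ^ p = 1) : Multiplicative (ZMod p) →* M where
  toFun a := δ ^ (Multiplicative.toAdd a).val
  map_one' := by
    rw [toAdd_one, ZMod.val_zero, pow_zero]
  map_mul' a b := by
    rw [toAdd_mul, ZMod.val_add, ← pow_add, ← pow_eq_pow_mod _ h]

theorem powHom_ofAdd_one [Fact (1 < p)] (δ : M) (h : δ ^ p = 1) :
    powHom p δ h (Multiplicative.ofAdd 1) = δ := by
  show δ ^ (1 : ZMod p).val = δ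
  rw [ZMod.val_one, pow_one]

end PowHom

section Canon
variable {R : Type u} [CommRing R] {A : Type u} [CommRing A] [HopfAlgebra R A]
  [Module.Finite R A] [Module.Projective R A]

theorem exists_dualBasis : ∃ (n : ℕ) (s : Fin n → A) (lam : Fin n → CartDual.D R A),
    ∀ b : A, ∑ k, lam k b • s k = b := by
  classical
  obtain ⟨n, s, hs⟩ := Module.Finite.exists_fin (R := R) (M := A)
  let f : (Fin n → R) →ₗ[R] A := Fintype.linearCombination R s
  have hf : Function.Surjective f := by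
    rw [← LinearMap.range_eq_top, Fintype.range_linearCombination, hs]
  obtain ⟨g, hg⟩ := Module.projective_lifting_property f LinearMap.id hf
  have hdb : ∀ b : A, ∑ k, (g b k) • s k = b := by
    intro b
    have := DFunLike.congr_fun hg b
    simpa [f, Fintype.linearCombination_apply] using this
  exact ⟨n, s, fun k => WithConv.toConv ((LinearMap.proj k) ∘ₗ g), hdb⟩

theorem hδ_of_dualBasis {n : ℕ} (s : Fin n → A) (lam : Fin n → CartDual.D R A)
    (h : ∀ b : A, ∑ k, lam k b • s k = b) (a : A) :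
    TensorProduct.rid R A
      (LinearMap.lTensor A ((Module.Dual.eval R A a) ∘ₗ (CartDual.toDual R A).toLinearMap)
        (∑ k, s k ⊗ₜ[R] lam k)) = a := by
  have h1 := ctr_tmul (R := R) a
  show ctr a (∑ k, s k ⊗ₜ[R] lam k) = a
  rw [map_sum]
  simp only [ctr_tmul]
  exact h a

variable {p : ℕ} [Fact p.Prime]

theorem δ_pow_p (hp : (WithConv.toConv (AlgHom.id R A)) ^ p = 1)
    (δ : A ⊗[R] CartDual.D R A)
    (hδ : ∀ a : A, TensorProduct.rid R A
      (LinearMap.lTensor A ((Module.Dual.eval R A a) ∘ₗ (CartDual.toDual R A).toLinearMap) δ) = a) :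
    δ ^ p = 1 := by
  let _ : Semiring (A ⊗[R] CartDual.D R A) := inferInstance
  apply Ψ_injective
  apply LinearMap.ext
  intro b
  rw [Ψ_δ_pow δ hδ, Ψ_one_apply]
  have h1 : SGA3b.powConv R A p = (1 : WithConv (A →ₐ[R] A)).ofConv := by
    rw [powConv_eq]
    exact congrArg WithConv.ofConv hp
  rw [h1]
  simp [AlgHom.convOne_def]

theorem exists_ϕ (hp : (WithConv.toConv (AlgHom.id R A)) ^ p = 1)
    (δ : A ⊗[R] CartDual.D R A)
    (hδ : ∀ a : A, TensorProduct.rid R A
      (LinearMap.lTensor A ((Module.Dual.eval R A a) ∘ₗ (CartDual.toDual R A).toLinearMap) δ) = a) :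
    ∃ ϕ : MonoidAlgebra R (Multiplicative (ZMod p)) →ₐ[R] A ⊗[R] CartDual.D R A,
      ϕ (OortTate.muT R p) = δ := by
  haveI : Fact (1 < p) := ⟨(Fact.out : p.Prime).one_lt⟩
  refine ⟨MonoidAlgebra.lift R (A ⊗[R] CartDual.D R A) (Multiplicative (ZMod p))
    (powHom p δ (δ_pow_p hp δ hδ)), ?_⟩
  show MonoidAlgebra.lift R _ _ _ (MonoidAlgebra.of R _ _) = δ
  rw [MonoidAlgebra.lift_of, powHom_ofAdd_one]

end Canon

section E
variable {p : ℕ} [Fact p.Prime] {R : Type u} [CommRing R] (u : R)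
  (hu : u * ((p - 1 : ℕ) : R) = 1)
  (χ : (ZMod p)ˣ →* Rˣ) (hχ : ∀ m : (ZMod p)ˣ, m ≠ 1 → IsUnit ((χ m : R) - 1))
  (hχp : ∀ m : (ZMod p)ˣ,
    ((χ m : Rˣ) : R) - (((m : ZMod p).val : ℕ) : R) ∈ Ideal.span ({(p : R)} : Set R))
  {A : Type u} [CommRing A] [HopfAlgebra R A] [Module.Finite R A] [Module.Projective R A]
  [Coalgebra.IsCocomm R A]
  (hrk : ∀ q : PrimeSpectrum R, Module.rankAtStalk A q = p)
  (δ : A ⊗[R] CartDual.D R A)
  (hδ : ∀ a : A, TensorProduct.rid R A
      (LinearMap.lTensor A ((Module.Dual.eval R A a) ∘ₗ (CartDual.toDual R A).toLinearMap) δ) = a)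
  (ϕ : MonoidAlgebra R (Multiplicative (ZMod p)) →ₐ[R] A ⊗[R] CartDual.D R A)
  (hϕ : ϕ (OortTate.muT R p) = δ)

include hu hrk hδ hϕ in
theorem e_eq_sum {n : ℕ} (s : Fin n → OortTate.eigenAug R A p χ 1)
    (ξ : Fin n → OortTate.eigenAug R (CartDual.D R A) p χ 1)
    (h : ∀ b : OortTate.eigenAug R A p χ 1, ∑ k, (ξ k : CartDual.D R A) (b : A) • (s k : A) = b) :
    ϕ (OortTate.ygen R p u χ 1) = ∑ k, (s k : A) ⊗ₜ[R] (ξ k : CartDual.D R A) := by
  apply Ψ_injective
  rw [Ψ_e u χ δ hδ ϕ hϕ, map_sum]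
  apply LinearMap.ext
  intro b
  rw [LinearMap.sum_apply]
  simp only [Ψ_tmul]
  have hp := pow_p_eq_one hrk
  have h1 := h ⟨Q A u χ 1 b, Q_mem u χ hp 1 b⟩
  simp only at h1
  rw [← h1]
  refine Finset.sum_congr rfl fun k _ => ?_
  rw [ξ_Q u hu χ (ξ k : CartDual.D R A) (ξ k).2 b]

include hu hχ hrk in
theorem exists_rep : ∃ (n : ℕ) (s : Fin n → OortTate.eigenAug R A p χ 1)
    (ξ : Fin n → OortTate.eigenAug R (CartDual.D R A) p χ 1),
    ∀ b : OortTate.eigenAug R A p χ 1, ∑ k, (ξ k : CartDual.D R A) (b : A) • (s k : A) = b := by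
  classical
  have hp := pow_p_eq_one hrk
  set N := OortTate.eigenAug R A p χ 1 with hN
  haveI : Module.Finite R N := finite_eigenAug u hu χ hp 1
  haveI : Module.Projective R N := projective_eigenAug u hu χ hp 1
  obtain ⟨n, s, hs⟩ := Module.Finite.exists_fin (R := R) (M := N)
  let f : (Fin n → R) →ₗ[R] N := Fintype.linearCombination R s
  have hf : Function.Surjective f := by
    rw [← LinearMap.range_eq_top, Fintype.range_linearCombination, hs]
  obtain ⟨g, hg⟩ := Module.projective_lifting_property f LinearMap.id hf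
  have hdb : ∀ b : N, ∑ k, (g b k) • s k = b := by
    intro b
    have := DFunLike.congr_fun hg b
    simpa [f, Fintype.linearCombination_apply] using this
  have hbij := Groth.Agent.S18471.result p R u hu χ hχ A hp 1
  choose ξ hξ using fun k : Fin n => hbij.2 ((LinearMap.proj k) ∘ₗ g)
  refine ⟨n, s, ξ, fun b => ?_⟩
  have hb := congrArg Subtype.val (hdb b)
  rw [AddSubmonoidClass.coe_finsetSum] at hb
  conv_rhs => rw [← hb]
  refine Finset.sum_congr rfl fun k _ => ?_
  rw [Submodule.coe_smul]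
  congr 1
  exact DFunLike.congr_fun (hξ k) b

include hu hχ hχp in
theorem exists_poly :
    ∃ P : Polynomial R, Polynomial.aeval (OortTate.ygen R p u χ 1) P = OortTate.muT R p := by
  have h := adjoin_ygen_one u χ hu hχ hχp
  have h1 : OortTate.muT R p ∈ Algebra.adjoin R
      ({OortTate.ygen R p u χ 1} : Set (MonoidAlgebra R (Multiplicative (ZMod p)))) := by
    rw [h]; trivial
  rw [Algebra.adjoin_singleton_eq_range_aeval] at h1
  exact h1

include hϕ in
theorem δ_eq_aeval (P : Polynomial R)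
    (hP : Polynomial.aeval (OortTate.ygen R p u χ 1) P = OortTate.muT R p) :
    δ = Polynomial.aeval (ϕ (OortTate.ygen R p u χ 1)) P := by
  rw [Polynomial.aeval_algHom_apply, hP, hϕ]

end E

end Groth.Agent.Lib.Helper66.OT12
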