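import Mathlib
import Groth.Prelude.Def_W4c5ffgsreadingcourseOT
import Groth.Agent.Lib.Helper66.OT11
import Groth.Agent.Lib.Helper66.OT12

open scoped TensorProduct
open Groth.Agent.S18468 Groth.Agent.Lib.Helper66.OT1 Groth.Agent.Lib.Helper66.OT2
  Groth.Agent.Lib.Helper66.OT5 Groth.Agent.Lib.Helper66.OT6 Groth.Agent.Lib.Helper66.OT7
  Groth.Agent.Lib.Helper66.OT8 Groth.Agent.Lib.Helper66.OT9
  Groth.Agent.Lib.Helper66.OT10 Groth.Agent.Lib.Helper66.OT11 Groth.Agent.Lib.Helper66.OT12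

namespace Groth.Agent.Lib.Helper66.OT13

universe u

section StepB
variable {p : ℕ} [Fact p.Prime] {R : Type u} [CommRing R] (u : R)
  (hu : u * ((p - 1 : ℕ) : R) = 1)
  (χ : (ZMod p)ˣ →* Rˣ) (hχ : ∀ m : (ZMod p)ˣ, m ≠ 1 → IsUnit ((χ m : R) - 1))
  (hχp : ∀ m : (ZMod p)ˣ,
    ((χ m : Rˣ) : R) - (((m : ZMod p).val : ℕ) : R) ∈ Ideal.span ({(p : R)} : Set R))
  (A : Type u) [CommRing A] [HopfAlgebra R A] [Module.Finite R A] [Module.Projective R A]
  [Coalgebra.IsCocomm R A]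
  (hrk : ∀ q : PrimeSpectrum R, Module.rankAtStalk A q = p)

/-- restriction of forms in `I_1(D)` to `I_1(A)` -/
noncomputable def res : OortTate.eigenAug R (CartDual.D R A) p χ 1 →ₗ[R]
    (OortTate.eigenAug R A p χ 1 →ₗ[R] R) where
  toFun ξ := (ξ : CartDual.D R A).ofConv ∘ₗ (OortTate.eigenAug R A p χ 1).subtype
  map_add' ξ η := by
    apply LinearMap.ext
    intro b
    simp
  map_smul' r ξ := by
    apply LinearMap.ext
    intro b
    simp

theorem res_apply (ξ : OortTate.eigenAug R (CartDual.D R A) p χ 1)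
    (b : OortTate.eigenAug R A p χ 1) : res χ A ξ b = (ξ : CartDual.D R A) (b : A) := rfl

include hu hχ hrk in
theorem res_bijective : Function.Bijective (res χ A) :=
  Groth.Agent.S18471.result p R u hu χ hχ A (pow_p_eq_one hrk) 1

/-- `I_1(D(A)) ≃ Hom(I_1(A), R)` -/
noncomputable def rE : OortTate.eigenAug R (CartDual.D R A) p χ 1 ≃ₗ[R]
    (OortTate.eigenAug R A p χ 1 →ₗ[R] R) :=
  LinearEquiv.ofBijective (res χ A) (res_bijective u hu χ hχ A hrk)

theorem rE_apply (ξ : OortTate.eigenAug R (CartDual.D R A) p χ 1)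
    (b : OortTate.eigenAug R A p χ 1) :
    rE u hu χ hχ A hrk ξ b = (ξ : CartDual.D R A) (b : A) := rfl

end StepB

section StepB2
variable {p : ℕ} [Fact p.Prime] {R : Type u} [CommRing R] (u : R)
  (hu : u * ((p - 1 : ℕ) : R) = 1)
  (χ : (ZMod p)ˣ →* Rˣ) (hχ : ∀ m : (ZMod p)ˣ, m ≠ 1 → IsUnit ((χ m : R) - 1))
  (hχp : ∀ m : (ZMod p)ˣ,
    ((χ m : Rˣ) : R) - (((m : ZMod p).val : ℕ) : R) ∈ Ideal.span ({(p : R)} : Set R))
  {A : Type u} [CommRing A] [HopfAlgebra R A] [Module.Finite R A] [Module.Projective R A]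
  [Coalgebra.IsCocomm R A]
  (hrk : ∀ q : PrimeSpectrum R, Module.rankAtStalk A q = p)
  {A' : Type u} [CommRing A'] [HopfAlgebra R A'] [Module.Finite R A'] [Module.Projective R A']
  [Coalgebra.IsCocomm R A']
  (hrk' : ∀ q : PrimeSpectrum R, Module.rankAtStalk A' q = p)
  (θ : OortTate.eigenAug R A p χ 1 ≃ₗ[R] OortTate.eigenAug R A' p χ 1)

/-- the inverse transpose of `θ` on `I_1` of the duals -/
noncomputable def θD : OortTate.eigenAug R (CartDual.D R A) p χ 1 ≃ₗ[R]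
    OortTate.eigenAug R (CartDual.D R A') p χ 1 :=
  (rE u hu χ hχ A hrk) ≪≫ₗ (LinearEquiv.arrowCongr θ (LinearEquiv.refl R R)) ≪≫ₗ
    (rE u hu χ hχ A' hrk').symm

theorem θD_apply (ξ : OortTate.eigenAug R (CartDual.D R A) p χ 1)
    (b : OortTate.eigenAug R A p χ 1) :
    (θD u hu χ hχ hrk hrk' θ ξ : CartDual.D R A') ((θ b : OortTate.eigenAug R A' p χ 1) : A') =
      (ξ : CartDual.D R A) (b : A) := by
  rw [← rE_apply u hu χ hχ A' hrk']
  unfold θD
  rw [LinearEquiv.trans_apply, LinearEquiv.trans_apply, LinearEquiv.apply_symm_apply,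
    LinearEquiv.arrowCongr_apply, LinearEquiv.symm_apply_apply, LinearEquiv.refl_apply, rE_apply]

include hu hχ hrk' in
theorem θD_ext (ψ ψ' : OortTate.eigenAug R (CartDual.D R A') p χ 1)
    (h : ∀ b : OortTate.eigenAug R A p χ 1,
      (ψ : CartDual.D R A') ((θ b : OortTate.eigenAug R A' p χ 1) : A') =
        (ψ' : CartDual.D R A') ((θ b : OortTate.eigenAug R A' p χ 1) : A')) : ψ = ψ' := by
  apply (rE u hu χ hχ A' hrk').injective
  apply LinearMap.ext
  intro b'
  rw [rE_apply, rE_apply]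
  have := h (θ.symm b')
  rw [LinearEquiv.apply_symm_apply] at this
  exact this

variable (hθD : ∀ (φ : Fin p → OortTate.eigenAug R (CartDual.D R A) p χ 1)
      (φ' : Fin p → OortTate.eigenAug R (CartDual.D R A') p χ 1)
      (ψ : OortTate.eigenAug R (CartDual.D R A) p χ 1) (ψ' : OortTate.eigenAug R (CartDual.D R A') p χ 1),
      (∀ i, ∀ x : OortTate.eigenAug R A p χ 1,
        CartDual.toDual R A (φ i : CartDual.D R A) (x : A) =
          CartDual.toDual R A' (φ' i : CartDual.D R A') ((θ x : OortTate.eigenAug R A' p χ 1) : A')) →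
      (ψ : CartDual.D R A) = ∏ i, (φ i : CartDual.D R A) →
      (ψ' : CartDual.D R A') = ∏ i, (φ' i : CartDual.D R A') →
      ∀ x : OortTate.eigenAug R A p χ 1,
        CartDual.toDual R A (ψ : CartDual.D R A) (x : A) =
          CartDual.toDual R A' (ψ' : CartDual.D R A') ((θ x : OortTate.eigenAug R A' p χ 1) : A'))

include hθD in
theorem hθD' (f : Fin p → OortTate.eigenAug R (CartDual.D R A) p χ 1)
    (g : OortTate.eigenAug R (CartDual.D R A) p χ 1)
    (hg : (g : CartDual.D R A) = ∏ i, (f i : CartDual.D R A)) :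
    ((θD u hu χ hχ hrk hrk' θ g : OortTate.eigenAug R (CartDual.D R A') p χ 1) : CartDual.D R A') =
      ∏ i, ((θD u hu χ hχ hrk hrk' θ (f i)) : CartDual.D R A') := by
  have hprod : ∏ i, ((θD u hu χ hχ hrk hrk' θ (f i)) : CartDual.D R A') ∈
      OortTate.eigenAug R (CartDual.D R A') p χ 1 :=
    pow_p_le χ (prod_mem_pow _ p _ fun i => (θD u hu χ hχ hrk hrk' θ (f i)).2)
  have h := hθD f (fun i => θD u hu χ hχ hrk hrk' θ (f i)) g ⟨_, hprod⟩
    (fun i x => (θD_apply u hu χ hχ hrk hrk' θ (f i) x).symm) hg rfl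
  have h2 : θD u hu χ hχ hrk hrk' θ g = ⟨_, hprod⟩ := by
    apply θD_ext u hu χ hχ hrk' θ
    intro b
    rw [θD_apply]
    exact h b
  exact congrArg Subtype.val h2

end StepB2

section Pairing
variable {R : Type u} [CommRing R] {A : Type u} [CommRing A] [Bialgebra R A]
  [Module.Finite R A] [Module.Projective R A]
  {A' : Type u} [CommRing A'] [Bialgebra R A'] [Module.Finite R A'] [Module.Projective R A']

theorem ev₂_apply_comul (φ ψ : CartDual.D R A) (a : A) :
    CartDual.ev₂ R A (φ ⊗ₜ[R] ψ) (Coalgebra.comul (R := R) a) = (φ * ψ).ofConv a := by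
  rw [CartDual.ev₂_tmul_eq', LinearMap.convMul_apply]
  rfl

theorem ev₂_map (Θ : A →ₗ[R] A') (φ' ψ' : CartDual.D R A') (z : A ⊗[R] A) :
    CartDual.ev₂ R A' (φ' ⊗ₜ[R] ψ') (TensorProduct.map Θ Θ z) =
      CartDual.ev₂ R A ((CartDual.transposeLin R Θ φ') ⊗ₜ[R] (CartDual.transposeLin R Θ ψ')) z := by
  induction z using TensorProduct.induction_on with
  | zero => simp
  | tmul a b => simp
  | add x y hx hy => simp only [map_add, hx, hy]

/-- an algebra isomorphism whose inverse transpose is multiplicative is a bialgebra isomorphism -/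
theorem bialgEquiv_of_pairing (Θ : A ≃ₐ[R] A') (ΘD : CartDual.D R A ≃ₐ[R] CartDual.D R A')
    (hpair : ∀ (ξ : CartDual.D R A) (a : A), (ΘD ξ) (Θ a) = ξ a) : Nonempty (A ≃ₐc[R] A') := by
  have hTr : ∀ φ' : CartDual.D R A', CartDual.transposeLin R Θ.toLinearMap φ' = ΘD.symm φ' := by
    intro φ'
    obtain ⟨ξ, rfl⟩ := ΘD.surjective φ'
    rw [AlgEquiv.symm_apply_apply]
    apply WithConv.ext
    apply LinearMap.ext
    intro a
    exact hpair ξ a
  refine ⟨BialgEquiv.ofAlgEquiv Θ ?_ ?_⟩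
  · apply AlgHom.ext
    intro a
    have h1 := hpair 1 a
    rw [map_one] at h1
    simpa [CartDual.coe_apply, LinearMap.convOne_apply] using h1
  · apply AlgHom.ext
    intro a
    rw [AlgHom.comp_apply, AlgHom.comp_apply, ← sub_eq_zero,
      ← Module.forall_dual_apply_eq_zero_iff R]
    intro L
    obtain ⟨t, rfl⟩ := (CartDual.ev₂ R A').surjective L
    induction t using TensorProduct.induction_on with
    | zero => simp
    | add t t' ht ht' => rw [map_add, LinearMap.add_apply, ht, ht', add_zero]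
    | tmul φ' ψ' =>
      rw [map_sub, sub_eq_zero]
      have h2 : (Algebra.TensorProduct.map (Θ : A →ₐ[R] A') (Θ : A →ₐ[R] A'))
          (Bialgebra.comulAlgHom R A a) =
          TensorProduct.map Θ.toLinearMap Θ.toLinearMap (Coalgebra.comul (R := R) a) := rfl
      have h3 : (Bialgebra.comulAlgHom R A') ((Θ : A →ₐ[R] A') a) =
          Coalgebra.comul (R := R) (Θ a) := rfl
      rw [h2, h3, ev₂_map, ev₂_apply_comul, ev₂_apply_comul, hTr, hTr, ← map_mul, ← hTr]
      rfl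

end Pairing

section Final
variable {p : ℕ} [Fact p.Prime] {R : Type u} [CommRing R] (u : R)
  (hu : u * ((p - 1 : ℕ) : R) = 1)
  (χ : (ZMod p)ˣ →* Rˣ) (hχ : ∀ m : (ZMod p)ˣ, m ≠ 1 → IsUnit ((χ m : R) - 1))
  (hχp : ∀ m : (ZMod p)ˣ,
    ((χ m : Rˣ) : R) - (((m : ZMod p).val : ℕ) : R) ∈ Ideal.span ({(p : R)} : Set R))
  {A : Type u} [CommRing A] [HopfAlgebra R A] [Module.Finite R A] [Module.Projective R A]
  [Coalgebra.IsCocomm R A]
  (hrk : ∀ q : PrimeSpectrum R, Module.rankAtStalk A q = p)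
  {A' : Type u} [CommRing A'] [HopfAlgebra R A'] [Module.Finite R A'] [Module.Projective R A']
  [Coalgebra.IsCocomm R A']
  (hrk' : ∀ q : PrimeSpectrum R, Module.rankAtStalk A' q = p)
  (θ : OortTate.eigenAug R A p χ 1 ≃ₗ[R] OortTate.eigenAug R A' p χ 1)
  (hθ : ∀ (f : Fin p → OortTate.eigenAug R A p χ 1) (g : OortTate.eigenAug R A p χ 1),
    (g : A) = ∏ i, (f i : A) → ((θ g : OortTate.eigenAug R A' p χ 1) : A') = ∏ i, ((θ (f i)) : A'))
  (hθD : ∀ (φ : Fin p → OortTate.eigenAug R (CartDual.D R A) p χ 1)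
      (φ' : Fin p → OortTate.eigenAug R (CartDual.D R A') p χ 1)
      (ψ : OortTate.eigenAug R (CartDual.D R A) p χ 1) (ψ' : OortTate.eigenAug R (CartDual.D R A') p χ 1),
      (∀ i, ∀ x : OortTate.eigenAug R A p χ 1,
        CartDual.toDual R A (φ i : CartDual.D R A) (x : A) =
          CartDual.toDual R A' (φ' i : CartDual.D R A') ((θ x : OortTate.eigenAug R A' p χ 1) : A')) →
      (ψ : CartDual.D R A) = ∏ i, (φ i : CartDual.D R A) →
      (ψ' : CartDual.D R A') = ∏ i, (φ' i : CartDual.D R A') →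
      ∀ x : OortTate.eigenAug R A p χ 1,
        CartDual.toDual R A (ψ : CartDual.D R A) (x : A) =
          CartDual.toDual R A' (ψ' : CartDual.D R A') ((θ x : OortTate.eigenAug R A' p χ 1) : A'))

include hu hχ hχp hrk hrk' hθ hθD in
theorem main478 : Nonempty (A ≃ₐc[R] A') := by
  classical
  have hp := pow_p_eq_one hrk
  have hp' := pow_p_eq_one hrk'
  have hrkD : ∀ q : PrimeSpectrum R, Module.rankAtStalk (CartDual.D R A) q = p :=
    fun q => (rankAtStalk_D q).trans (hrk q)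
  have hrkD' : ∀ q : PrimeSpectrum R, Module.rankAtStalk (CartDual.D R A') q = p :=
    fun q => (rankAtStalk_D q).trans (hrk' q)
  obtain ⟨Θ, hΘ⟩ := exists_algEquiv u hu χ hχ hχp hrk hrk' θ hθ
  obtain ⟨ΘD, hΘD⟩ := exists_algEquiv u hu χ hχ hχp hrkD hrkD' (θD u hu χ hχ hrk hrk' θ)
    (hθD' u hu χ hχ hrk hrk' θ hθD)
  -- canonical elements
  obtain ⟨n, s, lam, hdb⟩ := exists_dualBasis (R := R) (A := A)
  obtain ⟨n', s', lam', hdb'⟩ := exists_dualBasis (R := R) (A := A')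
  have hδ := hδ_of_dualBasis s lam hdb
  have hδ' := hδ_of_dualBasis s' lam' hdb'
  obtain ⟨ϕ, hϕ⟩ := exists_ϕ hp _ hδ
  obtain ⟨ϕ', hϕ'⟩ := exists_ϕ hp' _ hδ'
  obtain ⟨P, hP⟩ := exists_poly u hu χ hχ hχp
  let F : A ⊗[R] CartDual.D R A →ₐ[R] A' ⊗[R] CartDual.D R A' :=
    Algebra.TensorProduct.map (Θ : A →ₐ[R] A') (ΘD : CartDual.D R A →ₐ[R] CartDual.D R A')
  have hFe : F (ϕ (OortTate.ygen R p u χ 1)) = ϕ' (OortTate.ygen R p u χ 1) := by
    obtain ⟨m, t, ξ, hrep⟩ := exists_rep u hu χ hχ hrk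
    rw [e_eq_sum u hu χ hrk _ hδ ϕ hϕ t ξ hrep, map_sum]
    rw [e_eq_sum u hu χ hrk' _ hδ' ϕ' hϕ' (fun k => θ (t k))
      (fun k => θD u hu χ hχ hrk hrk' θ (ξ k)) ?_]
    · refine Finset.sum_congr rfl fun k _ => ?_
      show (Θ (t k : A)) ⊗ₜ[R] (ΘD (ξ k : CartDual.D R A)) = _
      rw [hΘ, hΘD]
    · intro b'
      have h1 := hrep (θ.symm b')
      have h2 : ∑ k, (ξ k : CartDual.D R A) ((θ.symm b' : OortTate.eigenAug R A p χ 1) : A) • t k =
          θ.symm b' := by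
        apply Subtype.ext
        rw [AddSubmonoidClass.coe_finsetSum]
        simpa only [Submodule.coe_smul] using h1
      have h3 := congrArg θ h2
      rw [LinearEquiv.apply_symm_apply, map_sum] at h3
      have h4 := congrArg Subtype.val h3
      rw [AddSubmonoidClass.coe_finsetSum] at h4
      conv_rhs => rw [← h4]
      refine Finset.sum_congr rfl fun k _ => ?_
      rw [map_smul, Submodule.coe_smul]
      congr 1
      have h5 := θD_apply u hu χ hχ hrk hrk' θ (ξ k) (θ.symm b')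
      rw [LinearEquiv.apply_symm_apply] at h5
      exact h5
  have hFδ : F (∑ k, s k ⊗ₜ[R] lam k) = ∑ k, s' k ⊗ₜ[R] lam' k := by
    rw [δ_eq_aeval u χ _ ϕ hϕ P hP, δ_eq_aeval u χ _ ϕ' hϕ' P hP,
      ← Polynomial.aeval_algHom_apply, hFe]
  -- pairing
  have hpair : ∀ (ξ : CartDual.D R A) (a : A), (ΘD ξ) (Θ a) = ξ a := by
    intro ξ a
    have h1 : Ψ (F (∑ k, s k ⊗ₜ[R] lam k)) (Θ a) = Θ a := by
      rw [hFδ, Ψ_δ _ hδ']
      rfl
    rw [map_sum, map_sum, LinearMap.sum_apply] at h1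
    have h2 : ∀ k, Ψ (F (s k ⊗ₜ[R] lam k)) (Θ a) = Θ ((ΘD (lam k)) (Θ a) • s k) := by
      intro k
      show Ψ ((Θ (s k)) ⊗ₜ[R] (ΘD (lam k))) (Θ a) = _
      rw [Ψ_tmul, map_smul]
    simp only [h2] at h1
    rw [← map_sum] at h1
    have h3 := Θ.injective h1
    have h4 : ξ = ∑ k, ξ (s k) • lam k := by
      apply WithConv.ext
      apply LinearMap.ext
      intro b
      rw [WithConv.ofConv_sum, LinearMap.sum_apply]
      conv_lhs => rw [← hdb b]
      rw [map_sum]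
      refine Finset.sum_congr rfl fun k _ => ?_
      rw [WithConv.ofConv_smul, LinearMap.smul_apply, map_smul, smul_eq_mul, smul_eq_mul, mul_comm]
    conv_lhs => rw [h4]
    rw [map_sum, CartDual.coe_apply, WithConv.ofConv_sum, LinearMap.sum_apply]
    conv_rhs => rw [← h3]
    rw [CartDual.coe_apply, map_sum]
    refine Finset.sum_congr rfl fun k _ => ?_
    rw [map_smul, WithConv.ofConv_smul, LinearMap.smul_apply, map_smul, smul_eq_mul, smul_eq_mul,
      mul_comm]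
  exact bialgEquiv_of_pairing Θ ΘD hpair

end Final

end Groth.Agent.Lib.Helper66.OT13
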