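import Mathlib
import Groth.Prelude.Def_W4c5ffgsreadingcourseOT
import Groth.Agent.Lib.Helper66.OT13

open scoped TensorProduct
open Groth.Agent.Lib.Helper66.OT13

namespace Groth.Agent.Lib.Helper66.OT14

universe u

section One
variable {p : ℕ} [Fact p.Prime] {R : Type u} [CommRing R]
  (χ : (ZMod p)ˣ →* Rˣ)
  {A : Type u} [CommRing A] [HopfAlgebra R A] [Module.Finite R A] [Module.Projective R A]
  [Coalgebra.IsCocomm R A]
  (x : A) (hx : Submodule.span R {x} = OortTate.eigenAug R A p χ 1)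
  (ξ : CartDual.D R A) (hξ : Submodule.span R {ξ} = OortTate.eigenAug R (CartDual.D R A) p χ 1)
  (hxξ : CartDual.toDual R A ξ x = 1)

include hx hxξ in
theorem eq_smul_x (b : A) (hb : b ∈ OortTate.eigenAug R A p χ 1) : b = ξ b • x := by
  rw [← hx, Submodule.mem_span_singleton] at hb
  obtain ⟨r, rfl⟩ := hb
  have h1 : ξ (r • x) = r := by
    rw [CartDual.coe_apply, map_smul]
    have : ξ.ofConv x = 1 := hxξ
    rw [this, smul_eq_mul, mul_one]
  rw [h1]

include hξ hxξ in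
theorem eq_smul_ξ (φ : CartDual.D R A) (hφ : φ ∈ OortTate.eigenAug R (CartDual.D R A) p χ 1) :
    φ = φ x • ξ := by
  rw [← hξ, Submodule.mem_span_singleton] at hφ
  obtain ⟨r, rfl⟩ := hφ
  have h1 : (r • ξ) x = r := by
    rw [CartDual.coe_apply, WithConv.ofConv_smul, LinearMap.smul_apply]
    have : ξ.ofConv x = 1 := hxξ
    rw [this, smul_eq_mul, mul_one]
  rw [h1]

/-- coordinate on `I_1(A)` -/
noncomputable def eN : OortTate.eigenAug R A p χ 1 ≃ₗ[R] R :=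
  LinearEquiv.ofLinearMap (ξ.ofConv ∘ₗ (OortTate.eigenAug R A p χ 1).subtype)
    ((LinearMap.toSpanSingleton R A x).codRestrict (OortTate.eigenAug R A p χ 1) (fun r => by
      rw [← hx]
      exact Submodule.smul_mem _ _ (Submodule.subset_span rfl)))
    (by
      apply LinearMap.ext
      intro r
      have : ξ.ofConv x = 1 := hxξ
      simp [this])
    (by
      apply LinearMap.ext
      intro b
      apply Subtype.ext
      have := eq_smul_x χ x hx ξ hxξ (b : A) b.2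
      simpa [CartDual.coe_apply] using this.symm)

theorem eN_apply (b : OortTate.eigenAug R A p χ 1) : eN χ x hx ξ hxξ b = ξ (b : A) := rfl

theorem eN_symm_coe (r : R) : (((eN χ x hx ξ hxξ).symm r : OortTate.eigenAug R A p χ 1) : A) = r • x :=
  rfl

end One

section Two
variable {p : ℕ} [Fact p.Prime] {R : Type u} [CommRing R] (u : R)
  (hu : u * ((p - 1 : ℕ) : R) = 1)
  (χ : (ZMod p)ˣ →* Rˣ) (hχ : ∀ m : (ZMod p)ˣ, m ≠ 1 → IsUnit ((χ m : R) - 1))
  (hχp : ∀ m : (ZMod p)ˣ,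
    ((χ m : Rˣ) : R) - (((m : ZMod p).val : ℕ) : R) ∈ Ideal.span ({(p : R)} : Set R))
  {A : Type u} [CommRing A] [HopfAlgebra R A] [Module.Finite R A] [Module.Projective R A]
  [Coalgebra.IsCocomm R A]
  (hrk : ∀ q : PrimeSpectrum R, Module.rankAtStalk A q = p)
  {A' : Type u} [CommRing A'] [HopfAlgebra R A'] [Module.Finite R A'] [Module.Projective R A']
  [Coalgebra.IsCocomm R A']
  (hrk' : ∀ q : PrimeSpectrum R, Module.rankAtStalk A' q = p)
  (x : A) (hx : Submodule.span R {x} = OortTate.eigenAug R A p χ 1)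
  (ξ : CartDual.D R A) (hξ : Submodule.span R {ξ} = OortTate.eigenAug R (CartDual.D R A) p χ 1)
  (hxξ : CartDual.toDual R A ξ x = 1)
  (x' : A') (hx' : Submodule.span R {x'} = OortTate.eigenAug R A' p χ 1)
  (ξ' : CartDual.D R A') (hξ' : Submodule.span R {ξ'} = OortTate.eigenAug R (CartDual.D R A') p χ 1)
  (hxξ' : CartDual.toDual R A' ξ' x' = 1)
  (α β α' β' : R) (hα : x ^ p = α • x) (hβ : ξ ^ p = β • ξ) (hα' : x' ^ p = α' • x')
  (hβ' : ξ' ^ p = β' • ξ')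
  (v : Rˣ) (hαv : α' = ((v ^ (p - 1) : Rˣ) : R) * α) (hβv : β' = ((v⁻¹ ^ (p - 1) : Rˣ) : R) * β)

/-- the isomorphism `x ↦ v⁻¹ x'` -/
noncomputable def θ : OortTate.eigenAug R A p χ 1 ≃ₗ[R] OortTate.eigenAug R A' p χ 1 :=
  (eN χ x hx ξ hxξ) ≪≫ₗ (LinearEquiv.smulOfUnit v⁻¹ : R ≃ₗ[R] R) ≪≫ₗ (eN χ x' hx' ξ' hxξ').symm

theorem θ_coe (b : OortTate.eigenAug R A p χ 1) :
    ((θ χ x hx ξ hxξ x' hx' ξ' hxξ' v b : OortTate.eigenAug R A' p χ 1) : A') =
      (((v⁻¹ : Rˣ) : R) * ξ (b : A)) • x' := by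
  unfold θ
  rw [LinearEquiv.trans_apply, LinearEquiv.trans_apply, eN_symm_coe, eN_apply]
  rfl

include hα hα' hαv in
theorem hθ (f : Fin p → OortTate.eigenAug R A p χ 1) (g : OortTate.eigenAug R A p χ 1)
    (hg : (g : A) = ∏ i, (f i : A)) :
    ((θ χ x hx ξ hxξ x' hx' ξ' hxξ' v g : OortTate.eigenAug R A' p χ 1) : A') =
      ∏ i, ((θ χ x hx ξ hxξ x' hx' ξ' hxξ' v (f i)) : A') := by
  have hp1 : 1 ≤ p := (Fact.out : p.Prime).one_lt.le
  have hξx : ξ.ofConv x = 1 := hxξ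
  simp only [θ_coe]
  rw [Finset.prod_smul, Finset.prod_const, Finset.card_univ, Fintype.card_fin, hα', smul_smul]
  congr 1
  -- ξ g
  have h1 : (g : A) = ((∏ i, ξ (f i : A)) * α) • x := by
    rw [hg]
    have : ∀ i, (f i : A) = ξ (f i : A) • x := fun i => eq_smul_x χ x hx ξ hxξ _ (f i).2
    conv_lhs => rw [Finset.prod_congr rfl fun i _ => this i]
    rw [Finset.prod_smul, Finset.prod_const, Finset.card_univ, Fintype.card_fin, hα, smul_smul]
  have h2 : ξ (g : A) = (∏ i, ξ (f i : A)) * α := by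
    rw [h1, CartDual.coe_apply, map_smul, hξx, smul_eq_mul, mul_one]
  rw [h2, Finset.prod_mul_distrib, Finset.prod_const, Finset.card_univ, Fintype.card_fin, hαv]
  have h3 : ((v⁻¹ : Rˣ) : R) ^ p * ((v ^ (p - 1) : Rˣ) : R) = ((v⁻¹ : Rˣ) : R) := by
    rw [← Units.val_pow_eq_pow_val, ← Units.val_mul]
    congr 1
    obtain ⟨n, rfl⟩ : ∃ n, p = n + 1 := ⟨p - 1, by omega⟩
    rw [Nat.add_sub_cancel, pow_succ, inv_pow, mul_assoc, mul_comm v⁻¹, ← mul_assoc,
      inv_mul_cancel, one_mul]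
  calc ((v⁻¹ : Rˣ) : R) * ((∏ i, ξ (f i : A)) * α)
      = (((v⁻¹ : Rˣ) : R) ^ p * ((v ^ (p - 1) : Rˣ) : R)) * ((∏ i, ξ (f i : A)) * α) := by rw [h3]
    _ = _ := by ring

include hξ hξ' hβ hβ' hβv in
theorem hθD (φ : Fin p → OortTate.eigenAug R (CartDual.D R A) p χ 1)
    (φ' : Fin p → OortTate.eigenAug R (CartDual.D R A') p χ 1)
    (ψ : OortTate.eigenAug R (CartDual.D R A) p χ 1) (ψ' : OortTate.eigenAug R (CartDual.D R A') p χ 1)
    (h1 : ∀ i, ∀ b : OortTate.eigenAug R A p χ 1,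
        CartDual.toDual R A (φ i : CartDual.D R A) (b : A) =
          CartDual.toDual R A' (φ' i : CartDual.D R A')
            ((θ χ x hx ξ hxξ x' hx' ξ' hxξ' v b : OortTate.eigenAug R A' p χ 1) : A'))
    (hψ : (ψ : CartDual.D R A) = ∏ i, (φ i : CartDual.D R A))
    (hψ' : (ψ' : CartDual.D R A') = ∏ i, (φ' i : CartDual.D R A'))
    (b : OortTate.eigenAug R A p χ 1) :
    CartDual.toDual R A (ψ : CartDual.D R A) (b : A) =
      CartDual.toDual R A' (ψ' : CartDual.D R A')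
        ((θ χ x hx ξ hxξ x' hx' ξ' hxξ' v b : OortTate.eigenAug R A' p χ 1) : A') := by
  have hp1 : 1 ≤ p := (Fact.out : p.Prime).one_lt.le
  have hξx : ξ.ofConv x = 1 := hxξ
  have hξx' : ξ'.ofConv x' = 1 := hxξ'
  have hxN : x ∈ OortTate.eigenAug R A p χ 1 := by
    rw [← hx]; exact Submodule.subset_span rfl
  have hφ : ∀ i, (φ i : CartDual.D R A) = (φ i : CartDual.D R A) x • ξ :=
    fun i => eq_smul_ξ χ x ξ hξ hxξ _ (φ i).2
  have hφ' : ∀ i, (φ' i : CartDual.D R A') = (φ' i : CartDual.D R A') x' • ξ' :=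
    fun i => eq_smul_ξ χ x' ξ' hξ' hxξ' _ (φ' i).2
  have hs : ∀ i, (φ i : CartDual.D R A) x = ((v⁻¹ : Rˣ) : R) * (φ' i : CartDual.D R A') x' := by
    intro i
    have h2 := h1 i ⟨x, hxN⟩
    rw [θ_coe] at h2
    simp only [CartDual.toDual_apply] at h2
    rw [map_smul] at h2
    rw [CartDual.coe_apply, CartDual.coe_apply, h2, CartDual.coe_apply, hξx, mul_one, smul_eq_mul]
  have e1 : (ψ : CartDual.D R A) = ((∏ i, (φ i : CartDual.D R A) x) * β) • ξ := by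
    rw [hψ]
    conv_lhs => rw [Finset.prod_congr rfl fun i _ => hφ i]
    rw [Finset.prod_smul, Finset.prod_const, Finset.card_univ, Fintype.card_fin, hβ, smul_smul]
  have e2 : (ψ' : CartDual.D R A') = ((∏ i, (φ' i : CartDual.D R A') x') * β') • ξ' := by
    rw [hψ']
    conv_lhs => rw [Finset.prod_congr rfl fun i _ => hφ' i]
    rw [Finset.prod_smul, Finset.prod_const, Finset.card_univ, Fintype.card_fin, hβ', smul_smul]
  rw [θ_coe, e1, e2]
  simp only [CartDual.toDual_apply, LinearMap.smul_apply, map_smul, hξx']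
  simp only [hs, smul_eq_mul, mul_one]
  rw [Finset.prod_mul_distrib, Finset.prod_const, Finset.card_univ, Fintype.card_fin, hβv]
  have h3 : ((v⁻¹ : Rˣ) : R) ^ p = ((v⁻¹ ^ (p - 1) : Rˣ) : R) * ((v⁻¹ : Rˣ) : R) := by
    rw [← Units.val_pow_eq_pow_val, ← Units.val_mul]
    congr 1
    obtain ⟨n, rfl⟩ : ∃ n, p = n + 1 := ⟨p - 1, by omega⟩
    rw [Nat.add_sub_cancel, pow_succ]
  rw [h3]
  ring

include hu hχ hχp hrk hrk' hx hxξ hx' hxξ' hξ hξ' hα hα' hαv hβ hβ' hβv in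
theorem main475 : Nonempty (A ≃ₐc[R] A') :=
  main478 u hu χ hχ hχp hrk hrk' (θ χ x hx ξ hxξ x' hx' ξ' hxξ' v)
    (hθ χ x hx ξ hxξ x' hx' ξ' hxξ' α α' hα hα' v hαv)
    (hθD χ x hx ξ hξ hxξ x' hx' ξ' hξ' hxξ' β β' hβ hβ' v hβv)

end Two

end Groth.Agent.Lib.Helper66.OT14
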