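import Mathlib
import Groth.Agent.Lib.Helper83.MultRigid

set_option autoImplicit false
universe u
open TensorProduct

namespace Groth.Agent.Lib.Helper66.RG1

open Groth.Agent.Lib.Helper83.MultRigid

section G

variable {S S₀ : Type u} [CommRing S] [CommRing S₀] [Algebra S S₀]

/-- an element killed by base change along a surjection lies in `ker • ⊤` -/
theorem mem_smul_top_of_one_tmul_eq_zero (hsurj : Function.Surjective (algebraMap S S₀))
    {N : Type u} [AddCommGroup N] [Module S N] (x : N) (h : (1 : S₀) ⊗ₜ[S] x = 0) :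
    x ∈ (RingHom.ker (algebraMap S S₀)) • (⊤ : Submodule S N) := by
  have hs : Function.Surjective (Algebra.ofId S S₀) := hsurj
  let ψ := Ideal.quotientKerAlgEquivOfSurjective hs
  let e : (S ⧸ RingHom.ker (Algebra.ofId S S₀)) ⊗[S] N ≃ₗ[S] S₀ ⊗[S] N :=
    TensorProduct.congr ψ.toLinearEquiv (LinearEquiv.refl S N)
  have h1 : e ((1 : S ⧸ RingHom.ker (Algebra.ofId S S₀)) ⊗ₜ[S] x) = 0 := by
    rw [TensorProduct.congr_tmul]
    simp only [AlgEquiv.toLinearEquiv_apply, map_one, LinearEquiv.refl_apply]
    exact h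
  have h2 : (1 : S ⧸ RingHom.ker (Algebra.ofId S S₀)) ⊗ₜ[S] x = 0 := by
    apply e.injective
    rw [h1, map_zero]
  have h3 := sub_mem_smul_top_of_tmul_eq (RingHom.ker (Algebra.ofId S S₀)) x 0
    (by rw [h2, TensorProduct.tmul_zero])
  rw [sub_zero] at h3
  exact h3

variable (hsq : ∀ x y : S, algebraMap S S₀ x = 0 → algebraMap S S₀ y = 0 → x * y = 0)
include hsq

theorem smul_eq_zero_of_mem {N : Type u} [AddCommGroup N] [Module S N] (k : S)
    (hk : algebraMap S S₀ k = 0) (z : N)
    (hz : z ∈ (RingHom.ker (algebraMap S S₀)) • (⊤ : Submodule S N)) : k • z = 0 := by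
  refine Submodule.smul_induction_on (p := fun z => k • z = 0) hz ?_ ?_
  · intro k' hk' n _
    rw [smul_smul, hsq k k' hk (RingHom.mem_ker.mp hk'), zero_smul]
  · intro x y hx hy
    rw [smul_add, hx, hy, add_zero]

end G

section Basis

variable {S S₀ : Type u} [CommRing S] [CommRing S₀] [Algebra S S₀]
variable (hsurj : Function.Surjective (algebraMap S S₀))
variable (hsq : ∀ x y : S, algebraMap S S₀ x = 0 → algebraMap S S₀ y = 0 → x * y = 0)
variable {B : Type u} [AddCommGroup B] [Module S B] {M : Type u}
variable (ρ : B →ₗ[S] MonoidAlgebra S₀ M)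
variable (hρk : ∀ x, ρ x = 0 → x ∈ (RingHom.ker (algebraMap S S₀)) • (⊤ : Submodule S B))
variable (b : M → B) (hb : ∀ m, ρ (b m) = MonoidAlgebra.single m 1)

include hb in
theorem rho_smul (t : S) (m : M) : ρ (t • b m) = MonoidAlgebra.single m (algebraMap S S₀ t) := by
  rw [map_smul, hb, MonoidAlgebra.smul_single, Algebra.smul_def, mul_one]

include hsurj hsq hρk hb in
theorem span_eq_top : Submodule.span S (Set.range b) = ⊤ := by
  classical
  rw [eq_top_iff]
  -- every element is in the span modulo `K • ⊤`
  have h1 : ∀ y : B, ∃ n ∈ Submodule.span S (Set.range b),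
      y - n ∈ (RingHom.ker (algebraMap S S₀)) • (⊤ : Submodule S B) := by
    intro y
    choose t ht using fun p : M => hsurj ((ρ y).coeff p)
    refine ⟨∑ p ∈ (ρ y).coeff.support, t p • b p, ?_, ?_⟩
    · exact Submodule.sum_mem _ fun p _ =>
        Submodule.smul_mem _ _ (Submodule.subset_span ⟨p, rfl⟩)
    · apply hρk
      rw [map_sub, map_sum, sub_eq_zero]
      conv_lhs => rw [← MonoidAlgebra.sum_coeff_single (ρ y), Finsupp.sum]
      refine Finset.sum_congr rfl fun p _ => ?_
      rw [rho_smul ρ b hb, ht]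
  intro y _
  obtain ⟨n, hn, hyn⟩ := h1 y
  have h2 : y - n ∈ Submodule.span S (Set.range b) := by
    refine Submodule.smul_induction_on
      (p := fun z => z ∈ Submodule.span S (Set.range b)) hyn ?_ ?_
    · intro k hk z _
      obtain ⟨n', hn', hzn'⟩ := h1 z
      have : k • z = k • n' + k • (z - n') := by rw [← smul_add]; congr 1; abel
      rw [this, smul_eq_zero_of_mem hsq k (RingHom.mem_ker.mp hk) _ hzn', add_zero]
      exact Submodule.smul_mem _ _ hn'
    · intro x y hx hy
      exact Submodule.add_mem _ hx hy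
  have : y = n + (y - n) := by abel
  rw [this]
  exact Submodule.add_mem _ hn h2

include hsurj hsq hb in
theorem linearIndependent [Module.Flat S B] : LinearIndependent S b := by
  classical
  rw [linearIndependent_iff']
  intro s c hc
  -- step 1: coefficients lie in the kernel
  have hcK : ∀ i ∈ s, algebraMap S S₀ (c i) = 0 := by
    intro i hi
    have h1 := congrArg ρ hc
    rw [map_sum, map_zero] at h1
    have h2 := congrArg (fun w => w.coeff i) h1
    simp only [rho_smul ρ b hb, MonoidAlgebra.coeff_sum, MonoidAlgebra.coeff_single,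
      MonoidAlgebra.coeff_zero, Finsupp.coe_zero, Pi.zero_apply] at h2
    rw [Finsupp.finsetSum_apply] at h2
    simp only [Finsupp.single_apply] at h2
    rw [Finset.sum_ite_eq' s i, if_pos hi] at h2
    exact h2
  -- step 2: the equational criterion
  have hrel : ∑ i : ↥s, c i • b i = 0 := by
    rw [← hc]
    exact Finset.sum_coe_sort s (fun i => c i • b i)
  obtain ⟨k, a, y, hxy, hca⟩ := Module.Flat.isTrivialRelation_of_sum_smul_eq_zero hrel
  choose t ht using fun (j : Fin k) (p : M) => hsurj ((ρ (y j)).coeff p)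
  intro p hp
  -- the key congruence
  have hκ : ∀ i : ↥s, algebraMap S S₀ (∑ j, a i j * t j p - if (i : M) = p then 1 else 0) = 0 := by
    intro i
    have h1 := congrArg (fun w => (ρ w).coeff p) (hxy i)
    simp only [hb, map_sum, map_smul, MonoidAlgebra.coeff_sum, MonoidAlgebra.coeff_single] at h1
    rw [Finsupp.finsetSum_apply] at h1
    simp only [MonoidAlgebra.coeff_smul_apply, Finsupp.single_apply] at h1
    rw [map_sub, map_sum]
    simp only [map_mul, ht]
    rw [sub_eq_zero]
    simp only [Algebra.smul_def] at h1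
    rw [← h1]
    split_ifs <;> simp
  have h3 : c p = ∑ i : ↥s, c i * (if (i : M) = p then 1 else 0) := by
    rw [Finset.sum_coe_sort s (fun i => c i * (if i = p then 1 else 0))]
    simp only [mul_ite, mul_one, mul_zero]
    rw [Finset.sum_ite_eq' s p, if_pos hp]
  rw [h3]
  have h4 : ∀ i : ↥s, c i * (if (i : M) = p then 1 else 0) =
      c i * (∑ j, a i j * t j p) := by
    intro i
    have := hsq (c i) _ (hcK i i.2) (hκ i)
    rw [mul_sub, sub_eq_zero] at this
    exact this.symm
  rw [Finset.sum_congr rfl (fun i _ => h4 i)]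
  simp only [Finset.mul_sum]
  rw [Finset.sum_comm]
  refine Finset.sum_eq_zero fun j _ => ?_
  have h5 := hca j
  have : ∑ i : ↥s, c i * (a i j * t j p) = (∑ i : ↥s, c i * a i j) * t j p := by
    rw [Finset.sum_mul]
    exact Finset.sum_congr rfl fun i _ => by ring
  rw [this, h5, zero_mul]

/-- the lifted basis -/
noncomputable def basis [Module.Flat S B] : Module.Basis M S B :=
  Module.Basis.mk (linearIndependent hsurj hsq ρ b hb)
    (by rw [span_eq_top hsurj hsq ρ hρk b hb])

theorem basis_apply [Module.Flat S B] (m : M) : basis hsurj hsq ρ hρk b hb m = b m := by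
  simp [basis]

end Basis

end Groth.Agent.Lib.Helper66.RG1
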