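import Mathlib
import Groth.Agent.Lib.Helper66.RG1
import Groth.Agent.Lib.Helper66.DN3

set_option autoImplicit false
universe u
open TensorProduct

namespace Groth.Agent.Lib.Helper66.RG2

open Groth.Agent.Lib.Helper66.DN2 Groth.Agent.Lib.Helper66.DN3
open Groth.Agent.Lib.Helper83.MultRigid Groth.Agent.Lib.Helper66.RG1

section Setup

variable {S S₀ : Type u} [CommRing S] [CommRing S₀] [Algebra S S₀]
variable {B : Type u} [CommRing B] [HopfAlgebra S B] {M : Type u} [CommGroup M]
variable (e₀ : S₀ ⊗[S] B ≃ₐc[S₀] MonoidAlgebra S₀ M)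

/-- the reduction map `B → S₀[M]` -/
noncomputable def rho : B →ₐ[S] MonoidAlgebra S₀ M :=
  (((e₀ : (S₀ ⊗[S] B) ≃ₐ[S₀] MonoidAlgebra S₀ M).restrictScalars S).toAlgHom).comp
    Algebra.TensorProduct.includeRight

lemma rho_apply (x : B) : rho e₀ x = e₀ ((1 : S₀) ⊗ₜ[S] x) := rfl

lemma rho_surjective (hsurj : Function.Surjective (algebraMap S S₀)) :
    Function.Surjective (rho e₀) := by
  intro y
  obtain ⟨x, hx⟩ := TensorProduct.mk_surjective S B S₀ hsurj (e₀.symm y)
  refine ⟨x, ?_⟩
  rw [rho_apply]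
  rw [TensorProduct.mk_apply] at hx
  rw [hx]
  exact e₀.apply_symm_apply y

lemma rho_ker (hsurj : Function.Surjective (algebraMap S S₀)) (x : B) (hx : rho e₀ x = 0) :
    x ∈ (RingHom.ker (algebraMap S S₀)) • (⊤ : Submodule S B) := by
  apply mem_smul_top_of_one_tmul_eq_zero hsurj
  apply EquivLike.injective e₀
  rw [map_zero]
  exact hx

/-- the linear equivalence underlying `e₀` -/
noncomputable def E : (S₀ ⊗[S] B) ≃ₗ[S₀] MonoidAlgebra S₀ M :=
  (e₀ : (S₀ ⊗[S] B) ≃ₐ[S₀] MonoidAlgebra S₀ M).toLinearEquiv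

lemma E_apply (z : S₀ ⊗[S] B) : E e₀ z = e₀ z := rfl

/-- `ρ ⊗ ρ` -/
noncomputable def P2 : B ⊗[S] B →ₗ[S] MonoidAlgebra S₀ M ⊗[S₀] MonoidAlgebra S₀ M :=
  ((TensorProduct.congr (E e₀) (E e₀)).toLinearMap.restrictScalars S) ∘ₗ cmap S₀

lemma P2_tmul (x y : B) : P2 e₀ (x ⊗ₜ[S] y) = rho e₀ x ⊗ₜ[S₀] rho e₀ y := by
  simp only [P2, LinearMap.comp_apply, cmap_tmul]
  rfl

lemma P2_comul (y : B) : P2 e₀ (Coalgebra.comul (R := S) y) =
    Coalgebra.comul (R := S₀) (rho e₀ y) := by
  simp only [P2, LinearMap.comp_apply, cmap_comul]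
  have h := CoalgHomClass.map_comp_comul_apply e₀ ((1 : S₀) ⊗ₜ[S] y)
  rw [rho_apply, ← h]
  rfl

lemma P2_ker (hsurj : Function.Surjective (algebraMap S S₀)) (z : B ⊗[S] B) (hz : P2 e₀ z = 0) :
    z ∈ (RingHom.ker (algebraMap S S₀)) • (⊤ : Submodule S (B ⊗[S] B)) := by
  apply mem_smul_top_of_one_tmul_eq_zero hsurj
  apply one_tmul_eq_zero_of_cmap
  apply (TensorProduct.congr (E e₀) (E e₀)).injective
  rw [map_zero]
  exact hz

end Setup

section Mon

variable {S₀ : Type u} [CommRing S₀] {M : Type u} [CommGroup M]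

/-- in a group algebra: `(id ⊗ coeff_m) ∘ Δ = coeff_m • e_m` -/
lemma rid_lTensor_coeffL_comul (m : M) (w : MonoidAlgebra S₀ M) :
    TensorProduct.rid S₀ (MonoidAlgebra S₀ M)
      (LinearMap.lTensor (MonoidAlgebra S₀ M) (coeffL m) (Coalgebra.comul (R := S₀) w)) =
      w.coeff m • MonoidAlgebra.single m (1 : S₀) := by
  classical
  have hs : ∀ (p : M) (s : S₀), TensorProduct.rid S₀ (MonoidAlgebra S₀ M)
      (LinearMap.lTensor (MonoidAlgebra S₀ M) (coeffL m)
        (Coalgebra.comul (R := S₀) (MonoidAlgebra.single p s))) =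
      (MonoidAlgebra.single p s).coeff m • MonoidAlgebra.single m (1 : S₀) := by
    intro p s
    simp only [MonoidAlgebra.comul_single, CommSemiring.comul_apply, TensorProduct.map_tmul,
      MonoidAlgebra.lsingle_apply, LinearMap.lTensor_tmul, TensorProduct.rid_tmul, coeffL_single,
      MonoidAlgebra.coeff_single, Finsupp.single_apply]
    by_cases h : p = m
    · subst h
      simp [MonoidAlgebra.smul_single]
    · simp [h]
  rw [← MonoidAlgebra.sum_coeff_single w, Finsupp.sum]
  simp only [map_sum, hs, MonoidAlgebra.coeff_sum]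
  rw [Finsupp.finsetSum_apply, Finset.sum_smul]

end Mon

section Lift

variable {S S₀ : Type u} [CommRing S] [CommRing S₀] [Algebra S S₀]
variable {B : Type u} [CommRing B] [HopfAlgebra S B] {M : Type u} [CommGroup M]
variable (e₀ : S₀ ⊗[S] B ≃ₐc[S₀] MonoidAlgebra S₀ M)
variable (hsurj : Function.Surjective (algebraMap S S₀))
variable (hsq : ∀ x y : S, algebraMap S S₀ x = 0 → algebraMap S S₀ y = 0 → x * y = 0)
variable (β : Module.Basis M S B) (hβ : ∀ m, rho e₀ (β m) = MonoidAlgebra.single m 1)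

include hβ in
/-- property (L): the coordinate functionals lift the coefficient functionals -/
lemma coord_lift (m : M) (y : B) :
    algebraMap S S₀ (β.coord m y) = (rho e₀ y).coeff m := by
  classical
  let f₁ : B →ₗ[S] S₀ := (Algebra.linearMap S S₀) ∘ₗ β.coord m
  let f₂ : B →ₗ[S] S₀ := ((coeffL m).restrictScalars S) ∘ₗ (rho e₀).toLinearMap
  have : f₁ = f₂ := by
    apply β.ext
    intro p
    simp only [f₁, f₂, LinearMap.comp_apply, Module.Basis.coord_apply, Module.Basis.repr_self,
      Algebra.linearMap_apply, AlgHom.toLinearMap_apply, hβ, LinearMap.restrictScalars_apply,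
      coeffL_single, Finsupp.single_apply]
    split_ifs <;> simp
  exact congrArg (fun f => f y) this

/-- `T_m = (id ⊗ λ_m) ∘ Δ` -/
noncomputable def Tl (m : M) : B →ₗ[S] B :=
  (TensorProduct.rid S B).toLinearMap ∘ₗ (LinearMap.lTensor B (β.coord m)) ∘ₗ Coalgebra.comul

lemma Tl_apply (m : M) (y : B) : Tl β m y =
    TensorProduct.rid S B (LinearMap.lTensor B (β.coord m) (Coalgebra.comul (R := S) y)) := rfl

include hβ in
lemma rho_rid_lTensor (m : M) (z : B ⊗[S] B) :
    rho e₀ (TensorProduct.rid S B (LinearMap.lTensor B (β.coord m) z)) =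
      TensorProduct.rid S₀ (MonoidAlgebra S₀ M)
        (LinearMap.lTensor (MonoidAlgebra S₀ M) (coeffL m) (P2 e₀ z)) := by
  induction z using TensorProduct.induction_on with
  | zero => simp
  | add x y hx hy => simp only [map_add, hx, hy]
  | tmul x y =>
    rw [P2_tmul, LinearMap.lTensor_tmul, LinearMap.lTensor_tmul, TensorProduct.rid_tmul,
      TensorProduct.rid_tmul, map_smul, coeffL_apply, ← coord_lift e₀ β hβ, algebraMap_smul]

include hβ in
lemma rho_Tl (m : M) (y : B) :
    rho e₀ (Tl β m y) = (rho e₀ y).coeff m • MonoidAlgebra.single m (1 : S₀) := by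
  rw [Tl_apply, rho_rid_lTensor e₀ β hβ, P2_comul, rid_lTensor_coeffL_comul]

/-- the notation `K • ⊤` -/
local notation "KT" N => (RingHom.ker (algebraMap S S₀)) • (⊤ : Submodule S N)

include hβ hsurj in
/-- (F1) -/
lemma comul_sub_mem (m : M) :
    Coalgebra.comul (R := S) (β m) - β m ⊗ₜ[S] β m ∈ KT (B ⊗[S] B) := by
  apply P2_ker e₀ hsurj
  rw [map_sub, P2_comul, P2_tmul, hβ,
    (MonoidAlgebra.isGroupLikeElem_single_one (R := S₀) (A := S₀) m).comul_eq_tmul_self, sub_self]

/-- `h_m = T_m - λ_m(·) • β_m` -/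
noncomputable def hh (m : M) : B →ₗ[S] B := Tl β m - LinearMap.smulRight (β.coord m) (β m)

lemma hh_apply (m : M) (y : B) : hh β m y = Tl β m y - β.coord m y • β m := rfl

include hβ hsurj in
/-- (F2) -/
lemma hh_mem (m : M) (y : B) : hh β m y ∈ KT B := by
  apply rho_ker e₀ hsurj
  rw [hh_apply, map_sub, rho_Tl e₀ β hβ, map_smul, hβ, ← coord_lift e₀ β hβ, algebraMap_smul,
    sub_self]

include hβ hsurj hsq in
lemma hh_eq_zero (m : M) (c : B) (hc : c ∈ KT B) : hh β m c = 0 := by
  refine Submodule.smul_induction_on (p := fun c => hh β m c = 0) hc ?_ ?_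
  · intro k hk y _
    rw [map_smul]
    exact smul_eq_zero_of_mem hsq k (RingHom.mem_ker.mp hk) _ (hh_mem e₀ hsurj β hβ m y)
  · intro x y hx hy
    rw [map_add, hx, hy, add_zero]

include hβ hsurj hsq in
lemma lTensor_hh_eq_zero (m : M) (z : B ⊗[S] B) (hz : z ∈ KT (B ⊗[S] B)) :
    LinearMap.lTensor B (hh β m) z = 0 := by
  have h1 : ∀ w : B ⊗[S] B, LinearMap.lTensor B (hh β m) w ∈ KT (B ⊗[S] B) := by
    intro w
    induction w using TensorProduct.induction_on with
    | zero => rw [map_zero]; exact Submodule.zero_mem _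
    | add x y hx hy => rw [map_add]; exact Submodule.add_mem _ hx hy
    | tmul x y =>
      rw [LinearMap.lTensor_tmul]
      refine Submodule.smul_induction_on
        (p := fun c => x ⊗ₜ[S] c ∈ KT (B ⊗[S] B)) (hh_mem e₀ hsurj β hβ m y) ?_ ?_
      · intro k hk c _
        rw [TensorProduct.tmul_smul]
        exact Submodule.smul_mem_smul hk Submodule.mem_top
      · intro c c' hc hc'
        rw [TensorProduct.tmul_add]
        exact Submodule.add_mem _ hc hc'
  refine Submodule.smul_induction_on (p := fun z => LinearMap.lTensor B (hh β m) z = 0) hz ?_ ?_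
  · intro k hk w _
    rw [map_smul]
    exact smul_eq_zero_of_mem hsq k (RingHom.mem_ker.mp hk) _ (h1 w)
  · intro x y hx hy
    rw [map_add, hx, hy, add_zero]

include hsq in
lemma tmul_eq_zero_of_mem (c c' : B) (hc : c ∈ KT B) (hc' : c' ∈ KT B) : c ⊗ₜ[S] c' = 0 := by
  refine Submodule.smul_induction_on (p := fun c => c ⊗ₜ[S] c' = 0) hc ?_ ?_
  · intro k hk y _
    rw [TensorProduct.smul_tmul, smul_eq_zero_of_mem hsq k (RingHom.mem_ker.mp hk) _ hc',
      TensorProduct.tmul_zero]
  · intro x y hx hy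
    rw [TensorProduct.add_tmul, hx, hy, add_zero]

/-- coassociativity in the form `Δ ∘ T = (id ⊗ T) ∘ Δ` -/
lemma comul_Tl (m : M) (y : B) :
    Coalgebra.comul (R := S) (Tl β m y) = LinearMap.lTensor B (Tl β m) (Coalgebra.comul (R := S) y) := by
  let Φ : (B ⊗[S] B) ⊗[S] B →ₗ[S] B ⊗[S] B :=
    (TensorProduct.rid S (B ⊗[S] B)).toLinearMap ∘ₗ LinearMap.lTensor (B ⊗[S] B) (β.coord m)
  have h1 : ∀ z : B ⊗[S] B, Φ (LinearMap.rTensor B Coalgebra.comul z) =
      Coalgebra.comul (R := S) (TensorProduct.rid S B (LinearMap.lTensor B (β.coord m) z)) := by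
    intro z
    induction z using TensorProduct.induction_on with
    | zero => simp
    | add x y hx hy => simp only [map_add, hx, hy]
    | tmul x y =>
      simp only [Φ, LinearMap.comp_apply, LinearMap.rTensor_tmul, LinearMap.lTensor_tmul,
        LinearEquiv.coe_coe, TensorProduct.rid_tmul, map_smul]
  have h2 : ∀ (x : B) (w : B ⊗[S] B), Φ ((TensorProduct.assoc S B B B).symm (x ⊗ₜ[S] w)) =
      x ⊗ₜ[S] (TensorProduct.rid S B (LinearMap.lTensor B (β.coord m) w)) := by
    intro x w
    induction w using TensorProduct.induction_on with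
    | zero => simp
    | add u v hu hv => simp only [TensorProduct.tmul_add, map_add, hu, hv]
    | tmul u v =>
      simp only [Φ, LinearMap.comp_apply, TensorProduct.assoc_symm_tmul, LinearMap.lTensor_tmul,
        LinearEquiv.coe_coe, TensorProduct.rid_tmul, TensorProduct.tmul_smul]
  have h3 : ∀ z : B ⊗[S] B, Φ ((TensorProduct.assoc S B B B).symm
      (LinearMap.lTensor B Coalgebra.comul z)) = LinearMap.lTensor B (Tl β m) z := by
    intro z
    induction z using TensorProduct.induction_on with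
    | zero => simp
    | add x y hx hy => simp only [map_add, hx, hy]
    | tmul x y =>
      rw [LinearMap.lTensor_tmul, h2, LinearMap.lTensor_tmul, Tl_apply]
  rw [Tl_apply, ← h1, ← Coalgebra.coassoc_symm_apply, h3]

/-- the lifted group-like element -/
noncomputable def gg (m : M) : B := Tl β m (β m)

include hβ in
lemma rho_gg (m : M) : rho e₀ (gg β m) = MonoidAlgebra.single m 1 := by
  rw [gg, rho_Tl e₀ β hβ, hβ]
  simp

lemma coord_self (m : M) : β.coord m (β m) = 1 := by
  simp

include hβ hsurj in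
lemma gg_sub_mem (m : M) : gg β m - β m ∈ KT B := by
  have := hh_mem e₀ hsurj β hβ m (β m)
  rwa [hh_apply, coord_self, one_smul] at this

lemma lTensor_smulRight (m : M) (z : B ⊗[S] B) :
    LinearMap.lTensor B (LinearMap.smulRight (β.coord m) (β m)) z =
      (TensorProduct.rid S B (LinearMap.lTensor B (β.coord m) z)) ⊗ₜ[S] β m := by
  induction z using TensorProduct.induction_on with
  | zero => simp
  | add x y hx hy => simp only [map_add, hx, hy, TensorProduct.add_tmul]
  | tmul x y =>
    simp only [LinearMap.lTensor_tmul, LinearMap.smulRight_apply, TensorProduct.rid_tmul,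
      TensorProduct.tmul_smul, TensorProduct.smul_tmul']

include hβ hsurj hsq in
theorem comul_gg (m : M) :
    Coalgebra.comul (R := S) (gg β m) = gg β m ⊗ₜ[S] gg β m := by
  have hT : Tl β m = LinearMap.smulRight (β.coord m) (β m) + hh β m := by
    rw [hh]; abel
  have hδ := comul_sub_mem e₀ hsurj β hβ m
  have h1 : LinearMap.lTensor B (hh β m) (Coalgebra.comul (R := S) (β m)) =
      β m ⊗ₜ[S] (gg β m - β m) := by
    have : Coalgebra.comul (R := S) (β m) =
        β m ⊗ₜ[S] β m + (Coalgebra.comul (R := S) (β m) - β m ⊗ₜ[S] β m) := by abel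
    rw [this, map_add, lTensor_hh_eq_zero e₀ hsurj hsq β hβ m _ hδ, add_zero,
      LinearMap.lTensor_tmul, hh_apply, coord_self, one_smul]
    rfl
  have h2 : Coalgebra.comul (R := S) (gg β m) =
      gg β m ⊗ₜ[S] β m + β m ⊗ₜ[S] (gg β m - β m) := by
    rw [gg, comul_Tl, hT, LinearMap.lTensor_add, LinearMap.add_apply, lTensor_smulRight, ← hT, h1]
    rfl
  have h3 := tmul_eq_zero_of_mem hsq _ _ (gg_sub_mem e₀ hsurj β hβ m) (gg_sub_mem e₀ hsurj β hβ m)
  rw [h2]
  have h4 : gg β m ⊗ₜ[S] gg β m = gg β m ⊗ₜ[S] β m + β m ⊗ₜ[S] (gg β m - β m) +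
      (gg β m - β m) ⊗ₜ[S] (gg β m - β m) := by
    simp only [TensorProduct.tmul_sub, TensorProduct.sub_tmul]
    abel
  rw [h4, h3, add_zero]

theorem counit_gg (m : M) : Coalgebra.counit (R := S) (gg β m) = 1 := by
  have h1 : ∀ z : B ⊗[S] B, Coalgebra.counit (R := S)
      (TensorProduct.rid S B (LinearMap.lTensor B (β.coord m) z)) =
      β.coord m (TensorProduct.lid S B (LinearMap.rTensor B Coalgebra.counit z)) := by
    intro z
    induction z using TensorProduct.induction_on with
    | zero => simp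
    | add x y hx hy => simp only [map_add, hx, hy]
    | tmul x y =>
      simp only [LinearMap.lTensor_tmul, LinearMap.rTensor_tmul, TensorProduct.rid_tmul,
        TensorProduct.lid_tmul, map_smul, smul_eq_mul, mul_comm]
  rw [gg, Tl_apply, h1, Coalgebra.rTensor_counit_comul, TensorProduct.lid_tmul, one_smul,
    coord_self]

include hβ hsurj hsq in
theorem isGroupLikeElem_gg (m : M) : IsGroupLikeElem S (gg β m) :=
  ⟨counit_gg β m, comul_gg e₀ hsurj hsq β hβ m⟩

include hβ hsurj hsq in
/-- uniqueness of group-like lifts -/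
theorem groupLike_unique (m : M) (g g' : B) (hg : IsGroupLikeElem S g)
    (hg' : IsGroupLikeElem S g') (h : rho e₀ g = MonoidAlgebra.single m 1)
    (h' : rho e₀ g' = MonoidAlgebra.single m 1) : g = g' := by
  have hc : g' - g ∈ KT B := by
    apply rho_ker e₀ hsurj
    rw [map_sub, h, h', sub_self]
  have hga : β m - g ∈ KT B := by
    apply rho_ker e₀ hsurj
    rw [map_sub, h, hβ, sub_self]
  set c := g' - g with hcdef
  have hcc := tmul_eq_zero_of_mem hsq _ _ hc hc
  have h1 : Coalgebra.comul (R := S) c = g ⊗ₜ[S] c + c ⊗ₜ[S] g := by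
    have hg'' : g' = g + c := by rw [hcdef]; abel
    rw [hcdef, map_sub, hg'.comul_eq_tmul_self, hg.comul_eq_tmul_self, ← hcdef, hg'']
    simp only [TensorProduct.tmul_add, TensorProduct.add_tmul]
    rw [hcc]
    abel
  have h2 : Tl β m c = β.coord m c • g + β.coord m g • c := by
    rw [Tl_apply, h1, map_add, map_add, LinearMap.lTensor_tmul, LinearMap.lTensor_tmul,
      TensorProduct.rid_tmul, TensorProduct.rid_tmul]
  have h3 : Tl β m c = β.coord m c • β m := by
    have := hh_eq_zero e₀ hsurj hsq β hβ m c hc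
    rw [hh_apply, sub_eq_zero] at this
    exact this
  have h4 : algebraMap S S₀ (β.coord m c) = 0 := by
    rw [coord_lift e₀ β hβ, hcdef, map_sub, h, h', sub_self]
    simp
  have h5 : β.coord m c • (β m - g) = 0 :=
    smul_eq_zero_of_mem hsq _ h4 _ hga
  have h6 : β.coord m g • c = 0 := by
    have : β.coord m g • c = β.coord m c • β m - β.coord m c • g := by
      rw [← h3, h2]; abel
    rw [this, ← smul_sub, h5]
  have h7 : algebraMap S S₀ (β.coord m g - 1) = 0 := by
    rw [map_sub, coord_lift e₀ β hβ, h, map_one]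
    simp
  have h8 : (β.coord m g - 1) • c = 0 := smul_eq_zero_of_mem hsq _ h7 _ hc
  have h9 : c = 0 := by
    have : c = β.coord m g • c - (β.coord m g - 1) • c := by
      rw [sub_smul, one_smul]; abel
    rw [this, h6, h8, sub_zero]
  rw [hcdef, sub_eq_zero] at h9
  exact h9.symm

end Lift

end Groth.Agent.Lib.Helper66.RG2
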