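import Mathlib
import Groth.Prelude.Def_SGA3b
import Groth.Agent.Lib.Helper66.RG2
import Groth.Agent.Lib.Helper96.BaseChangeBialg

set_option autoImplicit false
universe u
open TensorProduct SGA3b

namespace Groth.Agent.Lib.Helper66.RG3

open Groth.Agent.Lib.Helper66.RG1 Groth.Agent.Lib.Helper66.RG2
open Groth.Agent.Lib.Helper96.BaseChangeBialg

section SqZero

variable {S S₀ : Type u} [CommRing S] [CommRing S₀] [Algebra S S₀]
variable {B : Type u} [CommRing B] [HopfAlgebra S B] [Module.Flat S B] {M : Type u} [CommGroup M]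

theorem sqzero (hsurj : Function.Surjective (algebraMap S S₀))
    (hsq : ∀ x y : S, algebraMap S S₀ x = 0 → algebraMap S S₀ y = 0 → x * y = 0)
    (e₀ : S₀ ⊗[S] B ≃ₐc[S₀] MonoidAlgebra S₀ M) :
    Nonempty (B ≃ₐc[S] MonoidAlgebra S M) := by
  classical
  choose b hb using fun m : M => rho_surjective e₀ hsurj (MonoidAlgebra.single m 1)
  have hk : ∀ x, (rho e₀).toLinearMap x = 0 →
      x ∈ (RingHom.ker (algebraMap S S₀)) • (⊤ : Submodule S B) := fun x hx => rho_ker e₀ hsurj x hx
  let β : Module.Basis M S B := basis hsurj hsq (rho e₀).toLinearMap hk b hb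
  have hβ : ∀ m, rho e₀ (β m) = MonoidAlgebra.single m 1 := by
    intro m
    rw [basis_apply]
    exact hb m
  let g : M → B := gg β
  have hg : ∀ m, IsGroupLikeElem S (g m) := isGroupLikeElem_gg e₀ hsurj hsq β hβ
  have hg0 : ∀ m, rho e₀ (g m) = MonoidAlgebra.single m 1 := rho_gg e₀ β hβ
  have hg1 : g 1 = 1 := by
    refine groupLike_unique e₀ hsurj hsq β hβ 1 _ _ (hg 1) IsGroupLikeElem.one (hg0 1) ?_
    rw [map_one, MonoidAlgebra.one_def]
  have hgmul : ∀ m m', g (m * m') = g m * g m' := by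
    intro m m'
    refine groupLike_unique e₀ hsurj hsq β hβ (m * m') _ _ (hg _) ((hg m).mul (hg m')) (hg0 _) ?_
    rw [map_mul, hg0, hg0, MonoidAlgebra.single_mul_single, mul_one]
  let φ : M →* GroupLike S B :=
    { toFun := fun m => ⟨g m, hg m⟩
      map_one' := GroupLike.ext hg1
      map_mul' := fun m m' => GroupLike.ext (hgmul m m') }
  let θ : MonoidAlgebra S M →ₐc[S] B :=
    (MonoidAlgebra.liftGroupLikeBialgHom (R := S) (A := B)).comp
      (MonoidAlgebra.mapDomainBialgHom S φ)
  have hθ : ∀ m (r : S), θ (MonoidAlgebra.single m r) = r • g m := by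
    intro m r
    simp [θ, φ]
  have hθx : ∀ x : MonoidAlgebra S M, θ x = ∑ m ∈ x.coeff.support, x.coeff m • g m := by
    intro x
    conv_lhs => rw [← MonoidAlgebra.sum_coeff_single x]
    rw [Finsupp.sum, map_sum]
    exact Finset.sum_congr rfl fun m _ => hθ m _
  have hli : LinearIndependent S g := linearIndependent hsurj hsq (rho e₀).toLinearMap g hg0
  have hsp : Submodule.span S (Set.range g) = ⊤ :=
    span_eq_top hsurj hsq (rho e₀).toLinearMap hk g hg0
  refine ⟨(BialgEquiv.ofBijective θ ⟨?_, ?_⟩).symm⟩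
  · rw [injective_iff_map_eq_zero]
    intro x hx
    rw [hθx] at hx
    have h1 := linearIndependent_iff'.mp hli x.coeff.support x.coeff hx
    apply MonoidAlgebra.coeff_injective
    ext m
    by_cases hm : m ∈ x.coeff.support
    · simpa using h1 m hm
    · simpa using Finsupp.notMem_support_iff.mp hm
  · intro a
    have ha : a ∈ Submodule.span S (Set.range g) := by rw [hsp]; exact Submodule.mem_top
    obtain ⟨c, hc⟩ := Finsupp.mem_span_range_iff_exists_finsupp.mp ha
    refine ⟨∑ m ∈ c.support, MonoidAlgebra.single m (c m), ?_⟩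
    rw [map_sum, ← hc, Finsupp.sum]
    exact Finset.sum_congr rfl fun m _ => hθ m _

end SqZero

section Nilpotent

theorem rigid : ∀ (n : ℕ) {S S₀ : Type u} [CommRing S] [CommRing S₀] [Algebra S S₀]
    (_ : Function.Surjective (algebraMap S S₀))
    (_ : (RingHom.ker (algebraMap S S₀)) ^ n = ⊥)
    {B : Type u} [CommRing B] [HopfAlgebra S B] [Module.Flat S B]
    (_ : IsDiag S₀ (S₀ ⊗[S] B)), IsDiag S B := by
  intro n
  induction n using Nat.strong_induction_on with
  | _ n ih =>
    intro S S₀ _ _ _ hsurj hn B _ _ _ hD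
    by_cases hn2 : n ≤ 2
    · -- square zero
      obtain ⟨M, grp, ⟨e₀⟩⟩ := hD
      have hsq : ∀ x y : S, algebraMap S S₀ x = 0 → algebraMap S S₀ y = 0 → x * y = 0 := by
        intro x y hx hy
        have h1 : x * y ∈ (RingHom.ker (algebraMap S S₀)) ^ 2 := by
          rw [pow_two]
          exact Ideal.mul_mem_mul (RingHom.mem_ker.mpr hx) (RingHom.mem_ker.mpr hy)
        have h2 := Ideal.pow_le_pow_right hn2 h1
        rw [hn] at h2
        exact h2
      exact ⟨M, grp, sqzero hsurj hsq e₀⟩
    · have hn3 : 3 ≤ n := by omega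
      set K := RingHom.ker (algebraMap S S₀) with hK
      let K' : Ideal S := K ^ (n - 1)
      have hK'K : K' ≤ K := Ideal.pow_le_self (by omega)
      let S' := S ⧸ K'
      let lft : S' →+* S₀ := Ideal.Quotient.lift K' (algebraMap S S₀)
        (fun x hx => RingHom.mem_ker.mp (hK'K hx))
      let _ : Algebra S' S₀ := lft.toAlgebra
      have tow : IsScalarTower S S' S₀ := IsScalarTower.of_algebraMap_eq (fun x => rfl)
      have hsurj' : Function.Surjective (algebraMap S' S₀) := by
        intro y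
        obtain ⟨x, rfl⟩ := hsurj y
        exact ⟨Ideal.Quotient.mk K' x, rfl⟩
      have hker' : RingHom.ker (algebraMap S' S₀) ≤ Ideal.map (Ideal.Quotient.mk K') K := by
        intro x' hx'
        obtain ⟨x, rfl⟩ := Ideal.Quotient.mk_surjective x'
        have : algebraMap S S₀ x = 0 := RingHom.mem_ker.mp hx'
        exact Ideal.mem_map_of_mem _ (RingHom.mem_ker.mpr this)
      have hn' : (RingHom.ker (algebraMap S' S₀)) ^ (n - 1) = ⊥ := by
        rw [eq_bot_iff]
        refine (Ideal.pow_right_mono hker' (n - 1)).trans ?_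
        rw [← Ideal.map_pow, Ideal.map_quotient_self]
      obtain ⟨M, grp, ⟨e₀⟩⟩ := hD
      have hD' : IsDiag S₀ (S₀ ⊗[S'] (S' ⊗[S] B)) := ⟨M, grp, ⟨(cbc S S' S₀ B).trans e₀⟩⟩
      have h1 : IsDiag S' (S' ⊗[S] B) := ih (n - 1) (by omega) hsurj' hn' hD'
      -- the square-zero step `S → S'`
      have hker2 : (RingHom.ker (algebraMap S S')) ^ 2 = ⊥ := by
        rw [Ideal.Quotient.algebraMap_eq, Ideal.mk_ker, ← pow_mul, eq_bot_iff, ← hn]
        exact Ideal.pow_le_pow_right (by omega)
      exact ih 2 (by omega) Ideal.Quotient.mk_surjective hker2 h1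

end Nilpotent

end Groth.Agent.Lib.Helper66.RG3
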