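import Mathlib
import Groth.Prelude.Def_SGA3b
import Groth.Agent.Lib.Helper66.RG3
import Groth.Agent.Lib.Helper66.EL3

/-! Infinitesimal rigidity of quasi-isotrivial groups of multiplicative type (helper66, S2987). -/

set_option autoImplicit false
universe u
open TensorProduct SGA3b

namespace Groth.Agent.Lib.Helper66.RG4

open Groth.Agent.Lib.Helper66.EL1 Groth.Agent.Lib.Helper66.EL3 Groth.Agent.Lib.Helper66.RG3
open Groth.Agent.Lib.Helper96.BaseChangeBialg

section Lift

variable {R Rb : Type u} [CommRing R] [CommRing Rb] [Algebra R Rb]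

/-- an étale algebra over a quotient of `R` by a nil ideal lifts to an étale `R`-algebra,
with control of the kernel -/
theorem exists_etale_lift' (hsurj : Function.Surjective (algebraMap R Rb))
    (hnil : ∀ x ∈ RingHom.ker (algebraMap R Rb), IsNilpotent x)
    (E : Type u) [CommRing E] [Algebra Rb E] [Algebra R E] [IsScalarTower R Rb E]
    [Algebra.Etale Rb E] :
    ∃ (E' : Type u) (_ : CommRing E') (_ : Algebra R E') (_ : Algebra E' E)
      (_ : IsScalarTower R E' E), Algebra.Etale R E' ∧ Algebra.FiniteType R E' ∧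
        Function.Surjective (algebraMap E' E) ∧
        (∀ x ∈ RingHom.ker (algebraMap E' E), IsNilpotent x) ∧
        RingHom.ker (algebraMap E' E) ≤
          Ideal.map (algebraMap R E') (RingHom.ker (algebraMap R Rb)) := by
  classical
  obtain ⟨ι, σ, hσ, hι, P, hP⟩ :=
    (Algebra.Etale.iff_isStandardSmoothOfRelativeDimension_zero.mp
      (inferInstance : Algebra.Etale Rb E)).out
  letI : Fintype σ := Fintype.ofFinite σ
  have hms : Function.Surjective
      (MvPolynomial.map (algebraMap R Rb) : MvPolynomial ι R → MvPolynomial ι Rb) :=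
    MvPolynomial.map_surjective _ hsurj
  choose v hv using fun j => hms (P.relation j)
  let I' : Ideal (MvPolynomial ι R) := Ideal.span (Set.range v)
  let φ : MvPolynomial ι R →ₐ[R] E := MvPolynomial.aeval P.val
  have hφ : ∀ p, φ p = MvPolynomial.aeval (R := Rb) P.val
      (MvPolynomial.map (algebraMap R Rb) p) := fun p =>
    (MvPolynomial.aeval_map_algebraMap Rb P.val p).symm
  have hφv : ∀ a ∈ I', φ a = 0 := by
    intro a ha
    refine Submodule.span_induction (p := fun a _ => φ a = 0) ?_ ?_ ?_ ?_ ha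
    · rintro _ ⟨j, rfl⟩
      rw [hφ, hv]
      exact P.aeval_val_relation j
    · exact map_zero _
    · intro x y _ _ hx hy
      rw [map_add, hx, hy, add_zero]
    · intro c x _ hx
      rw [smul_eq_mul, map_mul, hx, mul_zero]
  let θ : (MvPolynomial ι R ⧸ I') →ₐ[R] E := Ideal.Quotient.liftₐ I' φ hφv
  have hθmk : ∀ p, θ (Ideal.Quotient.mk I' p) = φ p := fun p => rfl
  have hθsurj : Function.Surjective θ := by
    intro y
    obtain ⟨q, rfl⟩ := P.aeval_val_surjective y
    obtain ⟨p, rfl⟩ := hms q
    exact ⟨Ideal.Quotient.mk I' p, by rw [hθmk, hφ]⟩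
  have hθker : ∀ x ∈ RingHom.ker (θ : (MvPolynomial ι R ⧸ I') →+* E), IsNilpotent x := by
    intro x hx
    obtain ⟨p, rfl⟩ := Ideal.Quotient.mk_surjective x
    rw [RingHom.mem_ker] at hx
    have hx' : φ p = 0 := hx
    rw [hφ, ← RingHom.mem_ker] at hx'
    have h1 : MvPolynomial.map (algebraMap R Rb) p ∈ P.ker := by
      rw [P.ker_eq_ker_aeval_val]
      exact hx'
    rw [← P.span_range_relation_eq_ker] at h1
    have h2 : Ideal.span (Set.range P.relation) =
        Ideal.map (MvPolynomial.map (algebraMap R Rb)) I' := by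
      rw [Ideal.map_span, ← Set.range_comp]
      congr 2
      funext j
      exact (hv j).symm
    rw [h2] at h1
    obtain ⟨q, hq, hqp⟩ := (Ideal.mem_map_iff_of_surjective _ hms).mp h1
    have h3 : IsNilpotent (p - q) :=
      isNilpotent_of_map_eq_zero hnil (p - q) (by rw [map_sub, hqp, sub_self])
    have h4 : Ideal.Quotient.mk I' p = Ideal.Quotient.mk I' (p - q) := by
      rw [map_sub, Ideal.Quotient.eq_zero_iff_mem.mpr hq, sub_zero]
    rw [h4]
    exact h3.map _
  have hθker' : ∀ x ∈ RingHom.ker (θ : (MvPolynomial ι R ⧸ I') →+* E),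
      x ∈ Ideal.map (algebraMap R (MvPolynomial ι R ⧸ I')) (RingHom.ker (algebraMap R Rb)) := by
    intro x hx
    obtain ⟨p, rfl⟩ := Ideal.Quotient.mk_surjective x
    rw [RingHom.mem_ker] at hx
    have hx' : φ p = 0 := hx
    rw [hφ, ← RingHom.mem_ker] at hx'
    have h1 : MvPolynomial.map (algebraMap R Rb) p ∈ P.ker := by
      rw [P.ker_eq_ker_aeval_val]
      exact hx'
    rw [← P.span_range_relation_eq_ker] at h1
    have h2 : Ideal.span (Set.range P.relation) =
        Ideal.map (MvPolynomial.map (algebraMap R Rb)) I' := by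
      rw [Ideal.map_span, ← Set.range_comp]
      congr 2
      funext j
      exact (hv j).symm
    rw [h2] at h1
    obtain ⟨q, hq, hqp⟩ := (Ideal.mem_map_iff_of_surjective _ hms).mp h1
    have h4 : Ideal.Quotient.mk I' p = Ideal.Quotient.mk I' (p - q) := by
      rw [map_sub, Ideal.Quotient.eq_zero_iff_mem.mpr hq, sub_zero]
    rw [h4]
    have h5 : p - q ∈ Ideal.map (MvPolynomial.C : R →+* MvPolynomial ι R)
        (RingHom.ker (algebraMap R Rb)) := by
      rw [MvPolynomial.mem_map_C_iff]
      intro n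
      rw [RingHom.mem_ker]
      have := congrArg (MvPolynomial.coeff n)
        (show MvPolynomial.map (algebraMap R Rb) (p - q) = 0 by rw [map_sub, hqp, sub_self])
      rwa [MvPolynomial.coeff_map, MvPolynomial.coeff_zero] at this
    have h6 : algebraMap R (MvPolynomial ι R ⧸ I') =
        (Ideal.Quotient.mk I').comp (MvPolynomial.C : R →+* MvPolynomial ι R) := rfl
    rw [h6, ← Ideal.map_map]
    exact Ideal.mem_map_of_mem _ h5
  -- the presentation of the lift
  let P' : Algebra.PreSubmersivePresentation R (MvPolynomial ι R ⧸ I') ι σ :=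
    Algebra.PreSubmersivePresentation.naive (v := v) P.map P.map_inj
  have hjac : θ P'.jacobian = P.jacobian := by
    rw [Algebra.PreSubmersivePresentation.jacobian_eq_jacobiMatrix_det,
      Algebra.PreSubmersivePresentation.jacobian_eq_jacobiMatrix_det]
    have h1 : ∀ p : MvPolynomial ι R, θ (algebraMap P'.Ring (MvPolynomial ι R ⧸ I') p) = φ p := by
      intro p
      rfl
    rw [h1, hφ, ← Algebra.Generators.algebraMap_apply]
    congr 1
    rw [RingHom.map_det]
    congr 1
    ext i j
    rw [RingHom.mapMatrix_apply, Matrix.map_apply,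
      Algebra.PreSubmersivePresentation.jacobiMatrix_naive,
      Algebra.PreSubmersivePresentation.jacobiMatrix_apply, ← hv j, MvPolynomial.pderiv_map]
  have hunit : IsUnit P'.jacobian := by
    refine isUnit_of_map (θ : (MvPolynomial ι R ⧸ I') →+* E) hθsurj hθker _ ?_
    show IsUnit (θ P'.jacobian)
    rw [hjac]
    exact P.jacobian_isUnit
  let P'' : Algebra.SubmersivePresentation R (MvPolynomial ι R ⧸ I') ι σ := ⟨P', hunit⟩
  have hdim : P''.dimension = 0 := hP
  have hst : Algebra.IsStandardSmoothOfRelativeDimension 0 R (MvPolynomial ι R ⧸ I') :=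
    P''.isStandardSmoothOfRelativeDimension hdim
  have het : Algebra.Etale R (MvPolynomial ι R ⧸ I') :=
    Algebra.Etale.iff_isStandardSmoothOfRelativeDimension_zero.mpr hst
  let _ : Algebra (MvPolynomial ι R ⧸ I') E := (θ : (MvPolynomial ι R ⧸ I') →+* E).toAlgebra
  have htow : IsScalarTower R (MvPolynomial ι R ⧸ I') E :=
    IsScalarTower.of_algebraMap_eq (fun r => (θ.commutes r).symm)
  exact ⟨MvPolynomial ι R ⧸ I', inferInstance, inferInstance, inferInstance, htow, het,
    inferInstance, hθsurj, hθker, hθker'⟩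

end Lift

section Step

variable {S : Type u} [CommRing S] {B : Type u} [CommRing B] [HopfAlgebra S B] [Module.Flat S B]

theorem main_step' (Sb : Type u) [CommRing Sb] [Algebra S Sb]
    (hsurj : Function.Surjective (algebraMap S Sb)) (n : ℕ)
    (hn : (RingHom.ker (algebraMap S Sb)) ^ n = ⊥)
    (E : Type u) [CommRing E] [Algebra Sb E] [Algebra S E] [IsScalarTower S Sb E]
    [Algebra.Etale Sb E] [Module.FaithfullyFlat Sb E] (hD : IsDiag E (E ⊗[S] B)) :
    ∃ (E' : Type u) (_ : CommRing E') (_ : Algebra S E'), Algebra.Etale S E' ∧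
      Module.FaithfullyFlat S E' ∧ IsDiag E' (E' ⊗[S] B) := by
  have hnil : ∀ x ∈ RingHom.ker (algebraMap S Sb), IsNilpotent x := by
    intro x hx
    refine ⟨n, ?_⟩
    have := Ideal.pow_mem_pow hx n
    rwa [hn] at this
  obtain ⟨E', cr, algSE', algE'E, tow, het, hft, hsurj', hnil', hker'⟩ :=
    exists_etale_lift' hsurj hnil E
  have hff : Module.FaithfullyFlat S E' :=
    faithfullyFlat_of_lift (R := S) (Rb := Sb) (E' := E') (E := E) hsurj hnil
  refine ⟨E', cr, algSE', het, hff, ?_⟩
  obtain ⟨M, grp, ⟨eD⟩⟩ := hD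
  have hn' : (RingHom.ker (algebraMap E' E)) ^ n = ⊥ := by
    rw [eq_bot_iff]
    refine (Ideal.pow_right_mono hker' n).trans ?_
    rw [← Ideal.map_pow, hn, Ideal.map_bot]
  have hD' : IsDiag E (E ⊗[E'] (E' ⊗[S] B)) := ⟨M, grp, ⟨(cbc S E' E B).trans eD⟩⟩
  exact rigid n hsurj' hn' hD'

end Step

section Away

variable {R : Type u} [CommRing R] (I : Ideal R)

theorem awayMap_ker_le (f : R) :
    RingHom.ker (Localization.awayMap (Ideal.Quotient.mk I) f) ≤
      Ideal.map (algebraMap R (Localization.Away f)) I := by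
  intro x hx
  obtain ⟨a, s, rfl⟩ := IsLocalization.exists_mk'_eq (Submonoid.powers f) x
  rw [RingHom.mem_ker] at hx
  simp only [Localization.awayMap, IsLocalization.Away.map, IsLocalization.map_mk',
    IsLocalization.mk'_eq_zero_iff] at hx
  obtain ⟨⟨m, n, rfl⟩, hm⟩ := hx
  have h2 : f ^ n * a ∈ I := by
    rw [← Ideal.Quotient.eq_zero_iff_mem, map_mul, map_pow]
    exact hm
  rw [IsLocalization.mk'_mem_map_algebraMap_iff (Submonoid.powers f)]
  exact ⟨f ^ n, ⟨n, rfl⟩, h2⟩

theorem awayMap_ker_pow (n : ℕ) (hI : I ^ n = ⊥) (f : R) :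
    (RingHom.ker (Localization.awayMap (Ideal.Quotient.mk I) f)) ^ n = ⊥ := by
  rw [eq_bot_iff]
  refine (Ideal.pow_right_mono (awayMap_ker_le I f) n).trans ?_
  rw [← Ideal.map_pow, hI, Ideal.map_bot]

end Away

section Main

variable {R : Type u} [CommRing R] {A : Type u} [CommRing A] [HopfAlgebra R A] [Module.Flat R A]
variable (I : Ideal R)

theorem quasiIsotrivial' (hI : IsNilpotent I)
    (h0 : IsQuasiIsotrivial (R ⧸ I) ((R ⧸ I) ⊗[R] A)) : IsQuasiIsotrivial R A := by
  obtain ⟨n, hn⟩ := hI
  have hn' : I ^ n = ⊥ := hn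
  have hIel : ∀ x ∈ I, IsNilpotent x := by
    intro x hx
    refine ⟨n, ?_⟩
    have := Ideal.pow_mem_pow hx n
    rwa [hn'] at this
  obtain ⟨sb, hsb, hloc⟩ := h0
  refine ⟨(Ideal.Quotient.mk I) ⁻¹' sb, ?_, ?_⟩
  · have h1 : Ideal.map (Ideal.Quotient.mk I) (Ideal.span ((Ideal.Quotient.mk I) ⁻¹' sb)) = ⊤ := by
      rw [Ideal.map_span, Set.image_preimage_eq _ Ideal.Quotient.mk_surjective, hsb]
    have h2 := congrArg (Ideal.comap (Ideal.Quotient.mk I)) h1
    rw [Ideal.comap_map_of_surjective' _ Ideal.Quotient.mk_surjective, Ideal.mk_ker,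
      Ideal.comap_top] at h2
    have h3 : (1 : R) ∈ Ideal.span ((Ideal.Quotient.mk I) ⁻¹' sb) ⊔ I := by
      rw [h2]; exact Submodule.mem_top
    obtain ⟨x, hx, i, hi, hxi⟩ := Submodule.mem_sup.mp h3
    have hu : IsUnit x := by
      have : x = 1 - i := by rw [← hxi]; ring
      rw [this]
      exact (hIel i hi).isUnit_one_sub
    exact Ideal.eq_top_of_isUnit_mem _ hx hu
  · intro f hf
    obtain ⟨E, cr, alg, het, hffE, M, grp, ⟨eD⟩⟩ := hloc (Ideal.Quotient.mk I f) hf
    let _ : Algebra (Localization.Away f) (Localization.Away (Ideal.Quotient.mk I f)) :=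
      (Localization.awayMap (Ideal.Quotient.mk I) f).toAlgebra
    let _ : Algebra (Localization.Away f) E :=
      ((algebraMap (Localization.Away (Ideal.Quotient.mk I f)) E).comp
        (algebraMap (Localization.Away f) (Localization.Away (Ideal.Quotient.mk I f)))).toAlgebra
    have tow1 : IsScalarTower (Localization.Away f) (Localization.Away (Ideal.Quotient.mk I f)) E :=
      IsScalarTower.of_algebraMap_eq (fun _ => rfl)
    let _ : Algebra (R ⧸ I) E :=
      ((algebraMap (Localization.Away (Ideal.Quotient.mk I f)) E).comp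
        (algebraMap (R ⧸ I) (Localization.Away (Ideal.Quotient.mk I f)))).toAlgebra
    have tow2 : IsScalarTower (R ⧸ I) (Localization.Away (Ideal.Quotient.mk I f)) E :=
      IsScalarTower.of_algebraMap_eq (fun _ => rfl)
    let _ : Algebra R E := ((algebraMap (R ⧸ I) E).comp (algebraMap R (R ⧸ I))).toAlgebra
    have tow3 : IsScalarTower R (R ⧸ I) E := IsScalarTower.of_algebraMap_eq (fun _ => rfl)
    have tow4 : IsScalarTower R (Localization.Away f) E := by
      refine IsScalarTower.of_algebraMap_eq (fun r => ?_)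
      show algebraMap (Localization.Away (Ideal.Quotient.mk I f)) E
          (algebraMap (R ⧸ I) (Localization.Away (Ideal.Quotient.mk I f)) (Ideal.Quotient.mk I r)) =
        algebraMap (Localization.Away (Ideal.Quotient.mk I f)) E
          (Localization.awayMap (Ideal.Quotient.mk I) f (algebraMap R (Localization.Away f) r))
      congr 1
      exact (IsLocalization.map_eq _ r).symm
    have hD : IsDiag E (E ⊗[Localization.Away f] (Localization.Away f ⊗[R] A)) :=
      ⟨M, grp, ⟨(cbc R (Localization.Away f) E A).trans ((cbc R (R ⧸ I) E A).symm.trans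
        ((cbc (R ⧸ I) (Localization.Away (Ideal.Quotient.mk I f)) E ((R ⧸ I) ⊗[R] A)).symm.trans
          eD))⟩⟩
    obtain ⟨E', cr', alg', het', hff', hD'⟩ :=
      main_step' (S := Localization.Away f) (B := Localization.Away f ⊗[R] A)
        (Localization.Away (Ideal.Quotient.mk I f)) (awayMap_surjective I f) n
        (awayMap_ker_pow I n hn' f) E hD
    exact ⟨E', cr', alg', het', hff', hD'⟩

end Main

end Groth.Agent.Lib.Helper66.RG4
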