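import Mathlib
import Groth.Prelude.Def_SGA3b
import Groth.Agent.Lib.Helper66.RG4
import Groth.Agent.S2969

/-! Groups over an Artinian local ring with closed fibre of multiplicative type (helper66, S5252). -/

set_option autoImplicit false
universe u
open TensorProduct SGA3b

namespace Groth.Agent.Lib.Helper66.RG5

open Groth.Agent.Lib.Helper66.EL1 Groth.Agent.Lib.Helper66.EL2 Groth.Agent.Lib.Helper66.RG3
open Groth.Agent.Lib.Helper66.RG4 Groth.Agent.Lib.Helper66.DN3
open Groth.Agent.Lib.Helper96.BaseChangeBialg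

section Step

variable {S : Type u} [CommRing S] {B : Type u} [CommRing B] [HopfAlgebra S B] [Module.Flat S B]

theorem main_step_fin (Sb : Type u) [CommRing Sb] [Algebra S Sb]
    (hsurj : Function.Surjective (algebraMap S Sb)) (n : ℕ)
    (hn : (RingHom.ker (algebraMap S Sb)) ^ n = ⊥)
    (E : Type u) [CommRing E] [Algebra Sb E] [Algebra S E] [IsScalarTower S Sb E]
    [Algebra.Etale Sb E] [Module.FaithfullyFlat Sb E] [Module.Finite Sb E]
    (hD : IsDiag E (E ⊗[S] B)) :
    ∃ (E' : Type u) (_ : CommRing E') (_ : Algebra S E'), Algebra.Etale S E' ∧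
      Module.Finite S E' ∧ Module.FaithfullyFlat S E' ∧ IsDiag E' (E' ⊗[S] B) := by
  have hnil : ∀ x ∈ RingHom.ker (algebraMap S Sb), IsNilpotent x := by
    intro x hx
    refine ⟨n, ?_⟩
    have := Ideal.pow_mem_pow hx n
    rwa [hn] at this
  obtain ⟨E', cr, algSE', algE'E, tow, het, hft, hsurj', hnil', hker'⟩ :=
    exists_etale_lift' hsurj hnil E
  have hff : Module.FaithfullyFlat S E' :=
    faithfullyFlat_of_lift (R := S) (Rb := Sb) (E' := E') (E := E) hsurj hnil
  have hfin : Module.Finite S E' :=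
    finite_of_lift (R := S) (Rb := Sb) (E' := E') (E := E) hsurj hnil'
  refine ⟨E', cr, algSE', het, hfin, hff, ?_⟩
  obtain ⟨M, grp, ⟨eD⟩⟩ := hD
  have hn' : (RingHom.ker (algebraMap E' E)) ^ n = ⊥ := by
    rw [eq_bot_iff]
    refine (Ideal.pow_right_mono hker' n).trans ?_
    rw [← Ideal.map_pow, hn, Ideal.map_bot]
  have hD' : IsDiag E (E ⊗[E'] (E' ⊗[S] B)) := ⟨M, grp, ⟨(cbc S E' E B).trans eD⟩⟩
  exact rigid n hsurj' hn' hD'

end Step

section MT

variable {R : Type u} [CommRing R] {A : Type u} [CommRing A] [HopfAlgebra R A]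

/-- a Hopf algebra split by a faithfully flat algebra is of multiplicative type -/
theorem isMultType_of_splitting (σ : Splitting R A) [Module.FaithfullyFlat R σ.T] :
    IsMultType R A := by
  refine ⟨{1}, by simp, ?_⟩
  intro f hf
  rw [Set.mem_singleton_iff] at hf
  subst hf
  have hff : Module.FaithfullyFlat (Localization.Away (1 : R))
      (Localization.Away (1 : R) ⊗[R] σ.T) := inferInstance
  exact ⟨(bc σ (Localization.Away (1 : R))).T, inferInstance, inferInstance, hff,
    (bc σ (Localization.Away (1 : R))).N, inferInstance, ⟨(bc σ (Localization.Away (1 : R))).e⟩⟩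

end MT

section Main

theorem main (A : Type u) [CommRing A] [IsArtinianRing A] [IsLocalRing A]
    (C : Type u) [CommRing C] [HopfAlgebra A C] [Module.Flat A C] (hft : Algebra.FiniteType A C)
    (h0 : IsMultType (IsLocalRing.ResidueField A) (IsLocalRing.ResidueField A ⊗[A] C)) :
    IsMultType A C ∧ IsIsotrivial A C := by
  have hft₀ : Algebra.FiniteType (IsLocalRing.ResidueField A) (IsLocalRing.ResidueField A ⊗[A] C) :=
    inferInstance
  obtain ⟨k', fld, alg, hfin, hsep, M, grp, hfg, ⟨e⟩⟩ :=
    Groth.Agent.S2969.result (IsLocalRing.ResidueField A) (IsLocalRing.ResidueField A ⊗[A] C)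
      hft₀ h0
  have hfe : Algebra.FormallyEtale (IsLocalRing.ResidueField A) k' :=
    Algebra.FormallyEtale.of_isSeparable _ _
  have hfp : Algebra.FinitePresentation (IsLocalRing.ResidueField A) k' :=
    Algebra.FinitePresentation.of_finiteType.mp inferInstance
  have het : Algebra.Etale (IsLocalRing.ResidueField A) k' := ⟨hfe, hfp⟩
  have hffk : Module.FaithfullyFlat (IsLocalRing.ResidueField A) k' := inferInstance
  let _ : Algebra A k' :=
    ((algebraMap (IsLocalRing.ResidueField A) k').comp
      (algebraMap A (IsLocalRing.ResidueField A))).toAlgebra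
  have tow : IsScalarTower A (IsLocalRing.ResidueField A) k' :=
    IsScalarTower.of_algebraMap_eq (fun _ => rfl)
  have hsurj : Function.Surjective (algebraMap A (IsLocalRing.ResidueField A)) :=
    IsLocalRing.residue_surjective
  obtain ⟨n, hn⟩ := IsArtinianRing.isNilpotent_jacobson_bot (R := A)
  have hker : RingHom.ker (algebraMap A (IsLocalRing.ResidueField A)) =
      IsLocalRing.maximalIdeal A := IsLocalRing.ker_residue
  have hn' : (RingHom.ker (algebraMap A (IsLocalRing.ResidueField A))) ^ n = ⊥ := by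
    rw [hker, ← IsLocalRing.jacobson_eq_maximalIdeal (⊥ : Ideal A) bot_ne_top]
    exact hn
  have hD : IsDiag k' (k' ⊗[A] C) :=
    ⟨M, grp, ⟨(cbc A (IsLocalRing.ResidueField A) k' C).symm.trans e⟩⟩
  obtain ⟨E', cr, algE, hetE, hfinE, hffE, N, grpN, ⟨eN⟩⟩ :=
    main_step_fin (S := A) (B := C) (IsLocalRing.ResidueField A) hsurj n hn' k' hD
  refine ⟨?_, ⟨E', cr, algE, hetE, hfinE, hffE, N, grpN, ⟨eN⟩⟩⟩
  exact isMultType_of_splitting (R := A) (A := C) { T := E', N := N, e := eN }

end Main

end Groth.Agent.Lib.Helper66.RG5
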