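import Mathlib
import Groth.Prelude.Def_HopfRep
import Groth.Prelude.Def_ComodTens

/-!
# Coefficient matrices of comodules on finite free modules over a commutative ring (helper66)
-/

set_option autoImplicit false
universe u v w

namespace Groth.Agent.Lib.Helper66.RL1

open TensorProduct

section Lsl

variable {R : Type u} [CommRing R] {A : Type v} [AddCommGroup A] [Module R A]
  {V : Type w} [AddCommGroup V] [Module R V]

/-- `x ⊗ a ↦ φ x • a` -/
noncomputable def lsl (φ : V →ₗ[R] R) : V ⊗[R] A →ₗ[R] A :=
  (TensorProduct.lid R A).toLinearMap ∘ₗ φ.rTensor A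

theorem lsl_tmul (φ : V →ₗ[R] R) (x : V) (a : A) : lsl φ (x ⊗ₜ[R] a) = φ x • a := by
  simp [lsl]

/-- expansion along a finite basis of the left factor -/
theorem sum_basis_tmul {P : Type*} [Fintype P] [DecidableEq P] (b : Module.Basis P R V)
    (y : V ⊗[R] A) : y = ∑ p, b p ⊗ₜ[R] lsl (b.coord p) y := by
  induction y using TensorProduct.induction_on with
  | zero => simp
  | add x y hx hy =>
    simp only [map_add, TensorProduct.tmul_add, Finset.sum_add_distrib]
    rw [← hx, ← hy]
  | tmul x r =>
    simp only [lsl_tmul, Module.Basis.coord_apply]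
    conv_lhs => rw [← b.sum_repr x]
    rw [TensorProduct.sum_tmul]
    apply Finset.sum_congr rfl
    intro p _
    rw [TensorProduct.smul_tmul]

end Lsl

section Coalg

variable {R : Type u} [CommRing R] {A : Type v} [AddCommGroup A] [Module R A] [Coalgebra R A]
  {V : Type w} [AddCommGroup V] [Module R V]

theorem comul_lsl_assoc (φ : V →ₗ[R] R) (T : (V ⊗[R] A) ⊗[R] A) :
    TensorProduct.lid R (A ⊗[R] A) (φ.rTensor (A ⊗[R] A) (TensorProduct.assoc R V A A T)) =
      (lsl φ).rTensor A T := by
  induction T using TensorProduct.induction_on with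
  | zero => simp
  | add x y hx hy => simp only [map_add, hx, hy]
  | tmul s w =>
    induction s using TensorProduct.induction_on with
    | zero => simp
    | add x y hx hy => simp only [map_add, hx, hy, TensorProduct.add_tmul]
    | tmul u v =>
      rw [TensorProduct.assoc_tmul, LinearMap.rTensor_tmul, TensorProduct.lid_tmul,
        LinearMap.rTensor_tmul, lsl_tmul, TensorProduct.smul_tmul']

theorem comul_lsl (φ : V →ₗ[R] R) (s : V ⊗[R] A) :
    Coalgebra.comul (R := R) (lsl φ s) = TensorProduct.lid R (A ⊗[R] A)
      (φ.rTensor (A ⊗[R] A) ((Coalgebra.comul (R := R) (A := A)).lTensor V s)) := by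
  induction s using TensorProduct.induction_on with
  | zero => simp
  | add x y hx hy => simp only [map_add, hx, hy]
  | tmul u v =>
    rw [lsl_tmul, map_smul, LinearMap.lTensor_tmul, LinearMap.rTensor_tmul,
      TensorProduct.lid_tmul]

theorem comul_lsl_coact (c : HopfRep.Comod R A V) (φ : V →ₗ[R] R) (v : V) :
    Coalgebra.comul (R := R) (lsl φ (c.coact v)) =
      (lsl φ ∘ₗ c.coact).rTensor A (c.coact v) := by
  have h := LinearMap.congr_fun c.coassoc v
  simp only [LinearMap.comp_apply, LinearEquiv.coe_coe] at h
  rw [comul_lsl, ← h, comul_lsl_assoc, LinearMap.rTensor_comp, LinearMap.comp_apply]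

theorem counit_lsl (φ : V →ₗ[R] R) (s : V ⊗[R] A) :
    Coalgebra.counit (R := R) (lsl φ s) =
      φ (TensorProduct.rid R V ((Coalgebra.counit (R := R) (A := A)).lTensor V s)) := by
  induction s using TensorProduct.induction_on with
  | zero => simp
  | add x y hx hy => simp only [map_add, hx, hy]
  | tmul u v =>
    rw [lsl_tmul, map_smul, LinearMap.lTensor_tmul, TensorProduct.rid_tmul, map_smul,
      smul_eq_mul, smul_eq_mul, mul_comm]

theorem counit_lsl_coact (c : HopfRep.Comod R A V) (φ : V →ₗ[R] R) (v : V) :
    Coalgebra.counit (R := R) (lsl φ (c.coact v)) = φ v := by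
  have h := LinearMap.congr_fun c.counit_comp v
  simp only [LinearMap.comp_apply, LinearMap.flip_apply, TensorProduct.mk_apply] at h
  rw [counit_lsl, h, TensorProduct.rid_tmul, one_smul]

variable {P : Type*} [Fintype P] [DecidableEq P]

/-- the coefficient matrix of a comodule with respect to a basis -/
noncomputable def coefMatrix (c : HopfRep.Comod R A V) (b : Module.Basis P R V) : P → P → A :=
  fun p q => lsl (b.coord p) (c.coact (b q))

theorem coact_basis (c : HopfRep.Comod R A V) (b : Module.Basis P R V) (q : P) :
    c.coact (b q) = ∑ p, b p ⊗ₜ[R] coefMatrix c b p q :=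
  sum_basis_tmul b (c.coact (b q))

theorem comul_coefMatrix (c : HopfRep.Comod R A V) (b : Module.Basis P R V) (p q : P) :
    Coalgebra.comul (R := R) (coefMatrix c b p q) =
      ∑ r, coefMatrix c b p r ⊗ₜ[R] coefMatrix c b r q := by
  show Coalgebra.comul (R := R) (lsl (b.coord p) (c.coact (b q))) = _
  rw [comul_lsl_coact]
  conv_lhs => rw [coact_basis c b q]
  simp only [map_sum, LinearMap.rTensor_tmul, LinearMap.comp_apply]
  rfl

theorem counit_coefMatrix (c : HopfRep.Comod R A V) (b : Module.Basis P R V) (p q : P) :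
    Coalgebra.counit (R := R) (coefMatrix c b p q) = if p = q then 1 else 0 := by
  show Coalgebra.counit (R := R) (lsl (b.coord p) (c.coact (b q))) = _
  rw [counit_lsl_coact, Module.Basis.coord_apply, Module.Basis.repr_self, Finsupp.single_apply]
  simp only [eq_comm]

/-- a comodule map to the regular comodule is a combination of matrix coefficients -/
theorem apply_basis_of_hom (c : HopfRep.Comod R A V) (b : Module.Basis P R V)
    (f : V →ₗ[R] A) (hf : ∀ v, f.rTensor A (c.coact v) = Coalgebra.comul (R := R) (f v)) (q : P) :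
    f (b q) = ∑ p, Coalgebra.counit (R := R) (f (b p)) • coefMatrix c b p q := by
  have h1 : ∀ y : V ⊗[R] A, lsl (Coalgebra.counit (R := R) (A := A) ∘ₗ f) y =
      TensorProduct.lid R A ((Coalgebra.counit (R := R) (A := A)).rTensor A (f.rTensor A y)) := by
    intro y
    induction y using TensorProduct.induction_on with
    | zero => simp
    | add x y hx hy => simp only [map_add, hx, hy]
    | tmul u v => simp [lsl_tmul]
  have h2 : f (b q) = lsl (Coalgebra.counit (R := R) (A := A) ∘ₗ f) (c.coact (b q)) := by
    rw [h1, hf, Coalgebra.rTensor_counit_comul, TensorProduct.lid_tmul, one_smul]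
  rw [h2, coact_basis c b q, map_sum]
  simp only [lsl_tmul, LinearMap.comp_apply]

end Coalg

section Hopf

variable {R : Type u} [CommRing R] {A : Type v} [CommRing A] [HopfAlgebra R A]
  {n : ℕ}

/-- a multiplicative matrix over a commutative Hopf algebra has invertible determinant -/
theorem exists_mul_det_eq_one (M : Matrix (Fin n) (Fin n) A)
    (hΔ : ∀ i j, Coalgebra.comul (R := R) (M i j) = ∑ l, M i l ⊗ₜ[R] M l j)
    (hε : ∀ i j, Coalgebra.counit (R := R) (M i j) = if i = j then (1 : R) else 0) :
    ∃ u : A, u * M.det = 1 := by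
  let N : Matrix (Fin n) (Fin n) A := fun i j => HopfAlgebra.antipode R (M i j)
  have hMN : M * N = 1 := by
    ext i j
    rw [Matrix.mul_apply]
    have h1 := HopfAlgebra.mul_antipode_lTensor_comul_apply (R := R) (M i j)
    rw [hΔ, map_sum, map_sum] at h1
    simp only [LinearMap.lTensor_tmul, LinearMap.mul'_apply] at h1
    rw [h1, hε, Matrix.one_apply]
    split_ifs <;> simp
  have hdet : M.det * N.det = 1 := by rw [← Matrix.det_mul, hMN, Matrix.det_one]
  exact ⟨N.det, by rw [mul_comm]; exact hdet⟩

end Hopf

end Groth.Agent.Lib.Helper66.RL1
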