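import Mathlib
import Groth.Agent.Lib.Helper66.RL1
import Groth.Agent.Lib.Helper66.RL2

/-!
# Equivariant resolution property ⇒ closed subgroup of `GL_d` (helper66)
-/

set_option autoImplicit false
universe u

namespace Groth.Agent.Lib.Helper66.RL3

open TensorProduct

section Sum

variable {R : Type u} [CommRing R] {A : Type u} [CommRing A] [HopfAlgebra R A]
  {E : Type u} [AddCommGroup E] [Module R E] {d : ℕ}
  (p : (Fin d → R) →ₗ[R] E) (i : E →ₗ[R] (Fin d → R)) (hpi : p ∘ₗ i = LinearMap.id)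

/-- `E × ker p ≃ R^d` -/
noncomputable def eqv : (E × LinearMap.ker p) ≃ₗ[R] (Fin d → R) :=
  LinearEquiv.ofLinearMap
    (i.coprod (LinearMap.ker p).subtype)
    (p.prod (LinearMap.codRestrict (LinearMap.ker p) (LinearMap.id - i ∘ₗ p) (by
      intro v
      have h : p (i (p v)) = p v := LinearMap.congr_fun hpi (p v)
      simp [LinearMap.mem_ker, h])))
    (by
      apply LinearMap.ext
      intro v
      simp)
    (by
      apply LinearMap.ext
      rintro ⟨x, ⟨w, hw⟩⟩
      have h : p (i x) = x := LinearMap.congr_fun hpi x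
      have hw' : p w = 0 := hw
      apply Prod.ext
      · simp [h, hw']
      · apply Subtype.ext
        simp [h, hw'])

end Sum

section Main

variable (R : Type u) [CommRing R] [IsNoetherianRing R]
  (A : Type u) [CommRing A] [HopfAlgebra R A] [Module.Flat R A] [Algebra.FiniteType R A]

theorem main
    (hRE : ∀ (F : Type u) [AddCommGroup F] [Module R F] [HopfRep.Comod R A F] [Module.Finite R F],
      ∃ (E : Type u) (_ : AddCommGroup E) (_ : Module R E) (_ : HopfRep.Comod R A E) (π : E →ₗ[R] F),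
        Module.Finite R E ∧ Module.Projective R E ∧ Function.Surjective π ∧
        HopfRep.Comod.coact (k := R) (A := A) ∘ₗ π =
          π.rTensor A ∘ₗ HopfRep.Comod.coact (k := R) (A := A) (V := E)) :
    ∃ (d : ℕ) (a : Matrix (Fin d) (Fin d) A),
      (∀ i j, CoalgebraStruct.comul (R := R) (a i j) = ∑ l, a i l ⊗ₜ[R] a l j) ∧
      (∀ i j, CoalgebraStruct.counit (R := R) (a i j) = if i = j then 1 else 0) ∧
      ∃ u : A, u * a.det = 1 ∧
        Algebra.adjoin R (Set.range (fun p : Fin d × Fin d => a p.1 p.2) ∪ {u}) = ⊤ := by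
  classical
  obtain ⟨s, hs⟩ := (Algebra.FiniteType.out : (⊤ : Subalgebra R A).FG)
  obtain ⟨F, hMF, hFfg, hFsub⟩ := RL2.exists_fg_isSubcomod (HopfRep.Comod.regular R A)
    (Submodule.span R (s : Set A)) ⟨s, rfl⟩
  let cF : HopfRep.Comod R A F := ComodSub.Comod.restr (HopfRep.Comod.regular R A) F hFsub
  haveI : Module.Finite R F := Module.Finite.iff_fg.mpr hFfg
  obtain ⟨E, _, _, cE, π, hEfin, hEproj, hπ, hπc⟩ := @hRE F _ _ cF _
  obtain ⟨d, p, i, -, -, hpi⟩ := Module.Finite.exists_comp_eq_id_of_projective R E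
  let cK : HopfRep.Comod R A (LinearMap.ker p) := HopfRep.Comod.trivial R A (LinearMap.ker p)
  let cW : HopfRep.Comod R A (E × LinearMap.ker p) := ComodTens.Comod.prod cE cK
  let b : Module.Basis (Fin d) R (E × LinearMap.ker p) := Module.Basis.ofEquivFun (eqv p i hpi)
  let a : Matrix (Fin d) (Fin d) A := fun j l => RL1.coefMatrix cW b j l
  have hΔ : ∀ j l, CoalgebraStruct.comul (R := R) (a j l) = ∑ m, a j m ⊗ₜ[R] a m l :=
    fun j l => RL1.comul_coefMatrix cW b j l
  have hε : ∀ j l, CoalgebraStruct.counit (R := R) (a j l) = if j = l then 1 else 0 :=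
    fun j l => RL1.counit_coefMatrix cW b j l
  obtain ⟨u, hu⟩ := RL1.exists_mul_det_eq_one a hΔ hε
  refine ⟨d, a, hΔ, hε, u, hu, ?_⟩
  -- the comodule map `W → A`
  let f : (E × LinearMap.ker p) →ₗ[R] A := F.subtype ∘ₗ π ∘ₗ LinearMap.fst R E (LinearMap.ker p)
  have hf : ∀ w, f.rTensor A (cW.coact w) = Coalgebra.comul (R := R) (f w) := by
    rintro ⟨x, k⟩
    have h1 : cW.coact (x, k) = (LinearMap.inl R E (LinearMap.ker p)).rTensor A (cE.coact x) +
        (LinearMap.inr R E (LinearMap.ker p)).rTensor A (cK.coact k) := rfl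
    have h2 : cK.coact k = k ⊗ₜ[R] (1 : A) := rfl
    have h3 : f.rTensor A ((LinearMap.inr R E (LinearMap.ker p)).rTensor A (k ⊗ₜ[R] (1 : A))) = 0 := by
      rw [LinearMap.rTensor_tmul, LinearMap.rTensor_tmul]
      have : f (LinearMap.inr R E (LinearMap.ker p) k) = 0 := by
        simp [f]
      rw [this, TensorProduct.zero_tmul]
    have h4 : f.rTensor A ((LinearMap.inl R E (LinearMap.ker p)).rTensor A (cE.coact x)) =
        F.subtype.rTensor A (π.rTensor A (cE.coact x)) := by
      have e : f ∘ₗ LinearMap.inl R E (LinearMap.ker p) = F.subtype ∘ₗ π := by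
        apply LinearMap.ext
        intro y
        simp [f]
      rw [← LinearMap.rTensor_comp_apply, ← LinearMap.rTensor_comp_apply, e]
    have h5 : π.rTensor A (cE.coact x) = cF.coact (π x) := (LinearMap.congr_fun hπc x).symm
    have h6 : F.subtype.rTensor A (cF.coact (π x)) = Coalgebra.comul (R := R) ((π x : F) : A) :=
      ComodSub.restr_coact_coe (HopfRep.Comod.regular R A) F hFsub (π x)
    rw [h1, map_add, h2, h3, add_zero, h4, h5, h6]
    rfl
  have hb : ∀ l, f (b l) ∈
      Algebra.adjoin R (Set.range (fun p : Fin d × Fin d => a p.1 p.2) ∪ {u}) := by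
    intro l
    rw [RL1.apply_basis_of_hom cW b f hf l]
    refine Subalgebra.sum_mem _ (fun j _ => Subalgebra.smul_mem _ ?_ _)
    exact Algebra.subset_adjoin (Or.inl ⟨(j, l), rfl⟩)
  have hfw : ∀ w, f w ∈
      Algebra.adjoin R (Set.range (fun p : Fin d × Fin d => a p.1 p.2) ∪ {u}) := by
    intro w
    rw [← b.sum_repr w, map_sum]
    refine Subalgebra.sum_mem _ (fun l _ => ?_)
    rw [map_smul]
    exact Subalgebra.smul_mem _ (hb l) _
  apply top_le_iff.mp
  rw [← hs]
  apply Algebra.adjoin_le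
  intro t ht
  have htF : t ∈ F := hMF (Submodule.subset_span ht)
  obtain ⟨x, hx⟩ := hπ ⟨t, htF⟩
  have : f (x, 0) = t := by
    show ((π x : F) : A) = t
    rw [hx]
  rw [← this]
  exact hfw (x, 0)

end Main

end Groth.Agent.Lib.Helper66.RL3
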