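import Mathlib
import Groth.Prelude.Def_PLie
import Groth.Agent.Lib.Helper66.PBWBasis
import Groth.Agent.Lib.Helper66.JacobsonThm

/-!
# Restricted Poincaré–Birkhoff–Witt (helper66)

For a restricted Lie algebra `(L, φ)` over a commutative ring `R` of characteristic `p`, free with a linearly
ordered basis `b`, the operators `z i = ρ(b i)^p - ρ(φ (b i))` on the PBW module `M` commute with everything,
and `M` is "free over `R[z]`" on the restricted monomials: `M = N ⊕ Rs` with `N = Σ range (z i)` and `Rs` the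
span of the restricted monomials.
-/

set_option autoImplicit false
universe u v w

namespace Groth.Agent.Lib.Helper66.RPBW

open Finsupp PLie Groth.Agent.Lib.Helper66.PBW Groth.Agent.Lib.Helper66.PLieBasic
  Groth.Agent.Lib.Helper66.JacobsonThm

attribute [local instance] LieRing.ofAssociativeRing

variable {R : Type u} [CommRing R] {p : ℕ} [hp : Fact p.Prime] [CharP R p]
  {L : Type v} [LieRing L] [LieAlgebra R L] {ι : Type w} [LinearOrder ι]
  (b : Module.Basis ι R L) (φ : PMap R p L)

/-- The central operators `z i = ρ(b i)^p - ρ(φ (b i))`. -/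
noncomputable def z (i : ι) : Module.End R (Mod R ι) := rhoLie b (b i) ^ p - rhoLie b (φ (b i))

theorem z_apply (i : ι) (m : Mod R ι) :
    z b φ i m = (rhoLie b (b i) ^ p) m - rhoLie b (φ (b i)) m := rfl

theorem z_comm_rho_apply (i : ι) (x : L) (m : Mod R ι) :
    z b φ i (rhoLie b x m) = rhoLie b x (z b φ i m) := by
  have h1 := ad_pow_char (R := R) (p := p) (rhoLie b (b i)) (rhoLie b x)
  rw [ad_pow_map (rhoLie b) (b i) x p, ← φ.ad_map (b i), LieAlgebra.ad_apply, LieHom.map_lie,
    LieRing.of_associative_ring_bracket] at h1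
  have h2 := LinearMap.congr_fun h1 m
  simp only [LinearMap.sub_apply, Module.End.mul_apply] at h2
  rw [z_apply, z_apply, map_sub]
  have h3 : φ.toFun (b i) = φ (b i) := rfl
  rw [h3] at h2
  rw [sub_eq_iff_eq_add] at h2 ⊢
  rw [h2]
  abel

theorem z_comm_rho (i : ι) (x : L) : z b φ i * rhoLie b x = rhoLie b x * z b φ i :=
  LinearMap.ext fun m => z_comm_rho_apply b φ i x m

theorem z_commute_rho (i : ι) (x : L) : Commute (z b φ i) (rhoLie b x) := z_comm_rho b φ i x

theorem z_commute (i j : ι) : Commute (z b φ i) (z b φ j) := by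
  have h1 : Commute (z b φ i) (rhoLie b (b j) ^ p) := (z_commute_rho b φ i (b j)).pow_right p
  have h2 : Commute (z b φ i) (rhoLie b (φ (b j))) := z_commute_rho b φ i _
  refine LinearMap.ext fun m => ?_
  have e1 := LinearMap.congr_fun h1.eq m
  have e2 := LinearMap.congr_fun h2.eq m
  simp only [Module.End.mul_apply] at e1 e2 ⊢
  rw [z_apply b φ j, z_apply b φ j, map_sub, e1, e2]

/-! ### Symbols -/

/-- `T` raises the filtration degree by `d + 1` and acts as multiplication by `X^δ` (`|δ| = d + 1`) on the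
associated graded. -/
structure Sym (T : Module.End R (Mod R ι)) (δ : ι →₀ ℕ) (d : ℕ) : Prop where
  deg : δ.degree = d + 1
  filt : ∀ k, ∀ m ∈ F R ι k, T m ∈ F R ι (k + d + 1)
  symb : ∀ β : ι →₀ ℕ, T (mono R β) - mono R (β + δ) ∈ F R ι (β.degree + d)

theorem Sym.mul {T T' : Module.End R (Mod R ι)} {δ δ' : ι →₀ ℕ} {d d' : ℕ}
    (h : Sym T δ d) (h' : Sym T' δ' d') : Sym (T * T') (δ' + δ) (d + d' + 1) where
  deg := by rw [map_add, h.deg, h'.deg]; omega
  filt := fun k m hm => by
    have := h.filt _ _ (h'.filt k m hm)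
    rw [Module.End.mul_apply]
    convert this using 2; omega
  symb := fun β => by
    rw [Module.End.mul_apply]
    have h1 : T (T' (mono R β)) - mono R (β + (δ' + δ)) =
        T (T' (mono R β) - mono R (β + δ')) + (T (mono R (β + δ')) - mono R (β + δ' + δ)) := by
      rw [map_sub, add_assoc]; abel
    rw [h1]
    refine Submodule.add_mem _ ?_ ?_
    · have := h.filt _ _ (h'.symb β)
      convert this using 2; omega
    · have := h.symb (β + δ')
      rw [map_add, h'.deg] at this
      convert this using 2; omega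

theorem Sym.sub {T T'' : Module.End R (Mod R ι)} {δ : ι →₀ ℕ} {d : ℕ}
    (h : Sym T δ d) (h'' : ∀ k, ∀ m ∈ F R ι k, T'' m ∈ F R ι (k + d)) : Sym (T - T'') δ d where
  deg := h.deg
  filt := fun k m hm => by
    rw [LinearMap.sub_apply]
    exact Submodule.sub_mem _ (h.filt k m hm) (F_mono (by omega) (h'' k m hm))
  symb := fun β => by
    rw [LinearMap.sub_apply, sub_right_comm]
    exact Submodule.sub_mem _ (h.symb β) (h'' _ _ (mono_mem_F le_rfl))

theorem Sym_rho (i : ι) : Sym (rhoLie b (b i)) (single i 1) 0 where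
  deg := by rw [Finsupp.degree_single]
  filt := fun k m hm => rho_mem_F b k (b i) m hm
  symb := fun β => E3_all b β i

theorem Sym_rho_pow (i : ι) (n : ℕ) : Sym (rhoLie b (b i) ^ (n + 1)) (single i (n + 1)) n := by
  induction n with
  | zero => rw [zero_add, pow_one]; exact Sym_rho b i
  | succ n ih =>
    have := (Sym_rho b i).mul ih
    rw [← pow_succ', ← Finsupp.single_add] at this
    convert this using 1
    omega

theorem Sym_z (i : ι) : Sym (z b φ i) (single i p) (p - 1) := by
  have hp2 : 2 ≤ p := hp.out.two_le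
  have h1 := Sym_rho_pow b i (p - 1)
  rw [show p - 1 + 1 = p by omega] at h1
  refine h1.sub fun k m hm => ?_
  exact F_mono (by omega) (rho_mem_F b k (φ (b i)) m hm)

/-! ### Monomials in the `z i` -/

/-- the commutative subalgebra generated by the `z i` -/
noncomputable abbrev Zalg : Subalgebra R (Module.End R (Mod R ι)) := Algebra.adjoin R (Set.range (z b φ))

instance : IsMulCommutative (Zalg b φ) :=
  Algebra.isMulCommutative_adjoin R (s := Set.range (z b φ)) (by
    rintro _ ⟨i, rfl⟩ _ ⟨j, rfl⟩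
    exact z_commute b φ i j)

open scoped IsMulCommutative

/-- `z i` as an element of the commutative subalgebra -/
noncomputable def z' (i : ι) : Zalg b φ := ⟨z b φ i, Algebra.subset_adjoin ⟨i, rfl⟩⟩

/-- the monomial `z^α` in the commutative subalgebra -/
noncomputable def zmon' (α : ι →₀ ℕ) : Zalg b φ := α.prod fun i n => z' b φ i ^ n

/-- the monomial `z^α` -/
noncomputable def zmon (α : ι →₀ ℕ) : Module.End R (Mod R ι) := (zmon' b φ α : Module.End R (Mod R ι))

theorem zmon_zero : zmon b φ 0 = 1 := by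
  unfold zmon zmon'; rw [Finsupp.prod_zero_index]; rfl

theorem zmon'_add (α β : ι →₀ ℕ) : zmon' b φ (α + β) = zmon' b φ α * zmon' b φ β := by
  unfold zmon'
  exact Finsupp.prod_add_index' (fun _ => pow_zero _) (fun _ _ _ => pow_add _ _ _)

theorem zmon_add (α β : ι →₀ ℕ) : zmon b φ (α + β) = zmon b φ α * zmon b φ β := by
  unfold zmon
  rw [zmon'_add]
  rfl

theorem zmon'_single (i : ι) : zmon' b φ (single i 1) = z' b φ i := by
  unfold zmon'
  rw [Finsupp.prod_single_index (h := fun i n => z' b φ i ^ n) (pow_zero _), pow_one]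

theorem zmon_single (i : ι) : zmon b φ (single i 1) = z b φ i := by
  unfold zmon
  rw [zmon'_single]
  rfl

theorem Sym_zmon : ∀ (n : ℕ) (α : ι →₀ ℕ), α.degree = n + 1 →
    Sym (zmon b φ α) (p • α) (p * (n + 1) - 1) := by
  have hp2 : 2 ≤ p := hp.out.two_le
  intro n
  induction n with
  | zero =>
    intro α hα
    have hne : α ≠ 0 := by
      rintro rfl
      simp at hα
    obtain ⟨i, hi⟩ := Finsupp.ne_iff.mp hne
    rw [Finsupp.zero_apply] at hi
    have hsplit : α = (α - single i 1) + single i 1 := by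
      rw [tsub_add_cancel_of_le]
      rw [Finsupp.single_le_iff]
      omega
    have hdeg : (α - single i 1).degree = 0 := by
      have := congrArg Finsupp.degree hsplit
      rw [map_add, Finsupp.degree_single, hα] at this
      omega
    have h0 : α - single i 1 = 0 := (Finsupp.degree_eq_zero_iff _).mp hdeg
    rw [h0, zero_add] at hsplit
    rw [hsplit, zmon_single, Finsupp.smul_single, smul_eq_mul, mul_one, zero_add, mul_one]
    exact Sym_z b φ i
  | succ n ih =>
    intro α hα
    have hne : α ≠ 0 := by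
      rintro rfl
      simp at hα
    obtain ⟨i, hi⟩ := Finsupp.ne_iff.mp hne
    rw [Finsupp.zero_apply] at hi
    have hsplit : α = (α - single i 1) + single i 1 := by
      rw [tsub_add_cancel_of_le]
      rw [Finsupp.single_le_iff]
      omega
    have hdeg : (α - single i 1).degree = n + 1 := by
      have := congrArg Finsupp.degree hsplit
      rw [map_add, Finsupp.degree_single, hα] at this
      omega
    have h1 := (ih _ hdeg).mul (Sym_z b φ i)
    have h2 : zmon b φ α = zmon b φ (α - single i 1) * z b φ i := by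
      conv_lhs => rw [hsplit]
      rw [zmon_add, zmon_single]
    have h3 : p • α = single i p + p • (α - single i 1) := by
      conv_lhs => rw [hsplit]
      rw [smul_add, Finsupp.smul_single, smul_eq_mul, mul_one, add_comm]
    rw [h2, h3]
    convert h1 using 1
    have : p * (n + 1 + 1) = p * (n + 1) + p := by ring
    rw [this]
    have : 1 ≤ p * (n + 1) := Nat.one_le_iff_ne_zero.mpr (by positivity)
    omega

/-! ### The map `Ψ` -/

/-- quotient part of an exponent vector -/
noncomputable def qpart (p : ℕ) (γ : ι →₀ ℕ) : ι →₀ ℕ := γ.mapRange (· / p) (Nat.zero_div p)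

/-- remainder part of an exponent vector -/
noncomputable def rpart (p : ℕ) (γ : ι →₀ ℕ) : ι →₀ ℕ := γ.mapRange (· % p) (Nat.zero_mod p)

theorem qpart_apply (p : ℕ) (γ : ι →₀ ℕ) (i : ι) : qpart p γ i = γ i / p := by
  unfold qpart; rw [Finsupp.mapRange_apply]

theorem rpart_apply (p : ℕ) (γ : ι →₀ ℕ) (i : ι) : rpart p γ i = γ i % p := by
  unfold rpart; rw [Finsupp.mapRange_apply]

theorem qr_eq (p : ℕ) (γ : ι →₀ ℕ) : rpart p γ + p • qpart p γ = γ := by
  ext i
  rw [Finsupp.add_apply, Finsupp.smul_apply, qpart_apply, rpart_apply, smul_eq_mul]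
  exact Nat.mod_add_div _ _

/-- `Ψ (X^γ) = z^(γ / p) (X^(γ % p))`. -/
noncomputable def Psi : Mod R ι →ₗ[R] Mod R ι :=
  Finsupp.linearCombination R fun γ => zmon b φ (qpart p γ) (mono R (rpart p γ))

theorem Psi_mono (γ : ι →₀ ℕ) : Psi b φ (mono R γ) = zmon b φ (qpart p γ) (mono R (rpart p γ)) := by
  unfold Psi mono
  rw [Finsupp.linearCombination_single, one_smul]

/-- restricted exponent vectors -/
def Restr (p : ℕ) (γ : ι →₀ ℕ) : Prop := ∀ i, γ i < p

theorem qpart_eq_zero {γ : ι →₀ ℕ} (h : Restr p γ) : qpart p γ = 0 := by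
  ext i; rw [qpart_apply, Finsupp.zero_apply]; exact Nat.div_eq_of_lt (h i)

theorem rpart_eq_self {γ : ι →₀ ℕ} (h : Restr p γ) : rpart p γ = γ := by
  ext i; rw [rpart_apply]; exact Nat.mod_eq_of_lt (h i)

theorem Psi_mono_of_restr {γ : ι →₀ ℕ} (h : Restr p γ) : Psi b φ (mono R γ) = mono R γ := by
  rw [Psi_mono, qpart_eq_zero h, rpart_eq_self h, zmon_zero]
  rfl

theorem Psi_mono_sub_mem (γ : ι →₀ ℕ) : Psi b φ (mono R γ) - mono R γ ∈ F R ι (γ.degree - 1) := by
  by_cases h0 : qpart p γ = 0
  · have : rpart p γ = γ := by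
      have := qr_eq p γ
      rwa [h0, smul_zero, add_zero] at this
    rw [Psi_mono, h0, this, zmon_zero]
    change mono R γ - mono R γ ∈ _
    rw [sub_self]
    exact Submodule.zero_mem _
  · have hd : (qpart p γ).degree ≠ 0 := fun h => h0 ((Finsupp.degree_eq_zero_iff _).mp h)
    obtain ⟨n, hn⟩ : ∃ n, (qpart p γ).degree = n + 1 := ⟨_, (Nat.succ_pred_eq_of_ne_zero hd).symm⟩
    have h1 := (Sym_zmon b φ n (qpart p γ) hn).symb (rpart p γ)
    rw [qr_eq] at h1
    rw [Psi_mono]
    refine F_mono ?_ h1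
    have h2 := congrArg Finsupp.degree (qr_eq p γ)
    rw [map_add, map_nsmul, hn, smul_eq_mul] at h2
    have : 1 ≤ p * (n + 1) := Nat.one_le_iff_ne_zero.mpr (by have := hp.out.pos; positivity)
    omega

theorem Psi_sub_mem_F (k : ℕ) : ∀ m ∈ F R ι (k + 1), Psi b φ m - m ∈ F R ι k := by
  intro m hm
  induction hm using Submodule.span_induction with
  | mem m hm =>
    obtain ⟨γ, hγ, rfl⟩ := hm
    exact F_mono (by omega) (Psi_mono_sub_mem b φ γ)
  | zero => simp
  | add m m' _ _ h1 h2 =>
    have : Psi b φ (m + m') - (m + m') = (Psi b φ m - m) + (Psi b φ m' - m') := by rw [map_add]; abel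
    rw [this]; exact Submodule.add_mem _ h1 h2
  | smul c m _ h1 =>
    rw [map_smul, ← smul_sub]; exact Submodule.smul_mem _ _ h1

theorem Psi_eq_of_mem_F_zero : ∀ m ∈ F R ι 0, Psi b φ m = m := by
  intro m hm
  induction hm using Submodule.span_induction with
  | mem m hm =>
    obtain ⟨γ, hγ, rfl⟩ := hm
    have : γ = 0 := (Finsupp.degree_eq_zero_iff _).mp (Nat.le_zero.mp hγ)
    subst this
    exact Psi_mono_of_restr b φ fun i => hp.out.pos
  | zero => simp
  | add m m' _ _ h1 h2 => rw [map_add, h1, h2]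
  | smul c m _ h1 => rw [map_smul, h1]

theorem Psi_injective : Function.Injective (Psi b φ) := by
  rw [← LinearMap.ker_eq_bot, LinearMap.ker_eq_bot']
  have key : ∀ k, ∀ m ∈ F R ι k, Psi b φ m = 0 → m = 0 := by
    intro k
    induction k with
    | zero =>
      intro m hm h0
      rw [← Psi_eq_of_mem_F_zero b φ m hm, h0]
    | succ k ih =>
      intro m hm h0
      have h1 := Psi_sub_mem_F b φ k m hm
      rw [h0, zero_sub] at h1
      have h2 : m ∈ F R ι k := by simpa using Submodule.neg_mem _ h1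
      exact ih m h2 h0
  intro m hm
  obtain ⟨k, hk⟩ := F_top m
  exact key k m hk hm

theorem Psi_surjective : Function.Surjective (Psi b φ) := by
  have key : ∀ k, F R ι k ≤ LinearMap.range (Psi b φ) := by
    intro k
    induction k with
    | zero =>
      intro m hm
      exact ⟨m, Psi_eq_of_mem_F_zero b φ m hm⟩
    | succ k ih =>
      intro m hm
      have h1 := ih (Psi_sub_mem_F b φ k m hm)
      have h2 : Psi b φ m ∈ LinearMap.range (Psi b φ) := ⟨m, rfl⟩
      have := Submodule.sub_mem _ h2 h1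
      rwa [sub_sub_cancel] at this
  intro m
  obtain ⟨k, hk⟩ := F_top m
  exact key k hk

/-! ### The shift relation -/

/-- multiplication by `X_i^p` on monomials -/
noncomputable def shift (R : Type u) [CommRing R] (p : ℕ) (i : ι) : Mod R ι →ₗ[R] Mod R ι :=
  Finsupp.lmapDomain R R (· + single i p)

theorem shift_mono (i : ι) (γ : ι →₀ ℕ) : shift R p i (mono R γ) = mono R (γ + single i p) := by
  unfold shift mono
  rw [Finsupp.lmapDomain_apply, Finsupp.mapDomain_single]

theorem qpart_add_single (i : ι) (γ : ι →₀ ℕ) : qpart p (γ + single i p) = qpart p γ + single i 1 := by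
  ext j
  rw [qpart_apply, Finsupp.add_apply, Finsupp.add_apply, qpart_apply]
  by_cases hj : i = j
  · subst hj
    rw [Finsupp.single_eq_same, Finsupp.single_eq_same, Nat.add_div_right _ hp.out.pos]
  · rw [Finsupp.single_eq_of_ne (Ne.symm hj), Finsupp.single_eq_of_ne (Ne.symm hj), add_zero, add_zero]

theorem rpart_add_single (i : ι) (γ : ι →₀ ℕ) : rpart p (γ + single i p) = rpart p γ := by
  ext j
  rw [rpart_apply, Finsupp.add_apply, rpart_apply]
  by_cases hj : i = j
  · subst hj
    rw [Finsupp.single_eq_same, Nat.add_mod_right]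
  · rw [Finsupp.single_eq_of_ne (Ne.symm hj), add_zero]

theorem Psi_shift (i : ι) (m : Mod R ι) : Psi b φ (shift R p i m) = z b φ i (Psi b φ m) := by
  have : (Psi b φ).comp (shift R p i) = (z b φ i).comp (Psi b φ) := by
    refine Finsupp.lhom_ext' fun γ => LinearMap.ext_ring ?_
    simp only [LinearMap.coe_comp, Function.comp_apply, Finsupp.lsingle_apply]
    change Psi b φ (shift R p i (mono R γ)) = z b φ i (Psi b φ (mono R γ))
    rw [shift_mono, Psi_mono, Psi_mono, qpart_add_single, rpart_add_single, add_comm, zmon_add,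
      zmon_single]
    rfl
  exact LinearMap.congr_fun this m

/-! ### The decomposition `M = N ⊕ Rs` -/

/-- the submodule `N = Σ range (z i)` -/
noncomputable def N : Submodule R (Mod R ι) := ⨆ i, LinearMap.range (z b φ i)

/-- span of restricted monomials -/
noncomputable def Rs (R : Type u) [CommRing R] (ι : Type w) (p : ℕ) : Submodule R (Mod R ι) :=
  Finsupp.supported R R {γ : ι →₀ ℕ | Restr p γ}

/-- span of the non-restricted monomials -/
noncomputable def Irr (R : Type u) [CommRing R] (ι : Type w) (p : ℕ) : Submodule R (Mod R ι) :=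
  Finsupp.supported R R {γ : ι →₀ ℕ | ¬ Restr p γ}

theorem Rs_inf_Irr : Rs R ι p ⊓ Irr R ι p = ⊥ := by
  unfold Rs Irr
  rw [← _root_.disjoint_iff]
  apply Finsupp.disjoint_supported_supported
  rw [Set.disjoint_left]
  intro γ h1 h2
  exact h2 h1

theorem Rs_sup_Irr : Rs R ι p ⊔ Irr R ι p = ⊤ := by
  unfold Rs Irr
  rw [← Finsupp.supported_union]
  have : {γ : ι →₀ ℕ | Restr p γ} ∪ {γ | ¬ Restr p γ} = Set.univ := by
    ext γ; simp [em]
  rw [this, Finsupp.supported_univ]

theorem Psi_eq_of_mem_Rs : ∀ m ∈ Rs R ι p, Psi b φ m = m := by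
  intro m hm
  unfold Rs at hm
  rw [Finsupp.supported_eq_span_single] at hm
  induction hm using Submodule.span_induction with
  | mem m hm =>
    obtain ⟨γ, hγ, rfl⟩ := hm
    exact Psi_mono_of_restr b φ hγ
  | zero => simp
  | add m m' _ _ h1 h2 => rw [map_add, h1, h2]
  | smul c m _ h1 => rw [map_smul, h1]

theorem Psi_mem_N_of_mem_Irr : ∀ m ∈ Irr R ι p, Psi b φ m ∈ N b φ := by
  intro m hm
  unfold Irr at hm
  rw [Finsupp.supported_eq_span_single] at hm
  induction hm using Submodule.span_induction with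
  | mem m hm =>
    obtain ⟨γ, hγ, rfl⟩ := hm
    have hγ' : ¬ Restr p γ := hγ
    unfold Restr at hγ'
    push Not at hγ'
    obtain ⟨i, hi⟩ := hγ'
    have hsplit : γ = (γ - single i p) + single i p := by
      rw [tsub_add_cancel_of_le]
      rw [Finsupp.single_le_iff]
      exact hi
    change Psi b φ (mono R γ) ∈ _
    rw [hsplit, ← shift_mono, Psi_shift]
    exact (le_iSup (fun i => LinearMap.range (z b φ i)) i) ⟨_, rfl⟩
  | zero => simp
  | add m m' _ _ h1 h2 => rw [map_add]; exact Submodule.add_mem _ h1 h2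
  | smul c m _ h1 => rw [map_smul]; exact Submodule.smul_mem _ _ h1

theorem shift_mem_Irr (i : ι) (m : Mod R ι) : shift R p i m ∈ Irr R ι p := by
  unfold Irr shift
  rw [Finsupp.mem_supported]
  intro γ hγ
  have h1 := Finsupp.mapDomain_support hγ
  obtain ⟨γ', -, rfl⟩ := Finset.mem_image.mp h1
  intro h
  have := h i
  simp only [Finsupp.add_apply, Finsupp.single_eq_same] at this
  omega

theorem N_le : N b φ ≤ Submodule.map (Psi b φ) (Irr R ι p) := by
  unfold N
  refine iSup_le fun i => ?_
  rintro _ ⟨m, rfl⟩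
  obtain ⟨m', rfl⟩ := Psi_surjective b φ m
  rw [← Psi_shift]
  exact ⟨_, shift_mem_Irr i m', rfl⟩

theorem N_inf_Rs : N b φ ⊓ Rs R ι p = ⊥ := by
  rw [eq_bot_iff]
  rintro x ⟨h1, h2⟩
  obtain ⟨a, ha, rfl⟩ := N_le b φ h1
  have h3 : Psi b φ (Psi b φ a) = Psi b φ a := Psi_eq_of_mem_Rs b φ _ h2
  have h4 : Psi b φ a = a := Psi_injective b φ h3
  rw [h4] at h2 ⊢
  have : a ∈ Rs R ι p ⊓ Irr R ι p := ⟨h2, ha⟩
  rw [Rs_inf_Irr] at this
  exact this

theorem N_sup_Rs : N b φ ⊔ Rs R ι p = ⊤ := by
  rw [eq_top_iff]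
  intro m _
  obtain ⟨m', rfl⟩ := Psi_surjective b φ m
  have h1 : m' ∈ Rs R ι p ⊔ Irr R ι p := by rw [Rs_sup_Irr]; trivial
  obtain ⟨r, hr, a, ha, rfl⟩ := Submodule.mem_sup.mp h1
  rw [map_add, add_comm]
  refine Submodule.add_mem_sup (Psi_mem_N_of_mem_Irr b φ a ha) ?_
  rw [Psi_eq_of_mem_Rs b φ r hr]
  exact hr

end Groth.Agent.Lib.Helper66.RPBW
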