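import Mathlib
import Groth.Prelude.Def_PLie
import Groth.Agent.Lib.Helper66.RPBW

/-!
# The restricted universal enveloping algebra (helper66)

`RU b φ = U(L) ⧸ (b_i^p - φ(b_i))` for a restricted Lie algebra `(L, φ)` free over `R` with ordered basis `b`.
Evaluation at the vacuum identifies it with `M ⧸ N`, hence with the span of the restricted monomials.
-/

set_option autoImplicit false
universe u v w

namespace Groth.Agent.Lib.Helper66.RPBW

open Finsupp PLie Groth.Agent.Lib.Helper66.PBW Groth.Agent.Lib.Helper66.PLieBasic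
  Groth.Agent.Lib.Helper66.JacobsonThm

attribute [local instance] LieRing.ofAssociativeRing

variable {R : Type u} [CommRing R] {p : ℕ} [hp : Fact p.Prime] [CharP R p]
  {L : Type v} [LieRing L] [LieAlgebra R L] {ι : Type w} [LinearOrder ι]
  (b : Module.Basis ι R L) (φ : PMap R p L)

local notation "𝔘" => UniversalEnvelopingAlgebra R L
local notation "ιU" => UniversalEnvelopingAlgebra.ι R

/-! ### `ev` is bijective -/

/-- the sorted list of an exponent vector -/
noncomputable def sortL (γ : ι →₀ ℕ) : List ι := (Finsupp.toMultiset γ).sort (· ≤ ·)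

theorem sortL_pairwise (γ : ι →₀ ℕ) : (sortL γ).Pairwise (· ≤ ·) := Multiset.pairwise_sort _ _

theorem toMono_sortL (γ : ι →₀ ℕ) : toMono (sortL γ) = γ := by
  classical
  ext k
  rw [toMono_apply, ← Multiset.coe_count, sortL, Multiset.sort_eq, Finsupp.count_toMultiset]

theorem ev_prodList_sortL (γ : ι →₀ ℕ) : ev b (prodList b (sortL γ)) = mono R γ := by
  rw [ev_apply, rhoAlg_prodList_of_sorted b (sortL_pairwise γ), toMono_sortL]

theorem ev_surjective : Function.Surjective (ev (R := R) b) := by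
  intro m
  have : m ∈ Submodule.span R (Set.range fun γ : ι →₀ ℕ => mono R γ) := by
    have := (Finsupp.basisSingleOne (R := R) (ι := ι →₀ ℕ)).span_eq
    rw [Finsupp.coe_basisSingleOne] at this
    change Submodule.span R (Set.range fun γ : ι →₀ ℕ => single γ (1 : R)) = ⊤ at this
    unfold mono
    rw [this]; trivial
  induction this using Submodule.span_induction with
  | mem m hm =>
    obtain ⟨γ, rfl⟩ := hm
    exact ⟨_, ev_prodList_sortL b γ⟩
  | zero => exact ⟨0, map_zero _⟩
  | add m m' _ _ h1 h2 =>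
    obtain ⟨a, rfl⟩ := h1
    obtain ⟨a', rfl⟩ := h2
    exact ⟨a + a', map_add _ _ _⟩
  | smul c m _ h1 =>
    obtain ⟨a, rfl⟩ := h1
    exact ⟨c • a, map_smul _ _ _⟩

theorem ev_injective : Function.Injective (ev (R := R) b) := by
  have hinj : Function.Injective (fun l : {l : List ι // l.Pairwise (· ≤ ·)} => toMono l.1) :=
    fun l l' h => Subtype.ext (toMono_injOn l.2 l'.2 h)
  have hli := (Finsupp.basisSingleOne (R := R) (ι := ι →₀ ℕ)).linearIndependent.comp _ hinj
  have hli' : LinearIndependent R (fun l : {l : List ι // l.Pairwise (· ≤ ·)} => ev b (pbwBasis b l)) := by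
    convert hli using 1
    funext l
    simp only [Function.comp_apply, ev_apply, Finsupp.coe_basisSingleOne, pbwBasis_apply]
    rw [rhoAlg_prodList_of_sorted b l.2]
    rfl
  rw [← LinearMap.ker_eq_bot, LinearMap.ker_eq_bot']
  intro y hy
  have h1 : y = Finsupp.linearCombination R (pbwBasis b) ((pbwBasis b).repr y) :=
    ((pbwBasis b).linearCombination_repr y).symm
  rw [h1, Finsupp.apply_linearCombination] at hy
  have h2 := (linearIndependent_iff.mp hli') _ hy
  rw [h1, h2, map_zero]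

/-! ### The central elements `ζ i` -/

/-- `ζ i = b_i^p - φ(b_i)` in the enveloping algebra -/
noncomputable def zeta (i : ι) : 𝔘 := ιU (b i) ^ p - ιU (φ (b i))

theorem rhoAlg_zeta (i : ι) : rhoAlg b (zeta b φ i) = z b φ i := by
  unfold zeta z
  rw [map_sub, map_pow, rhoAlg_ι, rhoAlg_ι]

theorem zeta_comm_ι (i : ι) (x : L) : zeta b φ i * ιU x = ιU x * zeta b φ i := by
  have h1 := ad_pow_char (R := R) (p := p) (ιU (b i)) (ιU x)
  rw [ad_pow_map (ιU) (b i) x p, ← φ.ad_map (b i), LieAlgebra.ad_apply, LieHom.map_lie,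
    LieRing.of_associative_ring_bracket] at h1
  have h3 : φ.toFun (b i) = φ (b i) := rfl
  rw [h3] at h1
  unfold zeta
  rw [sub_mul, mul_sub]
  rw [sub_eq_iff_eq_add] at h1 ⊢
  rw [h1]
  abel

theorem zeta_central (i : ι) (y : 𝔘) : zeta b φ i * y = y * zeta b φ i := by
  have h : Subalgebra.centralizer R {zeta b φ i} = ⊤ := by
    apply subalgebra_eq_top_of_ι_mem
    intro x
    rw [Subalgebra.mem_centralizer_iff]
    intro g hg
    rw [Set.mem_singleton_iff] at hg
    subst hg
    exact zeta_comm_ι b φ i x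
  have hy : y ∈ Subalgebra.centralizer R {zeta b φ i} := by rw [h]; trivial
  rw [Subalgebra.mem_centralizer_iff] at hy
  exact hy _ rfl

/-- the ideal generated by the `ζ i` -/
noncomputable def Irel : Ideal 𝔘 := Ideal.span (Set.range (zeta b φ))

instance : (Irel b φ).IsTwoSided := by
  refine ⟨fun {a} c ha => ?_⟩
  unfold Irel at ha ⊢
  induction ha using Submodule.span_induction with
  | mem a ha =>
    obtain ⟨i, rfl⟩ := ha
    rw [zeta_central]
    exact Ideal.mul_mem_left _ _ (Ideal.subset_span ⟨i, rfl⟩)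
  | zero => rw [zero_mul]; exact Ideal.zero_mem _
  | add a a' _ _ h1 h2 => rw [add_mul]; exact Ideal.add_mem _ h1 h2
  | smul d a _ h1 => rw [smul_eq_mul, mul_assoc]; exact Ideal.mul_mem_left _ _ h1

theorem zeta_mem (i : ι) : zeta b φ i ∈ Irel b φ := Ideal.subset_span ⟨i, rfl⟩

/-- the restricted enveloping algebra -/
abbrev RU : Type (max u v) := 𝔘 ⧸ Irel b φ

/-- the projection `U(L) → u(L)` -/
noncomputable def proj : 𝔘 →ₐ[R] RU b φ := Ideal.Quotient.mkₐ R (Irel b φ)

theorem proj_surjective : Function.Surjective (proj b φ) := Ideal.Quotient.mkₐ_surjective R _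

theorem proj_eq_zero_iff (y : 𝔘) : proj b φ y = 0 ↔ y ∈ Irel b φ := Ideal.Quotient.eq_zero_iff_mem

theorem proj_zeta (i : ι) : proj b φ (zeta b φ i) = 0 := (proj_eq_zero_iff b φ _).mpr (zeta_mem b φ i)

/-! ### `N` is stable and `ev` descends -/

theorem rhoAlg_comm_z (y : 𝔘) (i : ι) (m : Mod R ι) : rhoAlg b y (z b φ i m) = z b φ i (rhoAlg b y m) := by
  rw [← rhoAlg_zeta, ← Module.End.mul_apply, ← Module.End.mul_apply, ← map_mul, ← map_mul, zeta_central]

theorem rhoAlg_mem_N (y : 𝔘) : ∀ m ∈ N b φ, rhoAlg b y m ∈ N b φ := by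
  intro m hm
  unfold N at hm ⊢
  induction hm using Submodule.iSup_induction' with
  | mem i m hm =>
    obtain ⟨m', rfl⟩ := hm
    rw [rhoAlg_comm_z]
    exact (le_iSup (fun i => LinearMap.range (z b φ i)) i) ⟨_, rfl⟩
  | zero => rw [map_zero]; exact Submodule.zero_mem _
  | add m m' _ _ h1 h2 => rw [map_add]; exact Submodule.add_mem _ h1 h2

theorem ev_mul (y y' : 𝔘) : ev b (y * y') = rhoAlg b y (ev b y') := by
  rw [ev_apply, ev_apply, map_mul, Module.End.mul_apply]

theorem ev_mem_N_of_mem_Irel : ∀ a ∈ Irel b φ, ev b a ∈ N b φ := by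
  intro a ha
  unfold Irel at ha
  induction ha using Submodule.span_induction with
  | mem a ha =>
    obtain ⟨i, rfl⟩ := ha
    rw [ev_apply, rhoAlg_zeta]
    exact (le_iSup (fun i => LinearMap.range (z b φ i)) i) ⟨_, rfl⟩
  | zero => rw [map_zero]; exact Submodule.zero_mem _
  | add a a' _ _ h1 h2 => rw [map_add]; exact Submodule.add_mem _ h1 h2
  | smul d a _ h1 => rw [smul_eq_mul, ev_mul]; exact rhoAlg_mem_N b φ d _ h1

theorem mem_Irel_of_ev_mem_N (y : 𝔘) (hy : ev b y ∈ N b φ) : y ∈ Irel b φ := by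
  have key : N b φ ≤ Submodule.map (ev b) ((Irel b φ).restrictScalars R) := by
    unfold N
    refine iSup_le fun i => ?_
    rintro _ ⟨m, rfl⟩
    obtain ⟨a, rfl⟩ := ev_surjective b m
    refine ⟨zeta b φ i * a, ?_, ?_⟩
    · change zeta b φ i * a ∈ Irel b φ
      exact Ideal.mul_mem_right _ _ (zeta_mem b φ i)
    · rw [ev_mul, rhoAlg_zeta]
  obtain ⟨a, ha, hay⟩ := key hy
  have := ev_injective b hay
  rw [← this]
  exact ha

/-- evaluation at the vacuum, on the restricted enveloping algebra, with values in `M ⧸ N` -/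
noncomputable def evQ : RU b φ →ₗ[R] (Mod R ι ⧸ N b φ) :=
  (Submodule.liftQ ((Irel b φ).restrictScalars R) ((N b φ).mkQ.comp (ev b)) (by
    intro a ha
    rw [LinearMap.mem_ker, LinearMap.comp_apply, Submodule.mkQ_apply, Submodule.Quotient.mk_eq_zero]
    exact ev_mem_N_of_mem_Irel b φ a ha)).comp
  (Submodule.Quotient.restrictScalarsEquiv R (Irel b φ)).symm.toLinearMap

theorem evQ_proj (y : 𝔘) : evQ b φ (proj b φ y) = (N b φ).mkQ (ev b y) := rfl

theorem evQ_injective : Function.Injective (evQ b φ) := by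
  rw [← LinearMap.ker_eq_bot, LinearMap.ker_eq_bot']
  intro y hy
  obtain ⟨y, rfl⟩ := proj_surjective b φ y
  rw [evQ_proj, Submodule.mkQ_apply, Submodule.Quotient.mk_eq_zero] at hy
  exact (proj_eq_zero_iff b φ y).mpr (mem_Irel_of_ev_mem_N b φ y hy)

theorem evQ_surjective : Function.Surjective (evQ b φ) := by
  intro w
  obtain ⟨m, rfl⟩ := (N b φ).mkQ_surjective w
  obtain ⟨y, rfl⟩ := ev_surjective b m
  exact ⟨proj b φ y, evQ_proj b φ y⟩

/-! ### The restricted PBW basis -/

theorem isCompl_N_Rs : IsCompl (N b φ) (Rs R ι p) :=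
  ⟨disjoint_iff.mpr (N_inf_Rs b φ), codisjoint_iff.mpr (N_sup_Rs b φ)⟩

/-- coordinates of the restricted enveloping algebra w.r.t. restricted ordered monomials -/
noncomputable def RUequiv : RU b φ ≃ₗ[R] ({γ : ι →₀ ℕ // Restr p γ} →₀ R) :=
  (LinearEquiv.ofBijective (evQ b φ) ⟨evQ_injective b φ, evQ_surjective b φ⟩) ≪≫ₗ
  (Submodule.quotientEquivOfIsCompl (N b φ) (Rs R ι p) (isCompl_N_Rs b φ)) ≪≫ₗ
  (Finsupp.supportedEquivFinsupp {γ : ι →₀ ℕ | Restr p γ})

/-- the restricted PBW basis -/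
noncomputable def rbasis : Module.Basis {γ : ι →₀ ℕ // Restr p γ} R (RU b φ) :=
  Module.Basis.ofRepr (RUequiv b φ)

theorem evQ_rbasis (γ : {γ : ι →₀ ℕ // Restr p γ}) :
    evQ b φ (rbasis b φ γ) = (N b φ).mkQ (mono R γ.1) := by
  unfold rbasis RUequiv
  rw [Module.Basis.coe_ofRepr]
  simp only [LinearEquiv.trans_symm, LinearEquiv.trans_apply]
  rw [LinearEquiv.apply_ofBijective_symm_apply, Submodule.quotientEquivOfIsCompl_symm_apply]
  have : ((Finsupp.supportedEquivFinsupp (R := R) (M := R) {γ : ι →₀ ℕ | Restr p γ}).symm (single γ 1) :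
      (ι →₀ ℕ) →₀ R) = single γ.1 1 :=
    Finsupp.supportedEquivFinsupp_symm_single (R := R) (M := R) {γ : ι →₀ ℕ | Restr p γ} γ 1
  exact congrArg (Submodule.Quotient.mk (p := N b φ)) this

theorem rbasis_eq (γ : {γ : ι →₀ ℕ // Restr p γ}) :
    rbasis b φ γ = proj b φ (prodList b (sortL γ.1)) := by
  apply evQ_injective b φ
  rw [evQ_rbasis, evQ_proj, ev_prodList_sortL]

instance [Finite ι] : Finite {γ : ι →₀ ℕ // Restr p γ} := by
  haveI : NeZero p := ⟨hp.out.ne_zero⟩
  refine Finite.of_injective (fun γ : {γ : ι →₀ ℕ // Restr p γ} => fun i : ι => (⟨γ.1 i, γ.2 i⟩ : Fin p)) ?_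
  intro γ γ' h
  apply Subtype.ext
  ext i
  have := congrFun h i
  exact Fin.mk.inj_iff.mp this

instance [Finite ι] : Module.Finite R (RU b φ) := Module.Finite.of_basis (rbasis b φ)

instance : Module.Free R (RU b φ) := Module.Free.of_basis (rbasis b φ)

/-! ### The canonical map `L → u(L)` -/

/-- the canonical Lie algebra map `L → u(L)` -/
noncomputable def ιu : L →ₗ⁅R⁆ RU b φ := ((proj b φ : 𝔘 →ₐ[R] RU b φ) : 𝔘 →ₗ⁅R⁆ RU b φ).comp ιU

theorem ιu_apply (x : L) : ιu b φ x = proj b φ (ιU x) := rfl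

theorem rho_vac_mem_Rs (x : L) : rho b x (mono R 0) ∈ Rs R ι p := by
  rw [rho_vac]
  unfold Rs
  rw [Finsupp.mem_supported]
  intro γ hγ
  have h1 := Finsupp.mapDomain_support hγ
  obtain ⟨i, -, rfl⟩ := Finset.mem_image.mp h1
  intro j
  by_cases hj : i = j
  · subst hj; rw [Finsupp.single_eq_same]; exact hp.out.one_lt
  · rw [Finsupp.single_eq_of_ne (Ne.symm hj)]; exact hp.out.pos

theorem ιu_injective : Function.Injective (ιu b φ) := by
  rw [injective_iff_map_eq_zero]
  intro x hx'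
  have h1 : evQ b φ (ιu b φ x) = 0 := by rw [hx', map_zero]
  rw [ιu_apply, evQ_proj, ev_apply, rhoAlg_ι, rhoLie_apply, Submodule.mkQ_apply,
    Submodule.Quotient.mk_eq_zero] at h1
  have h2 : rho b x (mono R 0) ∈ N b φ ⊓ Rs R ι p := ⟨h1, rho_vac_mem_Rs b x⟩
  rw [N_inf_Rs, Submodule.mem_bot, rho_vac] at h2
  have hinj1 : Function.Injective (fun i : ι => (single i 1 : ι →₀ ℕ)) :=
    fun i j h => Finsupp.single_left_injective (one_ne_zero (α := ℕ)) h
  have h5 : b.repr x = 0 := by
    apply Finsupp.mapDomain_injective hinj1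
    rw [h2, Finsupp.mapDomain_zero]
  exact b.repr.map_eq_zero_iff.mp h5

theorem ιu_pow_basis (i : ι) : ιu b φ (b i) ^ p = ιu b φ (φ (b i)) := by
  have := proj_zeta b φ i
  unfold zeta at this
  rw [map_sub, map_pow, sub_eq_zero] at this
  exact this

/-- the `p`-th power in `u(L)` of the image of `x` is the image of `φ x` -/
theorem ιu_pow (x : L) : ιu b φ x ^ p = ιu b φ (φ x) := by
  obtain ⟨φ', h1, h2⟩ := exists_pmap_of_assoc (p := p) (ιu b φ) (⊥ : Submodule R (RU b φ))
    (fun ζ hζ x => by rw [(Submodule.mem_bot R).mp hζ, zero_mul, mul_zero])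
    (fun x hx => by
      have h0 : ιu b φ x = ιu b φ 0 := by rw [(Submodule.mem_bot R).mp hx, map_zero]
      exact ιu_injective b φ h0)
    b b.span_eq (fun i => φ (b i))
    (fun i => by rw [ιu_pow_basis, sub_self]; exact Submodule.zero_mem _)
  have h3 : φ' = φ := pmap_ext_of_span φ' φ b b.span_eq h1
  have h4 := (Submodule.mem_bot R).mp (h2 x)
  rw [sub_eq_zero, h3] at h4
  exact h4

end Groth.Agent.Lib.Helper66.RPBW
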