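import Mathlib
import Groth.Prelude.Def_PLie
import Groth.Agent.Lib.Helper66.RUEA

/-!
# The Hopf algebra structure on the restricted enveloping algebra (helper66)
-/

set_option autoImplicit false
universe u v w

namespace Groth.Agent.Lib.Helper66.RPBW

open Finsupp PLie Groth.Agent.Lib.Helper66.PBW Groth.Agent.Lib.Helper66.PLieBasic
  Groth.Agent.Lib.Helper66.JacobsonThm TensorProduct

attribute [local instance] LieRing.ofAssociativeRing

variable {R : Type u} [CommRing R] {p : ℕ} [hp : Fact p.Prime] [CharP R p]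
  {L : Type v} [LieRing L] [LieAlgebra R L] {ι : Type w} [LinearOrder ι]
  (b : Module.Basis ι R L) (φ : PMap R p L)

local notation "𝔘" => UniversalEnvelopingAlgebra R L
local notation "ιU" => UniversalEnvelopingAlgebra.ι R

/-! ### Universal property -/

theorem RU_algHom_ext {A : Type*} [Ring A] [Algebra R A] (f g : RU b φ →ₐ[R] A)
    (h : ∀ x : L, f (ιu b φ x) = g (ιu b φ x)) : f = g := by
  apply Ideal.Quotient.algHom_ext
  apply UniversalEnvelopingAlgebra.hom_ext
  ext x
  exact h x

/-- the universal property of the restricted enveloping algebra -/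
noncomputable def RUlift {A : Type*} [Ring A] [Algebra R A] (f : L →ₗ⁅R⁆ A)
    (hf : ∀ i, f (b i) ^ p = f (φ (b i))) : RU b φ →ₐ[R] A :=
  Ideal.Quotient.liftₐ (Irel b φ) (UniversalEnvelopingAlgebra.lift R f) (by
    intro a ha
    unfold Irel at ha
    induction ha using Submodule.span_induction with
    | mem a ha =>
      obtain ⟨i, rfl⟩ := ha
      unfold zeta
      rw [map_sub, map_pow, UniversalEnvelopingAlgebra.lift_ι_apply,
        UniversalEnvelopingAlgebra.lift_ι_apply, hf, sub_self]
    | zero => rw [map_zero]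
    | add a a' _ _ h1 h2 => rw [map_add, h1, h2, add_zero]
    | smul d a _ h1 => rw [smul_eq_mul, map_mul, h1, mul_zero])

theorem RUlift_ιu {A : Type*} [Ring A] [Algebra R A] (f : L →ₗ⁅R⁆ A)
    (hf : ∀ i, f (b i) ^ p = f (φ (b i))) (x : L) : RUlift b φ f hf (ιu b φ x) = f x := by
  unfold RUlift
  rw [ιu_apply]
  change Ideal.Quotient.liftₐ (Irel b φ) _ _ (Ideal.Quotient.mk _ _) = _
  rw [Ideal.Quotient.liftₐ_apply, Ideal.Quotient.lift_mk]
  exact UniversalEnvelopingAlgebra.lift_ι_apply R f x

/-- in an `R`-algebra, `p`-th powers are additive on commuting elements -/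
theorem add_pow_of_commute {A : Type*} [Ring A] [Algebra R A] {x y : A} (h : Commute x y) :
    (x + y) ^ p = x ^ p + y ^ p := by
  obtain ⟨r, hr⟩ := h.exists_add_pow_prime_eq hp.out
  rw [hr, Jacobson.natCast_eq_zero_of_charP R p A]
  simp

theorem neg_pow_char {A : Type*} [Ring A] [Algebra R A] (x : A) : (-x) ^ p = - x ^ p := by
  have h1 : ((-1 : A)) ^ p = -1 := by
    have h2 := Jacobson.neg_one_pow_pred (B := A) (p := p) (Jacobson.natCast_eq_zero_of_charP R p A)
    have : p = (p - 1) + 1 := by have := hp.out.pos; omega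
    rw [this, pow_succ, h2, one_mul]
  rw [neg_pow, h1, neg_one_mul]

/-! ### Comultiplication and counit -/

/-- `x ↦ x ⊗ 1 + 1 ⊗ x` -/
noncomputable def comulLie : L →ₗ⁅R⁆ (RU b φ ⊗[R] RU b φ) :=
  { toFun := fun x => ιu b φ x ⊗ₜ[R] 1 + 1 ⊗ₜ[R] ιu b φ x
    map_add' := fun x y => by rw [map_add, add_tmul, tmul_add]; abel
    map_smul' := fun c x => by
      rw [map_smul, RingHom.id_apply, smul_add, smul_tmul', tmul_smul]
    map_lie' := by
      intro x y
      rw [LieHom.map_lie, LieRing.of_associative_ring_bracket, LieRing.of_associative_ring_bracket]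
      simp only [add_mul, mul_add, Algebra.TensorProduct.tmul_mul_tmul, one_mul, mul_one, sub_tmul,
        tmul_sub]
      abel }

theorem comulLie_apply (x : L) : comulLie b φ x = ιu b φ x ⊗ₜ[R] 1 + 1 ⊗ₜ[R] ιu b φ x := rfl

theorem comulLie_pow (x : L) : comulLie b φ x ^ p = comulLie b φ (φ x) := by
  rw [comulLie_apply, comulLie_apply]
  have hc : Commute (ιu b φ x ⊗ₜ[R] (1 : RU b φ)) ((1 : RU b φ) ⊗ₜ[R] ιu b φ x) := by
    change _ * _ = _ * _
    simp only [Algebra.TensorProduct.tmul_mul_tmul, one_mul, mul_one]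
  rw [add_pow_of_commute (R := R) hc, Algebra.TensorProduct.tmul_pow, Algebra.TensorProduct.tmul_pow,
    one_pow, ιu_pow]

/-- the comultiplication of the restricted enveloping algebra -/
noncomputable def comulAlg : RU b φ →ₐ[R] RU b φ ⊗[R] RU b φ :=
  RUlift b φ (comulLie b φ) fun i => comulLie_pow b φ (b i)

theorem comulAlg_ιu (x : L) : comulAlg b φ (ιu b φ x) = ιu b φ x ⊗ₜ[R] 1 + 1 ⊗ₜ[R] ιu b φ x :=
  RUlift_ιu b φ _ _ x

/-- the counit of the restricted enveloping algebra -/
noncomputable def counitAlg : RU b φ →ₐ[R] R :=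
  RUlift b φ (0 : L →ₗ⁅R⁆ R) fun i => by
    rw [LieHom.zero_apply, LieHom.zero_apply, zero_pow hp.out.ne_zero]

theorem counitAlg_ιu (x : L) : counitAlg b φ (ιu b φ x) = 0 := RUlift_ιu b φ _ _ x

noncomputable instance instBialgebraRU : Bialgebra R (RU b φ) :=
  Bialgebra.ofAlgHom (comulAlg b φ) (counitAlg b φ)
    (by
      apply RU_algHom_ext
      intro x
      simp only [AlgHom.coe_comp, Function.comp_apply,
        comulAlg_ιu, map_add, Algebra.TensorProduct.map_tmul, AlgHom.coe_id, id_eq, map_one,
        Algebra.TensorProduct.one_def, add_tmul, tmul_add]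
      abel)
    (by
      apply RU_algHom_ext
      intro x
      simp only [AlgHom.coe_comp, Function.comp_apply, comulAlg_ιu, map_add,
        Algebra.TensorProduct.map_tmul, AlgHom.coe_id, id_eq, map_one, counitAlg_ιu, zero_tmul, zero_add]
      rfl)
    (by
      apply RU_algHom_ext
      intro x
      simp only [AlgHom.coe_comp, Function.comp_apply, comulAlg_ιu, map_add,
        Algebra.TensorProduct.map_tmul, AlgHom.coe_id, id_eq, map_one, counitAlg_ιu, tmul_zero, add_zero]
      rfl)

theorem comul_ιu (x : L) :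
    Coalgebra.comul (R := R) (ιu b φ x) = ιu b φ x ⊗ₜ[R] 1 + 1 ⊗ₜ[R] ιu b φ x := comulAlg_ιu b φ x

theorem counit_ιu (x : L) : Coalgebra.counit (R := R) (ιu b φ x) = 0 := counitAlg_ιu b φ x

/-! ### Induction principles -/

theorem proj_prodList_cons (i : ι) (l : List ι) :
    proj b φ (prodList b (i :: l)) = ιu b φ (b i) * proj b φ (prodList b l) := by
  rw [prodList_cons, map_mul]; rfl

theorem proj_prodList_concat (l : List ι) (i : ι) :
    proj b φ (prodList b (l ++ [i])) = proj b φ (prodList b l) * ιu b φ (b i) := by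
  rw [prodList_append, map_mul, prodList_cons, prodList_nil, mul_one]; rfl

theorem span_proj_prodList :
    Submodule.span R (Set.range fun l : List ι => proj b φ (prodList b l)) = ⊤ := by
  rw [eq_top_iff]
  intro y hytop
  clear hytop
  obtain ⟨y, rfl⟩ := proj_surjective b φ y
  have hy : y ∈ Submodule.span R
      (Set.range fun l : {l : List ι // l.Pairwise (· ≤ ·)} => prodList (R := R) b l.1) :=
    span_prodList_eq_top b trivial
  induction hy using Submodule.span_induction with
  | mem y hy =>
    obtain ⟨l, rfl⟩ := hy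
    exact Submodule.subset_span ⟨l.1, rfl⟩
  | zero => rw [map_zero]; exact Submodule.zero_mem _
  | add y y' _ _ h1 h2 => rw [map_add]; exact Submodule.add_mem _ h1 h2
  | smul c y _ h1 => rw [map_smul]; exact Submodule.smul_mem _ _ h1

/-- two linear maps on `u(L)` agreeing at `1` and on all `x * y` (`x ∈ L`) agree -/
theorem RU_linearMap_ext_left {V : Type*} [AddCommGroup V] [Module R V] (f g : RU b φ →ₗ[R] V)
    (h1 : f 1 = g 1) (h2 : ∀ (x : L) (y : RU b φ), f (ιu b φ x * y) = g (ιu b φ x * y)) : f = g := by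
  apply LinearMap.ext_on (span_proj_prodList b φ)
  rintro _ ⟨l, rfl⟩
  cases l with
  | nil => simp only []; rw [prodList_nil, map_one]; exact h1
  | cons i l => simp only []; rw [proj_prodList_cons]; exact h2 _ _

/-- two linear maps on `u(L)` agreeing at `1` and on all `y * x` (`x ∈ L`) agree -/
theorem RU_linearMap_ext_right {V : Type*} [AddCommGroup V] [Module R V] (f g : RU b φ →ₗ[R] V)
    (h1 : f 1 = g 1) (h2 : ∀ (x : L) (y : RU b φ), f (y * ιu b φ x) = g (y * ιu b φ x)) : f = g := by
  apply LinearMap.ext_on (span_proj_prodList b φ)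
  rintro _ ⟨l, rfl⟩
  rcases List.eq_nil_or_concat l with rfl | ⟨l', i, rfl⟩
  · simp only []; rw [prodList_nil, map_one]; exact h1
  · simp only []; rw [List.concat_eq_append, proj_prodList_concat]; exact h2 _ _

/-! ### The antipode -/

/-- `x ↦ op (-x)` -/
noncomputable def antipodeLie : L →ₗ⁅R⁆ (RU b φ)ᵐᵒᵖ :=
  { toFun := fun x => MulOpposite.op (- ιu b φ x)
    map_add' := fun x y => by rw [map_add, neg_add, MulOpposite.op_add]
    map_smul' := fun c x => by rw [map_smul, RingHom.id_apply, ← smul_neg, MulOpposite.op_smul]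
    map_lie' := by
      intro x y
      rw [LieHom.map_lie, LieRing.of_associative_ring_bracket, LieRing.of_associative_ring_bracket,
        ← MulOpposite.op_mul, ← MulOpposite.op_mul, ← MulOpposite.op_sub]
      congr 1
      simp only [neg_mul, mul_neg, neg_neg]
      abel }

theorem antipodeLie_apply (x : L) : antipodeLie b φ x = MulOpposite.op (- ιu b φ x) := rfl

/-- the antipode as an algebra map to the opposite algebra -/
noncomputable def antipodeAlg : RU b φ →ₐ[R] (RU b φ)ᵐᵒᵖ :=
  RUlift b φ (antipodeLie b φ) fun i => by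
    rw [antipodeLie_apply, antipodeLie_apply, ← MulOpposite.op_pow, neg_pow_char (R := R), ιu_pow]

/-- the antipode -/
noncomputable def antipodeLin : RU b φ →ₗ[R] RU b φ :=
  (MulOpposite.opLinearEquiv R).symm.toLinearMap ∘ₗ (antipodeAlg b φ).toLinearMap

theorem antipodeLin_apply (y : RU b φ) : antipodeLin b φ y = MulOpposite.unop (antipodeAlg b φ y) := rfl

theorem antipodeLin_ιu (x : L) : antipodeLin b φ (ιu b φ x) = - ιu b φ x := by
  rw [antipodeLin_apply]
  unfold antipodeAlg
  rw [RUlift_ιu, antipodeLie_apply, MulOpposite.unop_op]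

theorem antipodeLin_mul (y y' : RU b φ) :
    antipodeLin b φ (y * y') = antipodeLin b φ y' * antipodeLin b φ y := by
  rw [antipodeLin_apply, antipodeLin_apply, antipodeLin_apply, map_mul, MulOpposite.unop_mul]

theorem antipodeLin_one : antipodeLin b φ 1 = 1 := by
  rw [antipodeLin_apply, map_one, MulOpposite.unop_one]

theorem antipode_left_aux (x : L) (t : RU b φ ⊗[R] RU b φ) :
    LinearMap.mul' R (RU b φ) ((antipodeLin b φ).rTensor (RU b φ)
      ((ιu b φ x ⊗ₜ[R] 1 + 1 ⊗ₜ[R] ιu b φ x) * t)) = 0 := by
  induction t using TensorProduct.induction_on with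
  | zero => simp
  | tmul a c =>
    simp only [add_mul, Algebra.TensorProduct.tmul_mul_tmul, one_mul, map_add, LinearMap.rTensor_tmul,
      LinearMap.mul'_apply, antipodeLin_mul, antipodeLin_ιu]
    noncomm_ring
  | add t t' h1 h2 => rw [mul_add, map_add, map_add, h1, h2, add_zero]

theorem antipode_right_aux (x : L) (t : RU b φ ⊗[R] RU b φ) :
    LinearMap.mul' R (RU b φ) ((antipodeLin b φ).lTensor (RU b φ)
      (t * (ιu b φ x ⊗ₜ[R] 1 + 1 ⊗ₜ[R] ιu b φ x))) = 0 := by
  induction t using TensorProduct.induction_on with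
  | zero => simp
  | tmul a c =>
    simp only [mul_add, Algebra.TensorProduct.tmul_mul_tmul, mul_one, map_add, LinearMap.lTensor_tmul,
      LinearMap.mul'_apply, antipodeLin_mul, antipodeLin_ιu]
    noncomm_ring
  | add t t' h1 h2 => rw [add_mul, map_add, map_add, h1, h2, add_zero]

noncomputable instance instHopfAlgebraRU : HopfAlgebra R (RU b φ) where
  antipode := antipodeLin b φ
  mul_antipode_rTensor_comul := by
    apply RU_linearMap_ext_left b φ
    · simp only [LinearMap.coe_comp, Function.comp_apply, Bialgebra.comul_one,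
        Algebra.TensorProduct.one_def, LinearMap.rTensor_tmul, LinearMap.mul'_apply, antipodeLin_one,
        mul_one, Bialgebra.counit_one, Algebra.linearMap_apply, map_one]
    · intro x y
      simp only [LinearMap.coe_comp, Function.comp_apply, Bialgebra.comul_mul, comul_ιu,
        Bialgebra.counit_mul, counit_ιu, zero_mul, map_zero]
      exact antipode_left_aux b φ x _
  mul_antipode_lTensor_comul := by
    apply RU_linearMap_ext_right b φ
    · simp only [LinearMap.coe_comp, Function.comp_apply, Bialgebra.comul_one,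
        Algebra.TensorProduct.one_def, LinearMap.lTensor_tmul, LinearMap.mul'_apply, antipodeLin_one,
        mul_one, Bialgebra.counit_one, Algebra.linearMap_apply, map_one]
    · intro x y
      simp only [LinearMap.coe_comp, Function.comp_apply, Bialgebra.comul_mul, comul_ιu,
        Bialgebra.counit_mul, counit_ιu, mul_zero, map_zero]
      exact antipode_right_aux b φ x _

instance instIsCocommRU : Coalgebra.IsCocomm R (RU b φ) where
  comm_comp_comul := by
    have h : (Algebra.TensorProduct.comm R (RU b φ) (RU b φ)).toAlgHom.comp (comulAlg b φ) = comulAlg b φ := by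
      apply RU_algHom_ext
      intro x
      simp only [AlgHom.coe_comp, Function.comp_apply, comulAlg_ιu, map_add]
      change (Algebra.TensorProduct.comm R (RU b φ) (RU b φ)) _ + (Algebra.TensorProduct.comm R (RU b φ) (RU b φ)) _ = _
      rw [Algebra.TensorProduct.comm_tmul, Algebra.TensorProduct.comm_tmul, add_comm]
    exact congrArg AlgHom.toLinearMap h

end Groth.Agent.Lib.Helper66.RPBW
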