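import Mathlib
import Groth.Prelude.Def_PLie
import Groth.Agent.Lib.Helper66.RUHopf

/-!
# Primitive elements of the restricted enveloping algebra (helper66)

The primitive elements of `u(L)` are exactly the image of `L`.
-/

set_option autoImplicit false
universe u v w

namespace Groth.Agent.Lib.Helper66.RPBW

open Finsupp PLie Groth.Agent.Lib.Helper66.PBW Groth.Agent.Lib.Helper66.PLieBasic
  Groth.Agent.Lib.Helper66.JacobsonThm TensorProduct

attribute [local instance] LieRing.ofAssociativeRing

variable {R : Type u} [CommRing R] {p : ℕ} [hp : Fact p.Prime] [CharP R p]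
  {L : Type v} [LieRing L] [LieAlgebra R L] {ι : Type w} [LinearOrder ι]
  (b : Module.Basis ι R L) (φ : PMap R p L)

/-! ### Splittings of a list -/

/-- all ways of splitting a list into two complementary sublists -/
def splits : List ι → List (List ι × List ι)
  | [] => [([], [])]
  | i :: l => (splits l).map (fun q => (i :: q.1, q.2)) ++ (splits l).map (fun q => (q.1, i :: q.2))

theorem splits_sublist (l : List ι) : ∀ q ∈ splits l, q.1.Sublist l ∧ q.2.Sublist l := by
  induction l with
  | nil =>
    intro q hq
    simp only [splits, List.mem_singleton] at hq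
    subst hq
    exact ⟨List.Sublist.refl _, List.Sublist.refl _⟩
  | cons i l ih =>
    intro q hq
    simp only [splits, List.mem_append, List.mem_map] at hq
    rcases hq with ⟨q', hq', rfl⟩ | ⟨q', hq', rfl⟩
    · exact ⟨(ih q' hq').1.cons_cons i, (ih q' hq').2.cons i⟩
    · exact ⟨(ih q' hq').1.cons i, (ih q' hq').2.cons_cons i⟩

theorem splits_toMono (l : List ι) : ∀ q ∈ splits l, toMono q.1 + toMono q.2 = toMono l := by
  induction l with
  | nil =>
    intro q hq
    simp only [splits, List.mem_singleton] at hq
    subst hq
    simp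
  | cons i l ih =>
    intro q hq
    simp only [splits, List.mem_append, List.mem_map] at hq
    rcases hq with ⟨q', hq', rfl⟩ | ⟨q', hq', rfl⟩
    · simp only [toMono_cons]; rw [add_assoc, ih q' hq']
    · simp only [toMono_cons]; rw [add_left_comm, ih q' hq']

/-- the image in `u(L)` of the monomial of a list -/
noncomputable def P (l : List ι) : RU b φ := proj b φ (prodList b l)

theorem P_nil : P b φ [] = 1 := by unfold P; rw [prodList_nil, map_one]

theorem P_cons (i : ι) (l : List ι) : P b φ (i :: l) = ιu b φ (b i) * P b φ l := proj_prodList_cons b φ i l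

theorem comul_P (l : List ι) :
    Coalgebra.comul (R := R) (P b φ l) = ((splits l).map fun q => P b φ q.1 ⊗ₜ[R] P b φ q.2).sum := by
  induction l with
  | nil => simp [splits, P_nil, Algebra.TensorProduct.one_def]
  | cons i l ih =>
    rw [P_cons, Bialgebra.comul_mul, comul_ιu, ih, splits, List.map_append, List.sum_append,
      List.map_map, List.map_map, add_mul, ← List.sum_map_mul_left, ← List.sum_map_mul_left]
    congr 1
    · congr 1
      apply List.map_congr_left
      intro q _
      simp only [Function.comp_apply, Algebra.TensorProduct.tmul_mul_tmul, one_mul, P_cons]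
    · congr 1
      apply List.map_congr_left
      intro q _
      simp only [Function.comp_apply, Algebra.TensorProduct.tmul_mul_tmul, one_mul, P_cons]

/-- number of splittings with prescribed exponent vector of the first part -/
noncomputable def cnt (R : Type u) [CommRing R] (l : List ι) (α : ι →₀ ℕ) : R :=
  ((splits l).map fun q => if toMono q.1 = α then (1 : R) else 0).sum

theorem cnt_cons (j : ι) (l : List ι) (α : ι →₀ ℕ) :
    cnt R (j :: l) α =
      ((splits l).map fun q => if single j 1 + toMono q.1 = α then (1 : R) else 0).sum + cnt R l α := by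
  unfold cnt
  rw [splits, List.map_append, List.sum_append, List.map_map, List.map_map]
  congr 1

theorem cnt_zero (l : List ι) : cnt R l 0 = 1 := by
  induction l with
  | nil => simp [cnt, splits]
  | cons j l ih =>
    rw [cnt_cons, ih]
    have : ((splits l).map fun q => if single j 1 + toMono q.1 = 0 then (1 : R) else 0) =
        (splits l).map fun _ => (0 : R) := by
      apply List.map_congr_left
      intro q _
      rw [if_neg]
      intro h
      have := congrArg (fun f => f j) h
      simp at this
    rw [this]
    simp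

theorem cnt_single (l : List ι) (i : ι) : cnt R l (single i 1) = (l.count i : R) := by
  induction l with
  | nil =>
    have : (0 : ι →₀ ℕ) ≠ single i 1 := fun h => by
      have := congrArg (fun f => f i) h
      simp at this
    simp [cnt, splits, this]
  | cons j l ih =>
    rw [cnt_cons, ih, List.count_cons]
    have : ((splits l).map fun q => if single j 1 + toMono q.1 = single i 1 then (1 : R) else 0) =
        (splits l).map fun q => if toMono q.1 = 0 then (if j = i then (1 : R) else 0) else 0 := by
      apply List.map_congr_left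
      intro q _
      by_cases h0 : toMono q.1 = 0
      · rw [h0, add_zero, if_pos rfl]
        by_cases hji : j = i
        · subst hji; rw [if_pos rfl, if_pos rfl]
        · rw [if_neg hji, if_neg]
          intro h
          exact hji (Finsupp.single_left_injective one_ne_zero h)
      · rw [if_neg h0, if_neg]
        intro h
        apply h0
        have hd := congrArg Finsupp.degree h
        rw [map_add, Finsupp.degree_single, Finsupp.degree_single] at hd
        exact (Finsupp.degree_eq_zero_iff _).mp (by omega)
    rw [this]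
    have h2 : ((splits l).map fun q => if toMono q.1 = 0 then (if j = i then (1 : R) else 0) else 0) =
        (splits l).map fun q => (if toMono q.1 = 0 then (1 : R) else 0) * (if j = i then (1 : R) else 0) := by
      apply List.map_congr_left
      intro q _
      split_ifs <;> simp
    rw [h2, List.sum_map_mul_right]
    have h3 := cnt_zero (R := R) l
    unfold cnt at h3
    rw [h3, one_mul, add_comm]
    push_cast
    congr 1
    by_cases hji : j = i
    · subst hji; simp
    · simp [hji]

/-! ### Ordered restricted monomials as basis vectors -/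

theorem sortL_toMono {l : List ι} (hl : l.Pairwise (· ≤ ·)) : sortL (toMono l) = l :=
  toMono_injOn (sortL_pairwise _) hl (toMono_sortL _)

theorem P_eq_rbasis {l : List ι} (hl : l.Pairwise (· ≤ ·)) (hr : Restr p (toMono l)) :
    P b φ l = rbasis b φ ⟨toMono l, hr⟩ := by
  rw [rbasis_eq, sortL_toMono hl]; rfl

theorem restr_of_sublist {l l' : List ι} (h : l'.Sublist l) (hr : Restr p (toMono l)) :
    Restr p (toMono l') := by
  intro i
  rw [toMono_apply]
  have := hr i
  rw [toMono_apply] at this
  exact lt_of_le_of_lt (h.count_le i) this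

theorem rbasis_zero : rbasis b φ ⟨0, fun _ => hp.out.pos⟩ = 1 := by
  rw [rbasis_eq]
  have : sortL (0 : ι →₀ ℕ) = [] := by
    unfold sortL
    rw [Finsupp.toMultiset_zero, Multiset.sort_zero]
  simp only [this, prodList_nil, map_one]

theorem rbasis_single (i : ι) :
    rbasis b φ ⟨single i 1, fun j => by
      by_cases hj : i = j
      · subst hj; rw [Finsupp.single_eq_same]; exact hp.out.one_lt
      · rw [Finsupp.single_eq_of_ne (Ne.symm hj)]; exact hp.out.pos⟩ = ιu b φ (b i) := by
  rw [rbasis_eq]
  have : sortL (single i 1) = [i] := by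
    unfold sortL
    rw [Finsupp.toMultiset_single, one_smul, Multiset.sort_singleton]
  simp only [this, prodList_cons, prodList_nil, mul_one]
  rfl

/-! ### Detecting coefficients -/

/-- the functional `x ⊗ y ↦ coord α x * coord β y` -/
noncomputable def G (α β : {γ : ι →₀ ℕ // Restr p γ}) : RU b φ ⊗[R] RU b φ →ₗ[R] R :=
  LinearMap.mul' R R ∘ₗ TensorProduct.map ((rbasis b φ).coord α) ((rbasis b φ).coord β)

theorem G_tmul (α β : {γ : ι →₀ ℕ // Restr p γ}) (x y : RU b φ) :
    G b φ α β (x ⊗ₜ y) = (rbasis b φ).coord α x * (rbasis b φ).coord β y := rfl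

theorem coord_rbasis (α δ : {γ : ι →₀ ℕ // Restr p γ}) :
    (rbasis b φ).coord α (rbasis b φ δ) = if δ = α then 1 else 0 := by
  rw [Module.Basis.coord_apply, Module.Basis.repr_self, Finsupp.single_apply]

theorem G_comul_rbasis (α β δ : {γ : ι →₀ ℕ // Restr p γ}) :
    G b φ α β (Coalgebra.comul (R := R) (rbasis b φ δ)) =
      if α.1 + β.1 = δ.1 then cnt R (sortL δ.1) α.1 else 0 := by
  have hs := sortL_pairwise δ.1
  have hδ : Restr p (toMono (sortL δ.1)) := by rw [toMono_sortL]; exact δ.2
  have hP : rbasis b φ δ = P b φ (sortL δ.1) := by rw [rbasis_eq]; rfl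
  rw [hP, comul_P, map_list_sum, List.map_map]
  have hterm : ∀ q ∈ splits (sortL δ.1),
      (G b φ α β ∘ fun q => P b φ q.1 ⊗ₜ[R] P b φ q.2) q =
        if α.1 + β.1 = δ.1 then (if toMono q.1 = α.1 then (1 : R) else 0) else 0 := by
    intro q hq
    have hsub := splits_sublist _ q hq
    have hsum := splits_toMono _ q hq
    rw [toMono_sortL] at hsum
    have h1 := P_eq_rbasis b φ (hs.sublist hsub.1) (restr_of_sublist hsub.1 hδ)
    have h2 := P_eq_rbasis b φ (hs.sublist hsub.2) (restr_of_sublist hsub.2 hδ)
    rw [Function.comp_apply, G_tmul, h1, h2, coord_rbasis, coord_rbasis]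
    by_cases hα : toMono q.1 = α.1
    · by_cases hβ : toMono q.2 = β.1
      · rw [if_pos (Subtype.ext hα), if_pos (Subtype.ext hβ), if_pos (by rw [← hα, ← hβ, hsum]), if_pos hα,
          mul_one]
      · rw [if_pos (Subtype.ext hα), if_neg (fun h => hβ (congrArg Subtype.val h)), mul_zero, if_neg]
        intro h
        apply hβ
        rw [← hα, ← hsum] at h
        exact (add_left_cancel h).symm
    · rw [if_neg (fun h => hα (congrArg Subtype.val h)), zero_mul, if_neg hα]
      simp
  rw [List.map_congr_left hterm]
  by_cases h : α.1 + β.1 = δ.1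
  · simp only [if_pos h]; rfl
  · simp only [if_neg h]
    simp

/-- `G α β ∘ Δ` is a multiple of a coordinate functional -/
theorem G_comul (α β γ : {γ : ι →₀ ℕ // Restr p γ}) (h : α.1 + β.1 = γ.1) (v : RU b φ) :
    G b φ α β (Coalgebra.comul (R := R) v) = cnt R (sortL γ.1) α.1 * (rbasis b φ).coord γ v := by
  have : G b φ α β ∘ₗ Coalgebra.comul (R := R) = cnt R (sortL γ.1) α.1 • (rbasis b φ).coord γ := by
    apply (rbasis b φ).ext
    intro δ
    rw [LinearMap.comp_apply, G_comul_rbasis, LinearMap.smul_apply, coord_rbasis, smul_eq_mul]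
    by_cases hδ : δ = γ
    · subst hδ; rw [if_pos h, if_pos rfl, mul_one]
    · rw [if_neg hδ, mul_zero, if_neg]
      intro h'
      exact hδ (Subtype.ext (h'.symm.trans h))
  have h2 := LinearMap.congr_fun this v
  rw [LinearMap.comp_apply, LinearMap.smul_apply, smul_eq_mul] at h2
  exact h2

/-! ### Primitive elements -/

theorem restr_zero : Restr p (0 : ι →₀ ℕ) := fun _ => hp.out.pos

theorem restr_single (i : ι) : Restr p (single i 1) := fun j => by
  by_cases hj : i = j
  · subst hj; rw [Finsupp.single_eq_same]; exact hp.out.one_lt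
  · rw [Finsupp.single_eq_of_ne (Ne.symm hj)]; exact hp.out.pos

theorem coord_one (α : {γ : ι →₀ ℕ // Restr p γ}) :
    (rbasis b φ).coord α (1 : RU b φ) = if (⟨0, restr_zero⟩ : {γ : ι →₀ ℕ // Restr p γ}) = α then 1 else 0 := by
  rw [← rbasis_zero b φ, coord_rbasis]

/-- **The primitive elements of the restricted enveloping algebra are the elements of `L`.** -/
theorem prim_mem_range (v : RU b φ)
    (hv : Coalgebra.comul (R := R) v = v ⊗ₜ[R] 1 + 1 ⊗ₜ[R] v) : ∃ x : L, ιu b φ x = v := by
  classical
  set c := (rbasis b φ).repr v with hc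
  have hcoord : ∀ γ, (rbasis b φ).coord γ v = c γ := fun γ => rfl
  have claim : ∀ γ : {γ : ι →₀ ℕ // Restr p γ}, (∀ i, γ.1 ≠ single i 1) → c γ = 0 := by
    intro γ hγ
    by_cases h0 : γ.1 = 0
    · have hγ0 : γ = ⟨0, restr_zero⟩ := Subtype.ext h0
      subst hγ0
      have h1 := G_comul b φ ⟨0, restr_zero⟩ ⟨0, restr_zero⟩ ⟨0, restr_zero⟩ (by simp) v
      rw [hv, map_add, G_tmul, G_tmul, coord_one, if_pos rfl, hcoord, cnt_zero] at h1
      simp only [mul_one, one_mul] at h1
      exact add_eq_left.mp h1
    · obtain ⟨i, hi⟩ := Finsupp.ne_iff.mp h0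
      rw [Finsupp.zero_apply] at hi
      have hle : single i 1 ≤ γ.1 := by
        rw [Finsupp.single_le_iff]
        omega
      have hβr : Restr p (γ.1 - single i 1) := fun j =>
        lt_of_le_of_lt (by rw [Finsupp.tsub_apply]; exact Nat.sub_le _ _) (γ.2 j)
      have hsum : (single i 1 : ι →₀ ℕ) + (γ.1 - single i 1) = γ.1 := add_tsub_cancel_of_le hle
      have hβ0 : γ.1 - single i 1 ≠ 0 := by
        intro h
        rw [h, add_zero] at hsum
        exact hγ i hsum.symm
      have h1 := G_comul b φ ⟨single i 1, restr_single i⟩ ⟨γ.1 - single i 1, hβr⟩ γ hsum v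
      rw [hv, map_add, G_tmul, G_tmul, coord_one, coord_one, if_neg, if_neg, mul_zero, zero_mul, add_zero,
        hcoord, cnt_single, ← toMono_apply, toMono_sortL] at h1
      · have hlt : γ.1 i < p := γ.2 i
        have hu := Jacobson.invCoeff_mul R p (γ.1 i) (by omega) hlt
        have : c γ = (Jacobson.invCoeff R p (γ.1 i) * (γ.1 i : R)) * c γ := by rw [hu, one_mul]
        rw [this, mul_assoc, ← h1, mul_zero]
      · intro h
        have := congrArg Subtype.val h
        simp only at this
        have h2 := congrArg (fun f => f i) this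
        simp at h2
      · intro h
        exact hβ0 (congrArg Subtype.val h).symm
  have hv' : v = Finsupp.linearCombination R (rbasis b φ) c := ((rbasis b φ).linearCombination_repr v).symm
  have hmem : v ∈ LinearMap.range (ιu b φ : L →ₗ[R] RU b φ) := by
    rw [hv', Finsupp.linearCombination_apply]
    refine Submodule.sum_mem _ fun γ hγ => ?_
    have hne : c γ ≠ 0 := Finsupp.mem_support_iff.mp hγ
    have : ∃ i, γ.1 = single i 1 := by
      by_contra hcon
      push Not at hcon
      exact hne (claim γ hcon)
    obtain ⟨i, hi⟩ := this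
    have hγi : γ = ⟨single i 1, restr_single i⟩ := Subtype.ext hi
    refine Submodule.smul_mem _ _ ⟨b i, ?_⟩
    rw [hγi]
    exact (rbasis_single b φ i).symm
  obtain ⟨x, hx⟩ := hmem
  exact ⟨x, hx⟩

end Groth.Agent.Lib.Helper66.RPBW
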