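import Mathlib
import Groth.Prelude.Def_PLie
import Groth.Prelude.Def_CartDual
import Groth.Agent.Lib.Helper66.RUPrim

/-!
# The dual of the restricted enveloping algebra (helper66)

`DA b φ = (u(L))^*` is a finite commutative Hopf algebra of height `≤ 1` whose left-invariant derivations are `L`.
-/

set_option autoImplicit false
universe u v w

namespace Groth.Agent.Lib.Helper66.RPBW

open Finsupp PLie Groth.Agent.Lib.Helper66.PBW TensorProduct CartDual

attribute [local instance] LieRing.ofAssociativeRing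

variable {k : Type u} [Field k] {p : ℕ} [hp : Fact p.Prime] [CharP k p]
  {L : Type u} [LieRing L] [LieAlgebra k L] {ι : Type} [LinearOrder ι] [Finite ι]
  (b : Module.Basis ι k L) (φ : PMap k p L)

/-- the dual Hopf algebra of the restricted enveloping algebra -/
abbrev DA : Type u := CartDual.D k (RU b φ)

/-- the transpose of right multiplication by `a` -/
noncomputable def dLin (a : RU b φ) : DA b φ →ₗ[k] DA b φ :=
  (WithConv.linearEquiv k (RU b φ →ₗ[k] k)).symm.toLinearMap ∘ₗ
    (LinearMap.mulRight k a).dualMap ∘ₗ (WithConv.linearEquiv k (RU b φ →ₗ[k] k)).toLinearMap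

theorem dLin_apply (a : RU b φ) (f : DA b φ) (y : RU b φ) : dLin b φ a f y = f (y * a) := rfl

theorem convMul_apply' (f g : DA b φ) (y : RU b φ) :
    (f * g) y = LinearMap.mul' k k (TensorProduct.map f.ofConv g.ofConv (Coalgebra.comul (R := k) y)) := rfl

theorem leibniz_aux (x : L) (f g : DA b φ) (t : RU b φ ⊗[k] RU b φ) :
    LinearMap.mul' k k (TensorProduct.map f.ofConv g.ofConv
      (t * (ιu b φ x ⊗ₜ[k] 1 + 1 ⊗ₜ[k] ιu b φ x))) =
    LinearMap.mul' k k (TensorProduct.map (dLin b φ (ιu b φ x) f).ofConv g.ofConv t) +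
    LinearMap.mul' k k (TensorProduct.map f.ofConv (dLin b φ (ιu b φ x) g).ofConv t) := by
  induction t using TensorProduct.induction_on with
  | zero => simp
  | tmul y y' =>
    simp only [mul_add, Algebra.TensorProduct.tmul_mul_tmul, mul_one, map_add, TensorProduct.map_tmul,
      LinearMap.mul'_apply]
    rfl
  | add t t' h1 h2 =>
    rw [add_mul, map_add, map_add, h1, h2, map_add, map_add, map_add, map_add]
    abel

/-- the derivation of the dual attached to `x ∈ L` -/
noncomputable def dDer (x : L) : Derivation k (DA b φ) (DA b φ) where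
  toLinearMap := dLin b φ (ιu b φ x)
  map_one_eq_zero' := by
    apply WithConv.ext; apply LinearMap.ext; intro y
    change (1 : DA b φ) (y * ιu b φ x) = 0
    rw [CartDual.coe_apply, LinearMap.convOne_apply, Bialgebra.counit_mul, counit_ιu, mul_zero, map_zero]
  leibniz' := by
    intro f g
    apply WithConv.ext; apply LinearMap.ext; intro y
    change (f * g) (y * ιu b φ x) = (f * dLin b φ (ιu b φ x) g + g * dLin b φ (ιu b φ x) f) y
    rw [convMul_apply', Bialgebra.comul_mul, comul_ιu, leibniz_aux, mul_comm g, add_comm]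
    rfl

theorem dDer_apply (x : L) (f : DA b φ) (y : RU b φ) : dDer b φ x f y = f (y * ιu b φ x) := rfl

/-- `x ↦ D_x` as a linear map -/
noncomputable def eMap : L →ₗ[k] Derivation k (DA b φ) (DA b φ) where
  toFun := dDer b φ
  map_add' := by
    intro x y
    apply Derivation.ext; intro f
    apply WithConv.ext; apply LinearMap.ext; intro w
    change f (w * ιu b φ (x + y)) = f (w * ιu b φ x) + f (w * ιu b φ y)
    rw [map_add, mul_add, map_add]
  map_smul' := by
    intro c x
    apply Derivation.ext; intro f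
    apply WithConv.ext; apply LinearMap.ext; intro w
    change f (w * ιu b φ (c • x)) = c • f (w * ιu b φ x)
    rw [map_smul, mul_smul_comm, map_smul]

theorem eMap_apply (x : L) (f : DA b φ) (y : RU b φ) : eMap b φ x f y = f (y * ιu b φ x) := rfl

theorem eMap_injective : Function.Injective (eMap b φ) := by
  rw [injective_iff_map_eq_zero]
  intro x hx
  have h1 : ∀ g : Module.Dual k (RU b φ), g (ιu b φ x) = 0 := by
    intro g
    have := eMap_apply b φ x (WithConv.toConv g) 1
    rw [hx, one_mul] at this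
    exact this.symm
  have h2 := (Module.forall_dual_apply_eq_zero_iff k (ιu b φ x)).mp h1
  have h3 : ιu b φ x = ιu b φ 0 := by rw [h2, map_zero]
  exact ιu_injective b φ h3

theorem eMap_lie (x y : L) : eMap b φ ⁅x, y⁆ = ⁅eMap b φ x, eMap b φ y⁆ := by
  apply Derivation.ext; intro f
  apply WithConv.ext; apply LinearMap.ext; intro w
  rw [Derivation.commutator_apply]
  change f (w * ιu b φ ⁅x, y⁆) = f (w * ιu b φ x * ιu b φ y) - f (w * ιu b φ y * ιu b φ x)
  rw [LieHom.map_lie, LieRing.of_associative_ring_bracket, mul_sub, map_sub, mul_assoc, mul_assoc]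

theorem eMap_pow_apply (x : L) (n : ℕ) (f : DA b φ) (w : RU b φ) :
    (((eMap b φ x).toLinearMap ^ n) f) w = f (w * ιu b φ x ^ n) := by
  induction n generalizing f with
  | zero => simp
  | succ n ih =>
    rw [pow_succ, Module.End.mul_apply, ih, pow_succ, ← mul_assoc]
    rfl

theorem eMap_pmap (x : L) : (eMap b φ (φ x)).toLinearMap = (eMap b φ x).toLinearMap ^ p := by
  apply LinearMap.ext; intro f
  apply WithConv.ext; apply LinearMap.ext; intro w
  rw [eMap_pow_apply, ιu_pow]
  rfl

/-! ### Left invariance -/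

theorem ev₂_lTensor_dLin (a : RU b φ) (t : DA b φ ⊗[k] DA b φ) (w w' : RU b φ) :
    ev₂ k (RU b φ) ((dLin b φ a).lTensor (DA b φ) t) (w ⊗ₜ w') = ev₂ k (RU b φ) t (w ⊗ₜ (w' * a)) := by
  induction t using TensorProduct.induction_on with
  | zero => simp
  | tmul g h => rw [LinearMap.lTensor_tmul, ev₂_tmul, ev₂_tmul, dLin_apply]
  | add t t' h1 h2 => simp only [map_add, LinearMap.add_apply, h1, h2]

theorem eMap_leftInvariant (x : L) :
    CoalgebraStruct.comul (R := k) (A := DA b φ) ∘ₗ (eMap b φ x).toLinearMap =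
      LinearMap.lTensor (DA b φ) (eMap b φ x).toLinearMap ∘ₗ CoalgebraStruct.comul (R := k) (A := DA b φ) := by
  apply LinearMap.ext; intro f
  apply (ev₂ k (RU b φ)).injective
  apply TensorProduct.ext'
  intro w w'
  rw [LinearMap.comp_apply, LinearMap.comp_apply]
  change ev₂ k (RU b φ) (Coalgebra.comul (R := k) (eMap b φ x f)) (w ⊗ₜ w') =
    ev₂ k (RU b φ) ((dLin b φ (ιu b φ x)).lTensor (DA b φ) (Coalgebra.comul (R := k) f)) (w ⊗ₜ w')
  rw [ev₂_lTensor_dLin, ev₂_coalgebra_comul_tmul, ev₂_coalgebra_comul_tmul, eMap_apply, mul_assoc]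

theorem ev₂_lTensor_of_eval (D : DA b φ →ₗ[k] DA b φ) (v : RU b φ) (hv : ∀ f : DA b φ, D f 1 = f v)
    (t : DA b φ ⊗[k] DA b φ) (w : RU b φ) :
    ev₂ k (RU b φ) (D.lTensor (DA b φ) t) (w ⊗ₜ 1) = ev₂ k (RU b φ) t (w ⊗ₜ v) := by
  induction t using TensorProduct.induction_on with
  | zero => simp
  | tmul g h => rw [LinearMap.lTensor_tmul, ev₂_tmul, ev₂_tmul, hv]
  | add t t' h1 h2 => simp only [map_add, LinearMap.add_apply, h1, h2]

theorem dual_tensor_eq_zero (T : RU b φ ⊗[k] RU b φ)
    (h : ∀ g h : DA b φ, ev₂ k (RU b φ) (g ⊗ₜ h) T = 0) : T = 0 := by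
  rw [← Module.forall_dual_apply_eq_zero_iff k T]
  intro Ψ
  obtain ⟨s, rfl⟩ := (ev₂ k (RU b φ)).surjective Ψ
  induction s using TensorProduct.induction_on with
  | zero => simp
  | tmul g h' => exact h g h'
  | add s s' h1 h2 => rw [map_add, LinearMap.add_apply, h1, h2, add_zero]

theorem mem_range_eMap_of_leftInvariant (D : Derivation k (DA b φ) (DA b φ))
    (hD : CoalgebraStruct.comul (R := k) (A := DA b φ) ∘ₗ D.toLinearMap =
      LinearMap.lTensor (DA b φ) D.toLinearMap ∘ₗ CoalgebraStruct.comul (R := k) (A := DA b φ)) :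
    ∃ x : L, eMap b φ x = D := by
  -- the functional `f ↦ (D f) 1` is evaluation at some `v`
  let lam : Module.Dual k (Module.Dual k (RU b φ)) :=
    { toFun := fun g => D (WithConv.toConv g) 1
      map_add' := fun g g' => by
        rw [WithConv.toConv_add, map_add]; rfl
      map_smul' := fun c g => by
        rw [WithConv.toConv_smul, D.map_smul]; rfl }
  let v : RU b φ := (Module.evalEquiv k (RU b φ)).symm lam
  have hv : ∀ f : DA b φ, D f 1 = f v := by
    intro f
    have := Module.apply_evalEquiv_symm_apply (R := k) (M := RU b φ) f.ofConv lam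
    exact this.symm
  -- `D f w = f (w * v)`
  have hDf : ∀ (f : DA b φ) (w : RU b φ), D f w = f (w * v) := by
    intro f w
    have h1 := LinearMap.congr_fun hD f
    rw [LinearMap.comp_apply, LinearMap.comp_apply] at h1
    have h2 := congrArg (fun t => ev₂ k (RU b φ) t (w ⊗ₜ (1 : RU b φ))) h1
    change ev₂ k (RU b φ) (Coalgebra.comul (R := k) (D f)) (w ⊗ₜ 1) =
      ev₂ k (RU b φ) (D.toLinearMap.lTensor (DA b φ) (Coalgebra.comul (R := k) f)) (w ⊗ₜ 1) at h2
    rw [ev₂_lTensor_of_eval b φ D.toLinearMap v hv, ev₂_coalgebra_comul_tmul, ev₂_coalgebra_comul_tmul,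
      mul_one] at h2
    exact h2
  -- `v` is primitive
  have hprim : Coalgebra.comul (R := k) v = v ⊗ₜ[k] 1 + 1 ⊗ₜ[k] v := by
    rw [← sub_eq_zero]
    apply dual_tensor_eq_zero b φ
    intro g h
    rw [map_sub, map_add, ev₂_tmul, ev₂_tmul, sub_eq_zero]
    have h1 : (g * h) v = D (g * h) 1 := (hv _).symm
    rw [D.leibniz] at h1
    have h2 : ev₂ k (RU b φ) (g ⊗ₜ h) (Coalgebra.comul (R := k) v) = (g * h) v := by
      rw [ev₂_tmul_eq']; rfl
    rw [h2, h1]
    change (g * D h + h * D g) 1 = _
    have h3 : ∀ g' h' : DA b φ, (g' * h') (1 : RU b φ) = g' 1 * h' 1 := by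
      intro g' h'
      rw [convMul_apply', Bialgebra.comul_one, Algebra.TensorProduct.one_def, TensorProduct.map_tmul,
        LinearMap.mul'_apply]
    change (g * D h) 1 + (h * D g) 1 = _
    rw [h3, h3, hv, hv]
    ring
  obtain ⟨x, hx⟩ := prim_mem_range b φ v hprim
  refine ⟨x, ?_⟩
  apply Derivation.ext; intro f
  apply WithConv.ext; apply LinearMap.ext; intro w
  change eMap b φ x f w = D f w
  rw [eMap_apply, hx, hDf]

/-! ### Height at most one -/

theorem pow_eq_zero_of_counit_eq_zero (f : DA b φ) (hf : f 1 = 0) : f ^ p = 0 := by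
  apply WithConv.ext
  apply RU_linearMap_ext_right b φ
  · change (f ^ p) 1 = (0 : DA b φ) 1
    have h1 : ∀ g : DA b φ, g (1 : RU b φ) = Coalgebra.counit (R := k) g := fun g => rfl
    rw [h1, Bialgebra.counit_pow, ← h1, hf, zero_pow hp.out.ne_zero]
    rfl
  · intro x y
    change (eMap b φ x (f ^ p)) y = 0
    rw [Derivation.leibniz_pow]
    have : (p : k) = 0 := CharP.cast_eq_zero k p
    rw [← Nat.cast_smul_eq_nsmul k, this, zero_smul]
    rfl

end Groth.Agent.Lib.Helper66.RPBW
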