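import Mathlib
import Groth.Agent.Lib.Helper96.TorsDenseGrp

set_option autoImplicit false
universe u v
open Groth.Agent.Lib.Helper96

namespace Groth.Agent.Lib.Helper66.TD1

/-- `L / L^n` -/
abbrev Qn (L : Type v) [CommGroup L] (n : ℕ) : Type v := L ⧸ (powMonoidHom n : L →* L).range

/-- the projection `S[L] → S[L/L^n]` -/
noncomputable def pn (S : Type u) [CommRing S] (L : Type v) [CommGroup L] (n : ℕ) :
    MonoidAlgebra S L →+* MonoidAlgebra S (Qn L n) :=
  MonoidAlgebra.mapDomainRingHom S (QuotientGroup.mk' (powMonoidHom n : L →* L).range)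

section Basic

variable {S S' : Type u} [CommRing S] [CommRing S'] {L : Type v} [CommGroup L]

lemma pn_map (f : S →+* S') (n : ℕ) (b : MonoidAlgebra S L) :
    MonoidAlgebra.mapRingHom (Qn L n) f (pn S L n b) = pn S' L n (MonoidAlgebra.mapRingHom L f b) := by
  have := congrArg (fun φ => φ b) (MonoidAlgebra.mapRingHom_comp_mapDomainRingHom f
    (QuotientGroup.mk' (powMonoidHom n : L →* L).range))
  simp only [RingHom.comp_apply] at this
  exact this

lemma map_eq_zero_iff {G : Type v} [CommGroup G] (f : S →+* S') (b : MonoidAlgebra S G) :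
    MonoidAlgebra.mapRingHom G f b = 0 ↔ ∀ m, f (b.coeff m) = 0 := by
  constructor
  · intro h m
    have := congrArg (fun z => z.coeff m) h
    simpa using this
  · intro h
    apply MonoidAlgebra.coeff_injective
    ext m
    simp [h m]

lemma map_injective {G : Type v} [CommGroup G] (f : S →+* S') (hf : Function.Injective f) :
    Function.Injective (MonoidAlgebra.mapRingHom G f) := by
  rw [injective_iff_map_eq_zero]
  intro b hb
  rw [map_eq_zero_iff] at hb
  apply MonoidAlgebra.coeff_injective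
  ext m
  have := hb m
  rw [← map_zero f] at this
  simpa using hf this

lemma pow_eq_one_Qn (n : ℕ) (c : Qn L n) : c ^ n = 1 := by
  obtain ⟨m, rfl⟩ := QuotientGroup.mk'_surjective _ c
  rw [← map_pow]
  exact (QuotientGroup.eq_one_iff _).mpr ⟨m, rfl⟩

lemma finite_Qn [Group.FG L] (n : ℕ) (hn : 0 < n) : Finite (Qn L n) := by
  apply CommGroup.finite_of_fg_isMulTorsion
  intro c
  exact isOfFinOrder_iff_pow_eq_one.mpr ⟨n, hn, pow_eq_one_Qn n c⟩

end Basic

section Field

variable (K : Type u) [Field K] (L : Type v) [CommGroup L] [Group.FG L]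

lemma card_ne_zero (n : ℕ) (hn : 0 < n) (hpn : ¬ ringChar K ∣ n) :
    ((Nat.card (Qn L n) : ℕ) : K) ≠ 0 := by
  haveI := finite_Qn (L := L) n hn
  intro h0
  have h1 : ringChar K ∣ Nat.card (Qn L n) := (ringChar.spec K _).mp h0
  rcases (CharP.char_is_prime_or_zero K (ringChar K)) with hp | hp
  · haveI : Fact (ringChar K).Prime := ⟨hp⟩
    obtain ⟨g, hg⟩ := exists_prime_orderOf_dvd_card' (G := Qn L n) (ringChar K) h1
    have : orderOf g ∣ n := orderOf_dvd_of_pow_eq_one (pow_eq_one_Qn n g)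
    rw [hg] at this
    exact hpn this
  · rw [hp, zero_dvd_iff] at h1
    exact (Nat.card_pos (α := Qn L n)).ne' h1

lemma isReduced_Qn (n : ℕ) (hn : 0 < n) (hpn : ¬ ringChar K ∣ n) :
    IsReduced (MonoidAlgebra K (Qn L n)) := by
  haveI := finite_Qn (L := L) n hn
  haveI : NeZero ((Nat.card (Qn L n) : ℕ) : K) := ⟨card_ne_zero K L n hn hpn⟩
  infer_instance

theorem field_core (htf : ∀ m : L, ∀ n : ℕ, 0 < n → m ^ n = 1 → m = 1) (a y : MonoidAlgebra K L)
    (H : ∀ n, 0 < n → ∃ k, pn K L n (a ^ k * y) = 0) : a * y = 0 := by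
  classical
  have hp : ringChar K = 0 ∨ (ringChar K).Prime :=
    (CharP.char_is_prime_or_zero K (ringChar K)).symm
  obtain ⟨n, hn, hpn, hsep⟩ := TorsDenseGrp.exists_pow_separating L (ringChar K) hp
    (fun hp' m hm => htf m _ hp'.pos hm) (a * y).coeff.support
  obtain ⟨k, hk⟩ := H n hn
  haveI := isReduced_Qn K L n hn hpn
  have h1 : pn K L n (a * y) = 0 := by
    apply IsReduced.eq_zero
    refine ⟨k + 1, ?_⟩
    have h2 : (a * y) ^ (k + 1) = (a ^ k * y) * (a * y ^ k) := by ring
    rw [← map_pow, h2, map_mul, hk, zero_mul]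
  by_contra hne
  have hc0 : (a * y).coeff ≠ 0 := fun h0 => hne (MonoidAlgebra.coeff_injective h0)
  obtain ⟨m, hm⟩ := Finsupp.support_nonempty_iff.mpr hc0
  set χ := QuotientGroup.mk' (powMonoidHom n : L →* L).range with hχ
  have hinj : Set.InjOn χ ((a * y).coeff.support : Set L) := by
    intro a' ha' b' hb' hab
    by_contra hne'
    have h5 : a' / b' ∈ (powMonoidHom n : L →* L).range := by
      have : (χ (a' / b')) = 1 := by rw [map_div, hab, div_self']
      exact (QuotientGroup.eq_one_iff _).mp this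
    obtain ⟨z, hz⟩ := h5
    exact hsep a' ha' b' hb' hne' z hz
  have h5 : (pn K L n (a * y)).coeff (χ m) = (a * y).coeff m := by
    show (MonoidAlgebra.mapDomain χ (a * y)).coeff (χ m) = _
    rw [MonoidAlgebra.coeff_mapDomain]
    exact Finsupp.mapDomain_apply' ((a * y).coeff.support : Set L) (a * y).coeff (subset_refl _)
      hinj hm
  rw [h1] at h5
  exact (Finsupp.mem_support_iff.mp hm) h5.symm

end Field

section Devissage

variable (S : Type u) [CommRing S] (L : Type v) [CommGroup L]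

/-- elements of `S[G]` all of whose coefficients lie in `I` -/
noncomputable def cI (G : Type v) [CommGroup G] (I : Ideal S) : Ideal (MonoidAlgebra S G) :=
  RingHom.ker (MonoidAlgebra.mapRingHom G (Ideal.Quotient.mk I))

variable {S}

lemma mem_cI {G : Type v} [CommGroup G] {I : Ideal S} {b : MonoidAlgebra S G} :
    b ∈ cI S G I ↔ ∀ m, b.coeff m ∈ I := by
  rw [cI, RingHom.mem_ker, map_eq_zero_iff]
  simp only [Ideal.Quotient.eq_zero_iff_mem]

lemma cI_mono {G : Type v} [CommGroup G] {I J : Ideal S} (h : I ≤ J) : cI S G I ≤ cI S G J := by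
  intro b hb
  rw [mem_cI] at hb ⊢
  exact fun m => h (hb m)

variable {L}

lemma pn_mem_cI {I : Ideal S} {b : MonoidAlgebra S L} (n : ℕ) (hb : b ∈ cI S L I) :
    pn S L n b ∈ cI S (Qn L n) I := by
  rw [cI, RingHom.mem_ker] at hb ⊢
  rw [pn_map, hb, map_zero]

lemma smul_mem_cI_iff {G : Type v} [CommGroup G] {I : Ideal S} (x : S) (b : MonoidAlgebra S G) :
    x • b ∈ cI S G I ↔ b ∈ cI S G (Submodule.comap (LinearMap.mulLeft S x) I) := by
  rw [mem_cI, mem_cI]
  simp only [MonoidAlgebra.coeff_smul_apply, smul_eq_mul, Submodule.mem_comap,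
    LinearMap.mulLeft_apply]

lemma exists_decomp {I : Ideal S} {x : S} {b : MonoidAlgebra S L}
    (hb : b ∈ cI S L (I ⊔ Ideal.span {x})) :
    ∃ u ∈ cI S L I, ∃ y' : MonoidAlgebra S L, b = u + x • y' := by
  classical
  rw [mem_cI] at hb
  have h1 : ∀ m, ∃ c : S, b.coeff m - x * c ∈ I := by
    intro m
    obtain ⟨i, hi, j, hj, hij⟩ := Submodule.mem_sup.mp (hb m)
    obtain ⟨c, rfl⟩ := Ideal.mem_span_singleton'.mp hj
    refine ⟨c, ?_⟩
    rw [← hij]
    have : i + c * x - x * c = i := by ring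
    rw [this]
    exact hi
  choose c hc using h1
  set y' : MonoidAlgebra S L := ∑ m ∈ b.coeff.support, MonoidAlgebra.single m (c m) with hy'
  have hy'c : ∀ m, y'.coeff m = if m ∈ b.coeff.support then c m else 0 := by
    intro m
    rw [hy', MonoidAlgebra.coeff_sum, Finsupp.finsetSum_apply]
    simp only [MonoidAlgebra.coeff_single, Finsupp.single_apply]
    rw [Finset.sum_ite_eq' b.coeff.support m]
  refine ⟨b - x • y', ?_, y', by ring⟩
  rw [mem_cI]
  intro m
  rw [MonoidAlgebra.coeff_sub, Finsupp.sub_apply, MonoidAlgebra.coeff_smul_apply, hy'c, smul_eq_mul]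
  by_cases hm : m ∈ b.coeff.support
  · rw [if_pos hm]
    exact hc m
  · rw [if_neg hm, mul_zero, sub_zero, Finsupp.notMem_support_iff.mp hm]
    exact I.zero_mem

variable (S L)

/-- the property proved by Noetherian induction -/
def Good (I : Ideal S) : Prop :=
  ∀ a y : MonoidAlgebra S L,
    (∀ n, 0 < n → ∃ k, pn S L n (a ^ k * y) ∈ cI S (Qn L n) I) → ∃ k, a ^ k * y ∈ cI S L I

variable {S L}

lemma good_top : Good S L ⊤ := by
  intro a y _
  exact ⟨0, by rw [mem_cI]; exact fun m => Submodule.mem_top⟩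

lemma good_ker [Group.FG L] (htf : ∀ m : L, ∀ n : ℕ, 0 < n → m ^ n = 1 → m = 1)
    {K : Type u} [Field K] (f : S →+* K) : Good S L (RingHom.ker f) := by
  intro a y H
  have hker : ∀ {G : Type v} [CommGroup G] (b : MonoidAlgebra S G),
      b ∈ cI S G (RingHom.ker f) ↔ MonoidAlgebra.mapRingHom G f b = 0 := by
    intro G _ b
    rw [mem_cI, map_eq_zero_iff]
    simp only [RingHom.mem_ker]
  have H' : ∀ n, 0 < n → ∃ k, pn K L n
      ((MonoidAlgebra.mapRingHom L f a) ^ k * (MonoidAlgebra.mapRingHom L f y)) = 0 := by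
    intro n hn
    obtain ⟨k, hk⟩ := H n hn
    refine ⟨k, ?_⟩
    rw [← map_pow, ← map_mul, ← pn_map]
    exact (hker _).mp hk
  have := field_core K L htf _ _ H'
  refine ⟨1, ?_⟩
  rw [hker, pow_one, map_mul]
  exact this

lemma good_step {I : Ideal S} {x : S}
    (h1 : Good S L (I ⊔ Ideal.span {x}))
    (h2 : Good S L (Submodule.comap (LinearMap.mulLeft S x) I)) : Good S L I := by
  intro a y H
  -- step 1
  obtain ⟨k₁, hk₁⟩ := h1 a y (fun n hn => by
    obtain ⟨k, hk⟩ := H n hn
    exact ⟨k, cI_mono le_sup_left hk⟩)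
  obtain ⟨u, hu, y', hy'⟩ := exists_decomp hk₁
  -- step 2
  have H2 : ∀ n, 0 < n → ∃ k, pn S L n (a ^ k * y') ∈
      cI S (Qn L n) (Submodule.comap (LinearMap.mulLeft S x) I) := by
    intro n hn
    obtain ⟨k, hk⟩ := H n hn
    refine ⟨k, ?_⟩
    rw [← smul_mem_cI_iff]
    have e1 : x • pn S L n (a ^ k * y') =
        pn S L n (a ^ k₁) * pn S L n (a ^ k * y) - pn S L n (a ^ k * u) := by
      have e2 : a ^ k₁ * (a ^ k * y) = a ^ k * (a ^ k₁ * y) := by ring
      have e3 : pn S L n (a ^ k * (x • y')) = x • pn S L n (a ^ k * y') := by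
        rw [mul_smul_comm]
        exact MonoidAlgebra.mapDomain_smul _ x _
      rw [← map_mul, e2, hy', mul_add, map_add, e3]
      ring
    rw [e1]
    exact Ideal.sub_mem _ (Ideal.mul_mem_left _ _ hk) (pn_mem_cI n (Ideal.mul_mem_left _ _ hu))
  obtain ⟨k₂, hk₂⟩ := h2 a y' H2
  refine ⟨k₂ + k₁, ?_⟩
  have e : a ^ (k₂ + k₁) * y = a ^ k₂ * u + x • (a ^ k₂ * y') := by
    rw [pow_add, mul_assoc, hy', mul_add, mul_smul_comm]
  rw [e]
  exact Ideal.add_mem _ (Ideal.mul_mem_left _ _ hu) ((smul_mem_cI_iff x _).mpr hk₂)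

lemma good_ind [Group.FG L]
    (htf : ∀ m : L, ∀ n : ℕ, 0 < n → m ^ n = 1 → m = 1) (I : Ideal S)
    (ih : ∀ J : Ideal S, I < J → Good S L J) : Good S L I := by
  by_cases hI : I.IsPrime
  · let f : S →+* FractionRing (S ⧸ I) :=
      (algebraMap (S ⧸ I) (FractionRing (S ⧸ I))).comp (Ideal.Quotient.mk I)
    have hf : RingHom.ker f = I := by
      ext s
      rw [RingHom.mem_ker, RingHom.comp_apply,
        _root_.map_eq_zero_iff _ (IsFractionRing.injective (S ⧸ I) (FractionRing (S ⧸ I))),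
        Ideal.Quotient.eq_zero_iff_mem]
    have h1 := good_ker htf f
    rw [hf] at h1
    exact h1
  · rcases Ideal.not_isPrime_iff.mp hI with h | ⟨x, hx, z, hz, hxz⟩
    · rw [h]
      exact good_top
    · apply good_step (x := x)
      · apply ih
        refine lt_of_le_of_ne le_sup_left ?_
        intro h
        apply hx
        rw [h]
        exact Ideal.mem_sup_right (Ideal.mem_span_singleton_self x)
      · apply ih
        refine lt_of_le_of_ne ?_ ?_
        · intro s hs
          rw [Submodule.mem_comap, LinearMap.mulLeft_apply]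
          exact Ideal.mul_mem_left _ _ hs
        · intro h
          apply hz
          rw [h, Submodule.mem_comap, LinearMap.mulLeft_apply]
          exact hxz

theorem good_all [IsNoetherianRing S] [Group.FG L]
    (htf : ∀ m : L, ∀ n : ℕ, 0 < n → m ^ n = 1 → m = 1) (I : Ideal S) : Good S L I :=
  IsNoetherian.induction (P := fun I : Submodule S S => Good S L I)
    (fun I ih => good_ind htf I ih) I

theorem core_noeth [IsNoetherianRing S] [Group.FG L]
    (htf : ∀ m : L, ∀ n : ℕ, 0 < n → m ^ n = 1 → m = 1) (a y : MonoidAlgebra S L)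
    (H : ∀ n, 0 < n → ∃ k, pn S L n (a ^ k * y) = 0) : ∃ k, a ^ k * y = 0 := by
  have hbot : ∀ {G : Type v} [CommGroup G] (b : MonoidAlgebra S G), b ∈ cI S G ⊥ ↔ b = 0 := by
    intro G _ b
    rw [mem_cI]
    constructor
    · intro h
      apply MonoidAlgebra.coeff_injective
      ext m
      simpa using h m
    · rintro rfl m
      simp
  obtain ⟨k, hk⟩ := good_all htf (⊥ : Ideal S) a y (fun n hn => by
    obtain ⟨k, hk⟩ := H n hn
    exact ⟨k, (hbot _).mpr hk⟩)
  exact ⟨k, (hbot _).mp hk⟩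

end Devissage

section General

variable {S : Type u} [CommRing S] {L : Type v} [CommGroup L]

lemma mem_range_map {S₀ : Type u} [CommRing S₀] (f : S₀ →+* S) (b : MonoidAlgebra S L)
    (hb : ∀ m, b.coeff m ∈ f.range) : b ∈ (MonoidAlgebra.mapRingHom L f).range := by
  rw [← MonoidAlgebra.sum_coeff_single b, Finsupp.sum]
  apply Subring.sum_mem
  intro m _
  obtain ⟨s, hs⟩ := hb m
  exact ⟨MonoidAlgebra.single m s, by rw [MonoidAlgebra.mapRingHom_single, hs]⟩

theorem core [Group.FG L]
    (htf : ∀ m : L, ∀ n : ℕ, 0 < n → m ^ n = 1 → m = 1) (a y : MonoidAlgebra S L)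
    (H : ∀ n, 0 < n → ∃ k, pn S L n (a ^ k * y) = 0) : ∃ k, a ^ k * y = 0 := by
  classical
  let s : Finset S := a.coeff.support.image a.coeff ∪ y.coeff.support.image y.coeff
  let S₀ : Subalgebra ℤ S := Algebra.adjoin ℤ (s : Set S)
  haveI : Algebra.FiniteType ℤ S₀ := (Subalgebra.fg_iff_finiteType S₀).mp
    (Subalgebra.fg_adjoin_finset s)
  haveI : IsNoetherianRing S₀ := Algebra.FiniteType.isNoetherianRing ℤ S₀
  let f : S₀ →+* S := S₀.val.toRingHom
  have hf : Function.Injective f := Subtype.val_injective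
  have hmem : ∀ (b : MonoidAlgebra S L), (∀ m ∈ b.coeff.support, b.coeff m ∈ s) →
      ∀ m, b.coeff m ∈ f.range := by
    intro b hb m
    by_cases hm : m ∈ b.coeff.support
    · exact ⟨⟨b.coeff m, Algebra.subset_adjoin (hb m hm)⟩, rfl⟩
    · rw [Finsupp.notMem_support_iff.mp hm]
      exact f.range.zero_mem
  obtain ⟨a₀, ha₀⟩ := mem_range_map f a (hmem a (fun m hm =>
    Finset.mem_union_left _ (Finset.mem_image_of_mem _ hm)))
  obtain ⟨y₀, hy₀⟩ := mem_range_map f y (hmem y (fun m hm =>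
    Finset.mem_union_right _ (Finset.mem_image_of_mem _ hm)))
  have H₀ : ∀ n, 0 < n → ∃ k, pn S₀ L n (a₀ ^ k * y₀) = 0 := by
    intro n hn
    obtain ⟨k, hk⟩ := H n hn
    refine ⟨k, ?_⟩
    apply map_injective f hf
    rw [pn_map, map_mul, map_pow, ha₀, hy₀, hk, map_zero]
  obtain ⟨k, hk⟩ := core_noeth htf a₀ y₀ H₀
  refine ⟨k, ?_⟩
  rw [← ha₀, ← hy₀, ← map_pow, ← map_mul, hk, map_zero]

end General

end Groth.Agent.Lib.Helper66.TD1
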