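import Mathlib
import Groth.Agent.Lib.Helper66.TD1

set_option autoImplicit false
universe u v

namespace Groth.Agent.Lib.Helper66.TD2

open Groth.Agent.Lib.Helper66.TD1

section Transfer

variable (T : Type u) [CommRing T] (M : Type u) [CommGroup M]
  (L : Type v) [CommGroup L] (F : Type) [CommGroup F]

/-- `T[M] ≃ T[F][L]` for `M ≃ L × F` -/
noncomputable def phi (ε : M ≃* L × F) :
    MonoidAlgebra T M ≃+* MonoidAlgebra (MonoidAlgebra T F) L :=
  (MonoidAlgebra.mapDomainRingEquiv T ε).trans MonoidAlgebra.curryRingEquiv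

variable {T M L F}

lemma phi_single (ε : M ≃* L × F) (m : M) (t : T) :
    phi T M L F ε (MonoidAlgebra.single m t) =
      MonoidAlgebra.single (ε m).1 (MonoidAlgebra.single (ε m).2 t) := by
  simpa [phi, MonoidAlgebra.mapDomainRingEquiv] using
    MonoidAlgebra.curryRingEquiv_single (R := T) (ε m).1 (ε m).2 t

/-- the monoid hom `M → T[F][L/L^n']` -/
noncomputable def nu (ε : M ≃* L × F) (n' : ℕ) :
    M →* MonoidAlgebra (MonoidAlgebra T F) (Qn L n') :=
  ((pn (MonoidAlgebra T F) L n').comp (phi T M L F ε).toRingHom).toMonoidHom.comp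
    (MonoidAlgebra.of T M)

lemma nu_apply (ε : M ≃* L × F) (n' : ℕ) (m : M) :
    nu (T := T) ε n' m = MonoidAlgebra.single
      (QuotientGroup.mk' (powMonoidHom n' : L →* L).range (ε m).1)
      (MonoidAlgebra.single (ε m).2 (1 : T)) := by
  simp [nu, phi_single, pn]

lemma nu_pow [Finite F] (ε : M ≃* L × F) (n' : ℕ) (m : M) :
    nu (T := T) ε n' (m ^ (Nat.card F * n')) = 1 := by
  rw [map_pow, nu_apply, MonoidAlgebra.single_pow, MonoidAlgebra.single_pow, one_pow,
    mul_comm, pow_mul, pow_eq_one_Qn, one_pow, mul_comm, pow_mul, pow_card_eq_one', one_pow]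
  rfl

/-- the comparison map `T[M/M^n] → T[F][L/L^n']`, `n = |F| n'` -/
noncomputable def theta [Finite F] (ε : M ≃* L × F) (n' : ℕ) :
    MonoidAlgebra T (Qn M (Nat.card F * n')) →ₐ[T] MonoidAlgebra (MonoidAlgebra T F) (Qn L n') :=
  MonoidAlgebra.lift T _ _ (QuotientGroup.lift _ (nu (T := T) ε n') (by
    rintro _ ⟨m, rfl⟩
    exact nu_pow ε n' m))

lemma theta_pn [Finite F] (ε : M ≃* L × F) (n' : ℕ) (b : MonoidAlgebra T M) :
    theta ε n' (pn T M (Nat.card F * n') b) = pn (MonoidAlgebra T F) L n' (phi T M L F ε b) := by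
  have : ((theta ε n').toRingHom.comp (pn T M (Nat.card F * n'))) =
      (pn (MonoidAlgebra T F) L n').comp (phi T M L F ε).toRingHom := by
    apply MonoidAlgebra.ringHom_ext
    · intro t
      simp [theta, pn, phi_single]
      rw [MonoidAlgebra.one_def, MonoidAlgebra.smul_single, MonoidAlgebra.one_def, MonoidAlgebra.smul_single, smul_eq_mul, mul_one]
    · intro m
      simp [theta, pn, phi_single, nu_apply]
  exact congrArg (fun ψ => ψ b) this

theorem transfer [Group.FG M] [Finite F] (ε : M ≃* L × F)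
    (htf : ∀ m : L, ∀ n : ℕ, 0 < n → m ^ n = 1 → m = 1) (a y : MonoidAlgebra T M)
    (H : ∀ n, 0 < n → ∃ k, pn T M n (a ^ k * y) = 0) : ∃ k, a ^ k * y = 0 := by
  haveI : Group.FG L := by
    have hsurj : Function.Surjective ((MonoidHom.fst L F).comp ε.toMonoidHom) := by
      intro l
      exact ⟨ε.symm (l, 1), by simp⟩
    exact Group.fg_of_surjective hsurj
  have H' : ∀ n', 0 < n' → ∃ k, pn (MonoidAlgebra T F) L n'
      ((phi T M L F ε a) ^ k * (phi T M L F ε y)) = 0 := by
    intro n' hn'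
    obtain ⟨k, hk⟩ := H (Nat.card F * n') (Nat.mul_pos Nat.card_pos hn')
    refine ⟨k, ?_⟩
    rw [← map_pow, ← map_mul, ← theta_pn, hk, map_zero]
  obtain ⟨k, hk⟩ := core htf _ _ H'
  refine ⟨k, ?_⟩
  apply (phi T M L F ε).injective
  rw [map_mul, map_pow, hk, map_zero]

end Transfer

section Final

variable {T : Type u} [CommRing T] {M : Type u} [CommGroup M]

theorem main [Group.FG M] (a y : MonoidAlgebra T M)
    (H : ∀ n, 0 < n → ∃ k, pn T M n (a ^ k * y) = 0) : ∃ k, a ^ k * y = 0 := by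
  obtain ⟨ι, j, _, _, p, hp, e, ⟨ε⟩⟩ := CommGroup.equiv_free_prod_prod_multiplicative_zmod M
  haveI : ∀ i, NeZero (p i ^ e i) := fun i => ⟨pow_ne_zero _ (hp i).ne_zero⟩
  refine transfer (L := j → Multiplicative ℤ)
    (F := (i : ι) → Multiplicative (ZMod (p i ^ e i))) ε ?_ a y H
  intro m n hn hm
  funext i
  have h1 : (m i) ^ n = 1 := by
    have := congrFun hm i
    simpa using this
  have h2 : n • Multiplicative.toAdd (m i) = 0 := by
    rw [← toAdd_pow, h1]
    rfl
  have h3 : Multiplicative.toAdd (m i) = 0 := by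
    rcases smul_eq_zero.mp h2 with h | h
    · omega
    · exact h
  exact Multiplicative.toAdd.injective h3

end Final

end Groth.Agent.Lib.Helper66.TD2
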