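import Mathlib
import Groth.Prelude.Def_SGA3b
import Groth.Agent.Lib.Helper66.TD2
import Groth.Agent.Lib.Helper66.EL3
import Groth.Agent.Lib.Helper71.MultFin

set_option autoImplicit false
universe u
open TensorProduct SGA3b

namespace Groth.Agent.Lib.Helper66.TD3

open Groth.Agent.Lib.Helper66.TD1 Groth.Agent.Lib.Helper66.DN3 Helper71.MultFin

/-- the torsion ideal of a group algebra dies in `T[M/M^n]` -/
lemma pn_torsionIdeal (T : Type u) [CommRing T] (M : Type u) [CommGroup M] (n : ℕ)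
    (b : MonoidAlgebra T M) (hb : b ∈ torsionIdeal T (MonoidAlgebra T M) n) : pn T M n b = 0 := by
  let χ : M →* Qn M n := QuotientGroup.mk' (powMonoidHom n : M →* M).range
  let ψ : MonoidAlgebra T M →ₐc[T] MonoidAlgebra T (Qn M n) := MonoidAlgebra.mapDomainBialgHom T χ
  have h4 : ψ b ∈ torsionIdeal T (MonoidAlgebra T (Qn M n)) n :=
    map_torsionIdeal_le ψ n (Ideal.mem_map_of_mem _ hb)
  rw [torsionIdeal_monoidAlgebra T _ n (pow_eq_one_Qn n), Ideal.mem_bot] at h4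
  exact h4

variable {R : Type u} [CommRing R] {A : Type u} [CommRing A] [HopfAlgebra R A]

theorem key (hft : Algebra.FiniteType R A) (h : IsMultType R A) (a y : A)
    (H : ∀ n, 0 < n → ∃ k, a ^ k * y ∈ torsionIdeal R A n) : ∃ k, a ^ k * y = 0 := by
  classical
  obtain ⟨J, _, σ, hff, hfl⟩ := EL3.exists_family h
  have hj : ∀ j, ∃ k, (1 : (σ j).T) ⊗ₜ[R] (a ^ k * y) = 0 := by
    intro j
    by_cases hT : Nontrivial (σ j).T
    · -- the group is finitely generated
      have hft1 : Algebra.FiniteType (σ j).T ((σ j).T ⊗[R] A) := inferInstance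
      have hft2 : Algebra.FiniteType (σ j).T (MonoidAlgebra (σ j).T (σ j).N) :=
        hft1.equiv ((σ j).e : ((σ j).T ⊗[R] A) ≃ₐ[(σ j).T] _)
      haveI hfg : Group.FG (σ j).N := MonoidAlgebra.finiteType_iff_group_fg.mp hft2
      have H' : ∀ n, 0 < n → ∃ k, pn (σ j).T (σ j).N n
          (((σ j).e (1 ⊗ₜ[R] a)) ^ k * ((σ j).e (1 ⊗ₜ[R] y))) = 0 := by
        intro n hn
        obtain ⟨k, hk⟩ := H n hn
        refine ⟨k, ?_⟩
        apply pn_torsionIdeal
        have h2 := one_tmul_mem_torsionIdeal R (σ j).T A n _ hk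
        have h3 : (σ j).e ((1 : (σ j).T) ⊗ₜ[R] (a ^ k * y)) ∈
            torsionIdeal (σ j).T (MonoidAlgebra (σ j).T (σ j).N) n :=
          map_torsionIdeal_le ((σ j).e : ((σ j).T ⊗[R] A) →ₐc[(σ j).T] _) n
            (Ideal.mem_map_of_mem _ h2)
        have h4 : (σ j).e ((1 : (σ j).T) ⊗ₜ[R] (a ^ k * y)) =
            ((σ j).e (1 ⊗ₜ[R] a)) ^ k * ((σ j).e (1 ⊗ₜ[R] y)) := by
          rw [← map_pow, ← map_mul, Algebra.TensorProduct.tmul_pow, one_pow,
            Algebra.TensorProduct.tmul_mul_tmul, one_mul]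
        rw [← h4]
        exact h3
      obtain ⟨k, hk⟩ := TD2.main _ _ H'
      refine ⟨k, ?_⟩
      apply EquivLike.injective (σ j).e
      rw [map_zero, ← hk, ← map_pow, ← map_mul, Algebra.TensorProduct.tmul_pow, one_pow,
        Algebra.TensorProduct.tmul_mul_tmul, one_mul]
    · rw [not_nontrivial_iff_subsingleton] at hT
      refine ⟨0, ?_⟩
      have : (1 : (σ j).T) = 0 := Subsingleton.elim _ _
      rw [this, TensorProduct.zero_tmul]
  choose k hk using hj
  refine ⟨Finset.univ.sup k, ?_⟩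
  apply eq_zero_of_forall_tmul σ
  intro j
  have hle : k j ≤ Finset.univ.sup k := Finset.le_sup (Finset.mem_univ j)
  obtain ⟨d, hd⟩ := Nat.exists_eq_add_of_le hle
  rw [hd, pow_add, mul_comm (a ^ k j), mul_assoc]
  have : (1 : (σ j).T) ⊗ₜ[R] (a ^ d * (a ^ k j * y)) =
      ((1 : (σ j).T) ⊗ₜ[R] (a ^ d)) * ((1 : (σ j).T) ⊗ₜ[R] (a ^ k j * y)) := by
    rw [Algebra.TensorProduct.tmul_mul_tmul, one_mul]
  rw [this, hk j, mul_zero]

theorem main (hft : Algebra.FiniteType R A) (h : IsMultType R A) (a : A) :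
    ⨅ n : {n : ℕ // 0 < n}, Ideal.map (algebraMap A (Localization.Away a))
      (torsionIdeal R A n.1) = ⊥ := by
  rw [eq_bot_iff]
  intro x hx
  rw [Ideal.mem_bot]
  obtain ⟨y, s, rfl⟩ := IsLocalization.exists_mk'_eq (Submonoid.powers a) x
  have H : ∀ n, 0 < n → ∃ k, a ^ k * y ∈ torsionIdeal R A n := by
    intro n hn
    have h1 := (Ideal.mem_iInf.mp hx) ⟨n, hn⟩
    rw [IsLocalization.mk'_mem_map_algebraMap_iff (Submonoid.powers a)] at h1
    obtain ⟨_, ⟨k, rfl⟩, hk⟩ := h1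
    exact ⟨k, hk⟩
  obtain ⟨k, hk⟩ := key hft h a y H
  rw [IsLocalization.mk'_eq_zero_iff]
  exact ⟨⟨a ^ k, k, rfl⟩, hk⟩

end Groth.Agent.Lib.Helper66.TD3
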