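import Groth.Agent.Lib.Helper96.SocBC
import Groth.Agent.Lib.Helper96.TrigStr

/-! Specialization of character flags over a discrete valuation ring: trigonalizability of the
generic fibre implies trigonalizability of the special fibre (helper66). -/

set_option autoImplicit false

open TensorProduct
universe u
namespace Groth.Agent.Lib.Helper66.TS1
open Groth.Agent.Lib.Helper96 Groth.Agent.Lib.Helper96.SocBC

section Transfer

variable {R : Type u} [CommRing R] [IsDedekindDomain R]
variable (K : Type u) [Field K] [Algebra R K] [IsFractionRing R K]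
variable (H : Type u) [CommRing H] [Bialgebra R H] [Module.Flat R H]

/-- elements of `H` whose image in the generic fibre lies in a given subspace -/
noncomputable def SatW (W : Submodule K (K ⊗[R] H)) : Submodule R H :=
  Submodule.comap (β (R := R) K H) (W.restrictScalars R)

theorem mem_SatW (W : Submodule K (K ⊗[R] H)) (h : H) :
    h ∈ SatW (R := R) K H W ↔ β (R := R) K H h ∈ W := Iff.rfl

theorem isTorsionFree_quotW (W : Submodule K (K ⊗[R] H)) :
    Module.IsTorsionFree R (H ⧸ SatW (R := R) K H W) := by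
  apply Module.IsTorsionFree.of_smul_eq_zero
  intro s m hm
  by_cases hs : s = 0
  · exact Or.inl hs
  · right
    obtain ⟨h, rfl⟩ := Submodule.Quotient.mk_surjective _ m
    rw [← Submodule.Quotient.mk_smul, Submodule.Quotient.mk_eq_zero, mem_SatW, map_smul] at hm
    rw [Submodule.Quotient.mk_eq_zero, mem_SatW]
    exact mem_of_smul_mem K H _ s hs _ hm

/-- clearing denominators in `W ⊗ H_K` -/
theorem exists_smul_eq_ββW (W : Submodule K (K ⊗[R] H)) (t : (K ⊗[R] H) ⊗[K] (K ⊗[R] H))
    (ht : t ∈ LinearMap.range (W.subtype.rTensor (K ⊗[R] H))) :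
    ∃ s : R, s ≠ 0 ∧ ∃ z ∈ LinearMap.range ((SatW (R := R) K H W).subtype.rTensor H),
      s • t = ββ (R := R) K H z := by
  obtain ⟨w, rfl⟩ := ht
  induction w using TensorProduct.induction_on with
  | zero => exact ⟨1, one_ne_zero, 0, Submodule.zero_mem _, by simp⟩
  | tmul u x =>
    obtain ⟨s1, hs1, h1, e1⟩ := exists_smul_eq_β (R := R) K H (u : K ⊗[R] H)
    obtain ⟨s2, hs2, h2, e2⟩ := exists_smul_eq_β (R := R) K H x
    have hh1 : h1 ∈ SatW (R := R) K H W := by
      rw [mem_SatW, ← e1, ← algebraMap_smul K s1 (u : K ⊗[R] H)]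
      exact Submodule.smul_mem _ _ u.2
    refine ⟨s1 * s2, mul_ne_zero hs1 hs2, h1 ⊗ₜ[R] h2,
      ⟨(⟨h1, hh1⟩ : SatW (R := R) K H W) ⊗ₜ[R] h2, by rw [LinearMap.rTensor_tmul]; rfl⟩, ?_⟩
    rw [LinearMap.rTensor_tmul, Submodule.subtype_apply, ββ_tmul, ← β_apply, ← β_apply, ← e1, ← e2,
      mul_smul, TensorProduct.smul_tmul', TensorProduct.smul_tmul, TensorProduct.smul_tmul']
  | add t1 t2 ht1 ht2 =>
    obtain ⟨s1, hs1, z1, hz1, e1⟩ := ht1
    obtain ⟨s2, hs2, z2, hz2, e2⟩ := ht2
    refine ⟨s1 * s2, mul_ne_zero hs1 hs2, s2 • z1 + s1 • z2,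
      Submodule.add_mem _ (Submodule.smul_mem _ _ hz1) (Submodule.smul_mem _ _ hz2), ?_⟩
    rw [map_add, map_add, map_smul, map_smul, ← e1, ← e2]
    module

/-- saturation of `Sat W ⊗ H` -/
theorem mem_range_of_ββ_mem (W : Submodule K (K ⊗[R] H)) (y : H ⊗[R] H)
    (hy : ββ (R := R) K H y ∈ LinearMap.range (W.subtype.rTensor (K ⊗[R] H))) :
    y ∈ LinearMap.range ((SatW (R := R) K H W).subtype.rTensor H) := by
  obtain ⟨s, hs, z, hz, e⟩ := exists_smul_eq_ββW K H W _ hy
  rw [← map_smul] at e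
  have e' := ββ_injective K H e
  rw [← e'] at hz
  have := isTorsionFree_quotW (R := R) K H W
  exact mem_range_of_smul_mem H (SatW (R := R) K H W) s hs _ hz

end Transfer

section Special

variable {R : Type u} [CommRing R]
variable (L : Type u) [Field L] [Algebra R L]
variable (H : Type u) [CommRing H] [Bialgebra R H]

/-- the image of a submodule of `H` in the fibre `L ⊗ H`, as an `L`-subspace -/
noncomputable def mapL (hL : Function.Surjective (algebraMap R L)) (N : Submodule R H) :
    Submodule L (L ⊗[R] H) where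
  carrier := {x | ∃ n ∈ N, β (R := R) L H n = x}
  add_mem' := by
    rintro _ _ ⟨n, hn, rfl⟩ ⟨n', hn', rfl⟩
    exact ⟨n + n', N.add_mem hn hn', map_add _ _ _⟩
  zero_mem' := ⟨0, N.zero_mem, map_zero _⟩
  smul_mem' := by
    rintro l _ ⟨n, hn, rfl⟩
    obtain ⟨r, rfl⟩ := hL l
    exact ⟨r • n, N.smul_mem r hn, by rw [map_smul, algebraMap_smul]⟩

theorem mem_mapL (hL : Function.Surjective (algebraMap R L)) (N : Submodule R H) (x : L ⊗[R] H) :
    x ∈ mapL L H hL N ↔ ∃ n ∈ N, β (R := R) L H n = x := Iff.rfl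

theorem mapL_bot (hL : Function.Surjective (algebraMap R L)) : mapL L H hL ⊥ = ⊥ := by
  ext x
  rw [mem_mapL, Submodule.mem_bot]
  constructor
  · rintro ⟨n, hn, rfl⟩
    rw [(Submodule.mem_bot R).mp hn, map_zero]
  · rintro rfl
    exact ⟨0, Submodule.zero_mem _, map_zero _⟩

theorem ββ_mem_range (hL : Function.Surjective (algebraMap R L)) (N : Submodule R H)
    (z : H ⊗[R] H) (hz : z ∈ LinearMap.range (N.subtype.rTensor H)) :
    ββ (R := R) L H z ∈ LinearMap.range ((mapL L H hL N).subtype.rTensor (L ⊗[R] H)) := by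
  obtain ⟨w, rfl⟩ := hz
  induction w using TensorProduct.induction_on with
  | zero => simp
  | add x y hx hy =>
    rw [map_add, map_add]
    exact Submodule.add_mem _ hx hy
  | tmul n y =>
    rw [LinearMap.rTensor_tmul, Submodule.subtype_apply, ββ_tmul, ← β_apply, ← β_apply]
    exact ⟨(⟨β (R := R) L H n.1, ⟨n.1, n.2, rfl⟩⟩ : mapL L H hL N) ⊗ₜ[L] β (R := R) L H y,
      by rw [LinearMap.rTensor_tmul]; rfl⟩

end Special

end Groth.Agent.Lib.Helper66.TS1
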