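import Groth.Agent.Lib.Helper66.TS1

/-! Group-like elements of the generic fibre of a flat bialgebra over a DVR are integral
(helper66). -/

set_option autoImplicit false

open TensorProduct
universe u
namespace Groth.Agent.Lib.Helper66.TS2
open Groth.Agent.Lib.Helper96 Groth.Agent.Lib.Helper96.SocBC Groth.Agent.Lib.Helper66.TS1

section Field

variable {F : Type u} [Field F] {V : Type u} [AddCommGroup V] [Module F V]

theorem eq_zero_of_tmul_self_eq_zero (x : V) (h : x ⊗ₜ[F] x = 0) : x = 0 := by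
  rw [← Module.forall_dual_apply_eq_zero_iff F x]
  intro φ
  have h1 := congrArg ((LinearMap.mul' F F) ∘ₗ (TensorProduct.map φ φ)) h
  rw [LinearMap.comp_apply, TensorProduct.map_tmul, LinearMap.mul'_apply, map_zero] at h1
  exact mul_self_eq_zero.mp h1

end Field

section Quot

variable {R : Type u} [CommRing R] (I : Ideal R) (H : Type u) [AddCommGroup H] [Module R H]

theorem mem_smul_top_of_one_tmul_eq_zero (h : H) (h0 : (1 : R ⧸ I) ⊗ₜ[R] h = 0) :
    h ∈ (I • ⊤ : Submodule R H) := by
  have h1 := congrArg (TensorProduct.quotTensorEquivQuotSMul H I) h0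
  rw [TensorProduct.quotTensorEquivQuotSMul_mk_one_tmul, map_zero,
    Submodule.Quotient.mk_eq_zero] at h1
  exact h1

end Quot

section GLike

variable {R : Type u} [CommRing R] [IsDomain R] [IsDiscreteValuationRing R]
variable (K : Type u) [Field K] [Algebra R K] [IsFractionRing R K]
variable (H : Type u) [CommRing H] [Bialgebra R H] [Module.Flat R H]

/-- group-like elements of the generic fibre are integral -/
theorem exists_β_eq_of_isGroupLikeElem (χ : K ⊗[R] H) (hχ : IsGroupLikeElem K χ) :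
    ∃ h : H, β (R := R) K H h = χ := by
  classical
  obtain ⟨ϖ, hϖ⟩ := IsDiscreteValuationRing.exists_irreducible R
  have hϖ0 : ϖ ≠ 0 := hϖ.ne_zero
  have hϖK : algebraMap R K ϖ ≠ 0 := by
    intro h0
    exact hϖ0 ((IsFractionRing.injective R K) (by rw [h0, map_zero]))
  have hex : ∃ a : ℕ, ∃ h : H, (ϖ ^ a) • χ = β (R := R) K H h := by
    obtain ⟨s, hs, h, e⟩ := exists_smul_eq_β (R := R) K H χ
    obtain ⟨a, u, rfl⟩ := IsDiscreteValuationRing.eq_unit_mul_pow_irreducible hs hϖ
    refine ⟨a, (↑u⁻¹ : R) • h, ?_⟩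
    rw [map_smul, ← e, smul_smul, ← mul_assoc, Units.inv_mul, one_mul]
  have hfind := Nat.find_spec hex
  rcases Nat.eq_zero_or_eq_succ_pred (Nat.find hex) with h0 | hsucc
  · obtain ⟨h, e⟩ := hfind
    rw [h0, pow_zero, one_smul] at e
    exact ⟨h, e.symm⟩
  exfalso
  set b := (Nat.find hex).pred with hb
  obtain ⟨h, e⟩ := hfind
  rw [hsucc, Nat.succ_eq_add_one] at e
  set c := algebraMap R K (ϖ ^ (b + 1)) with hc
  have e' : β (R := R) K H h = c • χ := by rw [← e, hc, algebraMap_smul]
  -- `ϖ^(b+1) • Δ h = h ⊗ h`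
  have e1 : (ϖ ^ (b + 1)) • CoalgebraStruct.comul (R := R) h = h ⊗ₜ[R] h := by
    apply ββ_injective K H
    rw [map_smul, ← comul_β, ββ_tmul, ← β_apply, e', map_smul, hχ.comul_eq_tmul_self,
      ← algebraMap_smul K (ϖ ^ (b + 1)) (c • (χ ⊗ₜ[K] χ)), ← hc, TensorProduct.smul_tmul_smul,
      smul_smul]
  -- reduce modulo the maximal ideal
  let L := IsLocalRing.ResidueField R
  have hϖL : algebraMap R L ϖ = 0 := by
    rw [IsLocalRing.ResidueField.algebraMap_eq, IsLocalRing.residue_eq_zero_iff]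
    exact (IsLocalRing.mem_maximalIdeal ϖ).mpr hϖ.not_isUnit
  have e2 := congrArg (ββ (R := R) L H) e1
  rw [map_smul, ββ_tmul, ← algebraMap_smul L (ϖ ^ (b + 1)), map_pow, hϖL, zero_pow (by omega),
    zero_smul] at e2
  have e3 : (1 : L) ⊗ₜ[R] h = 0 := eq_zero_of_tmul_self_eq_zero _ e2.symm
  have e4 : h ∈ (IsLocalRing.maximalIdeal R • ⊤ : Submodule R H) :=
    mem_smul_top_of_one_tmul_eq_zero (IsLocalRing.maximalIdeal R) H h e3
  rw [(IsDiscreteValuationRing.irreducible_iff_uniformizer ϖ).mp hϖ,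
    Submodule.ideal_span_singleton_smul] at e4
  obtain ⟨h', -, rfl⟩ := e4
  have e5 : (ϖ ^ b) • χ = β (R := R) K H h' := by
    have h6 : algebraMap R K ϖ • ((ϖ ^ b) • χ) = algebraMap R K ϖ • β (R := R) K H h' := by
      rw [algebraMap_smul, algebraMap_smul, smul_smul, ← pow_succ', e]
      exact map_smul _ _ _
    exact smul_right_injective _ hϖK h6
  exact Nat.find_min hex (by rw [hsucc]; exact Nat.lt_succ_self b) ⟨h', e5⟩

end GLike

section Fibre

variable {R : Type u} [CommRing R] [IsDedekindDomain R]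
variable (K : Type u) [Field K] [Algebra R K] [IsFractionRing R K]
variable (L : Type u) [Field L] [Algebra R L]
variable (H : Type u) [CommRing H] [Bialgebra R H] [Module.Flat R H]

/-- a flag of the generic fibre with integral characters specializes -/
theorem charFlag_fibre (hL : Function.Surjective (algebraMap R L)) (a : H)
    (M : Submodule K (K ⊗[R] H))
    (hM : CharFlag (HopfRep.Comod.regular K (K ⊗[R] H))
      {χ : K ⊗[R] H | ∃ h : H, β (R := R) K H h = χ} M)
    (ha : β (R := R) K H a ∈ M) :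
    ∃ M' : Submodule L (L ⊗[R] H), β (R := R) L H a ∈ M' ∧
      CharFlag (HopfRep.Comod.regular L (L ⊗[R] H)) Set.univ M' := by
  obtain ⟨m, F, hF0, hFm, hFsub, hFchar⟩ := hM
  refine ⟨mapL L H hL (SatW (R := R) K H (F m)), ⟨a, ?_, rfl⟩, m,
    fun i => mapL L H hL (SatW (R := R) K H (F i)), ?_, rfl, ?_, ?_⟩
  · rw [mem_SatW, hFm]
    exact ha
  · show mapL L H hL (SatW (R := R) K H (F 0)) = ⊥
    have : SatW (R := R) K H (F 0) = ⊥ := by
      rw [hF0, eq_bot_iff]
      intro n hn
      rw [mem_SatW, Submodule.mem_bot] at hn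
      rw [Submodule.mem_bot]
      exact β_injective K H (by rw [hn, map_zero])
    rw [this, mapL_bot]
  · intro i
    rintro _ ⟨n, hn, rfl⟩
    have h1 : CoalgebraStruct.comul (R := R) n ∈
        LinearMap.range ((SatW (R := R) K H (F i)).subtype.rTensor H) := by
      apply mem_range_of_ββ_mem
      rw [← comul_β]
      exact hFsub i _ hn
    exact ββ_mem_range L H hL _ _ h1
  · intro i
    obtain ⟨χ, ⟨h, rfl⟩, hχ⟩ := hFchar i
    refine ⟨β (R := R) L H h, Set.mem_univ _, ?_⟩
    rintro _ ⟨n, hn, rfl⟩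
    have h1 : CoalgebraStruct.comul (R := R) n - n ⊗ₜ[R] h ∈
        LinearMap.range ((SatW (R := R) K H (F i)).subtype.rTensor H) := by
      apply mem_range_of_ββ_mem
      rw [map_sub, ← comul_β, ββ_tmul, ← β_apply, ← β_apply]
      exact (mem_range_rTensor_subtype_iff _ _).mpr (hχ _ hn)
    have h2 := ββ_mem_range L H hL _ _ h1
    rw [map_sub, ← comul_β, ββ_tmul, ← β_apply, ← β_apply] at h2
    exact (mem_range_rTensor_subtype_iff _ _).mp h2

end Fibre

section Main

variable (R : Type u) [CommRing R] [IsDomain R] [IsDiscreteValuationRing R]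
variable (K : Type u) [Field K] [Algebra R K] [IsFractionRing R K]
variable (H : Type u) [CommRing H] [HopfAlgebra R H] [Module.Flat R H]

theorem main (hK : HopfRep.IsTrigonalizable K (K ⊗[R] H)) :
    HopfRep.IsTrigonalizable (IsLocalRing.ResidueField R) (IsLocalRing.ResidueField R ⊗[R] H) := by
  apply isTrigonalizable_of_forall_charFlag
  intro x
  have hL : Function.Surjective (algebraMap R (IsLocalRing.ResidueField R)) :=
    IsLocalRing.residue_surjective
  obtain ⟨a, rfl⟩ := β_surjective (IsLocalRing.ResidueField R) H hL x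
  let cK := HopfRep.Comod.regular K (K ⊗[R] H)
  have hfin := finite_orbit cK (β (R := R) K H a)
  have h1 := TrigStr.charFlagGL_of_isTrigonalizable hK cK (orbit cK (β (R := R) K H a))
    (isSub_orbit cK _)
  have h2 := h1.mono (Y := {χ : K ⊗[R] H | ∃ h : H, β (R := R) K H h = χ})
    (fun χ hχ => exists_β_eq_of_isGroupLikeElem K H χ hχ)
  exact charFlag_fibre K (IsLocalRing.ResidueField R) H hL a _ h2 (mem_orbit_self cK _)

end Main

end Groth.Agent.Lib.Helper66.TS2
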